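import Cfsg.Agent.H9.BRK
import Cfsg.Agent.H5.Small

set_option autoImplicit false
set_option linter.unusedSectionVars false
set_option linter.style.haveILetI false
set_option linter.unusedVariables false
set_option linter.unusedSimpArgs false

/-! The Brauer-Reynolds theorem: large primes. -/

open Cfsg

namespace Cfsg.Agent.H9.BR

open Subgroup Exc MulAction

universe u

theorem NF_of_lt {p n : ℕ} (h : 2 * n < p) : NF p n := by
  intro a u ha hu he
  have h1 : 2 * (n * (u + 1)) < p * (u + 1) := by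
    rw [← mul_assoc]; exact Nat.mul_lt_mul_of_pos_right h (by omega)
  rw [he] at h1
  have h2 : 1 * u * p ≤ a * u * p := Nat.mul_le_mul_right _ (Nat.mul_le_mul_right _ ha)
  have h3 : 1 * p ≤ u * p := Nat.mul_le_mul_right _ hu
  nlinarith

theorem NF_of_lt' {p n : ℕ} (h : 2 * n < p + 3) : NF p n := by
  intro a u ha hu he
  have h1 : 2 * (n * (u + 1)) < (p + 3) * (u + 1) := by
    rw [← mul_assoc]; exact Nat.mul_lt_mul_of_pos_right h (by omega)
  rw [he] at h1
  have h2 : 1 * u * p ≤ a * u * p := Nat.mul_le_mul_right _ (Nat.mul_le_mul_right _ ha)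
  obtain ⟨k, rfl⟩ := Nat.exists_eq_add_of_le hu
  nlinarith [Nat.zero_le (k * p), Nat.zero_le (k * k)]

section
variable {G : Type u} [Group G] [Finite G] {p : ℕ} [Fact p.Prime]

theorem exists_n (p : ℕ) [Fact p.Prime] (G : Type u) [Group G] [Finite G] : ∃ n, Nat.card (Sylow p G) = 1 + n * p := by
  have hpp : p.Prime := Fact.out
  have ha := card_sylow_modEq_one p G
  have h : 0 < Nat.card (Sylow p G) := Nat.card_pos
  obtain ⟨k, hk⟩ := (Nat.modEq_iff_dvd' h).mp ha.symm
  exact ⟨k, by rw [mul_comm k p]; omega⟩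

theorem cube (hperf : commutator G = ⊤) (hdvd : p ∣ Nat.card G) (hbig : Nat.card G < p ^ 3) (P : Sylow p G)
    (hPn : ¬ (P : Subgroup G).Normal) : Nat.card P = p ∧ ∃ n, Nat.card (Sylow p G) = 1 + n * p ∧ 2 * n < p := by
  have hpp : p.Prime := Fact.out
  have hp1 := hpp.one_lt
  obtain ⟨n, hn⟩ := exists_n p G
  have hn0 : 0 < n := by
    by_contra hcon
    have h1 : n = 0 := by omega
    rw [h1, zero_mul, add_zero, P.card_eq_index_normalizer] at hn
    exact hPn (normalizer_eq_top_iff.mp (index_eq_one.mp hn))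
  have hidx : (normalizer ((P : Subgroup G) : Set G)).index = 1 + n * p := P.card_eq_index_normalizer.symm.trans hn
  have hmul := card_mul_index (normalizer ((P : Subgroup G) : Set G))
  rw [hidx] at hmul
  have hPc : Nat.card (P : Subgroup G) = p := by
    obtain ⟨k, hk⟩ := IsPGroup.iff_card.mp P.isPGroup'
    have hk0 : k ≠ 0 := by
      rintro rfl
      have h1 : p ∣ Nat.card (P : Subgroup G) := P.dvd_card_of_dvd_card hdvd
      rw [hk, pow_zero] at h1
      exact hpp.one_lt.ne' (Nat.dvd_one.mp h1)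
    have hk2 : ¬ 2 ≤ k := by
      intro h
      have h1 : p ^ 2 ≤ Nat.card (P : Subgroup G) := by rw [hk]; exact Nat.pow_le_pow_right hpp.pos h
      have h2 : Nat.card (P : Subgroup G) ≤ Nat.card (normalizer ((P : Subgroup G) : Set G)) := card_le_of_le le_normalizer
      have h3 : p ^ 2 * (1 + n * p) ≤ Nat.card G := by
        rw [← hmul]; exact Nat.mul_le_mul_right _ (h1.trans h2)
      have h4 : p ^ 2 * p ≤ p ^ 2 * (1 + n * p) := by
        apply Nat.mul_le_mul_left
        nlinarith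
      have h5 : p ^ 3 = p ^ 2 * p := by ring
      omega
    have hk1 : k = 1 := by omega
    rw [hk, hk1, pow_one]
  refine ⟨hPc, n, hn, ?_⟩
  have h1 := one_lt_index hperf hdvd P
  have h2 := H1.card_mul_relIndex_aux (centralizer_le_normalizer (s := ((P : Subgroup G) : Set G)))
  have h3 : Nat.card (P : Subgroup G) ≤ Nat.card (centralizer ((P : Subgroup G) : Set G)) :=
    card_le_of_le (Syl.le_centralizer_of_card_prime hPc)
  rw [hPc] at h3
  have h4 : p * 2 ≤ Nat.card (normalizer ((P : Subgroup G) : Set G)) := by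
    rw [← h2]; exact Nat.mul_le_mul h3 h1
  have h5 : (p * 2) * (1 + n * p) ≤ Nat.card G := by rw [← hmul]; exact Nat.mul_le_mul_right _ h4
  by_contra hcon
  push Not at hcon
  have h6 : p * (p * p) ≤ p * (2 * n * p) := Nat.mul_le_mul_left _ (Nat.mul_le_mul_right _ hcon)
  have h7 : p ^ 3 = p * (p * p) := by ring
  have h8 : (p * 2) * (1 + n * p) = p * (2 * n * p) + 2 * p := by ring
  omega

/-- the large prime theorem -/
theorem cube_main (hperf : commutator G = ⊤) (hdvd : p ∣ Nat.card G) (hbig : Nat.card G < p ^ 3) (P : Sylow p G)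
    (hPn : ¬ (P : Subgroup G).Normal) (h2 : ∀ N : Subgroup G, N.Normal → Nat.card N ≠ 2) :
    (∃ (F : Type) (_ : Field F) (_ : Fintype F), Fintype.card F = p ∧ 3 < p ∧
      Nonempty (G ≃* Matrix.ProjectiveSpecialLinearGroup (Fin 2) F)) ∨
    (∃ (m : ℕ) (F : Type) (_ : Field F) (_ : Fintype F), Fintype.card F = 2 ^ m ∧ p = 2 ^ m + 1 ∧ 3 < p ∧
      Nonempty (G ≃* Matrix.ProjectiveSpecialLinearGroup (Fin 2) F)) := by
  have hpp : p.Prime := Fact.out
  obtain ⟨hPc, n, hn, hnp⟩ := cube hperf hdvd hbig P hPn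
  obtain ⟨-, h⟩ := reynolds hperf P hPc hn (NF_of_lt hnp)
  haveI hHn : (pPrimeCore p G).Normal := H1.pPrimeCore_normal p G
  have hcard := card_eq_card_quotient_mul_card_subgroup (pPrimeCore p G)
  have hH0 : 0 < Nat.card (pPrimeCore p G) := Nat.card_pos
  have hH2 := h2 _ hHn
  have key : Nat.card (pPrimeCore p G) < 3 → Nonempty (G ⧸ pPrimeCore p G ≃* G) := by
    intro h3
    have h4 : Nat.card (pPrimeCore p G) = 1 := by omega
    have h5 : pPrimeCore p G = ⊥ := card_eq_one.mp h4
    exact ⟨(QuotientGroup.quotientMulEquivOfEq h5).trans QuotientGroup.quotientBot⟩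
  rcases h with ⟨F, i1, i2, hF, h3, ⟨f⟩⟩ | ⟨m, F, i1, i2, hF, hpm, h3, ⟨f⟩⟩
  · left
    have h4 := H5.card_PSL2 hF
    have hgcd : Nat.gcd 2 (p - 1) = 2 := by
      apply Nat.gcd_eq_left
      rcases hpp.eq_two_or_odd' with h5 | h5
      · omega
      · obtain ⟨k, hk⟩ := h5
        exact ⟨k, by omega⟩
    rw [hgcd, ← Nat.card_congr f.toEquiv] at h4
    obtain ⟨g⟩ := key (by
      by_contra hcon
      push Not at hcon
      have h5 : 2 * Nat.card G = (p * (p ^ 2 - 1)) * Nat.card (pPrimeCore p G) := by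
        rw [hcard, ← mul_assoc, h4]
      have h6 : (p * (p ^ 2 - 1)) * 3 ≤ 2 * Nat.card G := by rw [h5]; exact Nat.mul_le_mul_left _ hcon
      have h7 : p ^ 2 = (p ^ 2 - 1) + 1 := by
        have : 0 < p ^ 2 := pow_pos hpp.pos 2
        omega
      have h8 : p ^ 3 = p * (p ^ 2 - 1) + p := by
        calc p ^ 3 = p * p ^ 2 := by ring
          _ = p * ((p ^ 2 - 1) + 1) := by rw [← h7]
          _ = _ := by ring
      have h9 : p * 3 ≤ p * (p ^ 2 - 1) := by
        apply Nat.mul_le_mul_left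
        have : 4 * 4 ≤ p * p := Nat.mul_le_mul h3 h3
        rw [pow_two]; omega
      omega)
    exact ⟨F, i1, i2, hF, h3, ⟨g.symm.trans f⟩⟩
  · right
    have h4 := H5.card_PSL2 hF
    have hm0 : m ≠ 0 := by rintro rfl; rw [pow_zero] at hpm; omega
    have hgcd : Nat.gcd 2 (2 ^ m - 1) = 1 := by
      have h5 : Odd (2 ^ m - 1) := by
        obtain ⟨k, hk⟩ := Nat.exists_eq_succ_of_ne_zero hm0
        rw [hk, pow_succ]
        have : 0 < 2 ^ k := by positivity
        exact ⟨2 ^ k - 1, by omega⟩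
      exact (Nat.coprime_two_left.mpr h5)
    rw [hgcd, one_mul, ← Nat.card_congr f.toEquiv] at h4
    obtain ⟨g⟩ := key (by
      by_contra hcon
      push Not at hcon
      set q := 2 ^ m with hq
      have h5 : Nat.card G = (q * (q ^ 2 - 1)) * Nat.card (pPrimeCore p G) := by rw [hcard, h4]
      have h6 : (q * (q ^ 2 - 1)) * 3 ≤ Nat.card G := by rw [h5]; exact Nat.mul_le_mul_left _ hcon
      rw [hpm] at hbig
      have hq4 : 3 ≤ q := by omega
      have h7 : q ^ 2 = (q ^ 2 - 1) + 1 := by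
        have : 0 < q ^ 2 := by positivity
        omega
      have h8 : q ^ 3 = q * (q ^ 2 - 1) + q := by
        calc q ^ 3 = q * q ^ 2 := by ring
          _ = q * ((q ^ 2 - 1) + 1) := by rw [← h7]
          _ = _ := by ring
      have h9 : (q + 1) ^ 3 = q ^ 3 + 3 * q ^ 2 + 3 * q + 1 := by ring
      have h10 : 3 * q ^ 2 ≤ q ^ 3 := by
        have : 3 * q ^ 2 ≤ q * q ^ 2 := Nat.mul_le_mul_right _ hq4
        calc 3 * q ^ 2 ≤ q * q ^ 2 := this
          _ = q ^ 3 := by ring
      have h11 : 6 * q + 1 < q ^ 3 := by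
        have h12 : 9 * q ≤ q * q * q := by
          have : 3 * 3 ≤ q * q := Nat.mul_le_mul hq4 hq4
          exact Nat.mul_le_mul_right _ this
        have h13 : q ^ 3 = q * q * q := by ring
        omega
      omega)
    exact ⟨m, F, i1, i2, hF, hpm, h3, ⟨g.symm.trans f⟩⟩

end

end Cfsg.Agent.H9.BR
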