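import Cfsg.Agent.H9.BSWO
import Cfsg.Agent.H5.Small

set_option autoImplicit false
set_option linter.unusedSectionVars false
set_option linter.style.haveILetI false
set_option linter.unusedVariables false
set_option linter.unusedSimpArgs false
set_option maxHeartbeats 1000000

/-! The case `k = 4` of Brauer–Suzuki–Wall; the alternating group of degree six. -/

open Cfsg

namespace Cfsg.Agent.H9.BSW

open Subgroup

universe u

variable {G : Type u} [Group G]

theorem psl_iso_of_card {F : Type*} {F' : Type*} [Field F] [Fintype F] [Field F'] [Fintype F']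
    (h : Fintype.card F = Fintype.card F') :
    Nonempty (Matrix.ProjectiveSpecialLinearGroup (Fin 2) F ≃* Matrix.ProjectiveSpecialLinearGroup (Fin 2) F') := by
  classical
  obtain ⟨p, hp⟩ := CharP.exists F
  haveI := hp
  obtain ⟨n, hpp, hn⟩ := FiniteField.card F p
  haveI : Fact p.Prime := ⟨hpp⟩
  obtain ⟨p', hp'⟩ := CharP.exists F'
  haveI := hp'
  obtain ⟨n', hpp', hn'⟩ := FiniteField.card F' p'
  have he : p = p' := by
    rw [hn, hn'] at h
    have h1 : p ∣ p' ^ (n' : ℕ) := by rw [← h]; exact dvd_pow_self p n.pos.ne'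
    exact (Nat.prime_dvd_prime_iff_eq hpp hpp').mp (hpp.dvd_of_dvd_pow h1)
  subst he
  letI : Algebra (ZMod p) F := ZMod.algebra F p
  letI : Algebra (ZMod p) F' := ZMod.algebra F' p
  have e : F ≃+* F' := (FiniteField.algEquivOfCardEq p h).toRingEquiv
  exact ⟨Cfsg.Agent.H5.PSLCongr e⟩

/-- the case `k = 4` -/
theorem psl_of_four [Finite G] {K : Subgroup G} {t s : G} (h : Setup G K t s 4) :
    (Nat.card G = 360 ∧ ∃ (F : Type) (_ : Field F) (_ : Fintype F), Fintype.card F = 9 ∧
      Nonempty (G ≃* Matrix.ProjectiveSpecialLinearGroup (Fin 2) F)) ∨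
    (Nat.card G = 168 ∧ ∃ (F : Type) (_ : Field F) (_ : Fintype F), Fintype.card F = 7 ∧
      Nonempty (G ≃* Matrix.ProjectiveSpecialLinearGroup (Fin 2) F)) := by
  obtain ⟨F, iF, iFin, hF, hcF, ⟨e⟩⟩ := bsw h (le_refl 4)
  rcases hcF with h9 | h7
  · left
    have h1 := Cfsg.Agent.H5.card_PSL2 (F := F) (q := 9) (by omega)
    norm_num at h1
    refine ⟨?_, F, iF, iFin, by omega, ⟨e⟩⟩
    rw [Nat.card_congr e.toEquiv]
    omega
  · right
    have h1 := Cfsg.Agent.H5.card_PSL2 (F := F) (q := 7) (by omega)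
    norm_num at h1
    refine ⟨?_, F, iF, iFin, by omega, ⟨e⟩⟩
    rw [Nat.card_congr e.toEquiv]
    omega

namespace Alt6

open Equiv

def tp : Perm (Fin 6) := swap 0 1 * swap 2 3
def ap : Perm (Fin 6) := swap 0 2 * swap 1 2 * swap 1 3 * swap 4 5
def sp : Perm (Fin 6) := swap 0 1 * swap 4 5

set_option maxRecDepth 100000 in
theorem cent_list : ∀ g : Perm (Fin 6), g * tp = tp * g → Perm.sign g = 1 →
    (g = 1 ∨ g = ap ∨ g = ap * ap ∨ g = ap * ap * ap) ∨
    (g * sp = 1 ∨ g * sp = ap ∨ g * sp = ap * ap ∨ g * sp = ap * ap * ap) := by decide +kernel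

theorem ap_sq : ap * ap = tp := by decide +kernel
theorem tp_sq : tp * tp = 1 := by decide +kernel
theorem tp_ne : tp ≠ 1 := by decide +kernel
theorem sp_sq : sp * sp = 1 := by decide +kernel
theorem sp_inv : sp * ap * sp⁻¹ = ap⁻¹ := by decide +kernel
theorem sp_tp : sp * tp = tp * sp := by decide +kernel
theorem ap_ne : ap ≠ ap⁻¹ := by decide +kernel

abbrev A6 := alternatingGroup (Fin 6)

def t6 : A6 := ⟨tp, by rw [Perm.mem_alternatingGroup]; decide +kernel⟩
def a6 : A6 := ⟨ap, by rw [Perm.mem_alternatingGroup]; decide +kernel⟩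
def s6 : A6 := ⟨sp, by rw [Perm.mem_alternatingGroup]; decide +kernel⟩

theorem a6_sq : a6 * a6 = t6 := Subtype.ext ap_sq
theorem t6_sq : t6 * t6 = 1 := Subtype.ext tp_sq
theorem t6_ne : t6 ≠ 1 := fun e => tp_ne (congrArg Subtype.val e)
theorem s6_sq : s6 * s6 = 1 := Subtype.ext sp_sq
theorem s6_inv : s6 * a6 * s6⁻¹ = a6⁻¹ := Subtype.ext sp_inv
theorem s6_t6 : s6 * t6 = t6 * s6 := Subtype.ext sp_tp
theorem a6_ne : a6 ≠ a6⁻¹ := fun e => ap_ne (congrArg Subtype.val e)

theorem s6_zpow (j : ℤ) : s6 * a6 ^ j * s6⁻¹ = (a6 ^ j)⁻¹ := by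
  rw [← conj_zpow, s6_inv, inv_zpow]

theorem d8 : D8 A6 (zpowers a6) t6 s6 where
  cyc := inferInstance
  card := by
    rw [Nat.card_zpowers]
    have h := orderOf_eq_prime_pow (p := 2) (n := 1) (x := a6) (by
      rw [pow_one, pow_two, a6_sq]; exact t6_ne) (by
      have : (a6 : A6) ^ 2 ^ (1 + 1) = (a6 * a6) * (a6 * a6) := by
        norm_num [pow_succ, mul_assoc]
      rw [this, a6_sq, t6_sq])
    rw [h]; norm_num
  le := by
    rw [zpowers_le, mem_centralizer_singleton_iff, ← a6_sq, mul_assoc]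
  tA := by rw [← a6_sq]; exact mul_mem (mem_zpowers _) (mem_zpowers _)
  t1 := t6_ne
  t2 := t6_sq
  st := s6_t6
  sA := by
    rintro ⟨j, hj⟩
    apply a6_ne
    have h1 := s6_inv
    have hj' : a6 ^ j = s6 := hj
    rw [← hj'] at h1
    have h2 : a6 ^ j * a6 * (a6 ^ j)⁻¹ = a6 := by
      have : Commute (a6 ^ j) a6 := (Commute.refl a6).zpow_left j
      rw [this.eq, mul_inv_cancel_right]
    rw [h2] at h1
    exact h1
  s2 := s6_sq
  inv := by
    rintro _ ⟨j, rfl⟩
    exact s6_zpow j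
  cent := by
    intro g hg
    have h1 := cent_list g.1 (congrArg Subtype.val hg) (Perm.mem_alternatingGroup.mp g.2)
    have hm : ∀ x : A6, (x.1 = 1 ∨ x.1 = ap ∨ x.1 = ap * ap ∨ x.1 = ap * ap * ap) → x ∈ zpowers a6 := by
      intro x hx
      rcases hx with hx | hx | hx | hx
      · have : x = 1 := Subtype.ext hx
        rw [this]; exact one_mem _
      · have : x = a6 := Subtype.ext hx
        rw [this]; exact mem_zpowers _
      · have : x = a6 * a6 := Subtype.ext hx
        rw [this]; exact mul_mem (mem_zpowers _) (mem_zpowers _)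
      · have : x = a6 * a6 * a6 := Subtype.ext hx
        rw [this]; exact mul_mem (mul_mem (mem_zpowers _) (mem_zpowers _)) (mem_zpowers _)
    rcases h1 with h1 | h1
    · exact Or.inl (hm g h1)
    · exact Or.inr (hm (g * s6) h1)

theorem card_A6 : Nat.card A6 = 360 := by
  have h := two_mul_nat_card_alternatingGroup (α := Fin 6)
  rw [Nat.card_perm, Nat.card_eq_fintype_card (α := Fin 6), Fintype.card_fin] at h
  have h2 : Nat.factorial 6 = 720 := rfl
  rw [h2] at h
  change Nat.card (alternatingGroup (Fin 6)) = 360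
  omega

theorem no_two : ∀ M : Subgroup A6, M.Normal → M.index ≠ 2 := by
  intro M hM h2
  haveI : IsSimpleGroup A6 := alternatingGroup.isSimpleGroup (by simp)
  rcases hM.eq_bot_or_eq_top with h | h
  · rw [h, index_bot, card_A6] at h2; omega
  · rw [h, index_top] at h2; omega

theorem psl : ∃ (F : Type) (_ : Field F) (_ : Fintype F), Fintype.card F = 9 ∧
      Nonempty (A6 ≃* Matrix.ProjectiveSpecialLinearGroup (Fin 2) F) := by
  obtain ⟨P, hP, hAP, hrel⟩ := d8.sylow
  have hone := one_class no_two P hAP hrel (fun x hx hx2 => d8.uniq hx hx2)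
  rcases psl_of_four (d8.setup hone) with ⟨_, h⟩ | ⟨h1, _⟩
  · exact h
  · rw [card_A6] at h1; omega

end Alt6

end Cfsg.Agent.H9.BSW
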