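import Cfsg.Agent.H9.PSLModel5

set_option autoImplicit false
set_option linter.unusedSectionVars false
set_option linter.style.haveILetI false
set_option linter.unusedVariables false
set_option linter.unusedSimpArgs false

/-! Recognition of `PSL(2,p)` (small `p`) from the order. -/

namespace Cfsg.Agent.H9.PSLModel

open Subgroup MulAction OnePoint

variable {G : Type*} [Group G] [Finite G] [IsSimpleGroup G] (hG : ¬ IsMulCommutative G) {p : ℕ} [Fact p.Prime]
include hG

theorem psl_of_check (P : Sylow p G) (hP : Nat.card (P : Subgroup G) = p) (hn : Nat.card (Sylow p G) = p + 1)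
    (hp2 : p ≠ 2) (hp3 : p ≠ 3) (hcard : 2 * Nat.card G = p * (p ^ 2 - 1)) {b : ℕ} (hc : checkN p b = true)
    (hb : ∀ t s : G, b < (p - 1) / 2 → orderOf s = (p - 1) / 2 → t * s * t⁻¹ = s ^ b →
      (∀ g, g * s * g⁻¹ ∈ zpowers s → g ∈ zpowers s ∨ t⁻¹ * g ∈ zpowers s) → False) :
    Nonempty (G ≃* Matrix.ProjectiveSpecialLinearGroup (Fin 2) (ZMod p)) := by
  classical
  have hpp : p.Prime := Fact.out
  haveI : NeZero p := ⟨hpp.ne_zero⟩
  have h3p : 3 ≤ p := by
    have := hpp.two_le
    omega
  have hodd : p % 2 = 1 := by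
    rcases hpp.eq_two_or_odd with h | h
    · exact absurd h hp2
    · exact h
  have hpm : 2 * ((p - 1) / 2) = p - 1 := by omega
  have hN : 2 * Nat.card (normalizer ((P : Subgroup G) : Set G)) = p * (p - 1) := by
    have h1 := Syl.card_normalizer_mul P
    rw [hn] at h1
    rw [← h1] at hcard
    have h2 : p * (p ^ 2 - 1) = (p * (p - 1)) * (p + 1) := by
      have : p ^ 2 - 1 = (p - 1) * (p + 1) := by
        rw [Nat.mul_comm (p - 1), ← Nat.sq_sub_sq]
      rw [this]; ring
    rw [h2, ← mul_assoc] at hcard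
    exact Nat.eq_of_mul_eq_mul_right (by omega) hcard
  obtain ⟨ρ, M, hinf, hCP⟩ := exists_model' hG P hP hn hp2 hN
  obtain ⟨t, s, f, k, g0, ht1, ht2, hf, ⟨hs1, hs2⟩, hgo, hg0, hk, htst, hfe, z0, a, hz0, hfz0, hsa, ha, h1, hrel⟩ :=
    M.exists_fun hp2
  have hinj : ∀ z : ZMod p, z ≠ 0 → f z = -1 → z = z0 := by
    intro z hz hfz
    apply OnePoint.coe_injective
    apply (ρ t).injective
    rw [(hf z hz).2, (hf z0 hz0).2, hfz, hfz0]
  have hspow : ∀ (j : ℕ), ρ (s ^ j) ∞ = ∞ ∧ ∀ (z : ZMod p), ρ (s ^ j) (z : OnePoint (ZMod p)) =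
      (((g0 ^ 2) ^ j * z : ZMod p) : OnePoint (ZMod p)) := by
    intro j
    induction j with
    | zero => simp
    | succ j ih =>
      refine ⟨?_, fun z => ?_⟩
      · rw [pow_succ, map_mul, Equiv.Perm.mul_apply, hs1, ih.1]
      · rw [pow_succ, map_mul, Equiv.Perm.mul_apply, hs2, ih.2]
        congr 1; ring
  rcases good_of_check hp2 hc hgo hg0 hk (fun z hz => (hf z hz).1) hfe hz0 hfz0 hinj hsa ha h1 hrel with hkb | hgood
  · exfalso
    subst hkb
    have hso : orderOf s = (p - 1) / 2 := by
      have hord : ∀ j : ℕ, s ^ j = 1 ↔ (g0 ^ 2) ^ j = 1 := by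
        intro j
        constructor
        · intro h
          have h2 := (hspow j).2 1
          rw [h, map_one, Equiv.Perm.one_apply] at h2
          have := OnePoint.coe_injective h2
          rw [mul_one] at this
          exact this.symm
        · intro h
          apply M.inj
          ext w
          cases w with
          | infty => rw [(hspow j).1, map_one]; rfl
          | coe z => rw [(hspow j).2, h, one_mul, map_one]; rfl
      have h2 : orderOf s = orderOf (g0 ^ 2) := by
        apply Nat.dvd_antisymm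
        · rw [orderOf_dvd_iff_pow_eq_one, hord, pow_orderOf_eq_one]
        · rw [orderOf_dvd_iff_pow_eq_one, ← hord, pow_orderOf_eq_one]
      rw [h2, orderOf_pow' _ (by norm_num), hgo, Nat.gcd_eq_right (by omega)]
    apply hb t s hk hso htst
    -- powers
    have hmemz : ∀ g : G, ρ g ∞ = ∞ → ρ g ((0 : ZMod p) : OnePoint (ZMod p)) = ((0 : ZMod p) : OnePoint (ZMod p)) → g ∈ zpowers s := by
      intro g hg1 hg2
      obtain ⟨a, ha, ⟨e, rfl⟩, hae⟩ := M.mul_of_fix hg1 hg2
      have he : e ≠ 0 := by rintro rfl; simp at ha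
      have h2 : zpowers (Units.mk0 g0 hg0) = ⊤ := by
        apply eq_top_of_card_eq
        rw [Nat.card_zpowers, Nat.card_eq_fintype_card (α := (ZMod p)ˣ), ZMod.card_units, ← hgo, ← orderOf_units]
        rfl
      have h3 : Units.mk0 e he ∈ zpowers (Units.mk0 g0 hg0) := by rw [h2]; trivial
      obtain ⟨i, hi⟩ := mem_powers_iff_mem_zpowers.mpr h3
      have hi' : g0 ^ i = e := by
        have := congrArg (fun u : (ZMod p)ˣ => (u : ZMod p)) hi
        simpa using this
      have h4 : g = s ^ i := by
        apply M.inj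
        ext w
        cases w with
        | infty => rw [(hspow i).1, hg1]
        | coe z =>
          rw [(hspow i).2, hae, ← hi']
          congr 2
          ring
      rw [h4]
      exact npow_mem_zpowers s i
    have hsne : g0 ^ 2 ≠ 1 ∨ (p - 1) / 2 = 1 := by
      by_cases h : g0 ^ 2 = 1
      · right
        have := orderOf_dvd_of_pow_eq_one h
        rw [hgo] at this
        have := Nat.le_of_dvd (by norm_num) this
        omega
      · left; exact h
    intro g hg
    rcases hsne with hsne | hsne
    · -- fixed points of s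
      have hfix : ∀ w : OnePoint (ZMod p), ρ s w = w → w = ∞ ∨ w = ((0 : ZMod p) : OnePoint (ZMod p)) := by
        intro w hw
        cases w with
        | infty => left; rfl
        | coe z =>
          right
          rw [hs2] at hw
          have h2 := OnePoint.coe_injective hw
          have h3 : (g0 ^ 2 - 1) * z = 0 := by linear_combination h2
          rcases mul_eq_zero.mp h3 with h4 | h4
          · exact absurd (sub_eq_zero.mp h4) hsne
          · rw [h4]
      obtain ⟨i, hi⟩ := mem_powers_iff_mem_zpowers.mpr hg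
      -- g⁻¹ moves fixed points of conj
      have hs0 : ρ s ((0 : ZMod p) : OnePoint (ZMod p)) = ((0 : ZMod p) : OnePoint (ZMod p)) := by rw [hs2, mul_zero]
      -- use the inverse conjugation: s = g⁻¹ s^i g and <s^i> = <s>
      have hpres : ∀ w, ρ s w = w → ρ s (ρ g⁻¹ w) = ρ g⁻¹ w := by
        intro w hw
        have h2 : ρ (s ^ i) w = w := by
          rw [map_pow]
          exact (Equiv.Perm.pow_apply_eq_self_of_apply_eq_self hw i)
        have h3 : s ^ i = g * s * g⁻¹ := hi
        rw [h3] at h2
        have h4 : ρ g (ρ s (ρ g⁻¹ w)) = w := by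
          rw [map_mul, map_mul, Equiv.Perm.mul_apply, Equiv.Perm.mul_apply] at h2; exact h2
        have h5 : ρ s (ρ g⁻¹ w) = (ρ g)⁻¹ w := (Equiv.Perm.inv_eq_iff_eq.mpr h4.symm).symm
        rw [h5, map_inv]
      have hA := hfix _ (hpres ∞ hs1)
      have hB := hfix _ (hpres _ hs0)
      have hinj' : ρ g⁻¹ ∞ ≠ ρ g⁻¹ ((0 : ZMod p) : OnePoint (ZMod p)) := fun h => infty_ne_coe _ ((ρ g⁻¹).injective h)
      rcases hA with hA | hA
      · left
        have hB' : ρ g⁻¹ ((0 : ZMod p) : OnePoint (ZMod p)) = ((0 : ZMod p) : OnePoint (ZMod p)) := by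
          rcases hB with hB | hB
          · exact absurd (hA.trans hB.symm) hinj'
          · exact hB
        have := hmemz g⁻¹ hA hB'
        exact inv_mem_iff.mp this
      · right
        have hB' : ρ g⁻¹ ((0 : ZMod p) : OnePoint (ZMod p)) = ∞ := by
          rcases hB with hB | hB
          · exact hB
          · exact absurd (hA.trans hB.symm) hinj'
        have h6 : (t⁻¹ * g)⁻¹ ∈ zpowers s := by
          apply hmemz
          · rw [mul_inv_rev, inv_inv, map_mul, Equiv.Perm.mul_apply, ht1, hB']
          · rw [mul_inv_rev, inv_inv, map_mul, Equiv.Perm.mul_apply, ht2, hA]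
        exact inv_mem_iff.mp h6
    · exfalso
      apply hp3
      omega
  · obtain ⟨d, hd, hfd⟩ := hgood
    have hr := M.range_le ht1 ht2 hd (fun z hz => by rw [(hf z hz).2, hfd z hz])
    exact M.equiv hp2 hcard hr

theorem psl_of_check' (hn : Nat.card (Sylow p G) = p + 1)
    (hp2 : p ≠ 2) (hp3 : p ≠ 3) (hcard : 2 * Nat.card G = p * (p ^ 2 - 1)) (hc : checkN p p = true)
    {F : Type*} [Field F] [Fintype F] (hF : Fintype.card F = p) :
    Nonempty (G ≃* Matrix.ProjectiveSpecialLinearGroup (Fin 2) F) := by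
  have hpp : p.Prime := Fact.out
  obtain ⟨P⟩ : Nonempty (Sylow p G) := inferInstance
  have h5p : 5 ≤ p := by
    have := hpp.two_le
    have h4 : p ≠ 4 := by rintro rfl; exact absurd hpp (by norm_num)
    omega
  have hodd : p % 2 = 1 := by
    rcases hpp.eq_two_or_odd with h | h
    · exact absurd h hp2
    · exact h
  -- |P| = p
  have hP : Nat.card (P : Subgroup G) = p := by
    apply Syl.card_sylow_prime P
    · have h1 : p ∣ 2 * Nat.card G := by rw [hcard]; exact dvd_mul_right _ _
      exact ((Nat.coprime_primes hpp Nat.prime_two).mpr hp2).dvd_of_dvd_mul_left h1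
    · intro h1
      have h2 : p ^ 2 ∣ p * (p ^ 2 - 1) := by rw [← hcard]; exact Dvd.dvd.mul_left h1 2
      rw [pow_two, Nat.mul_dvd_mul_iff_left hpp.pos] at h2
      have h3 : p ∣ p * p - (p * p - 1) := Nat.dvd_sub (dvd_mul_right p p) h2
      have h4 : p * p - (p * p - 1) = 1 := by
        have : 0 < p * p := Nat.mul_pos hpp.pos hpp.pos
        omega
      rw [h4] at h3
      exact hpp.one_lt.ne' (Nat.dvd_one.mp h3)
  obtain ⟨e⟩ := psl_of_check hG P hP hn hp2 hp3 hcard hc (fun t s h => by omega)
  exact ⟨e.trans (H5.PSLCongr (ZMod.ringEquivOfPrime F hpp hF))⟩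

end Cfsg.Agent.H9.PSLModel
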