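import Cfsg.Agent.H9.ExcP

set_option autoImplicit false
set_option linter.unusedSectionVars false
set_option linter.style.haveILetI false
set_option linter.unusedVariables false
set_option linter.unusedSimpArgs false

/-! Soundness of the Boolean check, final form. -/

open Cfsg

namespace Cfsg.Agent.H9.Exc

open Subgroup

universe u

section
variable {G : Type u} [Group G] [Fintype G] {p : ℕ} [Fact p.Prime] {L e : ℕ}

theorem card_centralizer_le_half [IsSimpleGroup G] (hG : ¬ IsMulCommutative G) {z : G} (hz1 : z ≠ 1) :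
    Nat.card (centralizer ({z} : Set G)) ≤ Nat.card G / 2 := by
  have h1 := index_mul_card (centralizer ({z} : Set G))
  have h2 : (centralizer ({z} : Set G)).index ≠ 1 := by
    rw [Ne, index_eq_one]
    intro h
    have : z ∈ center G := by
      rw [mem_center_iff]
      intro g
      have : g ∈ centralizer ({z} : Set G) := by rw [h]; exact mem_top g
      exact (mem_centralizer_singleton_iff.mp this)
    rw [Simple.center_eq_bot hG, mem_bot] at this
    exact hz1 this
  have h3 : (centralizer ({z} : Set G)).index ≠ 0 := index_ne_zero_of_finite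
  rw [Nat.le_div_iff_mul_le (by norm_num), ← h1]
  have h4 : 2 ≤ (centralizer ({z} : Set G)).index := by omega
  calc Nat.card (centralizer ({z} : Set G)) * 2 = 2 * Nat.card (centralizer ({z} : Set G)) := mul_comm _ _
    _ ≤ _ := Nat.mul_le_mul_right _ h4

theorem killI_sound [IsSimpleGroup G] (hG : ¬ IsMulCommutative G) (S : Sylow p G)
    {pw : centralizer ((S : Subgroup G) : Set G) →* (S : Subgroup G)} (h : Setup G p (S : Subgroup G) L e pw)
    (he : e ∣ p - 1) (hp2 : p ≠ 2) {k m : ℕ} (hk0 : 0 < k) (hn : Nat.card G = 2 ^ k * m) (hm : ¬ 2 ∣ m) {B : ℕ}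
    (hk : killI (Nat.card G) p e L (2 ^ k) B = true) : False := by
  classical
  have hpp : p.Prime := Fact.out
  haveI : Fact (Nat.Prime 2) := ⟨Nat.prime_two⟩
  obtain ⟨T⟩ : Nonempty (Sylow 2 G) := inferInstance
  have hT : Nat.card (T : Subgroup G) = 2 ^ k := Syl.card_sylow_of_card T hn hm
  have hTp : IsPGroup 2 (T : Subgroup G) := T.isPGroup'
  haveI : Nontrivial (T : Subgroup G) := by
    rw [← Finite.one_lt_card_iff_nontrivial, hT]
    exact Nat.one_lt_pow hk0.ne' (by norm_num)
  haveI := hTp.center_nontrivial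
  have hd2 : 2 ∣ Nat.card (center (T : Subgroup G)) := by
    rcases (hTp.to_subgroup (center (T : Subgroup G))).card_eq_or_dvd with h1 | h1
    · exfalso
      have := Finite.one_lt_card_iff_nontrivial.mpr (inferInstance : Nontrivial (center (T : Subgroup G)))
      omega
    · exact h1
  obtain ⟨c, hc⟩ := exists_prime_orderOf_dvd_card' 2 hd2
  obtain ⟨z, hz⟩ : ∃ z : G, z = ((c : (T : Subgroup G)) : G) := ⟨_, rfl⟩
  have hzo : orderOf z = 2 := by
    rw [hz, Subgroup.orderOf_coe, Subgroup.orderOf_coe, hc]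
  have hz1 : z ≠ 1 := by
    intro h1
    rw [h1, orderOf_one] at hzo
    omega
  have hTC : (T : Subgroup G) ≤ centralizer ({z} : Set G) := by
    intro x hx
    rw [mem_centralizer_singleton_iff]
    have h1 := mem_center_iff.mp c.2 ⟨x, hx⟩
    have h2 := congrArg Subtype.val h1
    rw [hz]
    exact h2
  have h2K : 2 ^ k ∣ Nat.card (centralizer ({z} : Set G)) := by
    rw [← hT]
    exact card_dvd_of_le hTC
  have hcond : L % 2 = 0 ∨ Nat.card (centralizer ({z} : Set G)) % p ≠ 0 := by
    by_cases h1 : Nat.card (centralizer ({z} : Set G)) % p = 0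
    · left
      obtain ⟨w, hw⟩ := exists_prime_orderOf_dvd_card' p (Nat.dvd_of_mod_eq_zero h1)
      have hwo : orderOf (w : G) = p := by rw [Subgroup.orderOf_coe, hw]
      have hWp : IsPGroup p (zpowers (w : G)) := IsPGroup.of_card (n := 1) (by rw [Nat.card_zpowers, hwo, pow_one])
      obtain ⟨W, hW⟩ := hWp.exists_le_sylow
      obtain ⟨g, hg⟩ := MulAction.exists_smul_eq G W S
      have hWcard : Nat.card (W : Subgroup G) = p := by
        have hh := h.hP; rwa [Nat.card_congr (Sylow.equiv S W).toEquiv] at hh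
      have hWe : zpowers (w : G) = (W : Subgroup G) := by
        apply eq_of_le_of_card_ge hW
        rw [hWcard, Nat.card_zpowers, hwo]
      have hwz : z * (w : G) = (w : G) * z := (mem_centralizer_singleton_iff.mp w.2).symm
      have hzC : g * z * g⁻¹ ∈ centralizer ((S : Subgroup G) : Set G) := by
        rw [mem_centralizer_iff]
        intro x hx
        have hx' : x ∈ ((g • W : Sylow p G) : Subgroup G) := by rw [hg]; exact hx
        rw [Sylow.coe_subgroup_smul, mem_pointwise_smul_iff_inv_smul_mem, ← hWe, ← map_inv, MulAut.smul_def,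
          MulAut.conj_apply, inv_inv, mem_zpowers_iff] at hx'
        obtain ⟨i, hi⟩ := hx'
        have h3 : x = g * ((w : G) ^ i) * g⁻¹ := by rw [hi]; group
        have h4 : z * (w : G) ^ i = (w : G) ^ i * z := (Commute.zpow_right hwz i)
        rw [h3]
        calc g * (w : G) ^ i * g⁻¹ * (g * z * g⁻¹) = g * ((w : G) ^ i * z) * g⁻¹ := by group
          _ = g * (z * (w : G) ^ i) * g⁻¹ := by rw [h4]
          _ = _ := by group
      have h5 : orderOf (⟨g * z * g⁻¹, hzC⟩ : centralizer ((S : Subgroup G) : Set G)) ∣ p * L := by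
        rw [← h.hL]; exact orderOf_dvd_natCard _
      have h6 : orderOf (g * z * g⁻¹) = 2 := by
        rw [← hzo]
        have : g * z * g⁻¹ = MulAut.conj g z := by simp
        rw [this, MulEquiv.orderOf_eq]
      rw [orderOf_mk, h6] at h5
      rcases Nat.prime_two.dvd_mul.mp h5 with h2 | h2
      · exact absurd ((Nat.prime_dvd_prime_iff_eq Nat.prime_two hpp).mp h2).symm hp2
      · exact Nat.mod_eq_zero_of_dvd h2
    · right; exact h1
  unfold killI at hk
  rw [List.all_eq_true] at hk
  have h7 := hk (Nat.card (centralizer ({z} : Set G))) (List.mem_range.mpr (by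
    have := card_centralizer_le_half hG hz1
    omega))
  rw [Bool.or_eq_true, Bool.not_eq_true', decide_eq_false_iff_not] at h7
  rcases h7 with h7 | h7
  · exact h7 ⟨Nat.card_pos.ne', Nat.mod_eq_zero_of_dvd (card_subgroup_dvd_card _), Nat.mod_eq_zero_of_dvd h2K, hcond⟩
  · exact h.killY_sound hG he hp2 hzo (Or.inl rfl) h7

theorem killV_sound [IsSimpleGroup G] (hG : ¬ IsMulCommutative G) {P : Subgroup G}
    {pw : centralizer (P : Set G) →* P} (h : Setup G p P L e pw)
    (he : e ∣ p - 1) (hp2 : p ≠ 2) {B : ℕ}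
    (hk : killV (Nat.card G) p e L B = true) : False := by
  classical
  have hpp : p.Prime := Fact.out
  haveI : Fact (Nat.Prime 2) := ⟨Nat.prime_two⟩
  unfold killV at hk
  rw [Bool.and_eq_true, decide_eq_true_iff, List.all_eq_true] at hk
  obtain ⟨hL2, hk⟩ := hk
  have hd : 2 ∣ Nat.card (centralizer (P : Set G)) := by
    rw [h.hL]
    exact Dvd.dvd.mul_left (Nat.dvd_of_mod_eq_zero hL2) p
  obtain ⟨w, hw⟩ := exists_prime_orderOf_dvd_card' 2 hd
  obtain ⟨z, hz⟩ : ∃ z : G, z = (w : G) := ⟨_, rfl⟩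
  have hzo : orderOf z = 2 := by rw [hz, Subgroup.orderOf_coe, hw]
  have hz1 : z ≠ 1 := by
    intro h1
    rw [h1, orderOf_one] at hzo
    omega
  have hzC : z ∈ centralizer (P : Set G) := by rw [hz]; exact w.2
  have hPz : P ≤ centralizer ({z} : Set G) := by
    intro x hx
    rw [mem_centralizer_singleton_iff]
    exact (mem_centralizer_iff.mp hzC x hx)
  have hpK : p ∣ Nat.card (centralizer ({z} : Set G)) := by
    have := card_dvd_of_le hPz
    rwa [h.hP] at this
  have h2K : 2 ∣ Nat.card (centralizer ({z} : Set G)) := by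
    have hzz : z ∈ centralizer ({z} : Set G) := by rw [mem_centralizer_singleton_iff]
    have h1 : orderOf (⟨z, hzz⟩ : centralizer ({z} : Set G)) ∣ Nat.card (centralizer ({z} : Set G)) := orderOf_dvd_natCard _
    rwa [orderOf_mk, hzo] at h1
  have h2pK : 2 * p ∣ Nat.card (centralizer ({z} : Set G)) :=
    Nat.Coprime.mul_dvd_of_dvd_of_dvd ((Nat.coprime_primes Nat.prime_two hpp).mpr (Ne.symm hp2)) h2K hpK
  have h7 := hk (Nat.card (centralizer ({z} : Set G))) (List.mem_range.mpr (by
    have := card_centralizer_le_half hG hz1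
    omega))
  rw [Bool.or_eq_true, Bool.not_eq_true', decide_eq_false_iff_not] at h7
  rcases h7 with h7 | h7
  · exact h7 ⟨Nat.card_pos.ne', Nat.mod_eq_zero_of_dvd (card_subgroup_dvd_card _), Nat.mod_eq_zero_of_dvd h2pK⟩
  · exact h.killY_sound hG he hp2 hzo (Or.inr ⟨rfl, hzC⟩) h7

theorem simple_killQ2 [IsSimpleGroup G] (hG : ¬ IsMulCommutative G) (S : Sylow p G) {m s Q k m' B : ℕ}
    (h : Nat.card G = p * m) (hm : ¬ p ∣ m) (hs : Nat.card (Sylow p G) = s) (hq : s * Q = m)
    (hk0 : 0 < k) (hn : Nat.card G = 2 ^ k * m') (hm' : ¬ 2 ∣ m')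
    (hk : killQ2 (Nat.card G) p Q (2 ^ k) B = true) : False := by
  have hpp : p.Prime := Fact.out
  have hp2 := hpp.two_le
  obtain ⟨e, L, pw, he, he1, hLe, hset⟩ := exists_setup hG S h hm hs hq
  have he0 := hset.e_pos
  unfold killQ2 at hk
  rw [List.all_eq_true] at hk
  have hep : e < p := by
    have := Nat.le_of_dvd (by omega) he
    omega
  have hpne : p ≠ 2 := by
    intro h2
    have := Nat.le_of_dvd (by omega) he
    omega
  have h1 := hk e (List.mem_range.mpr hep)
  rw [Bool.or_eq_true, Bool.or_eq_true, Bool.or_eq_true, decide_eq_true_iff, decide_eq_true_iff, decide_eq_true_iff] at h1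
  rcases h1 with ((h1 | h1) | h1) | h1
  · omega
  · exact h1 (Nat.mod_eq_zero_of_dvd he)
  · exact h1 (Nat.mod_eq_zero_of_dvd ⟨L, by rw [← hLe, mul_comm]⟩)
  · have h2 : Q / e = L := by rw [← hLe, Nat.mul_div_cancel _ he0]
    rw [h2] at h1
    unfold killA2 at h1
    rw [Bool.or_eq_true, Bool.or_eq_true] at h1
    rcases h1 with h1 | h1 | h1
    · exact hset.killA_sound hG he h1
    · exact killI_sound hG S hset he hpne hk0 hn hm' h1
    · exact killV_sound hG hset he hpne h1

end

theorem exKill2_sound {G : Type*} [Group G] [Finite G] [IsSimpleGroup G] (hG : ¬ IsMulCommutative G) {p : ℕ}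
    (hp : p.Prime) {k m' B : ℕ} (hk0 : 0 < k) (hn : Nat.card G = 2 ^ k * m') (hm' : ¬ 2 ∣ m') :
    exKill2 (Nat.card G) p (2 ^ k) B = false := by
  haveI := Fact.mk hp
  letI : Fintype G := Fintype.ofFinite G
  rw [← Bool.not_eq_true]
  intro h
  unfold exKill2 at h
  rw [Bool.and_eq_true, Bool.and_eq_true, decide_eq_true_iff, decide_eq_true_iff, List.all_eq_true] at h
  obtain ⟨h1, h2, h3⟩ := h
  have hd : p ∣ Nat.card G := Nat.dvd_of_mod_eq_zero h1
  have hm : ¬ p ∣ Nat.card G / p := fun h => h2 (Nat.mod_eq_zero_of_dvd h)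
  have hc : Nat.card G = p ^ 1 * (Nat.card G / p) := by rw [pow_one, Nat.mul_div_cancel' hd]
  obtain ⟨P⟩ : Nonempty (Sylow p G) := inferInstance
  have hposs := Sieve.possC_true hG rfl hc hm (by norm_num)
  have hs0 : 0 < Nat.card (Sylow p G) := Nat.card_pos
  have hmod : Nat.card (Sylow p G) ≡ 1 [MOD p] := card_sylow_modEq_one p G
  obtain ⟨r, hr⟩ := (Nat.modEq_iff_dvd' hs0).mp hmod.symm
  have hsr : Nat.card (Sylow p G) = 1 + r * p := by rw [mul_comm r p, ← hr]; omega
  have hdvd : Nat.card (Sylow p G) ∣ Nat.card G / p := Syl.card_sylow_dvd_of_card P hc hm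
  have hm0 : 0 < Nat.card G / p := Nat.pos_of_ne_zero (fun h => hm (h ▸ dvd_zero p))
  have hle := Nat.le_of_dvd hm0 hdvd
  have h4 := h3 r (List.mem_range.mpr (by
    have : r * p ≤ Nat.card G / p := by omega
    have := (Nat.le_div_iff_mul_le hp.pos).mpr this
    omega))
  rw [← hsr, hposs] at h4
  rw [Bool.not_true, Bool.false_or] at h4
  exact simple_killQ2 hG P (m := Nat.card G / p) (s := Nat.card (Sylow p G)) (by rw [pow_one] at hc; exact hc) hm rfl
    (Nat.mul_div_cancel' hdvd) hk0 hn hm' h4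

end Cfsg.Agent.H9.Exc
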