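import Cfsg.Agent.H9.BSWM
import Cfsg.Agent.S0111
import Mathlib.GroupTheory.SpecificGroups.Dihedral

set_option autoImplicit false
set_option linter.unusedSectionVars false
set_option linter.style.haveILetI false
set_option linter.unusedVariables false
set_option linter.unusedSimpArgs false
set_option maxHeartbeats 1000000

/-! Dihedral Sylow 2-subgroups: fusion of involutions and dihedral coordinates. -/

open Cfsg

namespace Cfsg.Agent.H9.BSW

open Subgroup

universe u

variable {G : Type u} [Group G]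

theorem orderOf_two {u : G} (h1 : u ≠ 1) (h2 : u * u = 1) : orderOf u = 2 :=
  orderOf_eq_prime (by rw [pow_two]; exact h2) h1

theorem mul_self_of_orderOf {u : G} (h : orderOf u = 2) : u ≠ 1 ∧ u * u = 1 := by
  constructor
  · rintro rfl
    rw [orderOf_one] at h; omega
  · rw [← pow_two, ← h]; exact pow_orderOf_eq_one u

/-- every `2`-element is conjugate into a given Sylow subgroup -/
theorem exists_conj_sylow [Finite G] (P : Sylow 2 G) {u : G} (hu : orderOf u = 2) : ∃ g : G, g * u * g⁻¹ ∈ (P : Subgroup G) := by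
  haveI : Fact (Nat.Prime 2) := ⟨Nat.prime_two⟩
  have hpg : IsPGroup 2 (zpowers u) := by
    apply IsPGroup.of_card (n := 1)
    rw [Nat.card_zpowers, hu, pow_one]
  obtain ⟨Q, hQ⟩ := hpg.exists_le_sylow
  obtain ⟨g, hg⟩ := MulAction.exists_smul_eq G Q P
  refine ⟨g, ?_⟩
  rw [← hg]
  have h1 : u ∈ (Q : Subgroup G) := hQ (mem_zpowers u)
  exact Subgroup.smul_mem_pointwise_smul u (MulAut.conj g) (Q : Subgroup G) h1

/-- fusion of involutions when there is no subgroup of index two -/
theorem one_class [Finite G] (hG : ∀ M : Subgroup G, M.Normal → M.index ≠ 2) (P : Sylow 2 G) {A : Subgroup G}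
    (hAP : A ≤ P) (hA2 : A.relIndex P = 2) {t : G} (huniq : ∀ x ∈ A, x * x = 1 → x = 1 ∨ x = t)
    (u : G) (hu1 : u ≠ 1) (hu2 : u * u = 1) : ∃ g : G, g * t * g⁻¹ = u := by
  obtain ⟨g, hg⟩ := exists_conj_sylow P (orderOf_two hu1 hu2)
  have hne : ∀ x : G, x * u * x⁻¹ ≠ 1 ∧ x * u * x⁻¹ * (x * u * x⁻¹) = 1 := by
    intro x
    refine ⟨conj_ne_one hu1, ?_⟩
    have : x * u * x⁻¹ * (x * u * x⁻¹) = x * (u * u) * x⁻¹ := by group
    rw [this, hu2]; group
  have key : ∀ x : G, x * u * x⁻¹ ∈ A → ∃ g : G, g * t * g⁻¹ = u := by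
    intro x hx
    have h1 := (huniq _ hx (hne x).2).resolve_left (hne x).1
    exact ⟨x⁻¹, by rw [← h1]; group⟩
  by_cases hgA : g * u * g⁻¹ ∈ A
  · exact key g hgA
  · rcases Cfsg.Agent.S0111.result P A hAP hA2 (g * u * g⁻¹) (orderOf_two (hne g).1 (hne g).2) hg hgA with h | ⟨x, hx⟩
    · obtain ⟨M, h1, h2, h3⟩ := h
      exact absurd h2 (hG M h1)
    · apply key (x * g)
      have : x * g * u * (x * g)⁻¹ = x * (g * u * g⁻¹) * x⁻¹ := by group
      rw [this]; exact hx

/-- coordinates in a dihedral subgroup -/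
theorem dihedral_coords {D : Subgroup G} {n : ℕ} [NeZero n] (e : D ≃* DihedralGroup n) :
    ∃ A : Subgroup G, A ≤ D ∧ IsCyclic A ∧ Nat.card A = n ∧ ∃ s ∈ D, s ∉ A ∧ s * s = 1 ∧
      (∀ x ∈ A, s * x * s⁻¹ = x⁻¹) ∧ (∀ g ∈ D, g ∈ A ∨ g * s ∈ A) := by
  set a : D := e.symm (DihedralGroup.r 1) with ha
  set s : D := e.symm (DihedralGroup.sr 0) with hs
  have hmem : ∀ i : ZMod n, (e.symm (DihedralGroup.r i) : D) = a ^ (i.val : ℕ) := by
    intro i
    rw [ha, ← map_pow, DihedralGroup.r_one_pow, ZMod.natCast_zmod_val]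
  have ha' : ∀ x ∈ zpowers (a : G), ∃ i : ZMod n, x = (e.symm (DihedralGroup.r i) : D) := by
    rintro x ⟨j, rfl⟩
    refine ⟨(j : ZMod n), ?_⟩
    change (a : G) ^ j = _
    have h1 : (DihedralGroup.r (j : ZMod n) : DihedralGroup n) = (DihedralGroup.r 1) ^ j := by
      rw [DihedralGroup.r_one_zpow]
    rw [h1, map_zpow, ← ha]; rfl
  refine ⟨zpowers (a : G), ?_, inferInstance, ?_, s, s.2, ?_, ?_, ?_, ?_⟩
  · rw [zpowers_le]; exact a.2
  · rw [Nat.card_zpowers, Subgroup.orderOf_coe, ha, MulEquiv.orderOf_eq, DihedralGroup.orderOf_r_one]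
  · intro hc
    obtain ⟨i, hi⟩ := ha' _ hc
    have h1 : s = e.symm (DihedralGroup.r i) := Subtype.ext hi
    rw [hs] at h1
    have := e.symm.injective h1
    simp at this
  · have h1 : s * s = 1 := by rw [hs, ← map_mul, DihedralGroup.sr_mul_self, map_one]
    exact congrArg Subtype.val h1
  · intro x hx
    obtain ⟨i, rfl⟩ := ha' x hx
    have h1 : s * e.symm (DihedralGroup.r i) * s⁻¹ = (e.symm (DihedralGroup.r i))⁻¹ := by
      rw [hs, ← map_inv, ← map_inv, ← map_mul, ← map_mul]
      congr 1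
      simp [DihedralGroup.inv_sr, DihedralGroup.inv_r]
    exact congrArg Subtype.val h1
  · intro g hg
    obtain ⟨y, hy⟩ := e.symm.surjective ⟨g, hg⟩
    have hgy : g = (e.symm y : D) := by rw [hy]
    rcases y with i | i
    · left
      rw [hgy, hmem]
      exact pow_mem (mem_zpowers _) _
    · right
      have h1 : e.symm (DihedralGroup.sr i) * s = e.symm (DihedralGroup.r (-i)) := by
        rw [hs, ← map_mul, DihedralGroup.sr_mul_sr]
        simp
      have h2 : g * s = (e.symm (DihedralGroup.sr i) * s : D) := by rw [hgy]; rfl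
      rw [h2, h1, hmem]
      exact pow_mem (mem_zpowers _) _

/-- unique involution in a cyclic group -/
theorem cyclic_uniq {A : Subgroup G} [Finite G] (hA : IsCyclic A) {x y : G} (hx : x ∈ A) (hy : y ∈ A)
    (hx1 : x ≠ 1) (hx2 : x * x = 1) (hy2 : y * y = 1) : y = 1 ∨ y = x := by
  classical
  letI : Fintype A := Fintype.ofFinite A
  by_contra hc
  push Not at hc
  have h1 := IsCyclic.card_pow_eq_one_le (α := A) (n := 2) (by norm_num)
  have h2 : ({(1 : A), ⟨x, hx⟩, ⟨y, hy⟩} : Finset A) ⊆ Finset.univ.filter (fun a : A => a ^ 2 = 1) := by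
    intro a ha
    simp only [Finset.mem_insert, Finset.mem_singleton] at ha
    simp only [Finset.mem_filter, Finset.mem_univ, true_and]
    rcases ha with rfl | rfl | rfl
    · exact one_pow 2
    · apply Subtype.ext; change x ^ 2 = 1; rw [pow_two, hx2]
    · apply Subtype.ext; change y ^ 2 = 1; rw [pow_two, hy2]
  have h3 := Finset.card_le_card h2
  rw [Finset.card_insert_of_notMem, Finset.card_insert_of_notMem, Finset.card_singleton] at h3
  · omega
  · simp only [Finset.mem_singleton, Subtype.mk.injEq]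
    exact fun e => hc.2 e.symm
  · simp only [Finset.mem_insert, Finset.mem_singleton]
    rintro (e | e)
    · exact hx1 (congrArg Subtype.val e).symm
    · exact hc.1 (congrArg Subtype.val e).symm

end Cfsg.Agent.H9.BSW
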