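import Mathlib

set_option autoImplicit false
set_option linter.unusedSectionVars false
set_option linter.style.haveILetI false
set_option linter.unusedVariables false
set_option linter.unusedSimpArgs false

/-! Arithmetic of the Brauer-Reynolds theorem. -/

namespace Cfsg.Agent.H9.BR

/-- `n` is not of the form `(h u p + u² + u + h) / (u + 1)` -/
def NF (p n : ℕ) : Prop := ∀ h u : ℕ, 0 < h → 0 < u → n * (u + 1) ≠ h * u * p + u ^ 2 + u + h

theorem NF.int {p n : ℕ} (hNF : NF p n) {h u : ℤ} (hh : 0 < h) (hu : 0 < u) :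
    (n : ℤ) * (u + 1) ≠ h * u * p + u ^ 2 + u + h := by
  obtain ⟨h', rfl⟩ := Int.eq_ofNat_of_zero_le hh.le
  obtain ⟨u', rfl⟩ := Int.eq_ofNat_of_zero_le hu.le
  intro h1
  apply hNF h' u' (by exact_mod_cast hh) (by exact_mod_cast hu)
  exact_mod_cast h1

variable {p n : ℕ}

/-- degrees `1 + u p` -/
theorem A1 (hp : 2 ≤ p) (hNF : NF p n) {u : ℤ} (hu : 0 < u) (hun : u ≤ n)
    (hd : (1 + u * p : ℤ) ∣ ((p : ℤ) - 1) * (1 + n * p)) : u = n := by
  by_contra hne
  have hlt : u < n := lt_of_le_of_ne hun hne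
  have hp' : (2 : ℤ) ≤ p := by exact_mod_cast hp
  -- (1 + u p) ∣ (u + 1)(1 + n p)
  have h1 : (1 + u * p : ℤ) ∣ (u + 1) * (1 + n * p) := by
    have h2 : (1 + u * p : ℤ) ∣ u * (((p : ℤ) - 1) * (1 + n * p)) := Dvd.dvd.mul_left hd u
    have h3 : (1 + u * p : ℤ) ∣ (1 + u * p) * (1 + n * p) := dvd_mul_right _ _
    have h4 := dvd_sub h3 h2
    have h5 : (1 + u * p : ℤ) * (1 + n * p) - u * (((p : ℤ) - 1) * (1 + n * p)) = (u + 1) * (1 + n * p) := by ring
    rwa [h5] at h4
  obtain ⟨c, hc⟩ := h1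
  have hup : 0 < u * (p : ℤ) := by positivity
  have hc1 : u + 1 < c := by
    by_contra hcon
    push Not at hcon
    have h2 : (1 + u * p : ℤ) * c ≤ (1 + u * p) * (u + 1) := by
      apply mul_le_mul_of_nonneg_left hcon; linarith
    have h3 : (1 + u * (p : ℤ)) * (u + 1) < (u + 1) * (1 + n * p) := by nlinarith
    linarith
  -- c = u + 1 + h p
  set h := (u + 1) * (n : ℤ) - u * c with hh
  have h2 : c = u + 1 + h * p := by rw [hh]; linear_combination -hc
  have h3 : 0 < h := by
    have h4 : 0 < h * (p : ℤ) := by linarith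
    exact (mul_pos_iff_of_pos_right (by linarith)).mp h4
  apply hNF.int h3 hu
  have h4 : (n : ℤ) * (u + 1) = h + u * c := by rw [hh]; ring
  rw [h4, h2]; ring

/-- degrees `w p - 1` -/
theorem A2 (hp : 2 ≤ p) (hn : 0 < n) (hNF : NF p n) {w : ℤ} (hw : 0 < w)
    (hd : (w * p - 1 : ℤ) ∣ ((p : ℤ) - 1) * (1 + n * p)) : w = 1 ∨ w - 1 = n * ((p : ℤ) - 1) := by
  by_cases hw1 : w = 1
  · exact Or.inl hw1
  right
  have hw2 : 2 ≤ w := by omega
  have hp' : (2 : ℤ) ≤ p := by exact_mod_cast hp
  have hn' : (1 : ℤ) ≤ n := by exact_mod_cast hn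
  have h1 : (w * p - 1 : ℤ) ∣ (w - 1) * (1 + n * p) := by
    have h2 : (w * p - 1 : ℤ) ∣ w * (((p : ℤ) - 1) * (1 + n * p)) := Dvd.dvd.mul_left hd w
    have h3 : (w * p - 1 : ℤ) ∣ (w * p - 1) * (1 + n * p) := dvd_mul_right _ _
    have h4 := dvd_sub h3 h2
    have h5 : (w * p - 1 : ℤ) * (1 + n * p) - w * (((p : ℤ) - 1) * (1 + n * p)) = (w - 1) * (1 + n * p) := by ring
    rwa [h5] at h4
  obtain ⟨c, hc⟩ := h1
  have hwp : 0 < w * (p : ℤ) - 1 := by nlinarith
  have hcpos : 0 < c := by
    have h2 : 0 < (w * p - 1 : ℤ) * c := by rw [← hc]; apply mul_pos <;> nlinarith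
    exact (mul_pos_iff_of_pos_left hwp).mp h2
  set k := w * c - (w - 1) * (n : ℤ) with hk
  have h2 : c = k * p - (w - 1) := by rw [hk]; linear_combination hc
  have hkpos : 0 < k := by
    have : 0 < k * (p : ℤ) := by linarith
    exact (mul_pos_iff_of_pos_right (by linarith)).mp this
  have h3 : (w - 1) * (n : ℤ) = k * (w * p - 1) - w * (w - 1) := by
    have : (w - 1) * (n : ℤ) = w * c - k := by rw [hk]; ring
    rw [this, h2]; ring
  set U := (n : ℤ) - k * p + w with hU
  have h4 : k * ((p : ℤ) - 1) = (w - 1) * U := by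
    have : (w - 1) * U = (w - 1) * (n : ℤ) - (w - 1) * k * p + (w - 1) * w := by rw [hU]; ring
    rw [this, h3]; ring
  have hUpos : 0 < U := by
    have : 0 < (w - 1) * U := by rw [← h4]; apply mul_pos <;> linarith
    exact (mul_pos_iff_of_pos_left (by linarith)).mp this
  by_cases hU1 : U = 1
  · rw [hU1, mul_one] at h4
    have h5 : (n : ℤ) = k := by
      have : (n : ℤ) - k * p + w = 1 := by rw [← hU]; exact hU1
      linarith
    rw [h5, h4]
  · exfalso
    apply hNF.int hkpos (u := U - 1) (by omega)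
    have h5 : (n : ℤ) = k * p + U - w := by rw [hU]; ring
    rw [h5]
    linear_combination h4

/-- exceptional degree `s p + e` -/
theorem A3 (hp : p.Prime) (hNF : NF p n) {s e t : ℤ} (hs : 0 ≤ s) (he : 0 < e) (ht : 0 < t) (hte : t * e = (p : ℤ) - 1)
    (hd : (s * p + e : ℤ) ∣ e * (1 + n * p)) : s = 0 ∨ s * p + e = e * (1 + n * p) := by
  by_cases hs0 : s = 0
  · exact Or.inl hs0
  right
  have hspos : 0 < s := lt_of_le_of_ne hs (Ne.symm hs0)
  have hp' : (2 : ℤ) ≤ p := by exact_mod_cast hp.two_le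
  obtain ⟨c, hc⟩ := hd
  have hnn : (0 : ℤ) ≤ n := by positivity
  have hcpos : 0 < c := by
    have h2 : 0 < (s * p + e : ℤ) * c := by rw [← hc]; positivity
    exact (mul_pos_iff_of_pos_left (by positivity)).mp h2
  have h1 : e * (c - 1) = p * (e * n - s * c) := by linear_combination -hc
  have helt : e < p := by nlinarith
  have h2 : (p : ℤ) ∣ c - 1 := by
    have h3 : (p : ℤ) ∣ e * (c - 1) := ⟨_, h1⟩
    rcases (Nat.prime_iff_prime_int.mp hp).dvd_or_dvd h3 with h4 | h4
    · exfalso
      have := Int.le_of_dvd he h4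
      linarith
    · exact h4
  obtain ⟨k, hk⟩ := h2
  have hk' : c = 1 + k * p := by linear_combination hk
  have hk0 : 0 ≤ k := by
    by_contra hcon
    push Not at hcon
    have : k ≤ -1 := by omega
    nlinarith
  have hp0 : (p : ℤ) ≠ 0 := by linarith
  have h3 : e * ((n : ℤ) - k) = s * (1 + k * p) := by
    have h4 : e * (k * p) = p * (e * n - s * (1 + k * p)) := by rw [← hk', ← h1, hk']; ring
    have h5 : (p : ℤ) * (e * ((n : ℤ) - k)) = p * (s * (1 + k * p)) := by linear_combination -h4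
    exact mul_left_cancel₀ hp0 h5
  rcases hk0.eq_or_lt with h4 | h4
  · rw [← h4] at h3
    have h5 : s = e * n := by linarith
    rw [h5]; ring
  · exfalso
    set h := (n : ℤ) - k - s * k * t with hh
    have h5 : e * h = s * (k + 1) := by
      have : e * h = e * ((n : ℤ) - k) - s * k * (t * e) := by rw [hh]; ring
      rw [this, h3, hte]; ring
    have hhpos : 0 < h := by
      have : 0 < e * h := by rw [h5]; positivity
      exact (mul_pos_iff_of_pos_left he).mp this
    apply hNF.int hhpos h4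
    have he0 : e ≠ 0 := he.ne'
    apply mul_left_cancel₀ he0
    have h6 : e * (((n : ℤ) - k) * (k + 1)) = e * (h * (k * p + 1)) := by
      calc e * (((n : ℤ) - k) * (k + 1)) = (e * ((n : ℤ) - k)) * (k + 1) := by ring
        _ = s * (1 + k * p) * (k + 1) := by rw [h3]
        _ = (s * (k + 1)) * (k * p + 1) := by ring
        _ = e * (h * (k * p + 1)) := by rw [← h5]; ring
    linear_combination h6

/-- exceptional degree `s p - e` -/
theorem A4 (hp : p.Prime) (hNF : NF p n) {s e t : ℤ} (hs : 0 < s) (he : 0 < e) (ht : 2 ≤ t) (hte : t * e = (p : ℤ) - 1)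
    (hd : (s * p - e : ℤ) ∣ e * (1 + n * p)) : (n : ℤ) + 1 = s * t := by
  have hp' : (2 : ℤ) ≤ p := by exact_mod_cast hp.two_le
  obtain ⟨c, hc⟩ := hd
  have hnn : (0 : ℤ) ≤ n := by positivity
  have helt : e < p := by nlinarith
  have hspe : 0 < s * p - e := by nlinarith
  have hcpos : 0 < c := by
    have h2 : 0 < (s * p - e : ℤ) * c := by rw [← hc]; positivity
    exact (mul_pos_iff_of_pos_left hspe).mp h2
  have h1 : e * (c + 1) = p * (s * c - e * n) := by linear_combination hc
  have h2 : (p : ℤ) ∣ c + 1 := by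
    have h3 : (p : ℤ) ∣ e * (c + 1) := ⟨_, h1⟩
    rcases (Nat.prime_iff_prime_int.mp hp).dvd_or_dvd h3 with h4 | h4
    · exfalso
      have := Int.le_of_dvd he h4
      linarith
    · exact h4
  obtain ⟨k, hk⟩ := h2
  have hk' : c = k * p - 1 := by linear_combination hk
  have hkpos : 0 < k := by
    by_contra hcon
    push Not at hcon
    nlinarith
  have hp0 : (p : ℤ) ≠ 0 := by linarith
  have he0 : e ≠ 0 := he.ne'
  have h3 : e * ((n : ℤ) + k) = s * (k * p - 1) := by
    have h4 : e * (k * p) = p * (s * (k * p - 1) - e * n) := by rw [← hk', ← h1, hk']; ring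
    have h5 : (p : ℤ) * (e * ((n : ℤ) + k)) = p * (s * (k * p - 1)) := by linear_combination h4
    exact mul_left_cancel₀ hp0 h5
  by_cases hk1 : k = 1
  · rw [hk1, one_mul, ← hte] at h3
    apply mul_left_cancel₀ he0
    linear_combination h3
  · exfalso
    have hk2 : 2 ≤ k := by omega
    set h := (n : ℤ) + k - s * k * t with hh
    have h5 : e * h = s * (k - 1) := by
      have : e * h = e * ((n : ℤ) + k) - s * k * (t * e) := by rw [hh]; ring
      rw [this, h3, hte]; ring
    have hhpos : 0 < h := by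
      have : 0 < e * h := by rw [h5]; apply mul_pos <;> linarith
      exact (mul_pos_iff_of_pos_left he).mp this
    have hst : 2 ≤ s * t := by nlinarith
    apply hNF.int hhpos (u := s * t - 1) (by linarith)
    -- (n - u)(u + 1) = h (u p + 1)
    have h6 : e * ((n : ℤ) + 1 - s * t) = (k - 1) * (s * p - e) := by
      have : e * (n : ℤ) = s * (k * p - 1) - e * k := by linear_combination h3
      calc e * ((n : ℤ) + 1 - s * t) = e * n + e - s * (t * e) := by ring
        _ = (k - 1) * (s * p - e) := by rw [this, hte]; ring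
    have h7 : ((n : ℤ) + 1 - s * t) * s = h * (s * p - e) := by
      apply mul_left_cancel₀ he0
      calc e * (((n : ℤ) + 1 - s * t) * s) = (e * ((n : ℤ) + 1 - s * t)) * s := by ring
        _ = (k - 1) * (s * p - e) * s := by rw [h6]
        _ = (s * (k - 1)) * (s * p - e) := by ring
        _ = e * (h * (s * p - e)) := by rw [← h5]; ring
    have h8 : (s * t - 1) * (p : ℤ) + 1 = t * (s * p - e) := by linear_combination hte
    have h9 : ((n : ℤ) + 1 - s * t) * (s * t) = h * ((s * t - 1) * p + 1) := by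
      rw [h8]
      calc ((n : ℤ) + 1 - s * t) * (s * t) = ((n + 1 - s * t) * s) * t := by ring
        _ = h * (s * p - e) * t := by rw [h7]
        _ = h * (t * (s * p - e)) := by ring
    linear_combination h9

end Cfsg.Agent.H9.BR
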