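import Cfsg.Agent.H9.ExcA
import Cfsg.Agent.H3.Quat3
import Cfsg.Agent.H3.BrauerE
import Mathlib.GroupTheory.FiniteAbelian.Duality
import Mathlib.RingTheory.RootsOfUnity.AlgebraicallyClosed

set_option autoImplicit false
set_option linter.unusedSectionVars false
set_option linter.style.haveILetI false
set_option linter.unusedVariables false
set_option linter.unusedSimpArgs false

/-! Brauer–Suzuki–Wall, part A: norm one generalized characters, linear characters of abelian groups. -/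

open Cfsg
open scoped ComplexConjugate

namespace Cfsg.Agent.H9.BSW

open Subgroup

universe u

variable {G : Type u} [Group G] [Fintype G]

/-- norm one generalized character, i.e. plus or minus an irreducible one -/
def N1 (x : G → ℂ) : Prop := IsGeneralizedCharacter G x ∧ classInner x x = 1

theorem N1.sirr {x : G → ℂ} (h : N1 x) : IsIrrCharacter G x ∨ IsIrrCharacter G (-x) :=
  H3.gen_norm_one h.1 h.2

theorem N1.neg {x : G → ℂ} (h : N1 x) : N1 (-x) :=
  ⟨H3.isGen_neg h.1, by rw [H3.classInner_neg_left, H3.classInner_neg_right, neg_neg]; exact h.2⟩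

theorem N1.of_irr {x : G → ℂ} (h : IsIrrCharacter G x) : N1 x :=
  ⟨H3.isGen_of_irr h, by classical rw [H3.classInner_irr h h, if_pos rfl]⟩

theorem N1.one : N1 (fun _ => 1 : G → ℂ) := N1.of_irr H3.isIrr_one

theorem N1.tri {x y : G → ℂ} (hx : N1 x) (hy : N1 y) : x = y ∨ x = -y ∨ classInner x y = 0 := by
  classical
  rcases hx.sirr with h1 | h1 <;> rcases hy.sirr with h2 | h2
  · have h := H3.classInner_irr h1 h2
    by_cases e : x = y
    · exact Or.inl e
    · rw [if_neg e] at h; exact Or.inr (Or.inr h)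
  · have h := H3.classInner_irr h1 h2
    by_cases e : x = -y
    · exact Or.inr (Or.inl e)
    · rw [if_neg e, H3.classInner_neg_right, neg_eq_zero] at h; exact Or.inr (Or.inr h)
  · have h := H3.classInner_irr h1 h2
    by_cases e : -x = y
    · exact Or.inr (Or.inl (neg_eq_iff_eq_neg.mp e))
    · rw [if_neg e, H3.classInner_neg_left, neg_eq_zero] at h; exact Or.inr (Or.inr h)
  · have h := H3.classInner_irr h1 h2
    by_cases e : -x = -y
    · exact Or.inl (neg_injective e)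
    · rw [if_neg e, H3.classInner_neg_left, H3.classInner_neg_right, neg_neg] at h; exact Or.inr (Or.inr h)

theorem dec2 {w : G → ℂ} (hw : IsGeneralizedCharacter G w) (h : classInner w w = 2) :
    ∃ x y : G → ℂ, N1 x ∧ N1 y ∧ classInner x y = 0 ∧ w = x + y := by
  classical
  obtain ⟨a, b, ε, δ, hab, hε, hδ, e⟩ := H3.gen_norm_two_signed hw h
  have hs : ∀ (c : IrrCharacter G) (ε : ℤ), (ε = 1 ∨ ε = -1) → N1 ((ε : ℂ) • (c : G → ℂ)) := by
    intro c ε hε
    rcases hε with h | h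
    · rw [h]; simpa using N1.of_irr c.2
    · rw [h]; simpa using (N1.of_irr c.2).neg
  refine ⟨_, _, hs a ε hε, hs b δ hδ, ?_, e⟩
  rw [H3.classInner_smul_left, H3.classInner_smul_right, H3.classInner_irr', if_neg hab, mul_zero, mul_zero]

theorem N1.deg {x : G → ℂ} (h : N1 x) : ∃ d : ℤ, d ≠ 0 ∧ x 1 = d ∧ d ∣ (Nat.card G : ℤ) := by
  rcases h.sirr with h1 | h1
  · obtain ⟨d, hd0, hd⟩ := H3.irr_one_eq_nat h1
    exact ⟨d, by omega, by exact_mod_cast hd, by exact_mod_cast H3.irr_degree_dvd_card h1 hd⟩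
  · obtain ⟨d, hd0, hd⟩ := H3.irr_one_eq_nat h1
    refine ⟨-d, by omega, ?_, ?_⟩
    · rw [Pi.neg_apply] at hd
      push_cast
      rw [← hd, neg_neg]
    · rw [neg_dvd]
      exact_mod_cast H3.irr_degree_dvd_card h1 hd

theorem N1.conv {x : G → ℂ} (h : N1 x) (b c : G) :
    ∑ a : G, x (a * b * a⁻¹ * c) = (Nat.card G : ℂ) * x b * x c / x 1 := by
  rcases h.sirr with h1 | h1
  · exact H3.sum_irr_conj_mul h1 b c
  · have h2 := H3.sum_irr_conj_mul h1 b c
    simp only [Pi.neg_apply, Finset.sum_neg_distrib] at h2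
    rw [neg_eq_iff_eq_neg] at h2
    rw [h2]
    obtain ⟨d, hd0, hd, -⟩ := h.deg
    have : x 1 ≠ 0 := by rw [hd]; exact_mod_cast hd0
    field_simp

theorem N1.classFun {x : G → ℂ} (h : N1 x) : IsClassFunction G x := H3.isGen_classFun h.1

theorem N1.vanish {x : G → ℂ} (h : N1 x) {d : ℤ} (hd : x 1 = d) {p n : ℕ} (hp : p.Prime)
    (hn' : ¬ p ^ (n + 1) ∣ Nat.card G) (hdeg : (p ^ n : ℤ) ∣ d) {y : G} (hy : p ∣ orderOf y) : x y = 0 := by
  rcases h.sirr with h1 | h1
  · obtain ⟨e, he0, he⟩ := H3.irr_one_eq_nat h1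
    refine H3.char_eq_zero_of_defect_zero h1 hp hn' he ?_ y hy
    have : (d : ℂ) = (e : ℂ) := by rw [← hd, he]
    have h2 : d = (e : ℤ) := by exact_mod_cast this
    rw [h2] at hdeg
    exact_mod_cast hdeg
  · obtain ⟨e, he0, he⟩ := H3.irr_one_eq_nat h1
    have h3 : (-x) y = 0 := by
      refine H3.char_eq_zero_of_defect_zero h1 hp hn' he ?_ y hy
      have : (-d : ℂ) = (e : ℂ) := by rw [← hd, ← he]; rfl
      have h2 : -d = (e : ℤ) := by exact_mod_cast this
      have h4 : (p ^ n : ℤ) ∣ -d := (dvd_neg).mpr hdeg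
      rw [h2] at h4
      exact_mod_cast h4
    simpa using h3

/-! ### linear characters of an abelian subgroup -/

section lin

variable {K : Subgroup G} (hcomm : ∀ x ∈ K, ∀ y ∈ K, x * y = y * x)

include hcomm

theorem mulEquiv_hom : Nonempty ((K →* ℂˣ) ≃* K) := by
  letI : CommGroup K := { (inferInstance : Group K) with
    mul_comm := fun a b => Subtype.ext (hcomm a a.2 b b.2) }
  haveI : NeZero (Monoid.exponent K) := ⟨Monoid.exponent_ne_zero_of_finite⟩
  exact CommGroup.monoidHom_mulEquiv_of_hasEnoughRootsOfUnity K ℂ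

theorem finite_hom : Finite (K →* ℂˣ) := by
  obtain ⟨e⟩ := mulEquiv_hom hcomm
  exact Finite.of_equiv _ e.toEquiv.symm

theorem card_hom : Nat.card (K →* ℂˣ) = Nat.card K := by
  obtain ⟨e⟩ := mulEquiv_hom hcomm
  exact Nat.card_congr e.toEquiv

theorem exists_ne {x : K} (hx : x ≠ 1) : ∃ μ : K →* ℂˣ, μ x ≠ 1 := by
  letI : CommGroup K := { (inferInstance : Group K) with
    mul_comm := fun a b => Subtype.ext (hcomm a a.2 b b.2) }
  haveI : NeZero (Monoid.exponent K) := ⟨Monoid.exponent_ne_zero_of_finite⟩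
  exact CommGroup.exists_apply_ne_one_of_hasEnoughRootsOfUnity K ℂ hx

open scoped Classical in
theorem sum_hom [Fintype (K →* ℂˣ)] (x : K) :
    ∑ μ : K →* ℂˣ, (μ x : ℂ) = if x = 1 then (Nat.card K : ℂ) else 0 := by
  by_cases hx : x = 1
  · subst hx
    rw [if_pos rfl]
    simp only [map_one, Units.val_one, Finset.sum_const, Finset.card_univ, nsmul_eq_mul, mul_one]
    rw [← Nat.card_eq_fintype_card, card_hom hcomm]
  · rw [if_neg hx]
    obtain ⟨ν, hν⟩ := exists_ne hcomm hx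
    have h3 : (ν x : ℂ) ≠ 1 := fun h => hν (Units.ext h)
    have h4 : (ν x : ℂ) * ∑ μ : K →* ℂˣ, (μ x : ℂ) = ∑ μ : K →* ℂˣ, (μ x : ℂ) := by
      rw [Finset.mul_sum]
      refine Fintype.sum_equiv (Equiv.mulLeft ν) _ _ fun μ => ?_
      simp
    have h5 : ((ν x : ℂ) - 1) * ∑ μ : K →* ℂˣ, (μ x : ℂ) = 0 := by rw [sub_mul, h4, one_mul, sub_self]
    rcases mul_eq_zero.mp h5 with h6 | h6
    · exact absurd (sub_eq_zero.mp h6) h3
    · exact h6

omit hcomm in
theorem conj_hom (μ : K →* ℂˣ) (y : K) : conj ((μ y : ℂˣ) : ℂ) = ((μ y⁻¹ : ℂˣ) : ℂ) := by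
  have h1 : (μ y : ℂ) ^ Nat.card K = 1 := by
    rw [← Units.val_pow_eq_pow_val, ← map_pow, pow_card_eq_one', map_one, Units.val_one]
  have h2 : ‖(μ y : ℂ)‖ = 1 := by
    have h3 := congrArg (fun z => ‖z‖) h1
    simp only [norm_pow, norm_one] at h3
    exact (pow_eq_one_iff_of_nonneg (norm_nonneg _) (Nat.card_pos.ne')).mp h3
  rw [map_inv, Units.val_inv_eq_inv_val, ← Complex.inv_eq_conj h2]

/-- Fourier expansion on `K` -/
theorem fourier [Fintype K] [Fintype (K →* ℂˣ)] (f : K → ℂ) (x : K) :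
    f x = ∑ μ : K →* ℂˣ, classInner f (fun y => ((μ y : ℂˣ) : ℂ)) * (μ x : ℂ) := by
  classical
  have hk : (Nat.card K : ℂ) ≠ 0 := by exact_mod_cast Nat.card_pos.ne'
  have h1 : ∀ μ : K →* ℂˣ, classInner f (fun y => ((μ y : ℂˣ) : ℂ)) * (μ x : ℂ) =
      (Nat.card K : ℂ)⁻¹ * ∑ y : K, f y * (μ (y⁻¹ * x) : ℂ) := by
    intro μ
    rw [classInner, mul_assoc, Finset.sum_mul]
    congr 1
    apply Finset.sum_congr rfl
    intro y _
    rw [conj_hom, map_mul, Units.val_mul, mul_assoc]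
  rw [Finset.sum_congr rfl fun μ _ => h1 μ, ← Finset.mul_sum, Finset.sum_comm]
  have h2 : ∀ y : K, ∑ μ : K →* ℂˣ, f y * (μ (y⁻¹ * x) : ℂ) = if y = x then f x * (Nat.card K : ℂ) else 0 := by
    intro y
    rw [← Finset.mul_sum, sum_hom hcomm]
    by_cases hyx : y = x
    · subst hyx; simp
    · rw [if_neg hyx, if_neg (fun h => hyx (inv_mul_eq_one.mp h)), mul_zero]
  rw [Finset.sum_congr rfl fun y _ => h2 y, Finset.sum_ite_eq' , if_pos (Finset.mem_univ x)]
  rw [mul_comm (f x), ← mul_assoc, inv_mul_cancel₀ hk, one_mul]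

end lin

end Cfsg.Agent.H9.BSW
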