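import Cfsg.Agent.H9.BRA
import Cfsg.Agent.H9.BSWA
import Cfsg.Agent.H9.ExcH

set_option autoImplicit false
set_option linter.unusedSectionVars false
set_option linter.style.haveILetI false
set_option linter.unusedVariables false
set_option linter.unusedSimpArgs false

/-! Characters induced from linear characters of `N(P) / C(P)`. -/

open Cfsg
open scoped ComplexConjugate

namespace Cfsg.Agent.H9.BR

open Subgroup Exc

universe u

variable {G : Type u} [Group G] [Fintype G] {p : ℕ} [Fact p.Prime] {P : Subgroup G} {L e : ℕ}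
  {pw : centralizer (P : Set G) →* P}

/-- constant value `κ` on the `p`-singular elements of `C(P)` -/
def VP (pw : centralizer (P : Set G) →* P) (ψ : G → ℂ) (κ : ℂ) : Prop :=
  ∀ c : centralizer (P : Set G), pw c ≠ 1 → ψ c = κ

theorem inner_one_phC [Fintype (centralizer (P : Set G))] (h : Setup G p P L e pw) {μ : P →* ℂˣ} (hμ : μ ≠ 1) :
    classInner (fun _ : centralizer (P : Set G) => (1 : ℂ)) (phC pw μ) = 1 := by
  classical
  have h0 : phC pw μ = (fun y => (((1 : P →* ℂˣ).comp pw) y : ℂ)) - (fun y => ((μ.comp pw) y : ℂ)) := by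
    ext y; simp [phC]
  have h1 : (fun _ : centralizer (P : Set G) => (1 : ℂ)) = (fun y => (((1 : P →* ℂˣ).comp pw) y : ℂ)) := by
    ext y; simp
  have h2 : (1 : P →* ℂˣ).comp pw ≠ μ.comp pw := by
    intro h3
    apply hμ
    ext y
    obtain ⟨c, rfl⟩ := h.surj y
    have := congrArg (fun f : centralizer (P : Set G) →* ℂˣ => f c) h3
    simp only [MonoidHom.comp_apply] at this
    rw [← this]
  rw [h0, h1, H3.classInner_sub_right, H3.classInner_self_of_irr (H3.isIrr_of_hom _),
    H3.classInner_irr (H3.isIrr_of_hom _) (H3.isIrr_of_hom _), if_neg (fun h' => h2 (H3.hom_coe_injective h')), sub_zero]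

/-- inner products with the induced virtual character -/
theorem inner_VP (h : Setup G p P L e pw) {ψ : G → ℂ} (hψ : IsClassFunction G ψ) {κ : ℂ} (hv : VP pw ψ κ)
    {μ : P →* ℂˣ} (hμ : μ ≠ 1) : classInner ψ (indFun (centralizer (P : Set G)) (phC pw μ)) = κ := by
  classical
  letI : Fintype (centralizer (P : Set G)) := Fintype.ofFinite _
  rw [H3.frobenius_reciprocity' _ _ hψ]
  have h1 : classInner (fun c : centralizer (P : Set G) => ψ c) (phC pw μ) =
      classInner (κ • fun _ : centralizer (P : Set G) => (1 : ℂ)) (phC pw μ) := by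
    simp only [classInner]
    congr 1
    apply Finset.sum_congr rfl
    intro c _
    by_cases hc : pw c = 1
    · rw [phC_of_pw_eq_one hc]; simp
    · rw [hv c hc]; simp
  rw [h1, H3.classInner_smul_left, inner_one_phC h hμ, mul_one]

/-- the automorphisms induced on `P` -/
abbrev KK (P : Subgroup G) : Subgroup (MulAut P) := (P.normalizerMonoidHom).range

/-- linear characters of the normalizer -/
noncomputable def lam (μ : KK P →* ℂˣ) : normalizer (P : Set G) →* ℂˣ := μ.comp (P.normalizerMonoidHom).rangeRestrict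

theorem rr_eq_one_iff (n : normalizer (P : Set G)) :
    (P.normalizerMonoidHom).rangeRestrict n = 1 ↔ (n : G) ∈ centralizer (P : Set G) := by
  rw [← mem_subgroupOf, ← normalizerMonoidHom_ker, MonoidHom.mem_ker, Subtype.ext_iff]
  rfl

theorem lam_of_mem (μ : KK P →* ℂˣ) {n : normalizer (P : Set G)} (hn : (n : G) ∈ centralizer (P : Set G)) :
    lam μ n = 1 := by
  rw [lam, MonoidHom.comp_apply, (rr_eq_one_iff n).mpr hn, map_one]

theorem lam_one : lam (1 : KK P →* ℂˣ) = 1 := by ext n; simp [lam]

theorem KK_comm (h : Setup G p P L e pw) : ∀ x ∈ KK P, ∀ y ∈ KK P, x * y = y * x := by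
  haveI : IsCyclic P := isCyclic_of_prime_card h.hP
  intro x _ y _
  apply (IsCyclic.mulAutMulEquiv P).injective
  rw [map_mul, map_mul, mul_comm]

theorem card_KK (h : Setup G p P L e pw) : Nat.card (KK P) = e := by
  have h1 : (P.normalizerMonoidHom).ker.index = Nat.card (KK P) := Subgroup.index_ker _
  rw [← h1, normalizerMonoidHom_ker]
  have h2 := card_mul_index ((centralizer (P : Set G)).subgroupOf (normalizer (P : Set G)))
  rw [Nat.card_congr (subgroupOfEquivOfLe (centralizer_le_normalizer (s := (P : Set G)))).toEquiv, h.hL, h.hN] at h2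
  refine Nat.eq_of_mul_eq_mul_left (Nat.mul_pos (Fact.out : p.Prime).pos (Nat.pos_of_ne_zero h.L_ne)) h2

open scoped Classical in
theorem sum_lam (h : Setup G p P L e pw) [Fintype (KK P →* ℂˣ)] (n : normalizer (P : Set G)) :
    ∑ μ : KK P →* ℂˣ, (lam μ n : ℂ) = if (n : G) ∈ centralizer (P : Set G) then (e : ℂ) else 0 := by
  have h1 := BSW.sum_hom (KK_comm h) ((P.normalizerMonoidHom).rangeRestrict n)
  rw [card_KK h] at h1
  have h2 : ∀ μ : KK P →* ℂˣ, (lam μ n : ℂ) = (μ ((P.normalizerMonoidHom).rangeRestrict n) : ℂ) := fun μ => rfl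
  rw [Finset.sum_congr rfl fun μ _ => h2 μ, h1]
  by_cases hn : (n : G) ∈ centralizer (P : Set G)
  · rw [if_pos hn, if_pos ((rr_eq_one_iff n).mpr hn)]
  · rw [if_neg hn, if_neg (fun h' => hn ((rr_eq_one_iff n).mp h'))]

/-- the induced characters -/
noncomputable def ind (μ : KK P →* ℂˣ) : G → ℂ :=
  indFun (normalizer (P : Set G)) (fun n => (lam μ n : ℂ))

theorem ind_isChar (μ : KK P →* ℂˣ) : IsCharacter G (ind μ) :=
  H3.isChar_ind _ (H3.irr_isChar (H3.isIrr_of_hom _))

theorem ind_one_apply (μ : KK P →* ℂˣ) : ind μ (1 : G) = ((normalizer (P : Set G)).index : ℂ) := by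
  rw [ind, H3.indFun_one_apply, map_one, Units.val_one, mul_one]

/-- value on `p`-singular elements -/
theorem ind_VP (h : Setup G p P L e pw) (hNP : ∀ y ∈ normalizer (P : Set G), orderOf y = p → y ∈ P) (μ : KK P →* ℂˣ) :
    VP pw (ind μ) 1 := by
  classical
  intro c hc
  have hpp : p.Prime := Fact.out
  letI : Fintype (normalizer (P : Set G)) := Fintype.ofFinite _
  have hN0 : (Nat.card (normalizer (P : Set G)) : ℂ) ≠ 0 := by exact_mod_cast Nat.card_pos.ne'
  rw [ind, indFun]
  have h1 : ∀ g : G, extendByZero (normalizer (P : Set G)) (fun n => (lam μ n : ℂ)) (g⁻¹ * c * g) =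
      extendByZero (normalizer (P : Set G)) (fun _ => (1 : ℂ)) g * 1 := by
    intro g
    by_cases hg : g ∈ normalizer (P : Set G)
    · have hgc : g⁻¹ * c * g ∈ centralizer (P : Set G) := by
        have := conj_mem_centralizer (inv_mem hg) c.2
        rwa [inv_inv] at this
      rw [H3.extendByZero_mem _ _ hg, H3.extendByZero_mem _ _ (centralizer_le_normalizer (s := (P : Set G)) hgc)]
      have h2 : lam μ ⟨g⁻¹ * c * g, centralizer_le_normalizer (s := (P : Set G)) hgc⟩ = 1 := lam_of_mem μ hgc
      rw [h2]; simp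
    · rw [H3.extendByZero_not_mem _ _ hg, zero_mul]
      apply H3.extendByZero_not_mem
      intro h2
      -- the `p`-part
      apply hc
      have hx : ((pw c : P) : G) = (c : G) ^ L := h.hpw c
      by_contra hne
      have hx1 : ((pw c : P) : G) ≠ 1 := fun h' => hne (Subtype.ext h')
      have hxo : orderOf ((pw c : P) : G) = p := by
        rw [Subgroup.orderOf_coe]
        have h3 := orderOf_dvd_natCard (pw c)
        rw [h.hP] at h3
        rcases (Nat.dvd_prime hpp).mp h3 with h4 | h4
        · exact absurd (orderOf_eq_one_iff.mp h4) hne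
        · exact h4
      have h3 : g⁻¹ * ((pw c : P) : G) * g ∈ normalizer (P : Set G) := by
        have h4 : g⁻¹ * ((pw c : P) : G) * g = (g⁻¹ * c * g) ^ L := by
          rw [hx]
          have := conj_pow (i := L) (a := g⁻¹) (b := (c : G))
          rw [inv_inv] at this
          exact this.symm
        rw [h4]
        exact pow_mem h2 L
      have h4 : orderOf (g⁻¹ * ((pw c : P) : G) * g) = p := by
        rw [← hxo]
        have := orderOf_injective (MulAut.conj g⁻¹).toMonoidHom (MulAut.conj g⁻¹).injective ((pw c : P) : G)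
        rw [← this]
        congr 1
        simp
      have h5 := hNP _ h3 h4
      apply hx1
      apply ti (g := g⁻¹) h.hP (fun h' => hg (by have := inv_mem h'; rwa [inv_inv] at this)) (pw c).2
      rw [inv_inv]; exact h5
  rw [Finset.sum_congr rfl fun g _ => h1 g, H3.sum_extendByZero_mul]
  simp only [mul_one]
  rw [Finset.sum_const, Finset.card_univ, ← Nat.card_eq_fintype_card, nsmul_eq_mul, mul_one, inv_mul_cancel₀ hN0]

/-- the sum of all multiplicities -/
theorem sum_inner (h : Setup G p P L e pw) [Fintype (KK P →* ℂˣ)] [Fintype (centralizer (P : Set G))] {ψ : G → ℂ}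
    (hψ : IsClassFunction G ψ) :
    ∑ μ : KK P →* ℂˣ, classInner ψ (ind μ) =
      classInner (fun c : centralizer (P : Set G) => ψ c) (fun _ => 1) := by
  classical
  letI : Fintype (normalizer (P : Set G)) := Fintype.ofFinite _
  have h1 : ∀ μ : KK P →* ℂˣ, classInner ψ (ind μ) =
      classInner (fun n : normalizer (P : Set G) => ψ n) (fun n => (lam μ n : ℂ)) := fun μ => by
    rw [ind, H3.frobenius_reciprocity' _ _ hψ]
  rw [Finset.sum_congr rfl fun μ _ => h1 μ, ← H3.classInner_sum_right]
  have h2 : (∑ μ : KK P →* ℂˣ, fun n : normalizer (P : Set G) => (lam μ n : ℂ)) =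
      fun n : normalizer (P : Set G) => if (n : G) ∈ centralizer (P : Set G) then (e : ℂ) else 0 := by
    ext n
    rw [Finset.sum_apply, sum_lam h]
  rw [h2]
  simp only [classInner]
  have he0 : (e : ℂ) ≠ 0 := by
    have := card_KK h
    rw [← this]
    exact_mod_cast Nat.card_pos.ne'
  have hC0 : (Nat.card (centralizer (P : Set G)) : ℂ) ≠ 0 := by exact_mod_cast Nat.card_pos.ne'
  have hNC : (Nat.card (normalizer (P : Set G)) : ℂ) = Nat.card (centralizer (P : Set G)) * e := by
    rw [h.hN, h.hL]; push_cast; ring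
  have h3 : ∑ n : normalizer (P : Set G), ψ n * conj (if (n : G) ∈ centralizer (P : Set G) then (e : ℂ) else 0) =
      (e : ℂ) * ∑ c : centralizer (P : Set G), ψ c * conj 1 := by
    have h4 := H3.sum_extendByZero_mul (normalizer (P : Set G))
      (fun n : normalizer (P : Set G) => conj (if (n : G) ∈ centralizer (P : Set G) then (e : ℂ) else 0)) ψ
    have h5 := H3.sum_extendByZero_mul (centralizer (P : Set G)) (fun _ : centralizer (P : Set G) => (e : ℂ)) ψ
    have h6 : ∀ g : G, extendByZero (normalizer (P : Set G))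
        (fun n : normalizer (P : Set G) => conj (if (n : G) ∈ centralizer (P : Set G) then (e : ℂ) else 0)) g =
        extendByZero (centralizer (P : Set G)) (fun _ : centralizer (P : Set G) => (e : ℂ)) g := by
      intro g
      by_cases hg : g ∈ centralizer (P : Set G)
      · rw [H3.extendByZero_mem _ _ hg, H3.extendByZero_mem _ _ (centralizer_le_normalizer (s := (P : Set G)) hg)]
        simp [hg]
      · rw [H3.extendByZero_not_mem _ _ hg]
        by_cases hgN : g ∈ normalizer (P : Set G)
        · rw [H3.extendByZero_mem _ _ hgN]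
          simp [hg]
        · rw [H3.extendByZero_not_mem _ _ hgN]
    rw [Finset.sum_congr rfl fun g _ => by rw [h6 g]] at h4
    rw [h5] at h4
    rw [Finset.mul_sum]
    have e1 : ∀ n : normalizer (P : Set G), ψ n * conj (if (n : G) ∈ centralizer (P : Set G) then (e : ℂ) else 0) =
        conj (if (n : G) ∈ centralizer (P : Set G) then (e : ℂ) else 0) * ψ n := fun n => mul_comm _ _
    rw [Finset.sum_congr rfl fun n _ => e1 n, ← h4]
    apply Finset.sum_congr rfl
    intro c _
    rw [map_one, mul_one]
  rw [h3, hNC]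
  field_simp
  exact Finset.sum_congr rfl fun x _ => mul_comm _ _

end Cfsg.Agent.H9.BR
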