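import Cfsg.Agent.H9.BRB

set_option autoImplicit false
set_option linter.unusedSectionVars false
set_option linter.style.haveILetI false
set_option linter.unusedVariables false
set_option linter.unusedSimpArgs false

/-! Characters with constant values on the `p`-singular elements of `C(P)`. -/

open Cfsg
open scoped ComplexConjugate

namespace Cfsg.Agent.H9.BR

open Subgroup Exc

universe u

variable {G : Type u} [Group G] [Fintype G] {p : ℕ} [Fact p.Prime] {P : Subgroup G} {L e : ℕ}
  {pw : centralizer (P : Set G) →* P}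

/-- the sum over the elements of order `p` -/
theorem sum_order (hP : Nat.card P = p) (hNP : ∀ y ∈ normalizer (P : Set G), orderOf y = p → y ∈ P)
    (hord : ∀ y : G, orderOf y = p → ∃ g : G, g * y * g⁻¹ ∈ P) {ψ : G → ℂ} (hψ : IsClassFunction G ψ) [Fintype P]
    [DecidableEq P] :
    ∑ g : G, (if orderOf g = p then ψ g else 0) =
      ((normalizer (P : Set G)).index : ℂ) * ∑ u : P, (if u = 1 then 0 else ψ u) := by
  classical
  have hpp : p.Prime := Fact.out
  letI : Fintype (normalizer (P : Set G)) := Fintype.ofFinite _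
  have hP0 : (Nat.card P : ℂ) ≠ 0 := by exact_mod_cast Nat.card_pos.ne'
  have hN0 : (Nat.card (normalizer (P : Set G)) : ℂ) ≠ 0 := by exact_mod_cast Nat.card_pos.ne'
  have hG0 : (Nat.card G : ℂ) ≠ 0 := by exact_mod_cast Nat.card_pos.ne'
  let θ : P → ℂ := fun u => if u = 1 then 0 else 1
  -- the induced function
  have hind : ∀ g : G, (Nat.card P : ℂ) * indFun P θ g = if orderOf g = p then (Nat.card (normalizer (P : Set G)) : ℂ) else 0 := by
    have hPo : ∀ u : P, u ≠ 1 → orderOf (u : G) = p := by
      intro u hu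
      rw [Subgroup.orderOf_coe]
      have h3 := orderOf_dvd_natCard u
      rw [hP] at h3
      rcases (Nat.dvd_prime hpp).mp h3 with h4 | h4
      · exact absurd (orderOf_eq_one_iff.mp h4) hu
      · exact h4
    have hcl : IsClassFunction G (indFun P θ) := H3.indFun_classFun P θ
    intro g
    by_cases hg : orderOf g = p
    · rw [if_pos hg]
      obtain ⟨y, hy⟩ := hord g hg
      have h1 : indFun P θ g = indFun P θ (y * g * y⁻¹) := (hcl g y).symm
      rw [h1]
      set u : G := y * g * y⁻¹ with hu
      have huo : orderOf u = p := by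
        rw [← hg, hu]
        exact orderOf_injective (MulAut.conj y).toMonoidHom (MulAut.conj y).injective g
      have hu1 : u ≠ 1 := by
        intro h
        rw [h, orderOf_one] at huo
        exact hpp.one_lt.ne huo
      rw [indFun, ← mul_assoc, mul_inv_cancel₀ hP0, one_mul]
      have h2 : ∀ x : G, extendByZero P θ (x⁻¹ * u * x) = extendByZero (normalizer (P : Set G)) (fun _ => (1 : ℂ)) x * 1 := by
        intro x
        by_cases hx : x ∈ normalizer (P : Set G)
        · have h3 : x⁻¹ * u * x ∈ P := by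
            have := (mem_normalizer_iff.mp (inv_mem hx) u).mp hy
            rwa [inv_inv] at this
          rw [H3.extendByZero_mem _ _ h3, H3.extendByZero_mem _ _ hx]
          have h4 : (⟨x⁻¹ * u * x, h3⟩ : P) ≠ 1 := by
            intro h
            have h5 : x⁻¹ * u * x = 1 := congrArg Subtype.val h
            apply hu1
            have : u = x * (x⁻¹ * u * x) * x⁻¹ := by group
            rw [this, h5]; group
          simp only [θ, if_neg h4, mul_one]
        · rw [H3.extendByZero_not_mem _ _ hx, zero_mul]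
          by_cases h3 : x⁻¹ * u * x ∈ P
          · exfalso
            apply hu1
            apply ti (g := x⁻¹) hP (fun h' => hx (by have := inv_mem h'; rwa [inv_inv] at this)) hy
            rw [inv_inv]; exact h3
          · rw [H3.extendByZero_not_mem _ _ h3]
      rw [Finset.sum_congr rfl fun x _ => h2 x, H3.sum_extendByZero_mul]
      simp only [mul_one]
      rw [Finset.sum_const, Finset.card_univ, ← Nat.card_eq_fintype_card, nsmul_eq_mul, mul_one]
    · rw [if_neg hg, indFun, ← mul_assoc, mul_inv_cancel₀ hP0, one_mul]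
      apply Finset.sum_eq_zero
      intro x _
      by_cases h3 : x⁻¹ * g * x ∈ P
      · rw [H3.extendByZero_mem _ _ h3]
        by_cases h4 : (⟨x⁻¹ * g * x, h3⟩ : P) = 1
        · simp only [θ, if_pos h4]
        · exfalso
          apply hg
          rw [← hPo _ h4]
          have := orderOf_injective (MulAut.conj x⁻¹).toMonoidHom (MulAut.conj x⁻¹).injective g
          rw [← this]
          congr 1
          simp
      · rw [H3.extendByZero_not_mem _ _ h3]
  have h1 := H3.frobenius_reciprocity' P θ hψ
  simp only [classInner] at h1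
  have hreal : ∀ g : G, conj (indFun P θ g) = indFun P θ g := by
    intro g
    have h2 := hind g
    have h3 : indFun P θ g = (Nat.card P : ℂ)⁻¹ * (if orderOf g = p then (Nat.card (normalizer (P : Set G)) : ℂ) else 0) := by
      rw [← h2, ← mul_assoc, inv_mul_cancel₀ hP0, one_mul]
    rw [h3]
    split_ifs <;> simp
  have h2 : ∑ g : G, ψ g * conj (indFun P θ g) =
      (Nat.card P : ℂ)⁻¹ * ((Nat.card (normalizer (P : Set G)) : ℂ) * ∑ g : G, (if orderOf g = p then ψ g else 0)) := by
    rw [Finset.mul_sum, Finset.mul_sum]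
    apply Finset.sum_congr rfl
    intro g _
    rw [hreal]
    have h2 := hind g
    have h3 : indFun P θ g = (Nat.card P : ℂ)⁻¹ * (if orderOf g = p then (Nat.card (normalizer (P : Set G)) : ℂ) else 0) := by
      rw [← h2, ← mul_assoc, inv_mul_cancel₀ hP0, one_mul]
    rw [h3]
    split_ifs
    · ring
    · simp
  have h3 : ∑ u : P, ψ u * conj (θ u) = ∑ u : P, (if u = 1 then 0 else ψ u) := by
    apply Finset.sum_congr rfl
    intro u _
    by_cases hu : u = 1
    · simp [θ, hu]
    · simp [θ, hu]
  rw [h2, h3] at h1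
  have h4 : (Nat.card G : ℂ) = (Nat.card (normalizer (P : Set G)) : ℂ) * ((normalizer (P : Set G)).index : ℂ) := by
    exact_mod_cast (card_mul_index (normalizer (P : Set G))).symm
  rw [h4] at h1 hG0
  have hI0 : ((normalizer (P : Set G)).index : ℂ) ≠ 0 := right_ne_zero_of_mul hG0
  have h5 : (Nat.card P : ℂ)⁻¹ * (((normalizer (P : Set G)).index : ℂ)⁻¹ * ∑ g : G, (if orderOf g = p then ψ g else 0)) =
      (Nat.card P : ℂ)⁻¹ * ∑ u : P, (if u = 1 then 0 else ψ u) := by
    rw [← h1]
    field_simp
  have h6 := mul_left_cancel₀ (inv_ne_zero hP0) h5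
  rw [← h6, ← mul_assoc, mul_inv_cancel₀ hI0, one_mul]

/-- degrees divide -/
theorem dvd_order (hP : Nat.card P = p) (hNP : ∀ y ∈ normalizer (P : Set G), orderOf y = p → y ∈ P)
    (hord : ∀ y : G, orderOf y = p → ∃ g : G, g * y * g⁻¹ ∈ P) {χ : G → ℂ} (hχ : IsIrrCharacter G χ) [Fintype P]
    [DecidableEq P] {d : ℕ} (hd : χ 1 = d) {S : ℤ} (hS : ∑ u : P, (if u = 1 then 0 else χ u) = S) :
    (d : ℤ) ∣ (normalizer (P : Set G)).index * S := by
  classical
  have hd0 : (d : ℤ) ≠ 0 := by
    obtain ⟨k, hk0, hk⟩ := H3.irr_one_eq_nat hχ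
    have h1 : (d : ℂ) = k := by rw [← hd, hk]
    have h2 : d = k := by exact_mod_cast h1
    have h3 : d ≠ 0 := by omega
    exact_mod_cast h3
  apply H3.int_dvd_of_isIntegral hd0
  have h1 := H3.isIntegral_sum_mul_irr_div hχ (fun g => if orderOf g = p then (1 : ℂ) else 0) (fun x y => by
    have h2 : orderOf (y * x * y⁻¹) = orderOf x :=
      orderOf_injective (MulAut.conj y).toMonoidHom (MulAut.conj y).injective x
    simp only
    rw [h2]) (fun g => by
      split_ifs
      · exact isIntegral_one
      · exact isIntegral_zero)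
  have h2 : ∑ g : G, (if orderOf g = p then (1 : ℂ) else 0) * χ g = ∑ g : G, (if orderOf g = p then χ g else 0) := by
    apply Finset.sum_congr rfl
    intro g _
    split_ifs <;> simp
  rw [h2, sum_order hP hNP hord (H3.irr_classFun hχ), hS, hd] at h1
  push_cast
  exact h1

section VP
variable (h : Setup G p P L e pw)
include h

theorem pw_ne {u : P} (hu : u ≠ 1) : pw ⟨u, h.hPC u.2⟩ ≠ 1 := by
  intro h1
  have h2 := h.hpw ⟨u, h.hPC u.2⟩
  rw [h1] at h2
  have h3 : (u : G) ^ L = 1 ^ L := by rw [one_pow]; exact h2.symm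
  exact hu (Subtype.ext (pw_coprime h.hP h.hpL u.2 (one_mem P) h3))

theorem VP.sum {χ : G → ℂ} {κ : ℂ} (hv : VP pw χ κ) [Fintype P] [DecidableEq P] :
    ∑ u : P, (if u = 1 then 0 else χ u) = ((p : ℂ) - 1) * κ := by
  have h1 : ∀ u : P, (if u = 1 then 0 else χ u) = κ - (if u = 1 then κ else 0) := by
    intro u
    by_cases hu : u = 1
    · simp [hu]
    · rw [if_neg hu, if_neg hu, sub_zero]
      exact hv ⟨u, h.hPC u.2⟩ (pw_ne h hu)
  rw [Finset.sum_congr rfl fun u _ => h1 u, Finset.sum_sub_distrib, Finset.sum_const, Finset.card_univ,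
    Finset.sum_ite_eq' Finset.univ (1 : P) (fun _ => κ), if_pos (Finset.mem_univ _), ← Nat.card_eq_fintype_card, h.hP,
    nsmul_eq_mul]
  ring

/-- a natural number for `⟨χ_C, 1⟩`, and `⟨χ_C, μ⟩` is obtained by subtracting the constant -/
theorem mult {χ : G → ℂ} (hχ : IsCharacter G χ) [Fintype (centralizer (P : Set G))] {μ : P →* ℂˣ} {κ : ℤ}
    (hκ : classInner χ (indFun (centralizer (P : Set G)) (phC pw μ)) = κ) :
    ∃ f g : ℕ, classInner (fun c : centralizer (P : Set G) => χ c) (fun _ => 1) = f ∧ (f : ℤ) - g = κ := by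
  classical
  obtain ⟨f, hf⟩ := H3.classInner_char_nat (H3.isChar_restrict (centralizer (P : Set G)) hχ)
    (H3.isChar_one (G := centralizer (P : Set G)))
  obtain ⟨g, hg⟩ := H3.classInner_char_nat (H3.isChar_restrict (centralizer (P : Set G)) hχ)
    (H3.irr_isChar (H3.isIrr_of_hom (μ.comp pw)))
  refine ⟨f, g, hf, ?_⟩
  rw [H3.frobenius_reciprocity' _ _ (H3.char_classFun hχ)] at hκ
  have h0 : phC pw μ = (fun y => (1 : ℂ)) - (fun y => ((μ.comp pw) y : ℂ)) := by
    ext y; simp [phC]
  rw [h0, H3.classInner_sub_right] at hκ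
  have hf' : classInner (fun c : centralizer (P : Set G) => χ c) (fun _ => 1) = f := hf
  rw [hf', hg] at hκ
  exact_mod_cast hκ

/-- characters of degree `p - 1` -/
theorem ker_of_deg {χ : G → ℂ} (hχ : IsCharacter G χ) (hv : VP pw χ (-1)) (hd : χ 1 = ((p : ℂ) - 1))
    {y : centralizer (P : Set G)} (hy : pw y = 1) : χ y = χ 1 := by
  classical
  have hpp : p.Prime := Fact.out
  letI : Fintype (centralizer (P : Set G)) := Fintype.ofFinite _
  obtain ⟨f, hf⟩ := H3.classInner_char_nat (H3.isChar_restrict (centralizer (P : Set G)) hχ)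
    (H3.isChar_one (G := centralizer (P : Set G)))
  have hc0 : (Nat.card (centralizer (P : Set G)) : ℂ) ≠ 0 := by exact_mod_cast Nat.card_pos.ne'
  have h1 : ∑ c : centralizer (P : Set G), χ c = (Nat.card (centralizer (P : Set G)) : ℂ) * f := by
    rw [← hf, classInner, ← mul_assoc, mul_inv_cancel₀ hc0, one_mul]
    simp
  -- split the sum
  have h2 : ∑ c : centralizer (P : Set G), χ c =
      ∑ c : centralizer (P : Set G), ((if pw c = 1 then (χ c + 1) else 0) - 1) := by
    apply Finset.sum_congr rfl
    intro c _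
    by_cases hc : pw c = 1
    · rw [if_pos hc]; ring
    · rw [if_neg hc, hv c hc]; ring
  rw [h1, Finset.sum_sub_distrib, Finset.sum_const, Finset.card_univ, nsmul_eq_mul, mul_one,
    ← Nat.card_eq_fintype_card, ← Finset.sum_filter] at h2
  -- number of elements in the kernel
  have hker : (Finset.univ.filter (fun c : centralizer (P : Set G) => pw c = 1)).card = L := by
    rw [← h.card_ker, Nat.card_eq_fintype_card, Fintype.card_of_subtype]
    intro c
    simp [MonoidHom.mem_ker]
  have hnorm : ∀ g : G, ‖χ g‖ ≤ (p : ℝ) - 1 := by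
    intro g
    obtain ⟨n, ρ, rfl⟩ := hχ
    have h3 := H3.rep_norm_char_le ρ g
    rw [Module.finrank_fin_fun] at h3
    have h4 : (n : ℂ) = (p : ℂ) - 1 := by
      rw [← hd]
      simp
    have h5 : (n : ℝ) = (p : ℝ) - 1 := by
      have := congrArg Complex.re h4
      simpa using this
    rw [← h5]; exact h3
  -- real parts
  have h3 : ∑ c ∈ Finset.univ.filter (fun c : centralizer (P : Set G) => pw c = 1), ((p : ℝ) - 1 - (χ c).re) ≤ 0 := by
    have h4 := congrArg Complex.re h2
    rw [Complex.sub_re, Complex.re_sum] at h4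
    have h5 : ((Nat.card (centralizer (P : Set G)) : ℂ) * f).re = (Nat.card (centralizer (P : Set G)) : ℝ) * f := by
      rw [← Nat.cast_mul, Complex.natCast_re]; push_cast; ring
    rw [h5, Complex.natCast_re, h.hL] at h4
    have h6 : ∑ c ∈ Finset.univ.filter (fun c : centralizer (P : Set G) => pw c = 1), ((p : ℝ) - 1 - (χ c).re) =
        (L : ℝ) * p - ∑ c ∈ Finset.univ.filter (fun c : centralizer (P : Set G) => pw c = 1), (χ c + 1).re := by
      have h7 : ∀ c ∈ Finset.univ.filter (fun c : centralizer (P : Set G) => pw c = 1),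
          ((p : ℝ) - 1 - (χ c).re) = (p : ℝ) - (χ c + 1).re := by
        intro c _
        rw [Complex.add_re, Complex.one_re]; ring
      rw [Finset.sum_congr rfl h7, Finset.sum_sub_distrib, Finset.sum_const, hker, nsmul_eq_mul]
    rw [h6]
    push_cast at h4
    have h7 : (0 : ℝ) ≤ (p : ℝ) * L * f := by positivity
    linarith
  have h4 : ∀ c ∈ Finset.univ.filter (fun c : centralizer (P : Set G) => pw c = 1), 0 ≤ (p : ℝ) - 1 - (χ c).re := by
    intro c _
    have := (Complex.re_le_norm (χ c)).trans (hnorm c)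
    linarith
  have h5 : ∑ c ∈ Finset.univ.filter (fun c : centralizer (P : Set G) => pw c = 1), ((p : ℝ) - 1 - (χ c).re) = 0 :=
    le_antisymm h3 (Finset.sum_nonneg h4)
  have h6 := (Finset.sum_eq_zero_iff_of_nonneg h4).mp h5 y (by simp [hy])
  have h7 : (χ y).re = (p : ℝ) - 1 := by linarith
  have h8 : ‖χ y‖ = (χ y).re := by
    apply le_antisymm
    · rw [h7]; exact hnorm y
    · exact Complex.re_le_norm _
  have h9 : (χ y).im = 0 := by
    have h10 : ‖χ y‖ ^ 2 = (χ y).re ^ 2 + (χ y).im ^ 2 := by
      rw [← Complex.normSq_eq_norm_sq, Complex.normSq_apply]; ring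
    rw [h8] at h10
    have : (χ y).im ^ 2 = 0 := by linarith
    exact pow_eq_zero_iff (two_ne_zero) |>.mp this
  rw [hd]
  apply Complex.ext
  · rw [h7]; simp
  · rw [h9]; simp

end VP

end Cfsg.Agent.H9.BR
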