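import Cfsg.Agent.H9.ExcF

set_option autoImplicit false
set_option linter.unusedSectionVars false
set_option linter.style.haveILetI false
set_option linter.unusedVariables false
set_option linter.unusedSimpArgs false

/-! If `C(P) = P × V` with `V ≠ 1` then nontrivial characters of the principal block have degree at
least `2 p`. -/

open Cfsg
open scoped ComplexConjugate

namespace Cfsg.Agent.H9.Exc

open Subgroup

/-- root of unity filter -/
theorem sum_pow_eq {q : ℕ} (hq : 0 < q) {z : ℂ} (hz : z ^ q = 1) :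
    ∑ k ∈ Finset.range q, z ^ k = if z = 1 then (q : ℂ) else 0 := by
  by_cases h : z = 1
  · rw [if_pos h, h]; simp
  · rw [if_neg h]
    have h1 := mul_geom_sum z q
    rw [hz, sub_self] at h1
    rcases mul_eq_zero.mp h1 with h2 | h2
    · exact absurd (sub_eq_zero.mp h2) h
    · exact h2

/-- the combinatorial core: if the power sums of pairs `(α i, ω i)` do not depend on the exponent of `ω`
as soon as the exponent of `α` is nonzero mod `p`, then multiplicities of `ω ≠ 1` are divisible by `p` -/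
theorem dvd_multiplicity {p q : ℕ} (hp : p.Prime) (hq : 0 < q) {ι : Type*} [Fintype ι] (α ω : ι → ℂ)
    (hα : ∀ i, α i ^ p = 1) (hω : ∀ i, ω i ^ q = 1)
    (h : ∀ a k : ℕ, ¬ p ∣ a → ∑ i, α i ^ a * ω i ^ k = ∑ i, α i ^ a) {z : ℂ} (hz : z ^ q = 1) (hz1 : z ≠ 1)
    [DecidablePred fun i => ω i = z] :
    p ∣ (Finset.univ.filter (fun i => ω i = z)).card := by
  classical
  have hz0 : z ≠ 0 := by
    rintro rfl
    rw [zero_pow hq.ne'] at hz
    exact zero_ne_one hz
  have hq0 : (q : ℂ) ≠ 0 := by exact_mod_cast hq.ne'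
  -- T a = sum over i with ω i = z of α i ^ a
  have hT : ∀ a : ℕ, (q : ℂ) * ∑ i ∈ Finset.univ.filter (fun i => ω i = z), α i ^ a =
      ∑ k ∈ Finset.range q, (z⁻¹) ^ k * ∑ i, α i ^ a * ω i ^ k := by
    intro a
    simp only [Finset.mul_sum]
    rw [Finset.sum_comm, Finset.sum_filter]
    apply Finset.sum_congr rfl
    intro i _
    have h1 : ∀ k ∈ Finset.range q, z⁻¹ ^ k * (α i ^ a * ω i ^ k) = α i ^ a * (z⁻¹ * ω i) ^ k := by
      intro k _
      rw [mul_pow]; ring
    rw [Finset.sum_congr rfl h1, ← Finset.mul_sum, sum_pow_eq hq (by rw [mul_pow, inv_pow, hz, hω]; simp)]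
    by_cases hi : ω i = z
    · rw [if_pos hi, if_pos (by rw [hi, inv_mul_cancel₀ hz0])]; ring
    · rw [if_neg hi, if_neg (fun h' => hi (by
        have := congrArg (fun w => z * w) h'
        simpa [← mul_assoc, mul_inv_cancel₀ hz0] using this)), mul_zero]
  have hT0 : ∀ a : ℕ, ¬ p ∣ a → ∑ i ∈ Finset.univ.filter (fun i => ω i = z), α i ^ a = 0 := by
    intro a ha
    have h1 := hT a
    have h2 : ∑ k ∈ Finset.range q, (z⁻¹) ^ k * ∑ i, α i ^ a * ω i ^ k = (∑ k ∈ Finset.range q, (z⁻¹) ^ k) * ∑ i, α i ^ a := by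
      rw [Finset.sum_mul]
      apply Finset.sum_congr rfl
      intro k _
      rw [h a k ha]
    rw [h2, sum_pow_eq hq (by rw [inv_pow, hz, inv_one]), if_neg (fun h' => hz1 (inv_eq_one.mp h')), zero_mul] at h1
    exact (mul_eq_zero.mp h1).resolve_left hq0
  -- sum over a
  have h1 : ∑ a ∈ Finset.range p, ∑ i ∈ Finset.univ.filter (fun i => ω i = z), α i ^ a =
      ((Finset.univ.filter (fun i => ω i = z)).card : ℂ) := by
    rw [Finset.sum_eq_single 0]
    · simp
    · intro a ha ha0
      apply hT0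
      intro hd
      exact ha0 (Nat.eq_zero_of_dvd_of_lt hd (Finset.mem_range.mp ha))
    · intro h0
      exact absurd (Finset.mem_range.mpr hp.pos) h0
  rw [Finset.sum_comm] at h1
  have h2 : ∀ i ∈ Finset.univ.filter (fun i => ω i = z), ∑ a ∈ Finset.range p, α i ^ a = if α i = 1 then (p : ℂ) else 0 :=
    fun i _ => sum_pow_eq hp.pos (hα i)
  rw [Finset.sum_congr rfl h2, ← Finset.sum_filter, Finset.sum_const, nsmul_eq_mul] at h1
  have h3 : ((Finset.univ.filter (fun i => ω i = z)).filter (fun i => α i = 1)).card * p =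
      (Finset.univ.filter (fun i => ω i = z)).card := by exact_mod_cast h1
  exact ⟨_, by rw [← h3, mul_comm]⟩

variable {G : Type*} [Group G] [Finite G]

/-- determinants are trivial in groups without nontrivial linear characters -/
theorem det_rep (hlin : ∀ μ : G →* ℂˣ, μ = 1) {n : ℕ} (ρ : Representation ℂ G (Fin n → ℂ)) (g : G) :
    LinearMap.det (ρ g) = 1 := by
  let d : G →* ℂ := (LinearMap.det).comp ρ
  have h1 := hlin (MonoidHom.toHomUnits d)
  have h2 := congrArg (fun f : G →* ℂˣ => ((f g : ℂˣ) : ℂ)) h1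
  have h3 : d g = 1 := by simpa using h2
  exact h3

/-- kernels in simple groups -/
theorem ker_trivial [IsSimpleGroup G] {χ : G → ℂ} (hχ : IsIrrCharacter G χ) (hne : χ ≠ fun _ => 1) {g : G}
    (hg : χ g = χ 1) : g = 1 := by
  classical
  letI : Fintype G := Fintype.ofFinite G
  obtain ⟨K, hKn, hK⟩ : ∃ K : Subgroup G, K.Normal ∧ ∀ x, x ∈ K ↔ χ x = χ 1 := by
    refine ⟨{ carrier := {g | χ g = χ 1}
              mul_mem' := fun {a b} ha hb => by
                change χ (a * b) = χ 1
                rw [H27.char_ker_mul (H3.irr_isChar hχ) ha]; exact hb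
              one_mem' := rfl
              inv_mem' := fun {a} ha => by
                change χ a⁻¹ = χ 1
                have := H27.char_ker_mul (H3.irr_isChar hχ) ha a⁻¹
                rw [mul_inv_cancel] at this
                exact this.symm }, ⟨fun n hn g => ?_⟩, fun x => Iff.rfl⟩
    change χ (g * n * g⁻¹) = χ 1
    rw [H3.irr_classFun hχ]; exact hn
  rcases hKn.eq_bot_or_eq_top with h | h
  · have : g ∈ K := (hK g).mpr hg
    rw [h] at this
    exact mem_bot.mp this
  · exfalso
    have hall : ∀ x, χ x = χ 1 := fun x => (hK x).mp (by rw [h]; trivial)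
    obtain ⟨n, hn0, hn⟩ := H3.irr_one_eq_nat hχ
    have h1 := H3.classInner_self_of_irr hχ
    have h2 : classInner χ χ = (n : ℂ) * n := by
      simp only [classInner]
      have : ∀ x : G, χ x * conj (χ x) = (n : ℂ) * n := fun x => by rw [hall x, hn, Complex.conj_natCast]
      rw [Finset.sum_congr rfl fun x _ => this x, Finset.sum_const, Finset.card_univ, nsmul_eq_mul,
        ← Nat.card_eq_fintype_card, ← mul_assoc, inv_mul_cancel₀ H3.card_ne_zeroC, one_mul]
    rw [h1] at h2
    have h3 : n * n = 1 := by exact_mod_cast h2.symm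
    have h4 : n = 1 := Nat.eq_one_of_mul_eq_one_left h3
    apply hne
    ext x
    rw [hall x, hn, h4]; simp

/-- the degree bound -/
theorem two_mul_le [IsSimpleGroup G] (hlin : ∀ μ : G →* ℂˣ, μ = 1) {p : ℕ} [Fact p.Prime] {u v : G}
    (hu : orderOf u = p) (hv1 : v ≠ 1) (hcop : Nat.Coprime p (orderOf v)) (huv : Commute u v) {χ : G → ℂ}
    (hχ : IsIrrCharacter G χ) (hne : χ ≠ fun _ => 1) {d : ℕ} (hd : χ 1 = d)
    (hconst : ∀ a k : ℕ, ¬ p ∣ a → χ (u ^ a * v ^ k) = χ (u ^ a)) : 2 * p ≤ d := by
  classical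
  have hpp : p.Prime := Fact.out
  by_contra hcon
  push Not at hcon
  have hχ' := hχ
  obtain ⟨n, ρ, hρ, rfl⟩ := hχ'
  have hq : 0 < orderOf v := orderOf_pos v
  -- the abelian group
  let A := zpowers u × zpowers v
  let F : A →* G :=
    { toFun := fun x => (x.1 : G) * (x.2 : G)
      map_one' := by simp
      map_mul' := by
        rintro ⟨⟨_, i, rfl⟩, ⟨_, j, rfl⟩⟩ ⟨⟨_, i', rfl⟩, ⟨_, j', rfl⟩⟩
        change (u ^ i * u ^ i') * (v ^ j * v ^ j') = (u ^ i * v ^ j) * (u ^ i' * v ^ j')
        have : v ^ j * u ^ i' = u ^ i' * v ^ j := (huv.zpow_zpow i' j).eq.symm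
        calc (u ^ i * u ^ i') * (v ^ j * v ^ j') = u ^ i * (u ^ i' * v ^ j) * v ^ j' := by group
          _ = u ^ i * (v ^ j * u ^ i') * v ^ j' := by rw [this]
          _ = _ := by group }
  haveI : IsMulCommutative A := by
    rw [isMulCommutative_iff]
    rintro ⟨⟨_, i, rfl⟩, ⟨_, j, rfl⟩⟩ ⟨⟨_, i', rfl⟩, ⟨_, j', rfl⟩⟩
    apply Prod.ext
    · apply Subtype.ext
      exact ((Commute.refl u).zpow_zpow i i').eq
    · apply Subtype.ext
      exact ((Commute.refl v).zpow_zpow j j').eq
  haveI : NeZero (Nat.card A : ℂ) := ⟨by exact_mod_cast Nat.card_pos.ne'⟩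
  obtain ⟨ι, hι, b, μ, hμ⟩ := H3.exists_simul_eigenbasis (k := ℂ) (A := A) (V := Fin n → ℂ) (ρ.comp F)
  let U : A := (⟨u, mem_zpowers u⟩, 1)
  let W : A := (1, ⟨v, mem_zpowers v⟩)
  let α : ι → ℂ := fun i => μ i U
  let ω : ι → ℂ := fun i => μ i W
  have hUp : U ^ p = 1 := by
    apply Prod.ext
    · apply Subtype.ext
      change u ^ p = 1
      rw [← hu, pow_orderOf_eq_one]
    · change (1 : zpowers v) ^ p = 1
      rw [one_pow]
  have hWq : W ^ orderOf v = 1 := by
    apply Prod.ext
    · change (1 : zpowers u) ^ orderOf v = 1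
      rw [one_pow]
    · apply Subtype.ext
      exact pow_orderOf_eq_one v
  have hα : ∀ i, α i ^ p = 1 := by
    intro i
    have := congrArg (fun x => ((μ i x : ℂˣ) : ℂ)) hUp
    simpa [α] using this
  have hω : ∀ i, ω i ^ orderOf v = 1 := by
    intro i
    have := congrArg (fun x => ((μ i x : ℂˣ) : ℂ)) hWq
    simpa [ω] using this
  have hFUW : ∀ a k : ℕ, F (U ^ a * W ^ k) = u ^ a * v ^ k := by
    intro a k
    rw [map_mul, map_pow, map_pow]
    have h1 : F U = u := by change u * 1 = u; rw [mul_one]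
    have h2 : F W = v := by change 1 * v = v; rw [one_mul]
    rw [h1, h2]
  have hchar : ∀ a k : ℕ, ρ.character (u ^ a * v ^ k) = ∑ i, α i ^ a * ω i ^ k := by
    intro a k
    rw [← hFUW, Representation.character]
    rw [LinearMap.trace_eq_matrix_trace ℂ b, Matrix.trace]
    apply Finset.sum_congr rfl
    intro i _
    rw [Matrix.diag_apply, LinearMap.toMatrix_apply]
    have h3 := hμ (U ^ a * W ^ k) i
    have h4 : (ρ.comp F) (U ^ a * W ^ k) (b i) = ρ (F (U ^ a * W ^ k)) (b i) := rfl
    rw [h4] at h3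
    rw [h3]
    simp [α, ω]
  have hps : ∀ a k : ℕ, ¬ p ∣ a → ∑ i, α i ^ a * ω i ^ k = ∑ i, α i ^ a := by
    intro a k ha
    rw [← hchar, hconst a k ha]
    have := hchar a 0
    simpa using this
  have hn : Fintype.card ι = d := by
    have h1 := hchar 0 0
    simp only [pow_zero, mul_one, Finset.sum_const, Finset.card_univ, nsmul_eq_mul] at h1
    rw [hd] at h1
    exact_mod_cast h1.symm
  have hdvd : ∀ z : ℂ, z ^ orderOf v = 1 → z ≠ 1 → p ∣ (Finset.univ.filter (fun i => ω i = z)).card :=
    fun z hz hz1 => dvd_multiplicity hpp hq α ω hα hω hps hz hz1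
  by_cases hall : ∀ i, ω i = 1
  · apply hv1
    apply ker_trivial hχ hne
    have h1 := hchar 0 1
    have h2 := hchar 0 0
    simp only [pow_zero, one_mul, pow_one] at h1 h2
    rw [h1, h2]
    apply Finset.sum_congr rfl
    intro i _
    exact hall i
  · push Not at hall
    obtain ⟨i0, hi0⟩ := hall
    have hpos : ∀ i, ω i ≠ 1 → p ≤ (Finset.univ.filter (fun j => ω j = ω i)).card := by
      intro i hi
      apply Nat.le_of_dvd _ (hdvd (ω i) (hω i) hi)
      exact Finset.card_pos.mpr ⟨i, by simp⟩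
    have hothers : ∀ i, ω i ≠ 1 → ω i = ω i0 := by
      intro i hi
      by_contra hne'
      have hdisj : Disjoint (Finset.univ.filter (fun j => ω j = ω i)) (Finset.univ.filter (fun j => ω j = ω i0)) := by
        rw [Finset.disjoint_left]
        intro j h1 h2
        rw [Finset.mem_filter] at h1 h2
        exact hne' (h1.2.symm.trans h2.2)
      have h1 := Finset.card_le_univ (Finset.univ.filter (fun j => ω j = ω i) ∪ Finset.univ.filter (fun j => ω j = ω i0))
      rw [Finset.card_union_of_disjoint hdisj] at h1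
      have h2 := hpos i hi
      have h3 := hpos i0 hi0
      omega
    have hcard : (Finset.univ.filter (fun j => ω j = ω i0)).card = p := by
      obtain ⟨m, hm⟩ := hdvd (ω i0) (hω i0) hi0
      have h1 := hpos i0 hi0
      have h2 := Finset.card_le_univ (Finset.univ.filter (fun j => ω j = ω i0))
      have h3 : m < 2 := by
        by_contra h4
        push Not at h4
        have : p * 2 ≤ p * m := Nat.mul_le_mul_left p h4
        omega
      have h4 : m ≠ 0 := by rintro rfl; rw [mul_zero] at hm; have := hpp.pos; omega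
      have h5 : m = 1 := by omega
      rw [hm, h5, mul_one]
    -- determinant
    have hdet : LinearMap.det (ρ v) = ∏ i, ω i := by
      rw [← LinearMap.det_toMatrix b]
      have h1 : LinearMap.toMatrix b b (ρ v) = Matrix.diagonal ω := by
        ext i j
        rw [LinearMap.toMatrix_apply, Matrix.diagonal_apply]
        have h3 := hμ W j
        have h4 : (ρ.comp F) W (b j) = ρ (F W) (b j) := rfl
        have h5 : F W = v := by change 1 * v = v; rw [one_mul]
        rw [h4, h5] at h3
        rw [h3]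
        by_cases hij : i = j
        · subst hij; simp [ω]
        · rw [if_neg hij]
          simp [Finsupp.single_apply, Ne.symm hij]
      rw [h1, Matrix.det_diagonal]
    have hprod : ∏ i, ω i = ω i0 ^ p := by
      rw [← hcard, ← Finset.prod_const, Finset.prod_filter]
      apply Finset.prod_congr rfl
      intro i _
      by_cases hi : ω i = 1
      · rw [hi, if_neg (Ne.symm hi0)]
      · rw [if_pos (hothers i hi), hothers i hi]
    rw [det_rep hlin, hprod] at hdet
    apply hi0
    have h6 : ω i0 ^ (Nat.gcd p (orderOf v)) = 1 := by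
      have h7 := orderOf_dvd_of_pow_eq_one hdet.symm
      have h8 := orderOf_dvd_of_pow_eq_one (hω i0)
      exact orderOf_dvd_iff_pow_eq_one.mp (Nat.dvd_gcd h7 h8)
    rw [Nat.coprime_iff_gcd_eq_one.mp hcop, pow_one] at h6
    exact h6

end Cfsg.Agent.H9.Exc
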