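import Cfsg.Agent.H9.TwoPB
import Cfsg.Agent.H9.ExcG
import Cfsg.Agent.H9.SymSq

set_option autoImplicit false
set_option linter.unusedSectionVars false
set_option linter.style.haveILetI false
set_option linter.unusedVariables false
set_option linter.unusedSimpArgs false

/-! Permutation character of degree `2 p`. -/

open Cfsg
open scoped ComplexConjugate

namespace Cfsg.Agent.H9.Exc

open Subgroup

universe u v

variable {G : Type u} [Group G] [Fintype G] {p : ℕ} [Fact p.Prime] {P : Subgroup G}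

theorem deg_zero {χ : G → ℂ} (h : IsCharacter G χ) (h1 : χ 1 = 0) : χ = 0 := by
  by_contra h0
  obtain ⟨n, hn, h2⟩ := H3.char_ne_zero_pos h h0
  rw [h1] at h2
  have : (n : ℂ) ≠ 0 := by exact_mod_cast hn.ne'
  exact this h2.symm

/-- the data of exceptional characters -/
structure D2 (G : Type u) [Group G] [Fintype G] (p : ℕ) [Fact p.Prime] (P : Subgroup G) (t : ℕ)
    (lam : Fin t → (P →* ℂˣ)) (θ : IrrCharacter G) (M : Fin t → IrrCharacter G) : Prop where
  hP : Nat.card P = p
  hC : centralizer (P : Set G) = P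
  hN : Nat.card (normalizer (P : Set G)) = p * 2
  h5 : 5 ≤ p
  ht : t * 2 = p - 1
  hlam : ∀ i, lam i ≠ 1
  hcov : ∀ μ : P →* ℂˣ, μ ≠ 1 → ∃ i n, cj P (lam i) n = μ
  hMinj : Function.Injective M
  hMθ : ∀ i, M i ≠ θ
  hM1 : ∀ i, (M i : G → ℂ) ≠ fun _ => 1
  hθ1 : (θ : G → ℂ) ≠ fun _ => 1
  hv : ∀ i, indFun P (ph P (lam i)) = (fun _ => 1) - (θ : G → ℂ) + (M i : G → ℂ)
  hθd : (θ : G → ℂ) 1 = (p : ℂ) - 1
  hMd : ∀ i, (M i : G → ℂ) 1 = (p : ℂ) - 2

theorem one_lt_deg (hlin : ∀ μ : G →* ℂˣ, μ = 1) {χ : G → ℂ} (hχ : IsIrrCharacter G χ) (hne : χ ≠ fun _ => 1) :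
    ∃ d : ℕ, 1 < d ∧ χ 1 = d := by
  obtain ⟨d, hd, h1⟩ := H3.irr_one_eq_nat hχ
  refine ⟨d, ?_, h1⟩
  by_contra hcon
  have h2 : d = 1 := by omega
  obtain ⟨κ, hκ⟩ := H3.exists_hom_of_char_one (H3.irr_isChar hχ) (by rw [h1, h2]; simp)
  apply hne
  rw [hκ, hlin κ]
  rfl

set_option maxHeartbeats 1000000 in
/-- decomposition of the permutation character of degree `2 p` -/
theorem stepA (hlin : ∀ μ : G →* ℂˣ, μ = 1) (hP : Nat.card P = p) (hC : centralizer (P : Set G) = P)
    (hN : Nat.card (normalizer (P : Set G)) = p * 2) (h5 : 5 ≤ p)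
    (X : Type v) [MulAction G X] [Finite X] [MulAction.IsPretransitive G X] (hX : Nat.card X = 2 * p)
    (hfix : ∀ x ∈ P, x ≠ 1 → ∀ a : X, x • a ≠ a) (hn2 : ¬ MulAction.IsMultiplyPretransitive G X 2) :
    ∃ (t : ℕ) (lam : Fin t → (P →* ℂˣ)) (θ : IrrCharacter G) (M : Fin t → IrrCharacter G) (ψ : IrrCharacter G),
      D2 G p P t lam θ M ∧ H3.permChar G X = (fun _ => 1) + (θ : G → ℂ) + (ψ : G → ℂ) ∧
      classInner (H3.permChar G X) (θ : G → ℂ) = 1 := by
  classical
  have hpp : p.Prime := Fact.out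
  letI : Fintype P := Fintype.ofFinite P
  obtain ⟨t, lam, δ, ε, θ, M, ht, hδ, hε, hlam, hcov, hMinj, hMθ, hM1, hθ1, hv⟩ := exc2 hlin hP hC hN h5
  set π := H3.permChar G X with hπ
  have hπc : IsCharacter G π := H3.isChar_permChar X
  have hπ1 : π 1 = 2 * p := by
    rw [hπ, H3.permChar]
    simp only [MulAction.fixedBy_one_eq_univ]
    rw [Nat.card_congr (Equiv.Set.univ X), hX]
    push_cast; ring
  have hπx : ∀ x ∈ P, x ≠ 1 → π x = 0 := by
    intro x hx hx1
    rw [hπ, H3.permChar]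
    have : Nat.card (MulAction.fixedBy X x) = 0 := by
      rw [Nat.card_eq_zero]; left
      exact ⟨fun a => hfix x hx hx1 a.1 a.2⟩
    simp only [this]
    simp
  haveI : Nonempty X := by
    rw [← not_isEmpty_iff]
    intro h
    rw [Nat.card_of_isEmpty] at hX
    omega
  have hπI : classInner π (fun _ => 1) = 1 := by
    rw [hπ, H3.classInner_permChar_one, H3.card_orbits_eq_one]; simp
  have hπv : ∀ i, classInner π (indFun P (ph P (lam i))) = 0 := by
    intro i
    rw [H3.frobenius_reciprocity' P _ (H3.char_classFun hπc)]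
    simp only [classInner]
    rw [Finset.sum_eq_zero, mul_zero]
    intro x _
    by_cases hx : x = 1
    · rw [hx, ph_one]; simp
    · rw [hπx x x.2 (fun h => hx (Subtype.ext h)), zero_mul]
  obtain ⟨a, ha⟩ := H3.classInner_char_nat hπc (H3.irr_isChar θ.2)
  choose m hm using fun i => H3.classInner_char_nat hπc (H3.irr_isChar (M i).2)
  have hrel : ∀ i, (1 : ℤ) + δ * a + ε * m i = 0 := by
    intro i
    have h1 := hπv i
    rw [hv i, H3.classInner_add_right, H3.classInner_add_right, H3.classInner_smul_right, H3.classInner_smul_right, hπI, ha, hm,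
      map_intCast, map_intCast] at h1
    exact_mod_cast h1
  obtain ⟨dθ, hdθ1, hdθ⟩ := one_lt_deg hlin θ.2 hθ1
  choose f hf1 hf using fun i => one_lt_deg hlin (M i).2 (hM1 i)
  have hdeg : ∀ i, (1 : ℤ) + δ * dθ + ε * f i = 0 := by
    intro i
    have h1 := congrFun (hv i) 1
    rw [H3.indFun_one_apply, ph_one, mul_zero] at h1
    simp only [Pi.add_apply, Pi.smul_apply, smul_eq_mul, hdθ, hf] at h1
    exact_mod_cast h1.symm
  -- the congruence for the degree of θ
  have hinner : ∀ i, classInner (θ : G → ℂ) (indFun P (ph P (lam i))) = δ := by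
    intro i
    rw [hv i, H3.classInner_add_right, H3.classInner_add_right, H3.classInner_smul_right, H3.classInner_smul_right,
      H3.classInner_of_irr_ne θ.2 H3.isIrr_one hθ1, H3.classInner_self_of_irr θ.2,
      H3.classInner_of_irr_ne θ.2 (M i).2 (fun h => hMθ i (Subtype.ext h.symm)), map_intCast]
    ring
  have hcong : (dθ : ℤ) ≡ δ [ZMOD p] := by
    apply degree_congr hP (H3.irr_isChar θ.2) hdθ
    intro ν hν
    obtain ⟨i, n, rfl⟩ := hcov ν hν
    rw [ph_cj_inner (H3.irr_classFun θ.2), ← H3.frobenius_reciprocity' P _ (H3.irr_classFun θ.2), hinner]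
  have ht2 : 2 ≤ t := by omega
  let i0 : Fin t := ⟨0, by omega⟩
  let i1 : Fin t := ⟨1, by omega⟩
  have hi01 : i0 ≠ i1 := by intro h; simp [i1, i0] at h
  have hM01 : (M i0 : G → ℂ) ≠ (M i1 : G → ℂ) := fun h => hi01 (hMinj (Subtype.ext h))
  have hMθ' : ∀ i, (M i : G → ℂ) ≠ (θ : G → ℂ) := fun i h => hMθ i (Subtype.ext h)
  -- π - 1 is a character
  have hπ1c : IsCharacter G (π - fun _ => 1) := H3.isChar_sub_irr hπc H3.isIrr_one (by rw [hπI]; norm_num)
  have hθθ : classInner (θ : G → ℂ) θ = 1 := H3.classInner_self_of_irr θ.2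
  have h1θ : classInner (fun _ => 1) (θ : G → ℂ) = 0 := H3.classInner_of_irr_ne H3.isIrr_one θ.2 (Ne.symm hθ1)
  have h1M : ∀ i, classInner (fun _ => 1) (M i : G → ℂ) = 0 := fun i => H3.classInner_of_irr_ne H3.isIrr_one (M i).2 (Ne.symm (hM1 i))
  have hθM : ∀ i, classInner (θ : G → ℂ) (M i : G → ℂ) = 0 := fun i => H3.classInner_of_irr_ne θ.2 (M i).2 (Ne.symm (hMθ' i))
  have hM01i : classInner (M i0 : G → ℂ) (M i1 : G → ℂ) = 0 := H3.classInner_of_irr_ne (M i0).2 (M i1).2 hM01
  have hnn : ∀ {χ : G → ℂ} {z : ℤ}, IsCharacter G χ → χ 1 = z → 0 ≤ z := by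
    intro χ z hχ hz
    obtain ⟨n, hn⟩ := H3.char_one_eq_nat hχ
    rw [hz] at hn
    have : z = n := by exact_mod_cast hn
    rw [this]; positivity
  -- signs
  have hδ' : δ = -1 ∧ ε = 1 := by
    have h1 := hdeg i0
    have h2 := hf1 i0
    rcases hδ with h | h <;> rcases hε with h' | h' <;> rw [h, h'] at h1
    · exfalso; omega
    · exfalso
      have r0 := hrel i0
      have r1 := hrel i1
      rw [h, h'] at r0 r1
      have d1 := hdeg i1
      rw [h, h'] at d1
      -- dθ ≥ p + 1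
      have h3 : (p : ℤ) ∣ dθ - 1 := by
        rw [h] at hcong
        exact hcong.symm.dvd
      have h4 : (p : ℤ) + 1 ≤ dθ := by
        have := Int.le_of_dvd (by omega) h3
        omega
      have c1 : IsCharacter G (π - (fun _ => 1) - (M i0 : G → ℂ)) := H3.isChar_sub_irr hπ1c (M i0).2 (by
        rw [H3.classInner_sub_left, hm, h1M, sub_zero]
        have : m i0 ≠ 0 := by omega
        exact_mod_cast this)
      have c2 : IsCharacter G (π - (fun _ => 1) - (M i0 : G → ℂ) - (M i1 : G → ℂ)) := H3.isChar_sub_irr c1 (M i1).2 (by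
        rw [H3.classInner_sub_left, H3.classInner_sub_left, hm, h1M, hM01i, sub_zero, sub_zero]
        have : m i1 ≠ 0 := by omega
        exact_mod_cast this)
      have h6 := hnn (z := 2 * p - 1 - f i0 - f i1) c2 (by
        simp only [Pi.sub_apply, hπ1, hf]; push_cast; ring)
      omega
    · exact ⟨h, h'⟩
    · exfalso; omega
  obtain ⟨hδ1, hε1⟩ := hδ'
  subst hδ1
  subst hε1
  have hf' : ∀ i, (f i : ℤ) = dθ - 1 := fun i => by have := hdeg i; omega
  have ham : ∀ i, (a : ℤ) = 1 + m i := fun i => by have := hrel i; omega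
  have hdvd : (p : ℤ) ∣ dθ + 1 := by
    have := hcong.symm.dvd
    simpa using this
  have hane : a ≠ 0 := by have := ham i0; omega
  have cθ : IsCharacter G (π - (fun _ => 1) - (θ : G → ℂ)) := H3.isChar_sub_irr hπ1c θ.2 (by
    rw [H3.classInner_sub_left, ha, h1θ, sub_zero]
    exact_mod_cast hane)
  have hle := hnn (z := 2 * p - 1 - dθ) cθ (by simp only [Pi.sub_apply, hπ1, hdθ]; push_cast; ring)
  obtain ⟨k, hk⟩ := hdvd
  have hk12 : k = 1 ∨ k = 2 := by
    have h1 : (p : ℤ) * k ≤ p * 2 := by linarith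
    have hp0 : (0 : ℤ) < p := by exact_mod_cast hpp.pos
    have h2 : k ≤ 2 := le_of_mul_le_mul_left h1 hp0
    have h3 : 0 < k := by
      by_contra hcon
      have : (p : ℤ) * k ≤ 0 := mul_nonpos_of_nonneg_of_nonpos hp0.le (by omega)
      omega
    omega
  rcases hk12 with rfl | rfl
  swap
  · -- 2-transitive
    exfalso
    apply hn2
    rw [← H3.isIrr_permChar_sub_one_iff X (by rw [hX]; omega)]
    have h1 : π - (fun _ => 1) - (θ : G → ℂ) = 0 := by
      apply deg_zero cθ
      simp only [Pi.sub_apply, hπ1, hdθ]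
      have : (dθ : ℂ) = 2 * p - 1 := by
        have : (dθ : ℤ) = 2 * p - 1 := by linarith
        exact_mod_cast this
      rw [this]; ring
    have h2 : (fun g => H3.permChar G X g - 1) = (θ : G → ℂ) := by
      rw [sub_eq_zero] at h1
      exact h1
    rw [h2]
    exact θ.2
  · have hdθp : (dθ : ℤ) = p - 1 := by linarith
    have hm0 : ∀ i, m i = 0 := by
      intro i
      by_contra hne
      have e0 : m i0 ≠ 0 := by have := ham i0; have := ham i; omega
      have e1 : m i1 ≠ 0 := by have := ham i1; have := ham i; omega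
      have e2 : a ≠ 1 := by have := ham i; omega
      have c1 : IsCharacter G (π - (fun _ => 1) - (θ : G → ℂ) - (θ : G → ℂ)) := H3.isChar_sub_irr cθ θ.2 (by
        rw [H3.classInner_sub_left, H3.classInner_sub_left, ha, h1θ, hθθ, sub_zero]
        intro h
        apply e2
        have : (a : ℂ) = 1 := sub_eq_zero.mp h
        exact_mod_cast this)
      have c2 : IsCharacter G (π - (fun _ => 1) - (θ : G → ℂ) - (θ : G → ℂ) - (M i0 : G → ℂ)) := H3.isChar_sub_irr c1 (M i0).2 (by
        rw [H3.classInner_sub_left, H3.classInner_sub_left, H3.classInner_sub_left, hm, h1M, hθM, sub_zero, sub_zero, sub_zero]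
        exact_mod_cast e0)
      have c3 : IsCharacter G (π - (fun _ => 1) - (θ : G → ℂ) - (θ : G → ℂ) - (M i0 : G → ℂ) - (M i1 : G → ℂ)) := H3.isChar_sub_irr c2 (M i1).2 (by
        rw [H3.classInner_sub_left, H3.classInner_sub_left, H3.classInner_sub_left, H3.classInner_sub_left, hm, h1M, hθM,
          hM01i, sub_zero, sub_zero, sub_zero, sub_zero]
        exact_mod_cast e1)
      have h6 := hnn (z := 2 * p - 1 - dθ - dθ - f i0 - f i1) c3 (by
        simp only [Pi.sub_apply, hπ1, hf, hdθ]; push_cast; ring)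
      rw [hf', hf'] at h6
      omega
    have ha1 : a = 1 := by have h1 := ham i0; rw [hm0] at h1; omega
    -- the data
    have hD : D2 G p P t lam θ M :=
      { hP := hP, hC := hC, hN := hN, h5 := h5, ht := ht, hlam := hlam, hcov := hcov, hMinj := hMinj, hMθ := hMθ,
        hM1 := hM1, hθ1 := hθ1
        hv := by
          intro i
          rw [hv i]
          push_cast
          module
        hθd := by
          rw [hdθ]
          exact_mod_cast congrArg (fun z : ℤ => (z : ℂ)) hdθp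
        hMd := by
          intro i
          have h1 : (f i : ℤ) = p - 2 := by rw [hf', hdθp]; ring
          rw [hf]
          exact_mod_cast congrArg (fun z : ℤ => (z : ℂ)) h1 }
    -- the remaining constituent
    have hR0 : π - (fun _ => 1) - (θ : G → ℂ) ≠ 0 := by
      intro h
      have h1 := congrFun h 1
      simp only [Pi.sub_apply, hπ1, hdθ, Pi.zero_apply] at h1
      have h2 : (2 * p - 1 - dθ : ℤ) = 0 := by exact_mod_cast h1
      omega
    obtain ⟨ψ, hψ⟩ := H3.exists_constituent cθ hR0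
    have hψI : (ψ : G → ℂ) ≠ fun _ => 1 := by
      intro h
      apply hψ
      rw [h, H3.classInner_sub_left, H3.classInner_sub_left, hπI, H3.classInner_self_of_irr H3.isIrr_one,
        H3.classInner_of_irr_ne θ.2 H3.isIrr_one hθ1]
      ring
    have hψθ : ψ ≠ θ := by
      intro h
      apply hψ
      rw [h, H3.classInner_sub_left, H3.classInner_sub_left, ha, hθθ, h1θ, ha1]
      simp
    have hψM : ∀ i, ψ ≠ M i := by
      intro i h
      apply hψ
      rw [h, H3.classInner_sub_left, H3.classInner_sub_left, hm, h1M, hθM, hm0]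
      simp
    obtain ⟨dψ, hdψ1, hdψ⟩ := one_lt_deg hlin ψ.2 hψI
    have hcongψ : (dψ : ℤ) ≡ 0 [ZMOD p] := by
      apply degree_congr hP (H3.irr_isChar ψ.2) hdψ
      intro ν hν
      obtain ⟨i, n, rfl⟩ := hcov ν hν
      rw [ph_cj_inner (H3.irr_classFun ψ.2), ← H3.frobenius_reciprocity' P _ (H3.irr_classFun ψ.2), hD.hv i,
        H3.classInner_add_right, H3.classInner_sub_right, H3.classInner_of_irr_ne ψ.2 H3.isIrr_one hψI,
        H3.classInner_of_irr_ne ψ.2 θ.2 (fun h => hψθ (Subtype.ext h)),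
        H3.classInner_of_irr_ne ψ.2 (M i).2 (fun h => hψM i (Subtype.ext h))]
      simp
    have hpψ : p ≤ dψ := by
      have h1 : (p : ℤ) ∣ dψ := Int.modEq_zero_iff_dvd.mp hcongψ
      have h2 : p ∣ dψ := by exact_mod_cast h1
      exact Nat.le_of_dvd (by omega) h2
    have cψ : IsCharacter G (π - (fun _ => 1) - (θ : G → ℂ) - (ψ : G → ℂ)) := H3.isChar_sub_irr cθ ψ.2 hψ
    have h7 := hnn (z := 2 * p - 1 - dθ - dψ) cψ (by simp only [Pi.sub_apply, hπ1, hdθ, hdψ]; push_cast; ring)
    have hdψp : (dψ : ℤ) = p := by omega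
    have h8 : π - (fun _ => 1) - (θ : G → ℂ) - (ψ : G → ℂ) = 0 := by
      apply deg_zero cψ
      simp only [Pi.sub_apply, hπ1, hdθ, hdψ]
      have h9 : (2 * p - 1 - dθ - dψ : ℤ) = 0 := by omega
      exact_mod_cast h9
    refine ⟨t, lam, θ, M, ψ, hD, ?_, ?_⟩
    · have h10 : π = (fun _ => 1) + (θ : G → ℂ) + (ψ : G → ℂ) + (π - (fun _ => 1) - (θ : G → ℂ) - (ψ : G → ℂ)) := by ring
      rw [h8, add_zero] at h10
      exact h10
    · rw [ha, ha1]; simp

end Cfsg.Agent.H9.Exc
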