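import Cfsg.Agent.H9.BRC
import Cfsg.Agent.H9.TwoPC
import Cfsg.Agent.S4441
import Cfsg.Agent.H27.PMod

set_option autoImplicit false
set_option linter.unusedSectionVars false
set_option linter.style.haveILetI false
set_option linter.unusedVariables false
set_option linter.unusedSimpArgs false

/-! The characters of the principal block. -/

open Cfsg
open scoped ComplexConjugate

namespace Cfsg.Agent.H9.BR

open Subgroup Exc

universe u

variable {G : Type u} [Group G] [Fintype G] {p : ℕ} [Fact p.Prime] {P : Subgroup G} {L e : ℕ}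
  {pw : centralizer (P : Set G) →* P}

/-- the decomposition of a `p`-singular element -/
theorem decomp (h : Setup G p P L e pw) {c : centralizer (P : Set G)} (hc : pw c ≠ 1) :
    ∃ x ∈ P, x ≠ 1 ∧ ∃ y ∈ centralizer (P : Set G), y ^ L = 1 ∧ (c : G) = x * y := by
  classical
  have hinj : Function.Injective (fun u : P => u ^ L) := by
    intro u v huv
    have h1 : (u : G) ^ L = (v : G) ^ L := congrArg Subtype.val huv
    exact Subtype.ext (pw_coprime h.hP h.hpL u.2 v.2 h1)
  obtain ⟨u, hu⟩ := (Finite.injective_iff_surjective.mp hinj) (pw c)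
  refine ⟨u, u.2, ?_, (u : G)⁻¹ * c, mul_mem (inv_mem (h.hPC u.2)) c.2, ?_, by group⟩
  · intro h1
    apply hc
    rw [← hu]
    have : u = 1 := Subtype.ext h1
    simp only [this, one_pow]
  · have h1 : pw (⟨u, h.hPC u.2⟩⁻¹ * c) = 1 := by
      rw [map_mul, map_inv]
      have h2 : pw ⟨u, h.hPC u.2⟩ = u ^ L := Subtype.ext (h.hpw ⟨u, h.hPC u.2⟩)
      rw [h2, ← hu]
      simp
    have h2 := h.hpw (⟨u, h.hPC u.2⟩⁻¹ * c)
    rw [h1] at h2
    simpa using h2.symm

theorem not_dvd_of_pow (h : Setup G p P L e pw) {y : G} (hy : y ^ L = 1) : ¬ p ∣ orderOf y := by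
  intro h1
  have h2 := h1.trans (orderOf_dvd_of_pow_eq_one hy)
  exact (Nat.Prime.coprime_iff_not_dvd (Fact.out : p.Prime)).mp h.hpL h2

theorem exists_X (h : Setup G p P L e pw) (hS : ∃ S : Sylow p G, (S : Subgroup G) = P) (hp2 : p ≠ 2) :
    ∃ (X : Finset (IrrCharacter G)) (ε : IrrCharacter G → ℤ), X.card = e ∧
      ∀ χ ∈ X, (ε χ = 1 ∨ ε χ = -1) ∧ VP pw (χ : G → ℂ) (ε χ) := by
  classical
  obtain ⟨M, hM⟩ := H27.exists_isPModular (Fact.out : p.Prime)
  obtain ⟨S, rfl⟩ := hS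
  have he : (centralizer ((S : Subgroup G) : Set G)).relIndex (normalizer ((S : Subgroup G) : Set G)) = e := by
    have h1 := H1.card_mul_relIndex (centralizer_le_normalizer (s := ((S : Subgroup G) : Set G)))
    rw [h.hL, h.hN] at h1
    exact Nat.eq_of_mul_eq_mul_left (Nat.mul_pos (Fact.out : p.Prime).pos (Nat.pos_of_ne_zero h.L_ne)) h1
  obtain ⟨X, Y, -, -, hX, -, ε, -, hε, -⟩ := S4441.result p M hM hp2 S h.hP e he
  letI : Fintype (IrrCharacter G) := Fintype.ofFinite _
  refine ⟨X.toFinset, ε, ?_, ?_⟩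
  · rw [← hX, Nat.card_eq_card_toFinset]
  · intro χ hχ
    rw [Set.mem_toFinset] at hχ
    obtain ⟨h1, -, h2⟩ := hε χ hχ
    refine ⟨h1, fun c hc => ?_⟩
    obtain ⟨x, hx, hx1, y, hy, hyL, hcxy⟩ := decomp h hc
    rw [hcxy]
    exact h2 x hx hx1 y hy (not_dvd_of_pow h hyL)

/-- the data of the principal block -/
structure Data (G : Type u) [Group G] [Fintype G] (p : ℕ) [Fact p.Prime] (P : Subgroup G) (L e t : ℕ)
    (pw : centralizer (P : Set G) →* P) (X : Finset (IrrCharacter G)) (ε : IrrCharacter G → ℤ) (δ : ℤ)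
    (η : Fin t → IrrCharacter G) (rep : Fin t → (P →* ℂˣ)) : Prop where
  st : Setup G p P L e pw
  hte : t * e = p - 1
  hX : X.card = e
  hε : ∀ χ ∈ X, (ε χ = 1 ∨ ε χ = -1) ∧ VP pw (χ : G → ℂ) (ε χ)
  hδ : δ = 1 ∨ δ = -1
  inj : Function.Injective η
  notX : ∀ i, η i ∉ X
  rep_ne : ∀ i, rep i ≠ 1
  cover : ∀ μ : P →* ℂˣ, μ ≠ 1 → ∃ i n, cj P (rep i) n = μ
  V : ∀ i, indFun (centralizer (P : Set G)) (phC pw (rep i)) =
    (∑ χ ∈ X, (ε χ : ℂ) • (χ : G → ℂ)) - (δ : ℂ) • (η i : G → ℂ)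

theorem exists_data (h : Setup G p P L e pw) (hS : ∃ S : Sylow p G, (S : Subgroup G) = P) (hp2 : 2 < p) :
    ∃ (t : ℕ) (X : Finset (IrrCharacter G)) (ε : IrrCharacter G → ℤ) (δ : ℤ) (η : Fin t → IrrCharacter G)
      (rep : Fin t → (P →* ℂˣ)), Data G p P L e t pw X ε δ η rep := by
  classical
  obtain ⟨X, ε, hX, hε⟩ := exists_X h hS (by omega)
  obtain ⟨t, rep, hte, hne, -, hcov, hgram⟩ := exists_repsC h.hP h.hL h.hpL h.hpw h.hN
  have hte0 : t * e ≠ 0 := by rw [hte]; omega
  have ht0 : 0 < t := Nat.pos_of_ne_zero (left_ne_zero_of_mul hte0)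
  set V : Fin t → G → ℂ := fun i => indFun (centralizer (P : Set G)) (phC pw (rep i)) with hV
  set T : G → ℂ := ∑ χ ∈ X, (ε χ : ℂ) • (χ : G → ℂ) with hT
  have hεc : ∀ χ ∈ X, conj ((ε χ : ℤ) : ℂ) * (ε χ : ℂ) = 1 := by
    intro χ hχ
    rcases (hε χ hχ).1 with h1 | h1 <;> rw [h1] <;> simp
  have hVgen : ∀ i, IsGeneralizedCharacter G (V i) := fun i => H3.isGen_ind _ (phC_isGen _)
  have hTgen : IsGeneralizedCharacter G T := by
    rw [hT]
    apply H3.isGen_sum
    intro χ _
    have h1 := H3.isGen_zsmul (ε χ) (H3.isGen_of_irr χ.2)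
    have h2 : (ε χ : ℂ) • (χ : G → ℂ) = (ε χ) • (χ : G → ℂ) := by ext g; simp
    rw [h2]; exact h1
  have hχV : ∀ χ ∈ X, ∀ i, classInner (χ : G → ℂ) (V i) = (ε χ : ℂ) := fun χ hχ i =>
    inner_VP h (H3.irr_classFun χ.2) (hε χ hχ).2 (hne i)
  have hTV : ∀ i, classInner T (V i) = (e : ℂ) := by
    intro i
    rw [hT, H3.classInner_sum_left]
    have h1 : ∀ χ ∈ X, classInner ((ε χ : ℂ) • (χ : G → ℂ)) (V i) = 1 := by
      intro χ hχ
      rw [H3.classInner_smul_left, hχV χ hχ i]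
      have := hεc χ hχ
      rwa [map_intCast] at this
    rw [Finset.sum_congr rfl h1, Finset.sum_const, hX, nsmul_eq_mul, mul_one]
  have hVT : ∀ i, classInner (V i) T = (e : ℂ) := by
    intro i
    rw [← H3.classInner_conj_symm, hTV, Complex.conj_natCast]
  have hTχ : ∀ χ ∈ X, classInner T (χ : G → ℂ) = (ε χ : ℂ) := by
    intro χ hχ
    rw [hT, H3.classInner_sum_left]
    have h1 : ∀ ψ ∈ X, classInner ((ε ψ : ℂ) • (ψ : G → ℂ)) (χ : G → ℂ) = if ψ = χ then (ε ψ : ℂ) else 0 := by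
      intro ψ _
      rw [H3.classInner_smul_left, H3.classInner_irr']
      split_ifs <;> simp
    rw [Finset.sum_congr rfl h1, Finset.sum_ite_eq' X χ, if_pos hχ]
  have hTT : classInner T T = (e : ℂ) := by
    have h0 : classInner T T = classInner T (∑ χ ∈ X, (ε χ : ℂ) • (χ : G → ℂ)) := rfl
    rw [h0, H3.classInner_sum_right]
    have h1 : ∀ χ ∈ X, classInner T ((ε χ : ℂ) • (χ : G → ℂ)) = 1 := by
      intro χ hχ
      rw [H3.classInner_smul_right, hTχ χ hχ]
      exact hεc χ hχ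
    rw [Finset.sum_congr rfl h1, Finset.sum_const, hX, nsmul_eq_mul, mul_one]
  have hgram' : ∀ i j, classInner (V i - T) (V j - T) = if i = j then 1 else 0 := by
    intro i j
    rw [H3.classInner_sub_left, H3.classInner_sub_right, H3.classInner_sub_right, hTV, hVT, hTT]
    have := hgram i j
    change classInner (V i) (V j) = _ at this
    rw [this]
    ring
  have hW1 : ∀ i, (V i - T) 1 = - T 1 := by
    intro i
    have h1 : V i 1 = 0 := by
      rw [hV]
      simp only
      rw [H3.indFun_one_apply, phC_one, mul_zero]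
    rw [Pi.sub_apply, h1, zero_sub]
  have hirr := fun i => H3.gen_norm_one (H3.isGen_sub (hVgen i) hTgen) (by rw [hgram' i i, if_pos rfl])
  -- common sign
  have hsign : (∀ i, IsIrrCharacter G (V i - T)) ∨ (∀ i, IsIrrCharacter G (-(V i - T))) := by
    by_contra hcon
    push Not at hcon
    obtain ⟨⟨i, hi⟩, ⟨j, hj⟩⟩ := hcon
    have h1 := (hirr i).resolve_left hi
    have h2 := (hirr j).resolve_right hj
    obtain ⟨a, ha, ha1⟩ := H3.irr_one_eq_nat h1
    obtain ⟨b, hb, hb1⟩ := H3.irr_one_eq_nat h2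
    rw [Pi.neg_apply, hW1, neg_neg] at ha1
    rw [hW1] at hb1
    have h3 : ((a + b : ℕ) : ℂ) = 0 := by push_cast; rw [← ha1, ← hb1]; ring
    have h4 : a + b = 0 := by exact_mod_cast h3
    omega
  have hVX : ∀ χ ∈ X, ∀ i, classInner (V i - T) (χ : G → ℂ) = 0 := by
    intro χ hχ i
    rw [H3.classInner_sub_left, hTχ χ hχ, ← H3.classInner_conj_symm, hχV χ hχ i, map_intCast, sub_self]
  rcases hsign with hs | hs
  · refine ⟨t, X, ε, -1, fun i => ⟨_, hs i⟩, rep, h, hte, hX, hε, Or.inr rfl, ?_, ?_, hne, hcov, ?_⟩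
    · intro i j hij
      have h1 : V i - T = V j - T := congrArg Subtype.val hij
      have h2 := hgram' i j
      rw [← h1, hgram' i i, if_pos rfl] at h2
      by_contra hne'
      rw [if_neg hne'] at h2
      exact one_ne_zero h2
    · intro i hi
      have h1 := hVX _ hi i
      have h2 : classInner (V i - T) (V i - T) = 0 := h1
      rw [hgram' i i, if_pos rfl] at h2
      exact one_ne_zero h2
    · intro i
      change V i = T - _
      ext g
      simp
  · refine ⟨t, X, ε, 1, fun i => ⟨_, hs i⟩, rep, h, hte, hX, hε, Or.inl rfl, ?_, ?_, hne, hcov, ?_⟩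
    · intro i j hij
      have h1 : -(V i - T) = -(V j - T) := congrArg Subtype.val hij
      have h1 := neg_injective h1
      have h2 := hgram' i j
      rw [← h1, hgram' i i, if_pos rfl] at h2
      by_contra hne'
      rw [if_neg hne'] at h2
      exact one_ne_zero h2
    · intro i hi
      have h1 := hVX _ hi i
      have h2 : classInner (V i - T) (-(V i - T)) = 0 := h1
      rw [H3.classInner_neg_right, hgram' i i, if_pos rfl] at h2
      norm_num at h2
    · intro i
      change V i = T - _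
      ext g
      simp

end Cfsg.Agent.H9.BR
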