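import Cfsg.Agent.H9.BRD

set_option autoImplicit false
set_option linter.unusedSectionVars false
set_option linter.style.haveILetI false
set_option linter.unusedVariables false
set_option linter.unusedSimpArgs false

/-! Degrees of the characters of the principal block. -/

open Cfsg
open scoped ComplexConjugate

namespace Cfsg.Agent.H9.BR

open Subgroup Exc

universe u

variable {G : Type u} [Group G] [Fintype G] {p : ℕ} [Fact p.Prime] {P : Subgroup G} {L e n : ℕ}
  {pw : centralizer (P : Set G) →* P}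

/-- degree -/
noncomputable def dg (χ : IrrCharacter G) : ℕ := (H3.irr_one_eq_nat χ.2).choose

theorem dg_spec (χ : IrrCharacter G) : (χ : G → ℂ) 1 = dg χ := (H3.irr_one_eq_nat χ.2).choose_spec.2

theorem dg_pos (χ : IrrCharacter G) : 0 < dg χ := (H3.irr_one_eq_nat χ.2).choose_spec.1

/-- the trivial character -/
noncomputable def triv (G : Type u) [Group G] [Fintype G] : IrrCharacter G := ⟨fun _ => 1, H3.isIrr_one⟩

theorem dg_triv : dg (triv G) = 1 := by
  have := dg_spec (triv G)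
  have h1 : ((triv G : IrrCharacter G) : G → ℂ) 1 = 1 := rfl
  rw [h1] at this
  exact_mod_cast this.symm

/-- standing hypotheses -/
structure Base (G : Type u) [Group G] [Fintype G] (p : ℕ) [Fact p.Prime] (P : Subgroup G) (L e n : ℕ)
    (pw : centralizer (P : Set G) →* P) : Prop where
  st : Setup G p P L e pw
  hS : ∃ S : Sylow p G, (S : Subgroup G) = P
  hNP : ∀ y ∈ normalizer (P : Set G), orderOf y = p → y ∈ P
  hord : ∀ y : G, orderOf y = p → ∃ g : G, g * y * g⁻¹ ∈ P
  hidx : (normalizer (P : Set G)).index = 1 + n * p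
  hlin : ∀ μ : G →* ℂˣ, μ = 1
  h2 : 2 < p
  hn : 0 < n
  hNF : NF p n

theorem VP.val (h : Setup G p P L e pw) {χ : G → ℂ} {κ : ℂ} (hv : VP pw χ κ) : ∀ w ∈ P, w ≠ 1 → χ w = κ := by
  intro w hw hw1
  exact hv ⟨w, h.hPC hw⟩ (pw_ne (u := ⟨w, hw⟩) h (fun h' => hw1 (congrArg Subtype.val h')))

theorem triv_VP : VP pw ((triv G : IrrCharacter G) : G → ℂ) 1 := fun _ _ => rfl

theorem sum_mod {d p : ℤ} {c : ℤ} (h : d ≡ c [ZMOD p]) : ∃ k : ℤ, d = k * p + c := by
  obtain ⟨k, hk⟩ := h.symm.dvd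
  exact ⟨k, by linear_combination hk⟩

section Base
variable (B : Base G p P L e n pw)
include B

theorem one_lt_dg {χ : IrrCharacter G} (hne : χ ≠ triv G) : 1 < dg χ := by
  obtain ⟨d, hd, h1⟩ := Exc.one_lt_deg B.hlin χ.2 (fun h' => hne (Subtype.ext h'))
  have : dg χ = d := by
    have := dg_spec χ
    rw [h1] at this
    exact_mod_cast this.symm
  rw [this]; exact hd

/-- degree bound for constituents of the induced characters -/
theorem of_constituent {χ : IrrCharacter G} {μ : KK P →* ℂˣ} (h : classInner (χ : G → ℂ) (ind μ) ≠ 0) :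
    dg χ ≤ 1 + n * p ∧ (dg χ = 1 + n * p → ind μ = (χ : G → ℂ)) := by
  classical
  have h1 : classInner (ind μ) (χ : G → ℂ) ≠ 0 := by
    rw [← H3.classInner_conj_symm]
    intro h2
    exact h (by simpa using congrArg conj h2)
  have h2 := H3.isChar_sub_irr (ind_isChar μ) χ.2 h1
  obtain ⟨k, hk⟩ := H3.char_one_eq_nat h2
  rw [Pi.sub_apply, ind_one_apply, B.hidx, dg_spec] at hk
  have h3 : (1 + n * p : ℕ) = k + dg χ := by
    have : ((1 + n * p : ℕ) : ℂ) = ((k + dg χ : ℕ) : ℂ) := by push_cast; push_cast at hk; rw [← hk]; ring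
    exact_mod_cast this
  refine ⟨by omega, fun h4 => ?_⟩
  have h5 : (ind μ - (χ : G → ℂ)) 1 = 0 := by
    rw [Pi.sub_apply, ind_one_apply, B.hidx, dg_spec, h4, sub_self]
  exact sub_eq_zero.mp (Exc.deg_zero h2 h5)

theorem dvd_of_VP {χ : IrrCharacter G} {κ : ℤ} (hv : VP pw (χ : G → ℂ) κ) :
    (dg χ : ℤ) ∣ (1 + n * p) * (((p : ℤ) - 1) * κ) := by
  classical
  letI : Fintype P := Fintype.ofFinite P
  have h1 := hv.sum B.st
  have h2 := dvd_order B.st.hP B.hNP B.hord χ.2 (dg_spec χ) (S := ((p : ℤ) - 1) * κ) (by rw [h1]; push_cast; ring)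
  rw [B.hidx] at h2
  exact_mod_cast h2

theorem deg_plus {χ : IrrCharacter G} (hv : VP pw (χ : G → ℂ) 1) (hne : χ ≠ triv G) :
    dg χ = 1 + n * p ∧ ∃ μ : KK P →* ℂˣ, ind μ = (χ : G → ℂ) := by
  classical
  have hpp : p.Prime := Fact.out
  letI : Fintype (centralizer (P : Set G)) := Fintype.ofFinite _
  haveI : Finite (KK P →* ℂˣ) := by
    haveI : Finite (IrrCharacter (KK P)) := inferInstance
    exact Finite.of_injective (fun f : KK P →* ℂˣ => (⟨_, H3.isIrr_of_hom f⟩ : IrrCharacter (KK P)))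
      (fun a b h => H3.hom_coe_injective (congrArg Subtype.val h))
  letI : Fintype (KK P →* ℂˣ) := Fintype.ofFinite _
  haveI hcyc : IsCyclic P := isCyclic_of_prime_card B.st.hP
  haveI : Nontrivial P := by
    rw [← Finite.one_lt_card_iff_nontrivial, B.st.hP]; exact hpp.one_lt
  obtain ⟨ν, hν⟩ : ∃ ν : P →* ℂˣ, ν ≠ 1 := by
    haveI := finite_hom (P := P)
    have h1 := card_hom (G := G) B.st.hP
    haveI : Nontrivial (P →* ℂˣ) := by
      rw [← Finite.one_lt_card_iff_nontrivial, h1]; exact hpp.one_lt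
    exact _root_.exists_ne 1
  obtain ⟨f, g, hf, hfg⟩ := mult B.st (H3.irr_isChar χ.2) (κ := 1)
    (by rw [inner_VP B.st (H3.irr_classFun χ.2) hv hν]; simp)
  have hf0 : f ≠ 0 := by omega
  have h1 := sum_inner B.st (H3.irr_classFun χ.2)
  rw [hf] at h1
  obtain ⟨μ, hμ⟩ : ∃ μ : KK P →* ℂˣ, classInner (χ : G → ℂ) (ind μ) ≠ 0 := by
    by_contra hcon
    push Not at hcon
    rw [Finset.sum_eq_zero (fun μ _ => hcon μ)] at h1
    exact hf0 (by exact_mod_cast h1.symm)
  obtain ⟨h2, h3⟩ := of_constituent B hμ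
  have h4 : dg χ = 1 + n * p := by
    have h5 := degree_of_value B.st.hP (H3.irr_isChar χ.2) (dg_spec χ) (c := 1) (by simpa using hv.val B.st)
    obtain ⟨u, hu⟩ := sum_mod h5
    have h6 := one_lt_dg B hne
    have hp0 : (0 : ℤ) < p := by exact_mod_cast hpp.pos
    have hu0 : 0 < u := by
      by_contra hcon
      push Not at hcon
      have : (dg χ : ℤ) ≤ 1 := by nlinarith
      omega
    have hun : u ≤ n := by
      have h7 : (dg χ : ℤ) ≤ 1 + n * p := by exact_mod_cast h2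
      rw [hu] at h7
      have : u * p ≤ n * p := by linarith
      exact le_of_mul_le_mul_right this hp0
    have h8 := dvd_of_VP B (κ := 1) (by simpa using hv)
    rw [hu] at h8
    have h9 := A1 hpp.two_le B.hNF hu0 hun (by
      have e1 : (1 + u * p : ℤ) = u * p + 1 := by ring
      have e2 : ((p : ℤ) - 1) * (1 + n * p) = (1 + n * p) * ((p - 1) * 1) := by ring
      rw [e1, e2]; exact h8)
    rw [h9] at hu
    have : (dg χ : ℤ) = ((1 + n * p : ℕ) : ℤ) := by push_cast; linarith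
    exact_mod_cast this
  exact ⟨h4, μ, h3 h4⟩

theorem deg_minus {χ : IrrCharacter G} (hv : VP pw (χ : G → ℂ) (-1)) :
    (dg χ : ℤ) = p - 1 ∨ (dg χ : ℤ) = (p - 1) * (1 + n * p) := by
  classical
  have hpp : p.Prime := Fact.out
  have h5 := degree_of_value B.st.hP (H3.irr_isChar χ.2) (dg_spec χ) (c := -1) (by simpa using hv.val B.st)
  obtain ⟨w, hw⟩ := sum_mod h5
  have hp0 : (0 : ℤ) < p := by exact_mod_cast hpp.pos
  have h6 : (0 : ℤ) < dg χ := by exact_mod_cast dg_pos χ
  have hw0 : 0 < w := by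
    by_contra hcon
    push Not at hcon
    nlinarith
  have h8 := dvd_of_VP B (κ := -1) (by simpa using hv)
  rw [hw] at h8
  rcases A2 hpp.two_le B.hn B.hNF hw0 (by
      have e1 : (w * p - 1 : ℤ) = w * p + -1 := by ring
      have e2 : ((p : ℤ) - 1) * (1 + n * p) = -((1 + n * p) * ((p - 1) * -1)) := by ring
      rw [e1, e2, dvd_neg]; exact h8) with h9 | h9
  · left; rw [hw, h9]; ring
  · right; rw [hw]; linear_combination (p : ℤ) * h9

end Base

/-- arithmetic for `t ≥ 2` -/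
theorem B1 {p n e t s α ν₁ ν₂ δ : ℤ} (hp : 2 < p) (hn : 0 < n) (he : 0 < e) (ht : 2 ≤ t) (hte : t * e = p - 1)
    (hs : 0 ≤ s) (hα : 0 ≤ α) (hν₁ : 0 ≤ ν₁) (hν₂ : 0 ≤ ν₂) (hsum : 1 + α + ν₁ + ν₂ = e)
    (hD : 1 + α * (1 + n * p) - ν₁ * (p - 1) - ν₂ * ((p - 1) * (1 + n * p)) = δ * (s * p + δ * e))
    (h : (δ = 1 ∧ (s = 0 ∨ s * p + e = e * (1 + n * p))) ∨ (δ = -1 ∧ n + 1 = s * t)) (he2 : δ = 1 → 2 ≤ e) :
    (δ = 1 → s = 0) ∧ α * (n + 1) + s = e - 1 ∧ 0 < ν₁ ∧ ν₂ = 0 := by
  have hnp : 0 < n * p := by positivity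
  have hep : 2 * e ≤ p - 1 := by nlinarith
  rcases h with ⟨hδ, h⟩ | ⟨hδ, h⟩
  · subst hδ
    have he2 := he2 rfl
    have hν₂0 : ν₂ = 0 := by
      by_contra hne
      have h1 : 1 ≤ ν₂ := by omega
      have h2 : (p - 1) * (1 + n * p) ≤ ν₂ * ((p - 1) * (1 + n * p)) := by
        apply le_mul_of_one_le_left _ h1
        apply mul_nonneg <;> linarith
      have h3 : α * (1 + n * p) ≤ (e - 2) * (1 + n * p) := by
        apply mul_le_mul_of_nonneg_right _ (by linarith); linarith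
      have h4 : 0 ≤ ν₁ * (p - 1) := mul_nonneg hν₁ (by linarith)
      have h5 : 0 ≤ s * p := mul_nonneg hs (by linarith)
      nlinarith
    rw [hν₂0] at hD hsum
    have hs0 : s = 0 := by
      rcases h with h | h
      · exact h
      · exfalso
        have h3 : α * (1 + n * p) ≤ (e - 1) * (1 + n * p) := by
          apply mul_le_mul_of_nonneg_right _ (by linarith); linarith
        have h4 : 0 ≤ ν₁ * (p - 1) := mul_nonneg hν₁ (by linarith)
        nlinarith
    rw [hs0] at hD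
    have h1 : p * ν₁ = p * (α * n) := by
      have : e = 1 + α + ν₁ := by linarith
      rw [this] at hD
      linear_combination -hD
    have h2 : ν₁ = α * n := mul_left_cancel₀ (by linarith) h1
    refine ⟨fun _ => hs0, by rw [hs0]; linarith, ?_, hν₂0⟩
    have hα1 : 0 < α := by
      rcases hα.eq_or_lt with h3 | h3
      · rw [← h3] at h2; rw [← h3] at hsum; linarith
      · exact h3
    rw [h2]; positivity
  · subst hδ
    have hν₂0 : ν₂ = 0 := by
      by_contra hne
      have h1 : 1 ≤ ν₂ := by omega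
      have h2 : (p - 1) * (1 + n * p) ≤ ν₂ * ((p - 1) * (1 + n * p)) := by
        apply le_mul_of_one_le_left _ h1
        apply mul_nonneg <;> linarith
      have h3 : α * (1 + n * p) ≤ (e - 2) * (1 + n * p) := by
        apply mul_le_mul_of_nonneg_right _ (by linarith); linarith
      have h4 : 0 ≤ ν₁ * (p - 1) := mul_nonneg hν₁ (by linarith)
      have h5 : 2 * s ≤ n + 1 := by nlinarith
      have h6 : 2 * (s * p) ≤ (n + 1) * p := by nlinarith
      have h7 : (2 * e - 4) * (1 + n * p) ≤ (p - 5) * (1 + n * p) := by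
        apply mul_le_mul_of_nonneg_right _ (by linarith); linarith
      nlinarith
    rw [hν₂0] at hD hsum
    have h1 : p * ν₁ = p * (α * n + s) := by
      have : e = 1 + α + ν₁ := by linarith
      rw [this] at hD
      linear_combination -hD
    have h2 : ν₁ = α * n + s := mul_left_cancel₀ (by linarith) h1
    have hs1 : 0 < s := by
      rcases hs.eq_or_lt with h3 | h3
      · rw [← h3] at h; linarith
      · exact h3
    refine ⟨fun h' => by norm_num at h', by linarith, ?_, hν₂0⟩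
    rw [h2]; positivity

/-- arithmetic for `t = 1` -/
theorem B2 {p n α ν₁ ν₂ : ℤ} (hp : 2 < p) (hn : 0 < n) (hα : 0 ≤ α) (hν₁ : 0 ≤ ν₁) (hν₂ : 0 ≤ ν₂)
    (hsum : 1 + α + ν₁ + ν₂ = p)
    (hD : 1 + α * (1 + n * p) - ν₁ * (p - 1) - ν₂ * ((p - 1) * (1 + n * p)) = 0) : 0 < ν₁ := by
  have hnp : 0 < n * p := by positivity
  by_contra hcon
  have hν0 : ν₁ = 0 := by omega
  subst hν0
  have hν₂0 : 1 ≤ ν₂ := by
    by_contra hne
    have : ν₂ = 0 := by omega
    subst this
    have : 0 ≤ α * (1 + n * p) := by positivity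
    linarith
  have h2 : (p - 1) * (1 + n * p) ≤ ν₂ * ((p - 1) * (1 + n * p)) := by
    apply le_mul_of_one_le_left _ hν₂0
    apply mul_nonneg <;> linarith
  have h3 : α * (1 + n * p) ≤ (p - 2) * (1 + n * p) := by
    apply mul_le_mul_of_nonneg_right _ (by linarith); linarith
  nlinarith

open scoped Classical in
/-- counting the characters -/
theorem count (X : Finset (IrrCharacter G)) (ε : IrrCharacter G → ℤ) (hε : ∀ χ ∈ X, ε χ = 1 ∨ ε χ = -1)
    (h1 : triv G ∈ X) (hε1 : ε (triv G) = 1) {a b c : ℤ} (ha : ∀ χ ∈ X, χ ≠ triv G → ε χ = 1 → (dg χ : ℤ) = a)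
    (hb : ∀ χ ∈ X, ε χ = -1 → (dg χ : ℤ) = b ∨ (dg χ : ℤ) = c) :
    ∃ α ν₁ ν₂ : ℕ, X.card = 1 + α + ν₁ + ν₂ ∧ ∑ χ ∈ X, ε χ * (dg χ : ℤ) = 1 + α * a - ν₁ * b - ν₂ * c ∧
      α = (X.filter (fun χ => ε χ = 1 ∧ χ ≠ triv G)).card ∧ ν₁ = (X.filter (fun χ => ε χ = -1 ∧ (dg χ : ℤ) = b)).card ∧
      ν₂ = (X.filter (fun χ => ε χ = -1 ∧ (dg χ : ℤ) ≠ b)).card := by
  refine ⟨_, _, _, ?_, ?_, rfl, rfl, rfl⟩
  · rw [Finset.card_filter, Finset.card_filter, Finset.card_filter]
    have key : ∀ χ ∈ X, (1 : ℕ) = (if χ = triv G then 1 else 0) + (if ε χ = 1 ∧ χ ≠ triv G then 1 else 0) +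
        (if ε χ = -1 ∧ (dg χ : ℤ) = b then 1 else 0) + (if ε χ = -1 ∧ (dg χ : ℤ) ≠ b then 1 else 0) := by
      intro χ hχ
      by_cases h3 : χ = triv G
      · subst h3; simp [hε1]
      · rcases hε χ hχ with h4 | h4
        · simp [h3, h4]
        · by_cases h5 : (dg χ : ℤ) = b <;> simp [h3, h4, h5]
    rw [Finset.card_eq_sum_ones X, Finset.sum_congr rfl key, Finset.sum_add_distrib, Finset.sum_add_distrib,
      Finset.sum_add_distrib, Finset.sum_ite_eq' X (triv G), if_pos h1]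
  · rw [Finset.card_filter, Finset.card_filter, Finset.card_filter]
    push_cast
    have key : ∀ χ ∈ X, ε χ * (dg χ : ℤ) = (if χ = triv G then 1 else 0) +
        (if ε χ = 1 ∧ χ ≠ triv G then 1 else 0) * a -
        (if ε χ = -1 ∧ (dg χ : ℤ) = b then 1 else 0) * b - (if ε χ = -1 ∧ (dg χ : ℤ) ≠ b then 1 else 0) * c := by
      intro χ hχ
      by_cases h3 : χ = triv G
      · subst h3; simp [hε1, dg_triv]
      · rcases hε χ hχ with h4 | h4
        · simp [h3, h4, ha χ hχ h3 h4]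
        · by_cases h5 : (dg χ : ℤ) = b
          · simp [h3, h4, h5]
          · have h6 := (hb χ hχ h4).resolve_left h5
            rw [h6] at h5
            simp [h3, h4, h5, h6]
    rw [Finset.sum_congr rfl key, Finset.sum_sub_distrib, Finset.sum_sub_distrib,
      Finset.sum_add_distrib, Finset.sum_ite_eq' X (triv G), if_pos h1, Finset.sum_mul, Finset.sum_mul, Finset.sum_mul]

end Cfsg.Agent.H9.BR
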