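import Cfsg.Agent.H9.BRE

set_option autoImplicit false
set_option linter.unusedSectionVars false
set_option linter.style.haveILetI false
set_option linter.unusedVariables false
set_option linter.unusedSimpArgs false

/-! Degrees of the characters of the principal block. -/

open Cfsg
open scoped ComplexConjugate

namespace Cfsg.Agent.H9.BR

open Subgroup Exc

universe u

variable {G : Type u} [Group G] [Fintype G] {p : ℕ} [Fact p.Prime] {P : Subgroup G} {L e n t : ℕ}
  {pw : centralizer (P : Set G) →* P} {X : Finset (IrrCharacter G)} {ε : IrrCharacter G → ℤ} {δ : ℤ}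
  {η : Fin t → IrrCharacter G} {rep : Fin t → (P →* ℂˣ)}

section
variable (D : Data G p P L e t pw X ε δ η rep)
include D

open scoped Classical in
theorem inner_V (ψ : IrrCharacter G) (i : Fin t) :
    classInner (ψ : G → ℂ) (indFun (centralizer (P : Set G)) (phC pw (rep i))) =
      (((if ψ ∈ X then ε ψ else 0) - (if ψ = η i then δ else 0) : ℤ) : ℂ) := by
  rw [D.V i, H3.classInner_sub_right, H3.classInner_sum_right, H3.classInner_smul_right, H3.classInner_irr']
  have h1 : ∀ χ ∈ X, classInner (ψ : G → ℂ) ((ε χ : ℂ) • (χ : G → ℂ)) = if ψ = χ then (ε χ : ℂ) else 0 := by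
    intro χ _
    rw [H3.classInner_smul_right, H3.classInner_irr', map_intCast]
    split_ifs <;> simp
  rw [Finset.sum_congr rfl h1, Finset.sum_ite_eq X ψ, map_intCast]
  push_cast
  split_ifs <;> simp

theorem deg_rel (i : Fin t) : ∑ χ ∈ X, ε χ * (dg χ : ℤ) = δ * dg (η i) := by
  have h1 := congrFun (D.V i) 1
  rw [H3.indFun_one_apply, phC_one, mul_zero, Pi.sub_apply, Finset.sum_apply, Pi.smul_apply, smul_eq_mul, dg_spec] at h1
  have h2 : ∑ χ ∈ X, ((ε χ : ℂ) • (χ : G → ℂ)) 1 = ((∑ χ ∈ X, ε χ * (dg χ : ℤ) : ℤ) : ℂ) := by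
    push_cast
    apply Finset.sum_congr rfl
    intro χ _
    rw [Pi.smul_apply, smul_eq_mul, dg_spec]
  rw [h2] at h1
  have h3 := sub_eq_zero.mp h1.symm
  exact_mod_cast h3

theorem reg (i : Fin t) {g : G} (hg : ¬ p ∣ orderOf g) :
    ∑ χ ∈ X, (ε χ : ℂ) * (χ : G → ℂ) g = δ * (η i : G → ℂ) g := by
  have h1 := congrFun (D.V i) g
  rw [D.st.ind_regular _ hg, Pi.sub_apply, Finset.sum_apply, Pi.smul_apply, smul_eq_mul] at h1
  have h3 := sub_eq_zero.mp h1.symm
  rw [← h3]
  apply Finset.sum_congr rfl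
  intro χ _
  rw [Pi.smul_apply, smul_eq_mul]

theorem t_pos (hp : 2 < p) : 0 < t := by
  have := D.hte
  rcases Nat.eq_zero_or_pos t with h | h
  · rw [h, zero_mul] at this; omega
  · exact h

theorem δsq : (δ : ℤ) * δ = 1 := by rcases D.hδ with h | h <;> rw [h] <;> norm_num

end

theorem sum_phC (h : Setup G p P L e pw) [Fintype P] {μ : P →* ℂˣ} (hμ : μ ≠ 1) :
    ∑ u : P, phC pw μ ⟨u, h.hPC u.2⟩ = p := by
  classical
  have h2 : ∀ u : P, pw ⟨u, h.hPC u.2⟩ = u ^ L := fun u => Subtype.ext (h.hpw ⟨u, h.hPC u.2⟩)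
  have hinj : Function.Injective (fun u : P => u ^ L) := by
    intro u v huv
    have h1 : (u : G) ^ L = (v : G) ^ L := congrArg Subtype.val huv
    exact Subtype.ext (pw_coprime h.hP h.hpL u.2 v.2 h1)
  have h3 : ∑ u : P, (μ (u ^ L) : ℂ) = 0 := by
    have hbij : Function.Bijective (fun u : P => u ^ L) := ⟨hinj, Finite.injective_iff_surjective.mp hinj⟩
    have h4 := hbij.sum_comp (fun u : P => (μ u : ℂ))
    rw [h4]
    have h5 := sum_hom_units_eq_zero ((Units.coeHom ℂ).comp μ) (fun h' => hμ (by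
      ext y
      have := congrArg (fun f : P →* ℂ => f y) h'
      simpa using this))
    exact h5
  simp only [phC, h2]
  rw [Finset.sum_sub_distrib, h3, Finset.sum_const, Finset.card_univ, ← Nat.card_eq_fintype_card, h.hP, nsmul_eq_mul,
    mul_one, sub_zero]

theorem sum_V (h : Setup G p P L e pw) [Fintype P] [DecidableEq P] {μ : P →* ℂˣ} (hμ : μ ≠ 1) :
    ∑ u : P, (if u = 1 then 0 else indFun (centralizer (P : Set G)) (phC pw μ) u) = (e : ℂ) * p := by
  classical
  letI : Fintype (normalizer (P : Set G)) := Fintype.ofFinite _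
  have hc0 : (Nat.card (centralizer (P : Set G)) : ℂ) ≠ 0 := by exact_mod_cast Nat.card_pos.ne'
  have h1 : (Nat.card (centralizer (P : Set G)) : ℂ) *
      ∑ u : P, (if u = 1 then 0 else indFun (centralizer (P : Set G)) (phC pw μ) u) =
      ∑ u : P, ∑ m : normalizer (P : Set G), phC pw (cj P μ m) ⟨u, h.hPC u.2⟩ := by
    rw [Finset.mul_sum]
    apply Finset.sum_congr rfl
    intro u _
    by_cases hu : u = 1
    · subst hu
      rw [if_pos rfl, mul_zero]
      symm
      apply Finset.sum_eq_zero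
      intro m _
      exact phC_one _
    · rw [if_neg hu]
      exact ind_phC h.hP h.hpw μ ⟨u, h.hPC u.2⟩ (pw_ne h hu)
  rw [Finset.sum_comm, Finset.sum_congr rfl (fun m _ => sum_phC h (fun h' => hμ ((cj_eq_one_iff P μ m).mp h'))),
    Finset.sum_const, Finset.card_univ, ← Nat.card_eq_fintype_card, nsmul_eq_mul] at h1
  have h2 : (Nat.card (normalizer (P : Set G)) : ℂ) = Nat.card (centralizer (P : Set G)) * e := by
    rw [h.hN, h.hL]; push_cast; ring
  rw [h2, mul_assoc] at h1
  exact mul_left_cancel₀ hc0 h1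

section
variable (D : Data G p P L e t pw X ε δ η rep)
include D

theorem sum_eta [Fintype P] [DecidableEq P] (i : Fin t) :
    ∑ u : P, (if u = 1 then 0 else (η i : G → ℂ) u) = ((-δ * e : ℤ) : ℂ) := by
  have h1 := sum_V D.st (D.rep_ne i)
  rw [D.V i] at h1
  have h2 : ∀ u : P, (if u = 1 then 0 else ((∑ χ ∈ X, (ε χ : ℂ) • (χ : G → ℂ)) - (δ : ℂ) • (η i : G → ℂ)) u) =
      ∑ χ ∈ X, (ε χ : ℂ) * (if u = 1 then 0 else (χ : G → ℂ) u) - (δ : ℂ) * (if u = 1 then 0 else (η i : G → ℂ) u) := by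
    intro u
    by_cases hu : u = 1
    · simp [hu]
    · simp [hu]
  rw [Finset.sum_congr rfl fun u _ => h2 u, Finset.sum_sub_distrib, Finset.sum_comm, ← Finset.mul_sum] at h1
  have h3 : ∀ χ ∈ X, ∑ u : P, (ε χ : ℂ) * (if u = 1 then 0 else (χ : G → ℂ) u) = (p : ℂ) - 1 := by
    intro χ hχ
    rw [← Finset.mul_sum, (D.hε χ hχ).2.sum D.st]
    rcases (D.hε χ hχ).1 with h4 | h4 <;> rw [h4] <;> push_cast <;> ring
  rw [Finset.sum_congr rfl h3, Finset.sum_const, D.hX, nsmul_eq_mul] at h1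
  have h4 : (δ : ℂ) * δ = 1 := by exact_mod_cast δsq D
  have h5 : (δ : ℂ) * ∑ u : P, (if u = 1 then 0 else (η i : G → ℂ) u) = -e := by linear_combination -h1
  have h6 : ∑ u : P, (if u = 1 then 0 else (η i : G → ℂ) u) =
      (δ : ℂ) * ((δ : ℂ) * ∑ u : P, (if u = 1 then 0 else (η i : G → ℂ) u)) := by rw [← mul_assoc, h4, one_mul]
  rw [h6, h5]; push_cast; ring

/-- multiplicity of the trivial character on `P` -/
theorem mult_P {ψ : IrrCharacter G} [Fintype P] [DecidableEq P] {S : ℤ}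
    (hS : ∑ u : P, (if u = 1 then 0 else (ψ : G → ℂ) u) = S) :
    ∃ f : ℕ, classInner (fun u : P => (ψ : G → ℂ) u) (fun _ => 1) = f ∧ (dg ψ : ℤ) = f * p - S := by
  classical
  obtain ⟨f, hf⟩ := H3.classInner_char_nat (H3.isChar_restrict P (H3.irr_isChar ψ.2)) (H3.isChar_one (G := P))
  refine ⟨f, hf, ?_⟩
  have hp0 : (Nat.card P : ℂ) ≠ 0 := by exact_mod_cast Nat.card_pos.ne'
  have h1 : ∑ u : P, (ψ : G → ℂ) u = (Nat.card P : ℂ) * f := by
    have hf' : classInner (fun u : P => (ψ : G → ℂ) u) (fun _ => 1) = f := hf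
    rw [← hf', classInner, ← mul_assoc, mul_inv_cancel₀ hp0, one_mul]
    simp
  have h2 : ∑ u : P, (ψ : G → ℂ) u = dg ψ + ∑ u : P, (if u = 1 then 0 else (ψ : G → ℂ) u) := by
    have h3 : (dg ψ : ℂ) = ∑ u : P, (if u = 1 then (dg ψ : ℂ) else 0) := by simp
    rw [h3, ← Finset.sum_add_distrib]
    apply Finset.sum_congr rfl
    intro u _
    by_cases hu : u = 1
    · subst hu; simp [dg_spec]
    · simp [hu]
  rw [h2, hS, D.st.hP] at h1
  have h4 : (dg ψ : ℂ) = ((f * p - S : ℤ) : ℂ) := by push_cast; linear_combination h1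
  exact_mod_cast h4

theorem deg_eta [Fintype P] (i : Fin t) : ∃ s : ℕ, classInner (fun u : P => (η i : G → ℂ) u) (fun _ => 1) = s ∧
    (dg (η i) : ℤ) = s * p + δ * e := by
  classical
  obtain ⟨f, hf, hf'⟩ := mult_P D (sum_eta D i)
  exact ⟨f, hf, by rw [hf']; ring⟩

end

theorem triv_mem (D : Data G p P L e t pw X ε δ η rep) (ht : 2 ≤ t) : triv G ∈ X ∧ ε (triv G) = 1 := by
  classical
  have hv : ∀ i, (((if triv G ∈ X then ε (triv G) else 0) - (if triv G = η i then δ else 0) : ℤ) : ℂ) = 1 := by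
    intro i
    rw [← inner_V D]
    exact inner_VP D.st (H3.irr_classFun (triv G).2) triv_VP (D.rep_ne i)
  have hv' : ∀ i, (if triv G ∈ X then ε (triv G) else 0) - (if triv G = η i then δ else 0) = 1 := by
    intro i; exact_mod_cast hv i
  have h1 : triv G ∈ X := by
    by_contra hcon
    have h2 : ∀ i, triv G = η i := by
      intro i
      by_contra h3
      have := hv' i
      rw [if_neg hcon, if_neg h3] at this
      norm_num at this
    have h3 := D.inj ((h2 ⟨0, by omega⟩).symm.trans (h2 ⟨1, by omega⟩))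
    simp at h3
  refine ⟨h1, ?_⟩
  have := hv' ⟨0, by omega⟩
  rw [if_pos h1, if_neg (fun h' => D.notX ⟨0, by omega⟩ (by rw [← h']; exact h1)), sub_zero] at this
  exact this

section Main
variable (B : Base G p P L e n pw) (D : Data G p P L e t pw X ε δ η rep)
include B D

theorem dvd_eta (i : Fin t) : (dg (η i) : ℤ) ∣ e * (1 + n * p) := by
  classical
  letI : Fintype P := Fintype.ofFinite P
  have h2 := dvd_order B.st.hP B.hNP B.hord (η i).2 (dg_spec (η i)) (sum_eta D i)
  rw [B.hidx] at h2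
  have h3 : (e : ℤ) * (1 + n * p) = -δ * (((1 + n * p : ℕ) : ℤ) * (-δ * e)) := by
    push_cast
    linear_combination (-(e : ℤ) * (1 + n * p)) * (δsq D)
  rw [h3]
  exact Dvd.dvd.mul_left h2 _

theorem e_pos : 0 < e := by
  have h1 := D.hte
  have h2 := B.h2
  rcases Nat.eq_zero_or_pos e with h | h
  · rw [h, mul_zero] at h1; omega
  · exact h

open scoped Classical in
/-- the case `t ≥ 2` -/
theorem big [Fintype P] (ht : 2 ≤ t) : ∃ s : ℕ, (∀ i, (dg (η i) : ℤ) = s * p + δ * e) ∧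
    (∀ i, classInner (fun u : P => (η i : G → ℂ) u) (fun _ => 1) = s) ∧
    (δ = 1 → s = 0) ∧ (δ = -1 → n + 1 = s * t) ∧
    (X.filter (fun χ => ε χ = 1 ∧ χ ≠ triv G)).card * (n + 1) + s + 1 = e ∧
    (∀ χ ∈ X, ε χ = -1 → dg χ = p - 1) ∧ ∃ χ ∈ X, ε χ = -1 := by
  obtain ⟨hX1, hε1⟩ := triv_mem D ht
  have hpp : p.Prime := Fact.out
  have hp2 := B.h2
  have he := e_pos B D
  have hte := D.hte
  have hte' : (t : ℤ) * e = p - 1 := by
    have : ((t * e : ℕ) : ℤ) = ((p - 1 : ℕ) : ℤ) := by rw [hte]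
    push_cast [Nat.cast_sub hpp.one_le] at this
    exact this
  have hplus : ∀ χ ∈ X, χ ≠ triv G → ε χ = 1 → (dg χ : ℤ) = 1 + n * p := by
    intro χ hχ hne h1
    have h2 := (D.hε χ hχ).2
    rw [h1] at h2
    have h3 := (deg_plus B (by simpa using h2) hne).1
    rw [h3]; push_cast; ring
  have hminus : ∀ χ ∈ X, ε χ = -1 → (dg χ : ℤ) = p - 1 ∨ (dg χ : ℤ) = (p - 1) * (1 + n * p) := by
    intro χ hχ h1
    have h2 := (D.hε χ hχ).2
    rw [h1] at h2
    exact deg_minus B (by simpa using h2)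
  obtain ⟨α, ν₁, ν₂, hcard, hsum, hα, hν₁, hν₂⟩ := count X ε (fun χ hχ => (D.hε χ hχ).1) hX1 hε1 hplus hminus
  rw [D.hX] at hcard
  let i₀ : Fin t := ⟨0, by omega⟩
  obtain ⟨s, hs, hsd⟩ := deg_eta D i₀
  have hrel := deg_rel D i₀
  rw [hsum, hsd] at hrel
  have hdvd := dvd_eta B D i₀
  rw [hsd] at hdvd
  have hepos : (0 : ℤ) < e := by exact_mod_cast he
  have hdpos : (0 : ℤ) < dg (η i₀) := by exact_mod_cast dg_pos (η i₀)
  have hcase : (δ = 1 ∧ ((s : ℤ) = 0 ∨ (s : ℤ) * p + e = e * (1 + n * p))) ∨ (δ = -1 ∧ (n : ℤ) + 1 = s * t) := by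
    rcases D.hδ with h1 | h1
    · left
      refine ⟨h1, ?_⟩
      rw [h1, one_mul] at hdvd
      exact A3 hpp B.hNF (by positivity) hepos (by positivity) hte' hdvd
    · right
      refine ⟨h1, ?_⟩
      have hs0 : (0 : ℤ) < s := by
        rw [h1] at hsd
        rcases Nat.eq_zero_or_pos s with h2 | h2
        · rw [h2] at hsd; push_cast at hsd; linarith
        · exact_mod_cast h2
      rw [h1] at hdvd
      exact A4 hpp B.hNF hs0 hepos (by exact_mod_cast ht) hte' (by
        have : (s : ℤ) * p - e = s * p + -1 * e := by ring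
        rw [this]; exact hdvd)
  have he2 : δ = 1 → (2 : ℤ) ≤ e := by
    intro h1
    rcases hcase with ⟨h2, h3⟩ | ⟨h2, h3⟩
    swap
    · rw [h1] at h2; norm_num at h2
    by_contra hcon
    have he1 : e = 1 := by omega
    subst he1
    have h4 : α = 0 ∧ ν₁ = 0 ∧ ν₂ = 0 := by omega
    rw [h4.1, h4.2.1, h4.2.2, h1] at hrel
    have h5 : (dg (η i₀) : ℤ) = 1 := by
      rw [hsd, h1]; push_cast at hrel ⊢; linarith
    have h6 : η i₀ ≠ triv G := fun h' => D.notX i₀ (by rw [h']; exact hX1)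
    have h7 := one_lt_dg B h6
    omega
  obtain ⟨c1, c2, c3, c4⟩ := B1 (p := p) (n := n) (e := e) (t := t) (s := s) (α := α) (ν₁ := ν₁) (ν₂ := ν₂) (δ := δ)
    (by exact_mod_cast hp2) (by exact_mod_cast B.hn) hepos (by exact_mod_cast ht) hte' (by positivity) (by positivity)
    (by positivity) (by positivity) (by exact_mod_cast hcard.symm) hrel hcase he2
  refine ⟨s, ?_, ?_, ?_, ?_, ?_, ?_, ?_⟩
  · intro i
    have h1 := deg_rel D i
    have h2 := deg_rel D i₀
    rw [h1] at h2
    have h3 : (dg (η i) : ℤ) = dg (η i₀) := by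
      have h4 := δsq D
      calc (dg (η i) : ℤ) = δ * (δ * dg (η i)) := by rw [← mul_assoc, h4, one_mul]
        _ = δ * (δ * dg (η i₀)) := by rw [h2]
        _ = dg (η i₀) := by rw [← mul_assoc, h4, one_mul]
    rw [h3, hsd]
  · intro i
    obtain ⟨s', hs', hsd'⟩ := deg_eta D i
    rw [hs']
    have h1 := deg_rel D i
    have h2 := deg_rel D i₀
    rw [h1] at h2
    have h3 : (dg (η i) : ℤ) = dg (η i₀) := by
      have h4 := δsq D
      calc (dg (η i) : ℤ) = δ * (δ * dg (η i)) := by rw [← mul_assoc, h4, one_mul]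
        _ = δ * (δ * dg (η i₀)) := by rw [h2]
        _ = dg (η i₀) := by rw [← mul_assoc, h4, one_mul]
    rw [hsd, hsd'] at h3
    have h5 : (s' : ℤ) = s := by
      have hp0 : (p : ℤ) ≠ 0 := by exact_mod_cast hpp.ne_zero
      exact mul_right_cancel₀ hp0 (by linarith)
    exact_mod_cast h5
  · intro h; exact_mod_cast c1 h
  · intro h
    rcases hcase with ⟨h2, h3⟩ | ⟨h2, h3⟩
    · rw [h] at h2; norm_num at h2
    · exact_mod_cast h3
  · have : ((α * (n + 1) + s + 1 : ℕ) : ℤ) = e := by push_cast; linarith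
    rw [hα] at this
    exact_mod_cast this
  · intro χ hχ h1
    by_contra hne
    have h2 : χ ∈ X.filter (fun χ => ε χ = -1 ∧ (dg χ : ℤ) ≠ p - 1) := by
      rw [Finset.mem_filter]
      refine ⟨hχ, h1, fun h3 => hne ?_⟩
      omega
    have h3 : 0 < (X.filter (fun χ => ε χ = -1 ∧ (dg χ : ℤ) ≠ p - 1)).card := Finset.card_pos.mpr ⟨χ, h2⟩
    rw [← hν₂] at h3
    omega
  · have h3 : 0 < (X.filter (fun χ => ε χ = -1 ∧ (dg χ : ℤ) = p - 1)).card := by rw [← hν₁]; exact_mod_cast c3
    obtain ⟨χ, hχ⟩ := Finset.card_pos.mp h3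
    rw [Finset.mem_filter] at hχ
    exact ⟨χ, hχ.1, hχ.2.1⟩

omit B in
/-- for `t = 1` the last character also has constant values -/
theorem eta_VP (ht : t = 1) (i : Fin t) : VP pw (η i : G → ℂ) (-δ) := by
  classical
  obtain ⟨M, hM⟩ := H27.exists_isPModular (Fact.out : p.Prime)
  have hi := inner_V D (η i) i
  rw [if_neg (D.notX i), if_pos rfl, zero_sub] at hi
  have hmem : η i ∈ principalBlock M G := by
    by_contra hcon
    have h1 := D.st.inner_zero hM hcon (rep i)
    rw [hi] at h1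
    have h2 : (-δ : ℤ) = 0 := by exact_mod_cast h1
    rcases D.hδ with h3 | h3 <;> rw [h3] at h2 <;> norm_num at h2
  have hval : ∀ w ∈ P, w ≠ 1 → (η i : G → ℂ) w = ((-δ : ℤ) : ℂ) := by
    intro w hw hw1
    apply D.st.value hM hmem (c := -δ) _ hw hw1
    intro μ hμ
    obtain ⟨j, m, hj⟩ := D.cover μ hμ
    have hij : j = i := by subst ht; exact Subsingleton.elim _ _
    subst hij
    rw [← hj, ind_cj D.st (H3.irr_classFun (η j).2), hi]
  intro c hc
  obtain ⟨x, hx, hx1, y, hy, hyL, hcxy⟩ := decomp D.st hc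
  rw [hcxy, D.st.isConst hM hmem x hx hx1 y hy hyL, hval x hx hx1]
  push_cast; rfl

/-- there is a character of degree `p - 1` -/
theorem exists_minus : ∃ χ : IrrCharacter G, VP pw (χ : G → ℂ) (-1) ∧ dg χ = p - 1 := by
  classical
  have hpp : p.Prime := Fact.out
  have hp2 := B.h2
  have ht0 := t_pos D hp2
  rcases Nat.lt_or_ge t 2 with ht | ht
  · have ht1 : t = 1 := by omega
    let i₀ : Fin t := ⟨0, by omega⟩
    have hvη : VP pw (η i₀ : G → ℂ) ((-δ : ℤ) : ℂ) := by
      have := eta_VP D ht1 i₀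
      push_cast; exact this
    let ε' : IrrCharacter G → ℤ := fun χ => if χ = η i₀ then -δ else ε χ
    let X' : Finset (IrrCharacter G) := insert (η i₀) X
    have hε' : ∀ χ ∈ X', (ε' χ = 1 ∨ ε' χ = -1) ∧ VP pw (χ : G → ℂ) (ε' χ) := by
      intro χ hχ
      by_cases h1 : χ = η i₀
      · simp only [ε', if_pos h1]
        refine ⟨?_, by rw [h1]; exact hvη⟩
        rcases D.hδ with h2 | h2 <;> rw [h2] <;> norm_num
      · simp only [ε', if_neg h1]
        have h2 : χ ∈ X := by
          rcases Finset.mem_insert.mp hχ with h3 | h3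
          · exact absurd h3 h1
          · exact h3
        exact D.hε χ h2
    have htriv : triv G ∈ X' := by
      by_contra hcon
      have h1 := inner_V D (triv G) i₀
      rw [if_neg (fun h' => hcon (Finset.mem_insert_of_mem h')),
        if_neg (fun h' => hcon (by rw [h']; exact Finset.mem_insert_self _ _)),
        inner_VP D.st (H3.irr_classFun (triv G).2) triv_VP (D.rep_ne i₀)] at h1
      norm_num at h1
    have hε1 : ε' (triv G) = 1 := by
      have h1 := (hε' _ htriv).2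
      have h2 : VP pw ((triv G : IrrCharacter G) : G → ℂ) 1 := triv_VP
      have h3 := inner_VP D.st (H3.irr_classFun (triv G).2) h1 (D.rep_ne i₀)
      rw [inner_VP D.st (H3.irr_classFun (triv G).2) h2 (D.rep_ne i₀)] at h3
      exact_mod_cast h3.symm
    have hplus : ∀ χ ∈ X', χ ≠ triv G → ε' χ = 1 → (dg χ : ℤ) = 1 + n * p := by
      intro χ hχ hne h1
      have h2 := (hε' χ hχ).2
      rw [h1] at h2
      have h3 := (deg_plus B (by simpa using h2) hne).1
      rw [h3]; push_cast; ring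
    have hminus : ∀ χ ∈ X', ε' χ = -1 → (dg χ : ℤ) = p - 1 ∨ (dg χ : ℤ) = (p - 1) * (1 + n * p) := by
      intro χ hχ h1
      have h2 := (hε' χ hχ).2
      rw [h1] at h2
      exact deg_minus B (by simpa using h2)
    obtain ⟨α, ν₁, ν₂, hcard, hsum, hα, hν₁, hν₂⟩ := count X' ε' (fun χ hχ => (hε' χ hχ).1) htriv hε1 hplus hminus
    have hX' : X'.card = p := by
      rw [Finset.card_insert_of_notMem (D.notX i₀), D.hX]
      have h1 := D.hte
      rw [ht1, one_mul] at h1
      omega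
    have hsum' : ∑ χ ∈ X', ε' χ * (dg χ : ℤ) = 0 := by
      rw [Finset.sum_insert (D.notX i₀)]
      have h1 : ∀ χ ∈ X, ε' χ * (dg χ : ℤ) = ε χ * (dg χ : ℤ) := by
        intro χ hχ
        simp only [ε']
        rw [if_neg (fun h' => D.notX i₀ (by rw [← h']; exact hχ))]
      rw [Finset.sum_congr rfl h1, deg_rel D i₀]
      simp only [ε', if_true]
      ring
    rw [hX'] at hcard
    rw [hsum'] at hsum
    have c3 := B2 (p := p) (n := n) (α := α) (ν₁ := ν₁) (ν₂ := ν₂) (by exact_mod_cast hp2) (by exact_mod_cast B.hn)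
      (by positivity) (by positivity) (by positivity) (by exact_mod_cast hcard.symm) hsum.symm
    have h3 : 0 < (X'.filter (fun χ => ε' χ = -1 ∧ (dg χ : ℤ) = p - 1)).card := by rw [← hν₁]; exact_mod_cast c3
    obtain ⟨χ, hχ⟩ := Finset.card_pos.mp h3
    rw [Finset.mem_filter] at hχ
    obtain ⟨h4, h5, h6⟩ := hχ
    have h7 := (hε' χ h4).2
    rw [h5] at h7
    exact ⟨χ, by simpa using h7, by omega⟩
  · letI : Fintype P := Fintype.ofFinite P
    obtain ⟨s, -, -, -, -, -, h1, χ, h2, h3⟩ := big B D ht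
    have h7 := (D.hε χ h2).2
    rw [h3] at h7
    exact ⟨χ, by simpa using h7, h1 χ h2 h3⟩

end Main

/-- kernels -/
theorem exists_ker {χ : G → ℂ} (hχ : IsCharacter G χ) : ∃ K : Subgroup G, K.Normal ∧ ∀ x, x ∈ K ↔ χ x = χ 1 := by
  refine ⟨{ carrier := {g | χ g = χ 1}
            mul_mem' := fun {a b} ha hb => by
              change χ (a * b) = χ 1
              rw [H27.char_ker_mul hχ ha]; exact hb
            one_mem' := rfl
            inv_mem' := fun {a} ha => by
              change χ a⁻¹ = χ 1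
              have := H27.char_ker_mul hχ ha a⁻¹
              rw [mul_inv_cancel] at this
              exact this.symm }, ⟨fun n hn g => ?_⟩, fun x => Iff.rfl⟩
  change χ (g * n * g⁻¹) = χ 1
  rw [H3.char_classFun hχ]; exact hn

/-- the kernel contains the `p'`-part of the centralizer -/
theorem trivial_core (B : Base G p P L e n pw) (hcore : ∀ N : Subgroup G, N.Normal → ¬ p ∣ Nat.card N → N = ⊥) : L = 1 := by
  classical
  have hpp : p.Prime := Fact.out
  obtain ⟨t, X, ε, δ, η, rep, D⟩ := exists_data B.st B.hS B.h2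
  obtain ⟨χ, hv, hd⟩ := exists_minus B D
  have hdc : (χ : G → ℂ) 1 = (p : ℂ) - 1 := by
    rw [dg_spec, hd, Nat.cast_sub hpp.one_le]; simp
  obtain ⟨K, hKn, hker⟩ := exists_ker (H3.irr_isChar χ.2)
  have hK : K = ⊥ := by
    apply hcore _ hKn
    intro h1
    obtain ⟨x, hx⟩ := exists_prime_orderOf_dvd_card' p h1
    have hx' : orderOf (x : G) = p := by rw [Subgroup.orderOf_coe]; exact hx
    obtain ⟨g, hg⟩ := B.hord _ hx'
    have h2 := (hker x).mp x.2
    have h3 : (χ : G → ℂ) (g * x * g⁻¹) = (χ : G → ℂ) x := H3.irr_classFun χ.2 _ _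
    have h4 : g * (x : G) * g⁻¹ ≠ 1 := by
      intro h5
      have : (x : G) = 1 := by
        have : (x : G) = g⁻¹ * (g * x * g⁻¹) * g := by group
        rw [this, h5]; group
      rw [this, orderOf_one] at hx'
      exact hpp.one_lt.ne hx'
    have h5 := hv.val B.st _ hg h4
    rw [h3, h2, hdc] at h5
    have h6 : (p : ℂ) = 0 := by linear_combination h5
    exact hpp.ne_zero (by exact_mod_cast h6)
  have h1 : pw.ker = ⊥ := by
    rw [eq_bot_iff]
    intro y hy
    have h2 := ker_of_deg B.st (H3.irr_isChar χ.2) hv hdc (y := y) hy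
    have h3 := (hker y).mpr h2
    rw [hK, mem_bot] at h3
    rw [mem_bot]
    exact Subtype.ext h3
  rw [← B.st.card_ker, h1, card_bot]

end Cfsg.Agent.H9.BR
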