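import Cfsg.Agent.H9.Sieve2
import Cfsg.Agent.H4.ZStarF
import Cfsg.Agent.S0111
import Cfsg.Agent.H4.DihEquiv

set_option autoImplicit false
set_option linter.unusedSectionVars false
set_option linter.style.haveILetI false
set_option linter.unusedVariables false
set_option linter.unusedSimpArgs false

/-! Simple groups of order 168: centralizers, element orders, Sylow subgroups. -/

namespace Cfsg.Agent.H9.O168

open Subgroup MulAction

section general
variable {G : Type*} [Group G] [Finite G]

/-- in a simple group a Sylow subgroup of order `p` with `|N(P)| = p d`, `d` prime, is self-centralizing -/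
theorem card_centralizer_of_prime_normalizer [IsSimpleGroup G] (hG : ¬ IsMulCommutative G) {p d : ℕ} [Fact p.Prime]
    (hd : d.Prime) (hdp : d ≠ p) (P : Sylow p G) (hP : Nat.card (P : Subgroup G) = p)
    (hN : Nat.card (normalizer ((P : Subgroup G) : Set G)) = p * d) :
    Nat.card (centralizer ((P : Subgroup G) : Set G)) = p := by
  have hp : p.Prime := Fact.out
  have hpd : p ∣ Nat.card G := by
    have h1 := card_subgroup_dvd_card (P : Subgroup G)
    rwa [hP] at h1
  have hnot := Simple.not_normalizer_le_centralizer hG hpd P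
  have hle : centralizer ((P : Subgroup G) : Set G) ≤ normalizer ((P : Subgroup G) : Set G) := centralizer_le_normalizer _
  have h1 : Nat.card (centralizer ((P : Subgroup G) : Set G)) ∣ p * d := by
    rw [← hN]; exact card_dvd_of_le hle
  have h2 : p ∣ Nat.card (centralizer ((P : Subgroup G) : Set G)) := by
    have := card_dvd_of_le (Syl.le_centralizer_of_card_prime hP)
    rwa [hP] at this
  obtain ⟨c, hc⟩ := h2
  rw [hc] at h1
  have h3 : c ∣ d := (Nat.mul_dvd_mul_iff_left hp.pos).mp h1
  rcases (Nat.dvd_prime hd).mp h3 with h | h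
  · rw [hc, h, mul_one]
  · exfalso
    apply hnot
    have h4 : centralizer ((P : Subgroup G) : Set G) = normalizer ((P : Subgroup G) : Set G) := by
      apply eq_of_le_of_card_ge hle
      rw [hN, hc, h]
    rw [h4]

/-- an element of order `p` generates a Sylow subgroup when `p` exactly divides the order -/
theorem exists_sylow_eq_zpowers {p : ℕ} [Fact p.Prime] {m : ℕ} (h : Nat.card G = p ^ 1 * m) (hm : ¬ p ∣ m) {y : G}
    (hy : orderOf y = p) : ∃ P : Sylow p G, (P : Subgroup G) = zpowers y := by
  have h1 : IsPGroup p (zpowers y) := IsPGroup.of_card (n := 1) (by rw [Nat.card_zpowers, hy, pow_one])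
  obtain ⟨P, hP⟩ := h1.exists_le_sylow
  refine ⟨P, ?_⟩
  symm
  apply eq_of_le_of_card_ge hP
  rw [Syl.card_sylow_of_card P h hm, Nat.card_zpowers, hy, pow_one]

theorem centralizer_zpowers' (y : G) : centralizer ((zpowers y : Subgroup G) : Set G) = centralizer {y} := by
  rw [zpowers_eq_closure, centralizer_closure]

theorem card_conj_class (y : G) : Nat.card {g : G // IsConj y g} * Nat.card (centralizer {y}) = Nat.card G := by
  have h1 := Count.card_conj_mem (⊤ : Subgroup G) y
  have h2 : Nat.card {g : G // IsConj y g ∧ g ∈ (⊤ : Subgroup G)} = Nat.card {g : G // IsConj y g} :=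
    Nat.card_congr (Equiv.subtypeEquivRight (fun g => by simp))
  have h3 : Nat.card {g : G // g⁻¹ * y * g ∈ (⊤ : Subgroup G)} = Nat.card G :=
    Nat.card_congr (Equiv.subtypeUnivEquiv (fun g => mem_top _))
  rw [h2, h3] at h1
  exact h1

/-- number of elements of order `p` when the Sylow subgroups have order `p` -/
theorem card_order_prime {p : ℕ} [Fact p.Prime] {m : ℕ} (h : Nat.card G = p ^ 1 * m) (hm : ¬ p ∣ m) :
    Nat.card {g : G // orderOf g = p} = Nat.card (Sylow p G) * (p - 1) := by
  have hp : p.Prime := Fact.out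
  have key : ∀ P : Sylow p G, Nat.card {g : {g : G // orderOf g = p} //
      (exists_sylow_eq_zpowers h hm g.2).choose = P} = p - 1 := by
    intro P
    have hPc : Nat.card (P : Subgroup G) = p := by rw [Syl.card_sylow_of_card P h hm, pow_one]
    have hxo : ∀ x : (P : Subgroup G), x ≠ 1 → orderOf (x : G) = p := by
      intro x hx
      have h1 := orderOf_dvd_natCard x
      rw [hPc] at h1
      rcases (Nat.dvd_prime hp).mp h1 with h2 | h2
      · exact absurd (orderOf_eq_one_iff.mp h2) hx
      · exact (orderOf_coe x).trans h2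
    have e : {g : {g : G // orderOf g = p} // (exists_sylow_eq_zpowers h hm g.2).choose = P} ≃
        {x : (P : Subgroup G) // x ≠ 1} := by
      refine
        { toFun := fun g => ⟨⟨g.1.1, ?_⟩, ?_⟩
          invFun := fun x => ⟨⟨x.1.1, ?_⟩, ?_⟩
          left_inv := fun g => rfl
          right_inv := fun x => rfl }
      · have h1 := (exists_sylow_eq_zpowers h hm g.1.2).choose_spec
        rw [g.2] at h1
        rw [h1]; exact mem_zpowers _
      · intro h1
        have h2 : g.1.1 = 1 := congrArg Subtype.val h1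
        have h3 := g.1.2
        rw [h2, orderOf_one] at h3
        exact hp.one_lt.ne h3
      · exact hxo x.1 x.2
      · have h1 := (exists_sylow_eq_zpowers h hm (hxo x.1 x.2)).choose_spec
        apply Sylow.ext
        have h2 : zpowers (x.1.1 : G) = (P : Subgroup G) := by
          apply eq_of_le_of_card_ge (zpowers_le.mpr x.1.2)
          rw [hPc, Nat.card_zpowers, hxo x.1 x.2]
        exact h1.trans h2
    rw [Nat.card_congr e]
    have h1 : Nat.card {x : (P : Subgroup G) // x ≠ 1} + 1 = Nat.card (P : Subgroup G) := by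
      classical
      letI := Fintype.ofFinite (P : Subgroup G)
      rw [Nat.card_eq_fintype_card, Nat.card_eq_fintype_card, Fintype.card_subtype_compl, Fintype.card_subtype_eq]
      have : 0 < Fintype.card (P : Subgroup G) := Fintype.card_pos
      omega
    rw [hPc] at h1
    omega
  exact Count.card_of_fibers (fun g : {g : G // orderOf g = p} => (exists_sylow_eq_zpowers h hm g.2).choose) (p - 1) key

end general

variable {G : Type*} [Group G] [Finite G] [IsSimpleGroup G] (h : Nat.card G = 168)
include h

theorem nc : ¬ IsMulCommutative G := Simple.not_comm_of_not_prime (by rw [h]; norm_num)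

theorem n7 : Nat.card (Sylow 7 G) = 8 := by
  haveI : Fact (Nat.Prime 7) := ⟨by norm_num⟩
  obtain ⟨P⟩ : Nonempty (Sylow 7 G) := inferInstance
  have h1 := Sieve.possC_true (nc h) (p := 7) (k := 1) (m := 24) h (by norm_num) (by norm_num) (by norm_num)
  have h2 := Syl.card_sylow_dvd_of_card P (k := 1) (m := 24) (by rw [h]; norm_num) (by norm_num)
  have h3 : Nat.card (Sylow 7 G) ≤ 24 := Nat.le_of_dvd (by norm_num) h2
  have h4 : (List.range 25).all (fun s => !(Sieve.possC 168 7 1 24 s) || !(s % 7 == 1) || s == 8) = true := by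
    decide +kernel
  have h5 := List.all_eq_true.mp h4 _ (List.mem_range.mpr (Nat.lt_succ_of_le h3))
  have h6 : Nat.card (Sylow 7 G) % 7 = 1 := card_sylow_modEq_one 7 G
  rw [h1, h6] at h5
  simpa using h5

theorem n3 : Nat.card (Sylow 3 G) = 28 := by
  haveI : Fact (Nat.Prime 3) := ⟨by norm_num⟩
  obtain ⟨P⟩ : Nonempty (Sylow 3 G) := inferInstance
  have h1 := Sieve.possC_true (nc h) (p := 3) (k := 1) (m := 56) h (by norm_num) (by norm_num) (by norm_num)
  have h2 := Syl.card_sylow_dvd_of_card P (k := 1) (m := 56) (by rw [h]; norm_num) (by norm_num)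
  have h3 : Nat.card (Sylow 3 G) ≤ 56 := Nat.le_of_dvd (by norm_num) h2
  have h4 : (List.range 57).all (fun s => !(Sieve.possC 168 3 1 56 s) || !(s % 3 == 1) || s == 28) = true := by
    decide +kernel
  have h5 := List.all_eq_true.mp h4 _ (List.mem_range.mpr (Nat.lt_succ_of_le h3))
  have h6 : Nat.card (Sylow 3 G) % 3 = 1 := card_sylow_modEq_one 3 G
  rw [h1, h6] at h5
  simpa using h5

theorem cardN7 (P : Sylow 7 G) : Nat.card (normalizer ((P : Subgroup G) : Set G)) = 21 := by
  haveI : Fact (Nat.Prime 7) := ⟨by norm_num⟩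
  have h1 := Syl.card_normalizer_mul P
  rw [n7 h, h] at h1
  omega

theorem cardN3 (P : Sylow 3 G) : Nat.card (normalizer ((P : Subgroup G) : Set G)) = 6 := by
  haveI : Fact (Nat.Prime 3) := ⟨by norm_num⟩
  have h1 := Syl.card_normalizer_mul P
  rw [n3 h, h] at h1
  omega

theorem cardP7 (P : Sylow 7 G) : Nat.card (P : Subgroup G) = 7 := by
  haveI : Fact (Nat.Prime 7) := ⟨by norm_num⟩
  have := Syl.card_sylow_of_card P (k := 1) (m := 24) (by rw [h]; norm_num) (by norm_num)
  rwa [pow_one] at this

theorem cardP3 (P : Sylow 3 G) : Nat.card (P : Subgroup G) = 3 := by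
  haveI : Fact (Nat.Prime 3) := ⟨by norm_num⟩
  have := Syl.card_sylow_of_card P (k := 1) (m := 56) (by rw [h]; norm_num) (by norm_num)
  rwa [pow_one] at this

theorem cardP2 (P : Sylow 2 G) : Nat.card (P : Subgroup G) = 8 :=
  Syl.card_sylow_of_card P (k := 3) (m := 21) (by rw [h]; norm_num) (by norm_num)

theorem cardC7 {y : G} (hy : orderOf y = 7) : Nat.card (centralizer {y}) = 7 := by
  haveI : Fact (Nat.Prime 7) := ⟨by norm_num⟩
  obtain ⟨P, hP⟩ := exists_sylow_eq_zpowers (m := 24) (by rw [h]; norm_num) (by norm_num) hy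
  have := card_centralizer_of_prime_normalizer (nc h) (d := 3) (by norm_num) (by norm_num) P (cardP7 h P) (cardN7 h P)
  rwa [hP, centralizer_zpowers'] at this

theorem cardC3 {y : G} (hy : orderOf y = 3) : Nat.card (centralizer {y}) = 3 := by
  haveI : Fact (Nat.Prime 3) := ⟨by norm_num⟩
  obtain ⟨P, hP⟩ := exists_sylow_eq_zpowers (m := 56) (by rw [h]; norm_num) (by norm_num) hy
  have := card_centralizer_of_prime_normalizer (nc h) (d := 2) (by norm_num) (by norm_num) P (cardP3 h P) (cardN3 h P)
  rwa [hP, centralizer_zpowers'] at this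

/-- element orders, weak form -/
theorem orders_aux (g : G) : orderOf g = 3 ∨ orderOf g = 7 ∨ orderOf g ∣ 8 := by
  have h0 : orderOf g ∣ 168 := by rw [← h]; exact orderOf_dvd_natCard g
  have key : ∀ p : ℕ, p.Prime → (∀ y : G, orderOf y = p → Nat.card (centralizer {y}) = p) → p ∣ orderOf g → orderOf g = p := by
    intro p hp hC hd
    obtain ⟨m, hm⟩ := hd
    have hy : orderOf (g ^ m) = p := by
      rw [orderOf_pow, hm]
      have : Nat.gcd (p * m) m = m := Nat.gcd_eq_right (Dvd.intro_left p rfl)
      rw [this]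
      have hm0 : 0 < m := Nat.pos_of_ne_zero (by rintro rfl; rw [mul_zero] at hm; exact (orderOf_pos g).ne' hm)
      exact Nat.mul_div_cancel p hm0
    have h1 : g ∈ centralizer {g ^ m} := by
      rw [mem_centralizer_singleton_iff]
      exact ((Commute.refl g).pow_right m)
    have h2 : orderOf (⟨g, h1⟩ : centralizer {g ^ m}) ∣ p := by
      rw [← hC _ hy]; exact orderOf_dvd_natCard _
    rw [orderOf_mk] at h2
    rcases (Nat.dvd_prime hp).mp h2 with h3 | h3
    · rw [h3] at hm
      have := Nat.eq_one_of_mul_eq_one_right hm.symm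
      exact absurd this hp.one_lt.ne'
    · exact h3
  by_cases h3 : 3 ∣ orderOf g
  · exact Or.inl (key 3 (by norm_num) (fun y hy => cardC3 h hy) h3)
  by_cases h7 : 7 ∣ orderOf g
  · exact Or.inr (Or.inl (key 7 (by norm_num) (fun y hy => cardC7 h hy) h7))
  right; right
  have hc : Nat.Coprime (orderOf g) 21 := by
    rw [show 21 = 3 * 7 by norm_num]
    exact Nat.Coprime.mul_right ((Nat.Prime.coprime_iff_not_dvd (by norm_num)).mpr h3).symm
      ((Nat.Prime.coprime_iff_not_dvd (by norm_num)).mpr h7).symm
  rw [show 168 = 8 * 21 by norm_num] at h0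
  exact hc.dvd_of_dvd_mul_right h0

/-- the centralizer of an involution (or any nontrivial 2-element) is a 2-group -/
theorem isPGroup_centralizer {z : G} (hz1 : z ≠ 1) (hz8 : orderOf z ∣ 8) : IsPGroup 2 (centralizer {z}) := by
  intro g
  have hgz : (g : G) * z = z * g := mem_centralizer_singleton_iff.mp g.2
  have hz : z ∈ centralizer {(g : G)} := by
    rw [mem_centralizer_singleton_iff]; exact hgz.symm
  have key : ∀ p : ℕ, p.Prime → p ≠ 2 → orderOf (g : G) = p → Nat.card (centralizer {(g : G)}) = p → False := by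
    intro p hp hp2 ho hc
    have h2 : orderOf (⟨z, hz⟩ : centralizer {(g : G)}) ∣ p := by
      rw [← hc]; exact orderOf_dvd_natCard _
    rw [orderOf_mk] at h2
    have h3 : orderOf z ∣ 1 := by
      have hcop : Nat.Coprime p (2 ^ 3) := ((Nat.coprime_primes hp Nat.prime_two).mpr hp2).pow_right 3
      rw [← hcop]
      exact Nat.dvd_gcd h2 hz8
    exact hz1 (orderOf_eq_one_iff.mp (Nat.dvd_one.mp h3))
  rcases orders_aux h (g : G) with h1 | h1 | h1
  · exact (key 3 (by norm_num) (by norm_num) h1 (cardC3 h h1)).elim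
  · exact (key 7 (by norm_num) (by norm_num) h1 (cardC7 h h1)).elim
  · refine ⟨3, Subtype.ext ?_⟩
    exact orderOf_dvd_iff_pow_eq_one.mp h1

/-- `C(z) = T` for `1 ≠ z ∈ Z(T)` -/
theorem centralizer_eq (T : Sylow 2 G) {z : G} (hzT : z ∈ (T : Subgroup G)) (hz1 : z ≠ 1)
    (hzc : ∀ t ∈ (T : Subgroup G), t * z = z * t) : centralizer {z} = T := by
  have hz8 : orderOf z ∣ 8 := by
    have h1 : orderOf (⟨z, hzT⟩ : (T : Subgroup G)) ∣ Nat.card (T : Subgroup G) := orderOf_dvd_natCard _
    rw [cardP2 h T, orderOf_mk] at h1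
    exact h1
  have h1 := isPGroup_centralizer h hz1 hz8
  exact T.is_maximal' h1 (fun t ht => mem_centralizer_singleton_iff.mpr (hzc t ht))

end Cfsg.Agent.H9.O168
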