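import Cfsg.Agent.H9.ExcQ
import Cfsg.Agent.H9.Ord168A
import Cfsg.Agent.H5.Small
import Cfsg.Agent.S1230

set_option autoImplicit false
set_option linter.unusedSectionVars false
set_option linter.style.haveILetI false
set_option linter.unusedVariables false
set_option linter.unusedSimpArgs false

/-! Counting elements to show that Sylow 2-subgroups are elementary abelian. -/

namespace Cfsg.Agent.H9.CentInv

open Subgroup MulAction
open Cfsg.Agent.H9.O168 (exists_sylow_eq_zpowers card_conj_class card_order_prime)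

section general
variable {G : Type*} [Group G] [Finite G]

/-- if the class of `z` is as large as the set of 2-elements then all 2-elements are involutions -/
theorem exponent_of_count {z : G} (hz : orderOf z = 2) {m : ℕ} (hm : Nat.card (centralizer {z}) * m = Nat.card G)
    (hc : Nat.card {g : G // g ≠ 1 ∧ ∃ k : ℕ, g ^ 2 ^ k = 1} ≤ m) {g : G} (hg : g ≠ 1) (hgk : ∃ k : ℕ, g ^ 2 ^ k = 1) :
    IsConj z g := by
  have h1 := card_conj_class z
  rw [← hm, mul_comm] at h1
  have h2 : Nat.card {g : G // IsConj z g} = m := Nat.eq_of_mul_eq_mul_left Nat.card_pos h1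
  have hsub : {g : G | IsConj z g} ⊆ {g : G | g ≠ 1 ∧ ∃ k : ℕ, g ^ 2 ^ k = 1} := by
    intro g hg
    obtain ⟨c, hc⟩ := isConj_iff.mp hg
    have ho := orderOf_injective (MulAut.conj c).toMonoidHom (MulAut.conj c).injective z
    have ho' : orderOf g = 2 := by
      rw [← hc, ← hz]; exact ho
    refine ⟨?_, 1, ?_⟩
    · intro h3; rw [h3, orderOf_one] at ho'; omega
    · rw [pow_one, ← ho', pow_orderOf_eq_one]
  have heq : {g : G | IsConj z g} = {g : G | g ≠ 1 ∧ ∃ k : ℕ, g ^ 2 ^ k = 1} := by
    apply Set.eq_of_subset_of_ncard_le hsub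
    have : {g : G | IsConj z g}.ncard = m := h2
    rw [this]; exact hc
  have : g ∈ {g : G | g ≠ 1 ∧ ∃ k : ℕ, g ^ 2 ^ k = 1} := ⟨hg, hgk⟩
  rw [← heq] at this
  exact this

/-- the power of `g` of order `p` -/
theorem orderOf_pow_div {p : ℕ} (hp : p.Prime) {g : G} (hg : p ∣ orderOf g) : orderOf (g ^ (orderOf g / p)) = p := by
  obtain ⟨m, hm⟩ := hg
  have hm0 : 0 < m := Nat.pos_of_ne_zero (by rintro rfl; rw [mul_zero] at hm; exact (orderOf_pos g).ne' hm)
  rw [hm, Nat.mul_div_cancel_left m hp.pos, orderOf_pow, hm, Nat.gcd_eq_right (Dvd.intro_left p rfl)]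
  exact Nat.mul_div_cancel p hm0

/-- the `p`-singular elements of `C(P)` -/
theorem card_singular_centralizer {p : ℕ} [Fact p.Prime] {P : Subgroup G} {L e : ℕ}
    {pw : centralizer (P : Set G) →* P} (h : Exc.Setup G p P L e pw) :
    Nat.card {c : centralizer (P : Set G) // p ∣ orderOf c} = p * L - L := by
  letI : Fintype G := Fintype.ofFinite G
  have hp : p.Prime := Fact.out
  have h1 : Nat.card {c : centralizer (P : Set G) // ¬ p ∣ orderOf c} = L := by
    rw [← h.card_ker (G := G)]
    apply Nat.card_congr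
    refine Equiv.subtypeEquivRight (fun c => ?_)
    rw [MonoidHom.mem_ker]
    have hcL : ((pw c : P) : G) = (c : G) ^ L := h.hpw c
    constructor
    · intro hc
      have h2 : orderOf (pw c) ∣ p := by
        have h3 := orderOf_dvd_natCard (pw c)
        rwa [h.hP] at h3
      have h3 : orderOf (pw c) ∣ orderOf c := orderOf_map_dvd pw c
      have h4 : orderOf (pw c) ∣ 1 := by
        have : Nat.Coprime p (orderOf c) := (Nat.Prime.coprime_iff_not_dvd hp).mpr hc
        rw [← this]
        exact Nat.dvd_gcd h2 h3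
      exact orderOf_eq_one_iff.mp (Nat.dvd_one.mp h4)
    · intro hc hd
      rw [hc] at hcL
      have h2 : c ^ L = 1 := Subtype.ext (by push_cast; exact hcL.symm)
      have h3 := hd.trans (orderOf_dvd_of_pow_eq_one h2)
      exact (Nat.Prime.coprime_iff_not_dvd hp).mp h.hpL h3
  have h2 : Nat.card {c : centralizer (P : Set G) // p ∣ orderOf c} +
      Nat.card {c : centralizer (P : Set G) // ¬ p ∣ orderOf c} = Nat.card (centralizer (P : Set G)) := by
    classical
    rw [← Nat.card_sum]
    exact Nat.card_congr (Equiv.sumCompl _)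
  rw [h1, h.hL] at h2
  omega

/-- the number of `p`-singular elements when the Sylow subgroups have order `p` -/
theorem card_singular {p : ℕ} [Fact p.Prime] {m L : ℕ} (hc : Nat.card G = p ^ 1 * m) (hm : ¬ p ∣ m)
    (hset : ∀ P : Sylow p G, ∃ e pw, Exc.Setup G p (P : Subgroup G) L e pw) :
    Nat.card {g : G // p ∣ orderOf g} = Nat.card (Sylow p G) * (p * L - L) := by
  have hp : p.Prime := Fact.out
  have hex : ∀ g : {g : G // p ∣ orderOf g}, ∃ P : Sylow p G, (P : Subgroup G) = zpowers ((g : G) ^ (orderOf (g : G) / p)) :=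
    fun g => exists_sylow_eq_zpowers hc hm (orderOf_pow_div hp g.2)
  refine Count.card_of_fibers (fun g : {g : G // p ∣ orderOf g} => (hex g).choose) (p * L - L) ?_
  intro P
  obtain ⟨e, pw, h⟩ := hset P
  rw [← card_singular_centralizer h]
  refine Nat.card_congr
    { toFun := fun g => ⟨⟨g.1.1, ?_⟩, ?_⟩
      invFun := fun c => ⟨⟨c.1.1, ?_⟩, ?_⟩
      left_inv := fun g => rfl
      right_inv := fun c => rfl }
  · have h1 := (hex g.1).choose_spec
    rw [g.2] at h1
    rw [h1, mem_centralizer_iff]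
    intro x hx
    obtain ⟨k, rfl⟩ := mem_zpowers_iff.mp hx
    exact (((Commute.refl (g.1.1)).pow_left _).zpow_left k)
  · change p ∣ orderOf (⟨g.1.1, _⟩ : centralizer ((P : Subgroup G) : Set G))
    rw [orderOf_mk]; exact g.1.2
  · have := c.2
    rwa [← orderOf_coe] at this
  · have hcd : p ∣ orderOf (c.1 : G) := by
      have := c.2
      rwa [← orderOf_coe] at this
    have h1 := (hex ⟨c.1.1, hcd⟩).choose_spec
    apply Sylow.ext
    refine h1.trans ?_
    -- the element of order `p` in `C(P)` generates `P`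
    set y : G := (c.1 : G) ^ (orderOf (c.1 : G) / p) with hy
    have hyo : orderOf y = p := orderOf_pow_div hp hcd
    have hyC : y ∈ centralizer ((P : Subgroup G) : Set G) := pow_mem c.1.2 _
    have hPc : Nat.card (P : Subgroup G) = p := h.hP
    -- `P ⊔ ⟨y⟩` is a `p`-group
    have hcomm : ∀ x ∈ (P : Subgroup G), x * y = y * x := fun x hx => (mem_centralizer_iff.mp hyC x hx)
    have hle : zpowers y ≤ normalizer ((P : Subgroup G) : Set G) := by
      rw [zpowers_le]
      exact centralizer_le_normalizer _ hyC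
    have hyp : IsPGroup p (zpowers y) := IsPGroup.of_card (n := 1) (by rw [Nat.card_zpowers, hyo, pow_one])
    have hsup : IsPGroup p ((zpowers y) ⊔ (P : Subgroup G) : Subgroup G) :=
      IsPGroup.to_sup_of_normal_right' hyp P.isPGroup' hle
    have h2 : (P : Subgroup G) = (zpowers y) ⊔ (P : Subgroup G) := (P.is_maximal' hsup le_sup_right).symm
    apply eq_of_le_of_card_ge
    · rw [h2]; exact le_sup_left
    · rw [hPc, Nat.card_zpowers, hyo]

/-- counting `p`-elements when the Sylow subgroups intersect trivially -/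
theorem card_pelements {p : ℕ} [Fact p.Prime] {q : ℕ} (hq : ∀ P : Sylow p G, Nat.card (P : Subgroup G) = q)
    (hTI : ∀ P Q : Sylow p G, ∀ g : G, g ≠ 1 → g ∈ (P : Subgroup G) → g ∈ (Q : Subgroup G) → P = Q) :
    Nat.card {g : G // g ≠ 1 ∧ ∃ k : ℕ, g ^ p ^ k = 1} = Nat.card (Sylow p G) * (q - 1) := by
  have hp : p.Prime := Fact.out
  have hex : ∀ g : {g : G // g ≠ 1 ∧ ∃ k : ℕ, g ^ p ^ k = 1}, ∃ P : Sylow p G, (g : G) ∈ (P : Subgroup G) := by
    rintro ⟨g, hg1, k, hk⟩
    have h1 : IsPGroup p (zpowers g) := by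
      obtain ⟨j, _, hj⟩ := (Nat.dvd_prime_pow hp).mp (orderOf_dvd_of_pow_eq_one hk)
      exact IsPGroup.of_card (by rw [Nat.card_zpowers, hj])
    obtain ⟨P, hP⟩ := h1.exists_le_sylow
    exact ⟨P, hP (mem_zpowers g)⟩
  refine Count.card_of_fibers (fun g => (hex g).choose) (q - 1) ?_
  intro P
  have e : {g : {g : G // g ≠ 1 ∧ ∃ k : ℕ, g ^ p ^ k = 1} // (hex g).choose = P} ≃ {x : (P : Subgroup G) // x ≠ 1} := by
    refine
      { toFun := fun g => ⟨⟨g.1.1, ?_⟩, fun h1 => g.1.2.1 (congrArg Subtype.val h1)⟩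
        invFun := fun x => ⟨⟨x.1.1, fun h1 => x.2 (Subtype.ext h1), ?_⟩, ?_⟩
        left_inv := fun g => rfl
        right_inv := fun x => rfl }
    · have h1 := (hex g.1).choose_spec
      rwa [g.2] at h1
    · obtain ⟨k, hk⟩ := P.isPGroup' x.1
      exact ⟨k, congrArg Subtype.val hk⟩
    · exact hTI _ _ x.1.1 (fun h1 => x.2 (Subtype.ext h1)) (hex _).choose_spec x.1.2
  rw [Nat.card_congr e]
  have h1 : Nat.card {x : (P : Subgroup G) // x ≠ 1} + 1 = Nat.card (P : Subgroup G) := by
    classical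
    letI := Fintype.ofFinite (P : Subgroup G)
    rw [Nat.card_eq_fintype_card, Nat.card_eq_fintype_card, Fintype.card_subtype_compl, Fintype.card_subtype_eq]
    have : 0 < Fintype.card (P : Subgroup G) := Fintype.card_pos
    omega
  rw [hq P] at h1
  omega

/-- sum of the sizes of pairwise disjoint sets -/
theorem card_add_le {α : Type*} [Finite α] {p q : α → Prop} (h : ∀ a, p a → ¬ q a) :
    Nat.card {a // p a} + Nat.card {a // q a} = Nat.card {a // p a ∨ q a} := by
  classical
  letI := Fintype.ofFinite α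
  rw [Nat.card_eq_fintype_card, Nat.card_eq_fintype_card, Nat.card_eq_fintype_card]
  rw [Fintype.card_subtype_or_disjoint]
  rw [Pi.disjoint_iff]
  intro a
  rw [disjoint_iff_inf_le]
  rintro ⟨h1, h2⟩
  exact h a h1 h2

theorem card_le {α : Type*} [Finite α] (p : α → Prop) : Nat.card {a // p a} ≤ Nat.card α :=
  Nat.card_le_card_of_injective _ Subtype.val_injective

end general

/-- recognition of `PSL(2, q)` -/
theorem iso_psl {G : Type*} [Group G] [Finite G] [IsSimpleGroup G] (hG : ¬ IsMulCommutative G) (T : Sylow 2 G)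
    (hT : 2 < Nat.card (T : Subgroup G)) (hC : ∀ z : G, orderOf z = 2 → Nat.card (centralizer {z}) = Nat.card (T : Subgroup G))
    (hE : ∀ g : G, (∃ k : ℕ, g ^ 2 ^ k = 1) → g ^ 2 = 1) {F : Type*} [Field F] [Fintype F]
    (hF : Fintype.card F = Nat.card (T : Subgroup G)) : Nonempty (G ≃* Matrix.ProjectiveSpecialLinearGroup (Fin 2) F) := by
  have h2 : ∀ t ∈ (T : Subgroup G), t ^ 2 = 1 := by
    intro t ht
    obtain ⟨k, hk⟩ := T.isPGroup' ⟨t, ht⟩
    exact hE t ⟨k, congrArg Subtype.val hk⟩
  have hnc : ¬ IsCyclic (T : Subgroup G) := by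
    intro hc
    obtain ⟨g, hg⟩ := hc.exists_generator
    have h3 : orderOf g = Nat.card (T : Subgroup G) := orderOf_eq_card_of_forall_mem_zpowers hg
    have h4 : orderOf g ∣ 2 := orderOf_dvd_of_pow_eq_one (Subtype.ext (h2 g g.2))
    have := Nat.le_of_dvd (by norm_num) h4
    omega
  have hd : 2 ∣ Nat.card G := by
    by_contra hcon
    have h3 : Nat.card (T : Subgroup G) = 1 := by
      obtain ⟨k, hk⟩ := IsPGroup.iff_card.mp T.isPGroup'
      rcases Nat.eq_zero_or_pos k with h0 | h0
      · rw [hk, h0, pow_zero]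
      · exfalso
        apply hcon
        exact (dvd_pow_self 2 h0.ne').trans (hk ▸ card_subgroup_dvd_card _)
    omega
  have hnn : ¬ (T : Subgroup G).Normal := Simple.sylow_not_normal hG hd T
  have hcent : ∀ t : G, orderOf t = 2 → IsMulCommutative (centralizer ({t} : Set G)) ∧ ∀ c ∈ centralizer ({t} : Set G), c ^ 2 = 1 := by
    intro t ht
    obtain ⟨k, hk⟩ := IsPGroup.iff_card.mp T.isPGroup'
    have h3 : ∀ c ∈ centralizer ({t} : Set G), c ^ 2 = 1 := by
      intro c hc
      apply hE
      refine ⟨k, ?_⟩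
      have h4 : orderOf (⟨c, hc⟩ : centralizer ({t} : Set G)) ∣ 2 ^ k := by
        rw [← hk, ← hC t ht]; exact orderOf_dvd_natCard _
      rw [orderOf_mk] at h4
      exact orderOf_dvd_iff_pow_eq_one.mp h4
    refine ⟨?_, h3⟩
    rw [isMulCommutative_iff]
    intro x y
    apply Subtype.ext
    have hx := h3 x x.2
    have hy := h3 y y.2
    have hxy := h3 (x * y : centralizer ({t} : Set G)) (x * y).2
    rw [pow_two] at hx hy hxy
    have h4 : (x : G)⁻¹ = x := inv_eq_of_mul_eq_one_right hx
    have h5 : (y : G)⁻¹ = y := inv_eq_of_mul_eq_one_right hy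
    push_cast at hxy ⊢
    have h6 : ((x : G) * y)⁻¹ = x * y := inv_eq_of_mul_eq_one_right hxy
    rw [← h6, mul_inv_rev, h4, h5]
  obtain ⟨F', hF', hFt, hFc, ⟨e⟩⟩ := S1230.result T hnc hnn hcent
  have hcard : Fintype.card F' = Fintype.card F := by rw [hFc, hF]
  exact ⟨e.trans (H5.PSLCongr (FiniteField.ringEquivOfCardEq hcard))⟩

end Cfsg.Agent.H9.CentInv
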