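import Cfsg.Agent.H9.SPrC
import Cfsg.Agent.H9.ExcG
import Cfsg.Agent.H3.CohB

set_option autoImplicit false
set_option linter.unusedSectionVars false
set_option linter.style.haveILetI false
set_option linter.unusedVariables false
set_option linter.unusedSimpArgs false

/-! Irreducible characters of degree `p - 1` of groups with a self-centralizing Sylow subgroup of order `p`. -/

open Cfsg
open scoped ComplexConjugate

namespace Cfsg.Agent.H9.SPr

open Subgroup Exc

universe u

theorem dvd_sum_of_orbits {Γ α : Type*} [Group Γ] [MulAction Γ α] [Fintype α] (d : ℤ) (f : α → ℤ)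
    (hf : ∀ (g : Γ) a, f (g • a) = f a) (h : ∀ a : α, d ∣ (Nat.card (MulAction.orbit Γ a) : ℤ)) : d ∣ ∑ a, f a := by
  classical
  letI : Fintype (MulAction.orbitRel.Quotient Γ α) := Fintype.ofFinite _
  rw [← Finset.sum_fiberwise Finset.univ (fun a => (Quotient.mk'' a : MulAction.orbitRel.Quotient Γ α)) f]
  apply Finset.dvd_sum
  intro q _
  induction q using Quotient.inductionOn' with
  | h a0 =>
    have h1 : ∀ a ∈ Finset.univ.filter (fun a => (Quotient.mk'' a : MulAction.orbitRel.Quotient Γ α) = Quotient.mk'' a0),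
        f a = f a0 := by
      intro a ha
      rw [Finset.mem_filter] at ha
      have h2 := Quotient.exact' ha.2
      obtain ⟨g, hg⟩ := h2
      rw [← hg]
      exact hf g a0
    rw [Finset.sum_congr rfl h1, Finset.sum_const, nsmul_eq_mul]
    have h3 : ((Finset.univ.filter (fun a => (Quotient.mk'' a : MulAction.orbitRel.Quotient Γ α) = Quotient.mk'' a0)).card : ℕ) =
        Nat.card (MulAction.orbit Γ a0) := by
      rw [← Fintype.card_subtype, ← Nat.card_eq_fintype_card]
      apply Nat.card_congr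
      refine Equiv.subtypeEquivRight (fun a => ?_)
      rw [Quotient.eq'']
      rfl
    rw [h3]
    exact Dvd.dvd.mul_right (h a0) _

variable {G : Type u} [Group G] [Fintype G] {p : ℕ} [Fact p.Prime] {P : Subgroup G}

/-- no constituent `1_P` in the restriction to `P` -/
theorem no_fixed (hP : Nat.card P = p) (hC : centralizer (P : Set G) = P) {e : ℕ}
    (hN : Nat.card (normalizer (P : Set G)) = p * e) (he : 2 ≤ e) (hed : e ∣ p - 1) [Fintype P] {χ : G → ℂ}
    (hχ : IsIrrCharacter G χ) (hd : χ 1 = ((p - 1 : ℕ) : ℂ)) (hne : χ ≠ fun _ => 1) :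
    classInner (fun y : P => χ y) (fun _ => 1) = 0 := by
  classical
  have hpp : p.Prime := Fact.out
  have hp0 : (p : ℂ) ≠ 0 := by exact_mod_cast hpp.ne_zero
  have hχc := H3.irr_isChar hχ
  have hχf := H3.irr_classFun hχ
  haveI := finite_hom (P := P)
  letI : Fintype (P →* ℂˣ) := Fintype.ofFinite _
  obtain ⟨a, ha⟩ := H3.classInner_char_nat (H3.isChar_restrict P hχc) (H3.isChar_one (G := P))
  have hb : ∀ μ : P →* ℂˣ, ∃ b : ℕ, classInner (fun y : P => χ y) (fun y : P => (μ y : ℂ)) = b := fun μ =>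
    H3.classInner_char_nat (H3.isChar_restrict P hχc) (H3.irr_isChar (H3.isIrr_of_hom μ))
  choose b hb using hb
  have hb1 : b 1 = a := by
    have h1 := hb 1
    have h2 : (fun y : P => (((1 : P →* ℂˣ) y : ℂˣ) : ℂ)) = fun _ => 1 := by ext y; simp
    rw [h2, ha] at h1
    exact_mod_cast h1.symm
  have hph : ∀ μ : P →* ℂˣ, classInner (fun y : P => χ y) (ph P μ) = (a : ℂ) - b μ := by
    intro μ
    have h0 : ph P μ = (fun y : P => (1 : ℂ)) - (fun y : P => (μ y : ℂ)) := by
      ext y; simp [ph]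
    rw [h0, H3.classInner_sub_right, ha, hb]
  have hinv : ∀ (μ : P →* ℂˣ) (n : normalizer (P : Set G)), b (cj P μ n) = b μ := by
    intro μ n
    have h1 := ph_cj_inner hχf μ n
    rw [hph, hph] at h1
    have h2 : (b (cj P μ n) : ℂ) = b μ := by linear_combination -h1
    exact_mod_cast h2
  -- the total
  have hsum : ∑ μ : P →* ℂˣ, (b μ : ℂ) = ((p - 1 : ℕ) : ℂ) := by
    have h1 : ∑ μ : P →* ℂˣ, (b μ : ℂ) = classInner (fun y : P => χ y) (∑ μ : P →* ℂˣ, fun y : P => (μ y : ℂ)) := by
      rw [H3.classInner_sum_right]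
      exact Finset.sum_congr rfl fun μ _ => (hb μ).symm
    rw [h1]
    have h2 : (∑ μ : P →* ℂˣ, fun y : P => (μ y : ℂ)) = fun y : P => if y = 1 then (p : ℂ) else 0 := by
      ext y
      rw [Finset.sum_apply, sum_hom hP]
    rw [h2]
    simp only [classInner]
    have h3 : ∀ y : P, χ y * conj (if y = 1 then (p : ℂ) else 0) = if y = 1 then (p : ℂ) * χ 1 else 0 := by
      intro y
      by_cases hy : y = 1
      · rw [if_pos hy, if_pos hy, hy]; simp [mul_comm]
      · rw [if_neg hy, if_neg hy]; simp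
    rw [Finset.sum_congr rfl fun y _ => h3 y, Finset.sum_ite_eq', if_pos (Finset.mem_univ _), hP, ← mul_assoc,
      inv_mul_cancel₀ hp0, one_mul, hd]
  have hsumN : ∑ μ : P →* ℂˣ, b μ = p - 1 := by exact_mod_cast hsum
  have hsum' : a + ∑ μ : {μ : P →* ℂˣ // μ ≠ 1}, b μ.1 = p - 1 := by
    rw [← hsumN, ← hb1]
    rw [← Finset.add_sum_erase _ _ (Finset.mem_univ (1 : P →* ℂˣ))]
    congr 1
    symm
    exact Finset.sum_subtype _ (fun μ => by simp) b
  -- divisibility
  have hdvd : (e : ℤ) ∣ ∑ μ : {μ : P →* ℂˣ // μ ≠ 1}, (b μ.1 : ℤ) := by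
    letI := actX P
    apply dvd_sum_of_orbits (Γ := normalizer (P : Set G))
    · intro n μ
      have h1 : (n • μ).1 = cj P μ.1 n⁻¹ := rfl
      rw [h1, hinv]
    · intro μ
      have hstab : MulAction.stabilizer (normalizer (P : Set G)) μ = P.subgroupOf _ := by
        ext n
        rw [MulAction.mem_stabilizer_iff, mem_subgroupOf]
        have h1 : n • μ = μ ↔ cj P μ.1 n⁻¹ = μ.1 := by
          constructor
          · intro h
            exact congrArg Subtype.val h
          · intro h; exact Subtype.ext h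
        rw [h1, cj_eq_self_iff hP μ.2, hC]
        simp
      have hidx : (P.subgroupOf (normalizer (P : Set G))).index = e := by
        have h1 := card_mul_index (P.subgroupOf (normalizer (P : Set G)))
        rw [Nat.card_congr (subgroupOfEquivOfLe (le_normalizer : P ≤ normalizer (P : Set G))).toEquiv, hP, hN] at h1
        exact Nat.eq_of_mul_eq_mul_left hpp.pos h1
      rw [Count.card_orbit_eq_index, hstab, hidx]
  have hdvdN : e ∣ ∑ μ : {μ : P →* ℂˣ // μ ≠ 1}, b μ.1 := by exact_mod_cast hdvd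
  have hea : e ∣ a := by
    rw [← hsum'] at hed
    exact (Nat.dvd_add_left hdvdN).mp hed
  have hcardX : Fintype.card {μ : P →* ℂˣ // μ ≠ 1} = p - 1 := by
    rw [Fintype.card_subtype_compl, Fintype.card_subtype_eq, ← Nat.card_eq_fintype_card, card_hom hP]
  rcases Nat.eq_zero_or_pos a with h0 | hapos
  · have : classInner (fun y : P => χ y) (fun _ => 1) = a := ha
    rw [this, h0]; simp
  · exfalso
    have hae : e ≤ a := Nat.le_of_dvd hapos hea
    -- all multiplicities are positive
    have hpos : ∀ μ : {μ : P →* ℂˣ // μ ≠ 1}, 1 ≤ b μ.1 := by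
      rintro ⟨μ, hμ⟩
      by_contra hcon
      have hbμ : b μ = 0 := by
        change ¬ (1 ≤ b μ) at hcon
        omega
      set θ : G → ℂ := indFun P (ph P μ) with hθ
      have hg := gram hP hμ hμ
      have hcc : Nat.card {n : normalizer (P : Set G) // cj P μ n = μ} = p := by
        rw [← hP]
        refine Nat.card_congr
          { toFun := fun n => ⟨n.1.1, by
              have := (cj_eq_self_iff hP hμ n.1).mp n.2
              rwa [hC] at this⟩
            invFun := fun y => ⟨⟨y.1, le_normalizer y.2⟩, (cj_eq_self_iff hP hμ _).mpr (by rw [hC]; exact y.2)⟩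
            left_inv := fun n => rfl
            right_inv := fun y => rfl }
      rw [hN, hcc] at hg
      have hnorm : classInner θ θ = (e : ℂ) + 1 := by
        apply mul_left_cancel₀ hp0
        rw [hθ, hg]; push_cast; ring
      have hθχ : classInner θ χ = (a : ℂ) := by
        rw [hθ, H3.frobenius_reciprocity P _ hχf, ← H3.classInner_conj_symm, hph, hbμ]
        simp
      have hχθ : classInner χ θ = (a : ℂ) := by
        rw [← H3.classInner_conj_symm, hθχ]; simp
      have h1f : IsClassFunction G (fun _ : G => (1 : ℂ)) := fun _ _ => rfl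
      have hθ1 : classInner θ (fun _ => 1) = 1 := by
        rw [hθ, H3.frobenius_reciprocity P _ h1f]
        have h0 : ph P μ = (fun y : P => (((1 : P →* ℂˣ) y : ℂˣ) : ℂ)) - (fun y : P => (μ y : ℂ)) := by
          ext y; simp [ph]
        have h2 : (fun _ : P => (1 : ℂ)) = fun y : P => (((1 : P →* ℂˣ) y : ℂˣ) : ℂ) := by ext y; simp
        have h3 : (fun h : P => (fun _ : G => (1 : ℂ)) h) = fun y : P => (((1 : P →* ℂˣ) y : ℂˣ) : ℂ) := h2
        rw [h3, h0, H3.classInner_sub_left, lin_inner, lin_inner, if_pos rfl, if_neg hμ, sub_zero]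
      have h1θ : classInner (fun _ => 1) θ = 1 := by
        rw [← H3.classInner_conj_symm, hθ1]; simp
      have hχχ := H3.classInner_self_of_irr hχ
      have h11 : classInner (fun _ : G => (1 : ℂ)) (fun _ => 1) = 1 := H3.classInner_self_of_irr H3.isIrr_one
      have hχ1 : classInner χ (fun _ => 1) = 0 := by
        rw [H3.classInner_irr hχ H3.isIrr_one, if_neg hne]
      have h1χ : classInner (fun _ => 1) χ = 0 := by
        rw [H3.classInner_irr H3.isIrr_one hχ, if_neg hne.symm]
      have hfin := H3.classInner_self_re_nonneg (θ - (fun _ => 1) - (a : ℂ) • χ)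
      have hcalc : classInner (θ - (fun _ => 1) - (a : ℂ) • χ) (θ - (fun _ => 1) - (a : ℂ) • χ) =
          (e : ℂ) - (a : ℂ) ^ 2 := by
        simp only [H3.classInner_sub_left, H3.classInner_sub_right, H3.classInner_smul_left,
          H3.classInner_smul_right, hnorm, hθχ, hχθ, hθ1, h1θ, hχχ, h11, hχ1, h1χ, Complex.conj_natCast]
        ring
      rw [hcalc] at hfin
      have h5 : (0 : ℝ) ≤ (e : ℝ) - (a : ℝ) ^ 2 := by
        have : ((e : ℂ) - (a : ℂ) ^ 2) = (((e : ℝ) - (a : ℝ) ^ 2 : ℝ) : ℂ) := by push_cast; ring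
        rwa [this, Complex.ofReal_re] at hfin
      have h6 : (a : ℝ) ^ 2 ≤ e := by linarith
      have h7 : a ^ 2 ≤ e := by exact_mod_cast h6
      have h8 : a * 2 ≤ a * a := Nat.mul_le_mul_left a (he.trans hae)
      nlinarith
    have h1 : ∑ μ : {μ : P →* ℂˣ // μ ≠ 1}, 1 ≤ ∑ μ : {μ : P →* ℂˣ // μ ≠ 1}, b μ.1 :=
      Finset.sum_le_sum fun μ _ => hpos μ
    rw [Finset.sum_const, Finset.card_univ, hcardX, smul_eq_mul, mul_one] at h1
    omega

/-- vanishing outside `P` in the normalizer -/
theorem vanish (hP : Nat.card P = p) (hC : centralizer (P : Set G) = P) [Fintype P] {χ : G → ℂ}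
    (hχ : IsCharacter G χ) (h0 : classInner (fun y : P => χ y) (fun _ => 1) = 0) {z : G}
    (hz : z ∈ normalizer (P : Set G)) (hzP : z ∉ P) : χ z = 0 := by
  classical
  have hpp : p.Prime := Fact.out
  have hp0 : (p : ℂ) ≠ 0 := by exact_mod_cast hpp.ne_zero
  have hχf := H3.char_classFun hχ
  have hχr := H3.isChar_restrict P hχ
  obtain ⟨n, ρ, rfl⟩ := hχ
  haveI : IsMulCommutative P := isMulComm_of_card hP
  haveI : NeZero (Nat.card P : ℂ) := ⟨by rw [hP]; exact hp0⟩
  obtain ⟨ι, hι, b, μ, hμ⟩ := H3.exists_simul_eigenbasis (k := ℂ) (A := P) (V := Fin n → ℂ) (ρ.comp P.subtype)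
  -- the character on `P`
  have hchar : ∀ y : P, ρ.character (y : G) = ∑ i, ((μ i y : ℂˣ) : ℂ) := by
    intro y
    rw [Representation.character, LinearMap.trace_eq_matrix_trace ℂ b, Matrix.trace]
    apply Finset.sum_congr rfl
    intro i _
    rw [Matrix.diag_apply, LinearMap.toMatrix_apply]
    have h3 : ρ (y : G) (b i) = ((μ i y : ℂˣ) : ℂ) • b i := hμ y i
    rw [h3]
    simp
  -- no trivial constituents
  have hne : ∀ i, μ i ≠ 1 := by
    have h1 : classInner (fun y : P => ρ.character (y : G)) (fun _ => 1) =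
        ∑ i, classInner (fun y : P => ((μ i y : ℂˣ) : ℂ)) (fun y : P => (((1 : P →* ℂˣ) y : ℂˣ) : ℂ)) := by
      rw [← H3.classInner_sum_left]
      congr 1
      ext y
      rw [hchar, Finset.sum_apply]
    rw [h0] at h1
    rw [Finset.sum_congr rfl fun i _ => lin_inner (μ i) 1, Finset.sum_boole] at h1
    have h2 : (Finset.univ.filter (fun i => μ i = 1)).card = 0 := by exact_mod_cast h1.symm
    intro i hi
    rw [Finset.card_eq_zero] at h2
    have : i ∈ Finset.univ.filter (fun i => μ i = 1) := by simp [hi]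
    rw [h2] at this
    simp at this
  -- the sum over P of ρ vanishes
  have hE : ∑ y : P, ρ (y : G) = 0 := by
    apply b.ext
    intro i
    rw [LinearMap.sum_apply]
    have h3 : ∀ y : P, ρ (y : G) (b i) = ((μ i y : ℂˣ) : ℂ) • b i := fun y => hμ y i
    rw [Finset.sum_congr rfl fun y _ => h3 y, ← Finset.sum_smul]
    have h4 : ∑ y : P, ((μ i y : ℂˣ) : ℂ) = 0 := by
      obtain ⟨w, hw⟩ : ∃ w : P, (μ i w : ℂ) ≠ 1 := by
        by_contra hcon
        push Not at hcon
        exact hne i (by ext w; exact hcon w)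
      have h5 : (μ i w : ℂ) * ∑ y : P, ((μ i y : ℂˣ) : ℂ) = ∑ y : P, ((μ i y : ℂˣ) : ℂ) := by
        rw [Finset.mul_sum]
        refine Fintype.sum_equiv (Equiv.mulLeft w) _ _ fun y => ?_
        simp
      have h6 : ((μ i w : ℂ) - 1) * ∑ y : P, ((μ i y : ℂˣ) : ℂ) = 0 := by rw [sub_mul, h5, one_mul, sub_self]
      rcases mul_eq_zero.mp h6 with h7 | h7
      · exact absurd (sub_eq_zero.mp h7) hw
      · exact h7
    rw [h4, zero_smul]; simp
  have h5 : ∑ y : P, ρ.character (z * y) = 0 := by
    have h6 : ∀ y : P, ρ.character (z * y) = LinearMap.trace ℂ _ (ρ z * ρ (y : G)) := by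
      intro y
      rw [Representation.character, map_mul]
    rw [Finset.sum_congr rfl fun y _ => h6 y, ← map_sum, ← Finset.mul_sum, hE, mul_zero, map_zero]
  -- conjugation
  have hmem : ∀ u : P, z⁻¹ * (u : G) * z * (u : G)⁻¹ ∈ P := by
    intro u
    have h6 := (mem_normalizer_iff.mp (inv_mem hz) (u : G)).mp u.2
    rw [inv_inv] at h6
    exact mul_mem h6 (inv_mem u.2)
  have hinj : Function.Injective (fun u : P => (⟨z⁻¹ * (u : G) * z * (u : G)⁻¹, hmem u⟩ : P)) := by
    intro u v huv
    have h6 : z⁻¹ * (u : G) * z * (u : G)⁻¹ = z⁻¹ * (v : G) * z * (v : G)⁻¹ := congrArg Subtype.val huv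
    have h7 : ((v : G)⁻¹ * u) * z = z * ((v : G)⁻¹ * u) := by
      have hcomm : (u : G)⁻¹ * v = v * (u : G)⁻¹ := by
        have := isMulCommutative_iff.mp (inferInstance : IsMulCommutative P) u⁻¹ v
        exact congrArg Subtype.val this
      calc ((v : G)⁻¹ * u) * z = (v : G)⁻¹ * z * (z⁻¹ * (u : G) * z * (u : G)⁻¹) * u := by group
        _ = (v : G)⁻¹ * z * (z⁻¹ * (v : G) * z * (v : G)⁻¹) * u := by rw [h6]
        _ = z * ((v : G)⁻¹ * u) := by group
    by_contra hne'
    have h8 : (v : G)⁻¹ * u ≠ 1 := by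
      intro h
      exact hne' (Subtype.ext (inv_mul_eq_one.mp h).symm)
    have h9 : zpowers ((v : G)⁻¹ * u) = P := Simple.zpowers_eq_of_card hP (mul_mem (inv_mem v.2) u.2) h8
    apply hzP
    rw [← hC, mem_centralizer_iff]
    intro w hw
    rw [SetLike.mem_coe, ← h9] at hw
    obtain ⟨k, rfl⟩ := mem_zpowers_iff.mp hw
    exact (show Commute ((v : G)⁻¹ * u) z from h7).zpow_left k
  have hbij := Finite.injective_iff_bijective.mp hinj
  have h6 : ∑ y : P, ρ.character (z * y) = (p : ℂ) * ρ.character z := by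
    have h7 : ∑ y : P, ρ.character (z * y) = ∑ u : P, ρ.character z := by
      symm
      refine Fintype.sum_equiv (Equiv.ofBijective _ hbij) _ _ fun u => ?_
      change ρ.character z = ρ.character (z * (z⁻¹ * (u : G) * z * (u : G)⁻¹))
      have h8 : z * (z⁻¹ * (u : G) * z * (u : G)⁻¹) = (u : G) * z * (u : G)⁻¹ := by group
      rw [h8]
      exact (hχf z u).symm
    rw [h7, Finset.sum_const, Finset.card_univ, ← Nat.card_eq_fintype_card, hP, nsmul_eq_mul]
  rw [h5] at h6
  exact (mul_eq_zero.mp h6.symm).resolve_left hp0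

end Cfsg.Agent.H9.SPr
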