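import Cfsg.Agent.H9.BRF
import Cfsg.Agent.H9.SPrD
import Cfsg.Agent.H9.CentInv
import Cfsg.Agent.H3.BrauerA

set_option autoImplicit false
set_option linter.unusedSectionVars false
set_option linter.style.haveILetI false
set_option linter.unusedVariables false
set_option linter.unusedSimpArgs false

/-! Fixed points of the elements of `N(P)`. -/

open Cfsg
open scoped ComplexConjugate

namespace Cfsg.Agent.H9.BR

open Subgroup Exc

universe u

variable {G : Type u} [Group G] [Fintype G] {p : ℕ} [Fact p.Prime] {P : Subgroup G} {L e n t : ℕ}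
  {pw : centralizer (P : Set G) →* P} {X : Finset (IrrCharacter G)} {ε : IrrCharacter G → ℤ} {δ : ℤ}
  {η : Fin t → IrrCharacter G} {rep : Fin t → (P →* ℂˣ)}

/-- multiplicity in the induced characters -/
noncomputable def mm (μ : KK P →* ℂˣ) (ψ : IrrCharacter G) : ℕ :=
  (H3.classInner_char_nat (ind_isChar (P := P) μ) (H3.irr_isChar ψ.2)).choose

theorem mm_spec (μ : KK P →* ℂˣ) (ψ : IrrCharacter G) : classInner (ind μ) (ψ : G → ℂ) = mm μ ψ :=
  (H3.classInner_char_nat (ind_isChar (P := P) μ) (H3.irr_isChar ψ.2)).choose_spec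

theorem mm_spec' (μ : KK P →* ℂˣ) (ψ : IrrCharacter G) : classInner (ψ : G → ℂ) (ind μ) = mm μ ψ := by
  rw [← H3.classInner_conj_symm, mm_spec, Complex.conj_natCast]

theorem mm_expand [Fintype (IrrCharacter G)] (μ : KK P →* ℂˣ) (g : G) :
    ind μ g = ∑ ψ : IrrCharacter G, (mm μ ψ : ℂ) * (ψ : G → ℂ) g := by
  rw [H3.classFun_expand_apply (H3.char_classFun (ind_isChar μ)) g]
  apply Finset.sum_congr rfl
  intro ψ _
  rw [mm_spec]

theorem lam_eq_one {μ : KK P →* ℂˣ} (h : lam μ = 1) : μ = 1 := by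
  ext x
  obtain ⟨m, hm⟩ := (P.normalizerMonoidHom).rangeRestrict_surjective x
  have := congrArg (fun f : normalizer (P : Set G) →* ℂˣ => f m) h
  simp only [lam, MonoidHom.comp_apply, hm] at this
  rw [this]; rfl

open scoped Classical in
theorem mm_triv (μ : KK P →* ℂˣ) : mm μ (triv G) = if μ = 1 then 1 else 0 := by
  letI : Fintype (normalizer (P : Set G)) := Fintype.ofFinite _
  have h1 := mm_spec' μ (triv G)
  rw [ind, H3.frobenius_reciprocity' _ _ (H3.irr_classFun (triv G).2)] at h1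
  have h2 : (fun c : normalizer (P : Set G) => ((triv G : IrrCharacter G) : G → ℂ) c) =
      fun c => (((1 : normalizer (P : Set G) →* ℂˣ) c : ℂˣ) : ℂ) := by
    ext c
    simp [triv]
  rw [h2, H3.classInner_irr (H3.isIrr_of_hom _) (H3.isIrr_of_hom _)] at h1
  by_cases hμ : μ = 1
  · rw [if_pos hμ]
    rw [if_pos (by rw [hμ, lam_one])] at h1
    exact_mod_cast h1.symm
  · rw [if_neg hμ]
    rw [if_neg (fun h' => hμ (lam_eq_one (H3.hom_coe_injective h').symm))] at h1
    exact_mod_cast h1.symm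

theorem inner_sub {H : Subgroup G} [Fintype H] [Fintype P] (hH : H = P) (ψ : G → ℂ) :
    classInner (fun c : H => ψ c) (fun _ => 1) = classInner (fun c : P => ψ c) (fun _ => 1) := by
  subst hH
  congr!

section Main
variable (B : Base G p P L e n pw) (D : Data G p P L e t pw X ε δ η rep)

include B in
theorem mm_deg [Fintype (IrrCharacter G)] (μ : KK P →* ℂˣ) :
    ∑ ψ : IrrCharacter G, mm μ ψ * dg ψ = 1 + n * p := by
  have h1 := mm_expand μ (1 : G)
  rw [ind_one_apply, B.hidx] at h1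
  have h2 : ((∑ ψ : IrrCharacter G, mm μ ψ * dg ψ : ℕ) : ℂ) = ((1 + n * p : ℕ) : ℂ) := by
    rw [h1]; push_cast
    apply Finset.sum_congr rfl
    intro ψ _
    rw [dg_spec]
  exact_mod_cast h2

include B in
theorem mm_full {μ : KK P →* ℂˣ} {χ : IrrCharacter G} (hχ : dg χ = 1 + n * p) (h : mm μ χ ≠ 0) :
    mm μ χ = 1 ∧ ∀ ψ, ψ ≠ χ → mm μ ψ = 0 := by
  classical
  have h1 : classInner (χ : G → ℂ) (ind μ) ≠ 0 := by
    rw [mm_spec']; exact_mod_cast h
  have h2 := (of_constituent B h1).2 hχ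
  constructor
  · have h3 := mm_spec μ χ
    rw [h2, H3.classInner_self_of_irr χ.2] at h3
    exact_mod_cast h3.symm
  · intro ψ hψ
    have h3 := mm_spec μ ψ
    rw [h2, H3.classInner_irr', if_neg (Ne.symm hψ)] at h3
    exact_mod_cast h3.symm

include B D in
theorem mm_V (μ : KK P →* ℂˣ) (i : Fin t) : ∑ χ ∈ X, ε χ * (mm μ χ : ℤ) - δ * mm μ (η i) = 1 := by
  have h1 := inner_VP D.st (H3.char_classFun (ind_isChar μ)) (ind_VP D.st B.hNP μ) (D.rep_ne i)
  rw [D.V i, H3.classInner_sub_right, H3.classInner_sum_right, H3.classInner_smul_right, mm_spec, map_intCast] at h1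
  have h2 : ∀ χ ∈ X, classInner (ind μ) ((ε χ : ℂ) • (χ : G → ℂ)) = ((ε χ * (mm μ χ : ℤ) : ℤ) : ℂ) := by
    intro χ _
    rw [H3.classInner_smul_right, mm_spec, map_intCast]
    push_cast; rfl
  rw [Finset.sum_congr rfl h2] at h1
  exact_mod_cast h1

include B D in
open scoped Classical in
theorem mm_split (ht : 2 ≤ t) (f : IrrCharacter G → ℤ) : ∑ χ ∈ X, ε χ * f χ =
    f (triv G) + ∑ χ ∈ X.filter (fun χ => ε χ = 1 ∧ χ ≠ triv G), f χ - ∑ χ ∈ X.filter (fun χ => ε χ = -1), f χ := by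
  obtain ⟨hX1, hε1⟩ := triv_mem D ht
  have key : ∀ χ ∈ X, ε χ * f χ = (if χ = triv G then f χ else 0) + (if ε χ = 1 ∧ χ ≠ triv G then f χ else 0) -
      (if ε χ = -1 then f χ else 0) := by
    intro χ hχ
    by_cases h3 : χ = triv G
    · subst h3; simp [hε1]
    · rcases (D.hε χ hχ).1 with h4 | h4
      · simp [h3, h4]
      · simp [h3, h4]
  rw [Finset.sum_congr rfl key, Finset.sum_sub_distrib, Finset.sum_add_distrib, Finset.sum_ite_eq' X (triv G),
    if_pos hX1, Finset.sum_filter, Finset.sum_filter]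

open scoped Classical in
/-- the nontrivial characters of degree `1 + n p` in the principal block -/
noncomputable def Xp (X : Finset (IrrCharacter G)) (ε : IrrCharacter G → ℤ) : Finset (IrrCharacter G) :=
  X.filter (fun χ => ε χ = 1 ∧ χ ≠ triv G)

include B D in
theorem dg_Xp {χ : IrrCharacter G} (hχ : χ ∈ Xp X ε) : dg χ = 1 + n * p ∧ χ ≠ triv G ∧ VP pw (χ : G → ℂ) 1 := by
  classical
  rw [Xp, Finset.mem_filter] at hχ
  have h2 := (D.hε χ hχ.1).2
  rw [hχ.2.1] at h2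
  have h3 : VP pw (χ : G → ℂ) 1 := by simpa using h2
  exact ⟨(deg_plus B h3 hχ.2.2).1, hχ.2.2, h3⟩

include B D in
/-- degree count for the exceptional characters -/
theorem deg_count [Fintype (IrrCharacter G)] (ht : 2 ≤ t) {s : ℕ} (hs : ∀ i, (dg (η i) : ℤ) = s * p + δ * e)
    (hst : δ = -1 → n + 1 = s * t) (hδ : δ = -1) {μ : KK P →* ℂˣ} (hμ : ∀ i, mm μ (η i) ≠ 0) {ψ : IrrCharacter G}
    (hψ : ∀ i, ψ ≠ η i) : mm μ ψ = 0 := by
  classical
  by_contra hne
  have h1 := mm_deg B μ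
  have h2 : ∑ φ ∈ insert ψ (Finset.univ.image η), mm μ φ * dg φ ≤ ∑ φ : IrrCharacter G, mm μ φ * dg φ :=
    Finset.sum_le_sum_of_subset (Finset.subset_univ _)
  rw [Finset.sum_insert (by
    rw [Finset.mem_image]; rintro ⟨i, -, hi⟩; exact hψ i hi.symm), Finset.sum_image (fun i _ j _ h => D.inj h), h1] at h2
  have h3 : ∑ i : Fin t, dg (η i) ≤ ∑ i : Fin t, mm μ (η i) * dg (η i) := by
    apply Finset.sum_le_sum
    intro i _
    exact Nat.le_mul_of_pos_left _ (Nat.pos_of_ne_zero (hμ i))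
  have h4 : ((∑ i : Fin t, dg (η i) : ℕ) : ℤ) = 1 + n * p := by
    push_cast
    rw [Finset.sum_congr rfl fun i _ => hs i, Finset.sum_const, Finset.card_univ, Fintype.card_fin, nsmul_eq_mul, hδ]
    have h5 := D.hte
    have h6 : (t : ℤ) * e = p - 1 := by
      have : ((t * e : ℕ) : ℤ) = ((p - 1 : ℕ) : ℤ) := by rw [h5]
      push_cast [Nat.cast_sub (Fact.out : p.Prime).one_le] at this
      exact this
    have h7 : (n : ℤ) + 1 = s * t := by exact_mod_cast hst hδ
    linear_combination (-(p : ℤ)) * h7 - h6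
  have h5 : ∑ i : Fin t, dg (η i) = 1 + n * p := by exact_mod_cast h4
  have h6 : 0 < mm μ ψ * dg ψ := Nat.mul_pos (Nat.pos_of_ne_zero hne) (dg_pos ψ)
  omega

include B D in
theorem mm_one [Fintype (IrrCharacter G)] (ht : 2 ≤ t) {s : ℕ} (hs : ∀ i, (dg (η i) : ℤ) = s * p + δ * e)
    (hst : δ = -1 → n + 1 = s * t) : (∀ χ ∈ Xp X ε, mm (1 : KK P →* ℂˣ) χ = 0) ∧ ∀ i, mm (1 : KK P →* ℂˣ) (η i) = 0 := by
  classical
  have h1 : ∀ χ ∈ Xp X ε, mm (1 : KK P →* ℂˣ) χ = 0 := by
    intro χ hχ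
    by_contra hne
    obtain ⟨h2, h3, -⟩ := dg_Xp B D hχ
    have h4 := (mm_full B h2 hne).2 (triv G) (Ne.symm h3)
    rw [mm_triv, if_pos rfl] at h4
    exact one_ne_zero h4
  refine ⟨h1, fun i => ?_⟩
  have hV : ∀ i, (∑ χ ∈ X.filter (fun χ => ε χ = -1), (mm (1 : KK P →* ℂˣ) χ : ℤ)) + δ * mm (1 : KK P →* ℂˣ) (η i) = 0 := by
    intro i
    have h2 := mm_V B D (1 : KK P →* ℂˣ) i
    rw [mm_split B D ht (fun χ => (mm (1 : KK P →* ℂˣ) χ : ℤ)), mm_triv, if_pos rfl] at h2
    have h3 : ∑ χ ∈ X.filter (fun χ => ε χ = 1 ∧ χ ≠ triv G), (mm (1 : KK P →* ℂˣ) χ : ℤ) = 0 := by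
      apply Finset.sum_eq_zero
      intro χ hχ
      rw [h1 χ hχ]; rfl
    rw [h3] at h2
    push_cast at h2
    linarith
  by_contra hne
  have hnn : 0 ≤ ∑ χ ∈ X.filter (fun χ => ε χ = -1), (mm (1 : KK P →* ℂˣ) χ : ℤ) :=
    Finset.sum_nonneg (fun _ _ => by positivity)
  rcases D.hδ with hδ | hδ
  · have h2 := hV i
    rw [hδ] at h2
    have h3 : (0 : ℤ) < mm (1 : KK P →* ℂˣ) (η i) := by exact_mod_cast Nat.pos_of_ne_zero hne
    linarith
  · have h2 : ∀ j, mm (1 : KK P →* ℂˣ) (η j) ≠ 0 := by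
      intro j
      have h3 := hV i
      have h4 := hV j
      rw [hδ] at h3 h4
      have h5 : (mm (1 : KK P →* ℂˣ) (η j) : ℤ) = mm (1 : KK P →* ℂˣ) (η i) := by linarith
      have h6 : mm (1 : KK P →* ℂˣ) (η j) = mm (1 : KK P →* ℂˣ) (η i) := by exact_mod_cast h5
      rw [h6]; exact hne
    have h3 := deg_count B D ht hs hst hδ h2 (ψ := triv G)
      (fun i h' => D.notX i (by rw [← h']; exact (triv_mem D ht).1))
    rw [mm_triv, if_pos rfl] at h3
    exact one_ne_zero h3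

include B D in
theorem mm_ne_one [Fintype (IrrCharacter G)] (ht : 2 ≤ t) {s : ℕ} (hs : ∀ i, (dg (η i) : ℤ) = s * p + δ * e)
    (hst : δ = -1 → n + 1 = s * t) {μ : KK P →* ℂˣ} (hμ : μ ≠ 1) {ψ : IrrCharacter G} (hψ : ψ ∉ Xp X ε)
    (hψ' : ∀ i, ψ ≠ η i) : mm μ ψ = 0 := by
  classical
  by_cases hex : ∃ χ ∈ Xp X ε, mm μ χ ≠ 0
  · obtain ⟨χ, hχ, hne⟩ := hex
    exact (mm_full B (dg_Xp B D hχ).1 hne).2 ψ (fun h' => hψ (by rw [h']; exact hχ))
  · push Not at hex
    have hV : ∀ i, (∑ χ ∈ X.filter (fun χ => ε χ = -1), (mm μ χ : ℤ)) + δ * mm μ (η i) = -1 := by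
      intro i
      have h2 := mm_V B D μ i
      rw [mm_split B D ht (fun χ => (mm μ χ : ℤ)), mm_triv, if_neg hμ] at h2
      have h3 : ∑ χ ∈ X.filter (fun χ => ε χ = 1 ∧ χ ≠ triv G), (mm μ χ : ℤ) = 0 := by
        apply Finset.sum_eq_zero
        intro χ hχ
        rw [hex χ hχ]; rfl
      rw [h3] at h2
      push_cast at h2
      linarith
    have hnn : 0 ≤ ∑ χ ∈ X.filter (fun χ => ε χ = -1), (mm μ χ : ℤ) :=
      Finset.sum_nonneg (fun _ _ => by positivity)
    rcases D.hδ with hδ | hδ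
    · exfalso
      have h2 := hV ⟨0, by omega⟩
      rw [hδ] at h2
      have h3 : (0 : ℤ) ≤ mm μ (η ⟨0, by omega⟩) := by positivity
      linarith
    · apply deg_count B D ht hs hst hδ _ hψ'
      intro j hj
      have h4 := hV j
      rw [hδ, hj] at h4
      push_cast at h4
      linarith

end Main

/-- for `L = 1` -/
theorem centralizer_eq (h : Setup G p P 1 e pw) : centralizer (P : Set G) = P := by
  symm
  apply eq_of_le_of_card_ge h.hPC
  rw [h.hL, h.hP, mul_one]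

/-- elements of `N(P)` outside `P` are `p`-regular -/
theorem regular_of_mem (h : Setup G p P 1 e pw) (hNP : ∀ y ∈ normalizer (P : Set G), orderOf y = p → y ∈ P) {c : G}
    (hc : c ∈ normalizer (P : Set G)) (hcP : c ∉ P) : ¬ p ∣ orderOf c := by
  intro h1
  have hpp : p.Prime := Fact.out
  apply hcP
  have h2 := CentInv.orderOf_pow_div hpp h1
  have h3 := hNP _ (pow_mem hc _) h2
  have h4 : c ^ (orderOf c / p) ≠ 1 := by
    intro h5; rw [h5, orderOf_one] at h2; exact hpp.one_lt.ne h2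
  have h5 := h.centralizer_eq h3 h4
  have h6 : c ∈ centralizer ({c ^ (orderOf c / p)} : Set G) := by
    rw [mem_centralizer_singleton_iff]
    exact (Commute.self_pow c _).eq
  rw [h5, centralizer_eq h] at h6
  exact h6

/-- the sum of all induced characters vanishes -/
theorem sum_ind (h : Setup G p P 1 e pw) (hNP : ∀ y ∈ normalizer (P : Set G), orderOf y = p → y ∈ P)
    [Fintype (KK P →* ℂˣ)] {c : G} (hc : c ∈ normalizer (P : Set G)) (hcP : c ∉ P) :
    ∑ μ : KK P →* ℂˣ, ind μ c = 0 := by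
  classical
  have hpp : p.Prime := Fact.out
  have h0 := regular_of_mem h hNP hc hcP
  have hc1 : c ≠ 1 := fun h' => hcP (by rw [h']; exact one_mem P)
  simp only [ind, indFun]
  rw [← Finset.mul_sum, Finset.sum_comm]
  have h1 : ∀ g : G, ∑ μ : KK P →* ℂˣ, extendByZero (normalizer (P : Set G)) (fun m => (lam μ m : ℂ)) (g⁻¹ * c * g) = 0 := by
    intro g
    by_cases hg : g⁻¹ * c * g ∈ normalizer (P : Set G)
    · rw [Finset.sum_congr rfl fun μ _ => H3.extendByZero_mem _ _ hg, sum_lam h, if_neg]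
      intro h2
      rw [centralizer_eq h] at h2
      apply h0
      have h3 := orderOf_dvd_natCard (⟨_, h2⟩ : P)
      rw [h.hP, ← Subgroup.orderOf_coe] at h3
      have h4 : orderOf (g⁻¹ * c * g) = orderOf c := by
        have := orderOf_injective (MulAut.conj g⁻¹).toMonoidHom (MulAut.conj g⁻¹).injective c
        rw [← this]
        congr 1
        simp
      change orderOf (g⁻¹ * c * g) ∣ p at h3
      rw [h4] at h3
      rcases (Nat.dvd_prime hpp).mp h3 with h5 | h5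
      · exact absurd (orderOf_eq_one_iff.mp h5) hc1
      · rw [h5]
    · rw [Finset.sum_congr rfl fun μ _ => H3.extendByZero_not_mem _ _ hg]; simp
  rw [Finset.sum_congr rfl fun g _ => h1 g]; simp

section Main2
variable (B : Base G p P 1 e n pw) (D : Data G p P 1 e t pw X ε δ η rep)
include B D

/-- the values of the permutation character -/
theorem fixed (ht : 2 ≤ t) {c : G} (hc : c ∈ normalizer (P : Set G)) (hcP : c ∉ P) :
    Nat.card (MulAction.fixedBy (G ⧸ normalizer (P : Set G)) c) = n + 1 := by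
  classical
  have hpp : p.Prime := Fact.out
  letI : Fintype P := Fintype.ofFinite P
  letI : Fintype (IrrCharacter G) := Fintype.ofFinite _
  letI : Fintype (centralizer (P : Set G)) := Fintype.ofFinite _
  haveI : Finite (KK P →* ℂˣ) := by
    exact Finite.of_injective (fun f : KK P →* ℂˣ => (⟨_, H3.isIrr_of_hom f⟩ : IrrCharacter (KK P)))
      (fun a b h => H3.hom_coe_injective (congrArg Subtype.val h))
  letI : Fintype (KK P →* ℂˣ) := Fintype.ofFinite _
  obtain ⟨s, hs, hsf, hs1, hs2, hα, hm, -⟩ := big B D ht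
  have hCP := centralizer_eq B.st
  have hreg := regular_of_mem B.st B.hNP hc hcP
  -- total multiplicities
  have hf : ∀ (ψ : IrrCharacter G) (f : ℕ), classInner (fun u : P => (ψ : G → ℂ) u) (fun _ => 1) = f →
      ∑ μ : KK P →* ℂˣ, mm μ ψ = f := by
    intro ψ f hf
    have h1 := sum_inner B.st (H3.irr_classFun ψ.2)
    rw [inner_sub hCP, hf, Finset.sum_congr rfl fun μ _ => mm_spec' μ ψ] at h1
    exact_mod_cast h1
  have hfp : ∀ χ ∈ Xp X ε, ∑ μ : KK P →* ℂˣ, mm μ χ = n + 1 := by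
    intro χ hχ
    obtain ⟨h1, -, h3⟩ := dg_Xp B D hχ
    obtain ⟨f, hf1, hf2⟩ := mult_P D (ψ := χ) (S := (p : ℤ) - 1) (by rw [h3.sum D.st]; push_cast; ring)
    rw [hf χ f hf1]
    rw [h1] at hf2
    push_cast at hf2
    have hp0 : (p : ℤ) ≠ 0 := by exact_mod_cast hpp.ne_zero
    have h4 : (f : ℤ) = n + 1 := mul_right_cancel₀ hp0 (by linarith)
    exact_mod_cast h4
  have hfη : ∀ i, ∑ μ : KK P →* ℂˣ, mm μ (η i) = s := fun i => hf _ _ (hsf i)
  obtain ⟨h1p, h1η⟩ := mm_one B D ht hs hs2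
  -- coefficients
  have hcoef : ∀ ψ : IrrCharacter G, ((∑ μ : KK P →* ℂˣ, (if μ = 1 then 0 else mm μ ψ) : ℕ) : ℂ) =
      (if ψ ∈ Xp X ε then ((n : ℂ) + 1) else 0) + (if ψ ∈ Finset.univ.image η then (s : ℂ) else 0) := by
    intro ψ
    have h1 : ∑ μ : KK P →* ℂˣ, mm μ ψ = mm (1 : KK P →* ℂˣ) ψ + ∑ μ : KK P →* ℂˣ, (if μ = 1 then 0 else mm μ ψ) := by
      have h2 : mm (1 : KK P →* ℂˣ) ψ = ∑ μ : KK P →* ℂˣ, (if μ = 1 then mm μ ψ else 0) := by
        rw [Finset.sum_ite_eq' Finset.univ (1 : KK P →* ℂˣ), if_pos (Finset.mem_univ _)]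
      rw [h2, ← Finset.sum_add_distrib]
      apply Finset.sum_congr rfl
      intro μ _
      by_cases h3 : μ = 1 <;> simp [h3]
    by_cases hψ : ψ ∈ Xp X ε
    · have h2 : ψ ∉ Finset.univ.image η := by
        rw [Finset.mem_image]
        rintro ⟨i, -, hi⟩
        apply D.notX i
        rw [hi]
        rw [Xp, Finset.mem_filter] at hψ
        exact hψ.1
      rw [if_pos hψ, if_neg h2, add_zero]
      rw [hfp ψ hψ, h1p ψ hψ, zero_add] at h1
      rw [← h1]; push_cast; rfl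
    · rw [if_neg hψ, zero_add]
      by_cases hψ' : ψ ∈ Finset.univ.image η
      · rw [if_pos hψ']
        rw [Finset.mem_image] at hψ'
        obtain ⟨i, -, rfl⟩ := hψ'
        rw [hfη i, h1η i, zero_add] at h1
        rw [← h1]
      · rw [if_neg hψ']
        have h2 : ∀ i, ψ ≠ η i := fun i h' => hψ' (by rw [h']; exact Finset.mem_image_of_mem _ (Finset.mem_univ i))
        have h3 : ∑ μ : KK P →* ℂˣ, (if μ = 1 then 0 else mm μ ψ) = 0 := by
          apply Finset.sum_eq_zero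
          intro μ _
          by_cases h4 : μ = 1
          · rw [if_pos h4]
          · rw [if_neg h4]; exact mm_ne_one B D ht hs hs2 h4 hψ h2
        rw [h3]; simp
  -- evaluate
  have hsum : ∑ μ : KK P →* ℂˣ, (if μ = 1 then 0 else ind μ c) =
      ((n : ℂ) + 1) * ∑ χ ∈ Xp X ε, (χ : G → ℂ) c + s * ∑ i, (η i : G → ℂ) c := by
    have h1 : ∀ μ : KK P →* ℂˣ, (if μ = 1 then 0 else ind μ c) =
        ∑ ψ : IrrCharacter G, ((if μ = 1 then 0 else mm μ ψ : ℕ) : ℂ) * (ψ : G → ℂ) c := by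
      intro μ
      by_cases h2 : μ = 1
      · simp [h2]
      · simp only [if_neg h2]; exact mm_expand μ c
    rw [Finset.sum_congr rfl fun μ _ => h1 μ, Finset.sum_comm]
    have h3 : ∀ ψ : IrrCharacter G, ∑ μ : KK P →* ℂˣ, ((if μ = 1 then 0 else mm μ ψ : ℕ) : ℂ) * (ψ : G → ℂ) c =
        (if ψ ∈ Xp X ε then ((n : ℂ) + 1) * (ψ : G → ℂ) c else 0) +
        (if ψ ∈ Finset.univ.image η then (s : ℂ) * (ψ : G → ℂ) c else 0) := by
      intro ψ
      rw [← Finset.sum_mul, ← Nat.cast_sum, hcoef ψ]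
      split_ifs <;> ring
    rw [Finset.sum_congr rfl fun ψ _ => h3 ψ, Finset.sum_add_distrib, Finset.sum_ite_mem, Finset.sum_ite_mem,
      Finset.univ_inter, Finset.univ_inter, Finset.sum_image (fun i _ j _ h => D.inj h), Finset.mul_sum, Finset.mul_sum]
  -- vanishing
  have hXm : ∀ χ ∈ X, ε χ = -1 → (χ : G → ℂ) c = 0 := by
    intro χ hχ hεχ
    have h1 := (D.hε χ hχ).2
    rw [hεχ] at h1
    obtain ⟨f, hf1, hf2⟩ := mult_P D (ψ := χ) (S := -((p : ℤ) - 1)) (by rw [h1.sum D.st]; push_cast; ring)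
    rw [hm χ hχ hεχ, Nat.cast_sub hpp.one_le] at hf2
    push_cast at hf2
    have hp0 : (p : ℤ) ≠ 0 := by exact_mod_cast hpp.ne_zero
    have h4 : (f : ℤ) = 0 := mul_right_cancel₀ hp0 (by linarith)
    have h5 : f = 0 := by exact_mod_cast h4
    rw [h5] at hf1
    exact SPr.vanish B.st.hP hCP (H3.irr_isChar χ.2) (by rw [hf1]; simp) hc hcP
  have hrel : ∀ i, 1 + ∑ χ ∈ Xp X ε, (χ : G → ℂ) c = δ * (η i : G → ℂ) c := by
    intro i
    rw [← reg D i hreg]
    obtain ⟨hX1, hε1⟩ := triv_mem D ht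
    have key : ∀ χ ∈ X, (ε χ : ℂ) * (χ : G → ℂ) c = (if χ = triv G then 1 else 0) +
        (if ε χ = 1 ∧ χ ≠ triv G then (χ : G → ℂ) c else 0) := by
      intro χ hχ
      by_cases h3 : χ = triv G
      · subst h3
        have h5 : ((triv G : IrrCharacter G) : G → ℂ) c = 1 := rfl
        simp [hε1, h5]
      · rcases (D.hε χ hχ).1 with h4 | h4
        · simp [h3, h4]
        · simp [h3, h4, hXm χ hχ h4]
    rw [Finset.sum_congr rfl key, Finset.sum_add_distrib, Finset.sum_ite_eq' X (triv G), if_pos hX1, Xp,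
      Finset.sum_filter]
  -- conclusion
  have htot := sum_ind B.st B.hNP hc hcP
  have h1 : ∑ μ : KK P →* ℂˣ, ind μ c = ind (1 : KK P →* ℂˣ) c + ∑ μ : KK P →* ℂˣ, (if μ = 1 then 0 else ind μ c) := by
    have h2 : ind (1 : KK P →* ℂˣ) c = ∑ μ : KK P →* ℂˣ, (if μ = 1 then ind μ c else 0) := by
      rw [Finset.sum_ite_eq' Finset.univ (1 : KK P →* ℂˣ), if_pos (Finset.mem_univ _)]
    rw [h2, ← Finset.sum_add_distrib]
    apply Finset.sum_congr rfl
    intro μ _
    by_cases h3 : μ = 1 <;> simp [h3]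
  rw [htot, hsum] at h1
  have hπ : ind (1 : KK P →* ℂˣ) c = (n : ℂ) + 1 := by
    rcases D.hδ with hδ | hδ
    · have h2 := hs1 hδ
      have h3 : (η ⟨0, by omega⟩ : G → ℂ) c = 0 := by
        apply SPr.vanish B.st.hP hCP (H3.irr_isChar (η ⟨0, by omega⟩).2) _ hc hcP
        rw [hsf, h2]; simp
      have h4 := hrel ⟨0, by omega⟩
      rw [h3, mul_zero] at h4
      rw [h2] at h1
      push_cast at h1
      linear_combination -h1 - ((n : ℂ) + 1) * h4
    · have h2 := hs2 hδ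
      have h3 : ∀ i, (η i : G → ℂ) c = -(1 + ∑ χ ∈ Xp X ε, (χ : G → ℂ) c) := by
        intro i
        rw [hrel i, hδ]; push_cast; ring
      rw [Finset.sum_congr rfl fun i _ => h3 i, Finset.sum_const, Finset.card_univ, Fintype.card_fin, nsmul_eq_mul] at h1
      have h4 : ((n : ℂ) + 1) = s * t := by exact_mod_cast h2
      rw [h4] at h1 ⊢
      linear_combination -h1
  have h2 : ind (1 : KK P →* ℂˣ) = H3.permChar G (G ⧸ normalizer (P : Set G)) := by
    rw [← H3.indFun_one_eq_permChar, ind, lam_one]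
    rfl
  rw [h2, H3.permChar] at hπ
  exact_mod_cast hπ

end Main2

end Cfsg.Agent.H9.BR
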