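import Cfsg.Agent.H9.BRG

set_option autoImplicit false
set_option linter.unusedSectionVars false
set_option linter.style.haveILetI false
set_option linter.unusedVariables false
set_option linter.unusedSimpArgs false

/-! The permutation group on the Sylow subgroups. -/

open Cfsg

namespace Cfsg.Agent.H9.BR

open Subgroup Exc MulAction

universe u v

/-- the permutation group -/
structure PG (G : Type u) [Group G] [Finite G] (p : ℕ) (P : Subgroup G) (e n : ℕ) (Ω : Type v) [MulAction G Ω]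
    (o : Ω) : Prop where
  hp : p.Prime
  hP : Nat.card P = p
  hC : ∀ u ∈ P, u ≠ 1 → ∀ c : G, c * u = u * c → c ∈ P
  hN : Nat.card (normalizer (P : Set G)) = p * e
  hNP : ∀ y ∈ normalizer (P : Set G), orderOf y = p → y ∈ P
  hst : stabilizer G o = normalizer (P : Set G)
  fin : Finite Ω
  tr : IsPretransitive G Ω
  hΩ : Nat.card Ω = 1 + n * p
  hn : 0 < n
  he : 2 ≤ e
  fix : ∀ c ∈ normalizer (P : Set G), c ∉ P → Nat.card (fixedBy Ω c) = n + 1

namespace PG

variable {G : Type u} [Group G] [Finite G] {p : ℕ} {P : Subgroup G} {e n : ℕ} {Ω : Type v} [MulAction G Ω] {o : Ω}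

section
variable (A : PG G p P e n Ω o)
include A

theorem orderOf_P {u : G} (hu : u ∈ P) (hu1 : u ≠ 1) : orderOf u = p := by
  have h3 := orderOf_dvd_natCard (⟨u, hu⟩ : P)
  rw [A.hP, ← Subgroup.orderOf_coe] at h3
  rcases (Nat.dvd_prime A.hp).mp h3 with h4 | h4
  · exact absurd (orderOf_eq_one_iff.mp h4) hu1
  · exact h4

theorem P_le : P ≤ normalizer (P : Set G) := le_normalizer

theorem P_fix {u : G} (hu : u ∈ P) (hu1 : u ≠ 1) {a : Ω} (ha : u • a = a) : a = o := by
  haveI := A.tr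
  haveI : Fact p.Prime := ⟨A.hp⟩
  obtain ⟨g, rfl⟩ := exists_smul_eq G o a
  have h1 : g⁻¹ * u * g ∈ normalizer (P : Set G) := by
    rw [← A.hst, mem_stabilizer_iff, mul_smul, mul_smul, ha, inv_smul_smul]
  have h2 : orderOf (g⁻¹ * u * g) = p := by
    rw [← A.orderOf_P hu hu1]
    have := orderOf_injective (MulAut.conj g⁻¹).toMonoidHom (MulAut.conj g⁻¹).injective u
    rw [← this]
    congr 1
    simp
  have h3 := A.hNP _ h1 h2
  by_contra hne
  apply hu1
  letI : Fintype G := Fintype.ofFinite G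
  apply ti (P := P) (g := g⁻¹) A.hP _ hu (by rw [inv_inv]; exact h3)
  intro h4
  have h5 := inv_mem h4
  rw [inv_inv, ← A.hst, mem_stabilizer_iff] at h5
  exact hne h5

/-- complements -/
theorem card_le {H : Subgroup G} (hH : H ≤ normalizer (P : Set G)) (hHP : H ⊓ P = ⊥) : Nat.card H ≤ e := by
  have h1 : Function.Injective (fun x : H × P => (⟨(x.1 : G) * x.2, mul_mem (hH x.1.2) (A.P_le x.2.2)⟩ :
      normalizer (P : Set G))) := by
    rintro ⟨a, b⟩ ⟨c, d⟩ h
    exact mul_injective_of_disjoint (disjoint_iff.mpr hHP) (congrArg Subtype.val h)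
  have h2 := Nat.card_le_card_of_injective _ h1
  rw [Nat.card_prod, A.hP, A.hN, mul_comm p] at h2
  exact Nat.le_of_mul_le_mul_right h2 A.hp.pos

theorem isCyclic {H : Subgroup G} (hH : H ≤ normalizer (P : Set G)) (hHP : H ⊓ P = ⊥) : IsCyclic H := by
  haveI : Fact p.Prime := ⟨A.hp⟩
  haveI : IsCyclic P := isCyclic_of_prime_card A.hP
  haveI : IsCyclic (MulAut P) := by
    haveI : IsCyclic (ZMod (Nat.card P))ˣ := by
      rw [A.hP]; infer_instance
    exact isCyclic_of_surjective (IsCyclic.mulAutMulEquiv P).symm (IsCyclic.mulAutMulEquiv P).symm.surjective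
  refine isCyclic_of_injective ((P.normalizerMonoidHom).comp (inclusion hH)) ?_
  rw [injective_iff_map_eq_one]
  intro x hx
  have h1 : inclusion hH x ∈ (P.normalizerMonoidHom).ker := hx
  rw [normalizerMonoidHom_ker, mem_subgroupOf] at h1
  by_cases hx1 : x = 1
  · exact hx1
  · exfalso
    haveI : Nontrivial P := by
      rw [← Finite.one_lt_card_iff_nontrivial, A.hP]; exact A.hp.one_lt
    obtain ⟨u, hu⟩ := _root_.exists_ne (1 : P)
    have h2 : (x : G) ∈ P := A.hC u u.2 (fun h => hu (Subtype.ext h)) x (mem_centralizer_iff.mp h1 u u.2).symm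
    have h3 : (x : G) ∈ H ⊓ P := ⟨x.2, h2⟩
    rw [hHP, mem_bot] at h3
    exact hx1 (Subtype.ext h3)

theorem notMem_P {H : Subgroup G} (hHP : H ⊓ P = ⊥) {c : G} (hc : c ∈ H) (hc1 : c ≠ 1) : c ∉ P := by
  intro h
  apply hc1
  have : c ∈ H ⊓ P := ⟨hc, h⟩
  rwa [hHP, mem_bot] at this

theorem comm_P {c u : G} (hc : c ∉ P) (hu : u ∈ P) (h : c * u = u * c) : u = 1 := by
  by_contra hu1
  exact hc (A.hC u hu hu1 c h)

/-- a nonidentity element lies in at most one complement -/
theorem comp_unique {H₁ H₂ : Subgroup G} (h₁ : H₁ ≤ normalizer (P : Set G)) (h₁P : H₁ ⊓ P = ⊥) (h₁e : Nat.card H₁ = e)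
    (h₂ : H₂ ≤ normalizer (P : Set G)) (h₂P : H₂ ⊓ P = ⊥) (h₂e : Nat.card H₂ = e) {c : G} (hc1 : c ≠ 1) (hc₁ : c ∈ H₁)
    (hc₂ : c ∈ H₂) : H₁ = H₂ := by
  have hcP := A.notMem_P h₁P hc₁ hc1
  set H := centralizer ({c} : Set G) ⊓ normalizer (P : Set G) with hH
  have hHP : H ⊓ P = ⊥ := by
    rw [eq_bot_iff]
    rintro x ⟨⟨hx, -⟩, hxP⟩
    rw [mem_bot]
    exact A.comm_P hcP hxP (mem_centralizer_singleton_iff.mp hx).symm
  have hle := A.card_le (inf_le_right : H ≤ _) hHP
  have key : ∀ K : Subgroup G, K ≤ normalizer (P : Set G) → K ⊓ P = ⊥ → Nat.card K = e → c ∈ K → K = H := by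
    intro K hK hKP hKe hcK
    apply eq_of_le_of_card_ge _ (by rw [hKe]; exact hle)
    intro x hx
    refine ⟨?_, hK hx⟩
    change x ∈ centralizer ({c} : Set G)
    rw [mem_centralizer_singleton_iff]
    haveI := A.isCyclic hK hKP
    letI := IsCyclic.commGroup (α := K)
    have := mul_comm (⟨x, hx⟩ : K) ⟨c, hcK⟩
    exact congrArg Subtype.val this
  rw [key H₁ h₁ h₁P h₁e hc₁, key H₂ h₂ h₂P h₂e hc₂]

theorem decomp {H : Subgroup G} (hH : H ≤ normalizer (P : Set G)) (hHP : H ⊓ P = ⊥) (hHe : Nat.card H = e) {x : G}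
    (hx : x ∈ normalizer (P : Set G)) : ∃ d ∈ H, ∃ v ∈ P, x = d * v := by
  let f : H × P → normalizer (P : Set G) := fun x => (⟨(x.1 : G) * x.2, mul_mem (hH x.1.2) (A.P_le x.2.2)⟩ :
      normalizer (P : Set G))
  have h1 : Function.Injective f := by
    rintro ⟨a, b⟩ ⟨c, d⟩ h
    exact mul_injective_of_disjoint (disjoint_iff.mpr hHP) (congrArg Subtype.val h)
  have h2 : Function.Bijective f := by
    rw [Nat.bijective_iff_injective_and_card]
    refine ⟨h1, ?_⟩
    rw [Nat.card_prod, A.hP, A.hN, hHe, mul_comm]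
  obtain ⟨⟨d, v⟩, hdv⟩ := h2.2 ⟨x, hx⟩
  exact ⟨d, d.2, v, v.2, (congrArg Subtype.val hdv).symm⟩

/-- conjugacy of complements -/
theorem conj_comp {H₁ H₂ : Subgroup G} (h₁ : H₁ ≤ normalizer (P : Set G)) (h₁P : H₁ ⊓ P = ⊥) (h₁e : Nat.card H₁ = e)
    (h₂ : H₂ ≤ normalizer (P : Set G)) (h₂P : H₂ ⊓ P = ⊥) (h₂e : Nat.card H₂ = e) :
    ∃ u ∈ P, H₁.map (MulAut.conj u).toMonoidHom = H₂ := by
  haveI := A.isCyclic h₁ h₁P
  obtain ⟨c, hc⟩ := IsCyclic.exists_generator (α := H₁)
  have hc1 : (c : G) ≠ 1 := by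
    intro h
    have h1 : c = 1 := Subtype.ext h
    have h2 : zpowers c = ⊤ := by rw [eq_top_iff]; intro x _; exact hc x
    rw [h1, zpowers_one_eq_bot] at h2
    have h3 : Nat.card (⊤ : Subgroup H₁) = 1 := by rw [← h2]; exact card_bot
    rw [card_top, h₁e] at h3
    have := A.he
    omega
  have hcP := A.notMem_P h₁P c.2 hc1
  have hcN := h₁ c.2
  obtain ⟨d, hd, v, hv, hcdv⟩ := A.decomp h₂ h₂P h₂e hcN
  have hmem : ∀ u ∈ P, u * (c : G) * u⁻¹ * (c : G)⁻¹ ∈ P := by
    intro u hu
    have h1 : (c : G) * u⁻¹ * (c : G)⁻¹ ∈ P := (mem_normalizer_iff.mp hcN _).mp (inv_mem hu)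
    have h2 : u * (c : G) * u⁻¹ * (c : G)⁻¹ = u * ((c : G) * u⁻¹ * (c : G)⁻¹) := by group
    rw [h2]; exact mul_mem hu h1
  let f : P → P := fun u => ⟨u * (c : G) * (u : G)⁻¹ * (c : G)⁻¹, hmem u u.2⟩
  have hf : Function.Injective f := by
    intro u w huw
    have h1 : (u : G) * c * (u : G)⁻¹ * (c : G)⁻¹ = w * c * (w : G)⁻¹ * (c : G)⁻¹ := congrArg Subtype.val huw
    have h2 : (c : G) * ((w : G)⁻¹ * u) = (w : G)⁻¹ * u * c := by
      have h3 : (u : G) * c * (u : G)⁻¹ = w * c * (w : G)⁻¹ := mul_right_cancel h1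
      calc (c : G) * ((w : G)⁻¹ * u) = (w : G)⁻¹ * (w * c * (w : G)⁻¹) * u := by group
        _ = (w : G)⁻¹ * (u * c * (u : G)⁻¹) * u := by rw [h3]
        _ = (w : G)⁻¹ * u * c := by group
    have h3 := A.comm_P hcP (mul_mem (inv_mem w.2) u.2) h2
    exact Subtype.ext (inv_mul_eq_one.mp h3).symm
  obtain ⟨u, hu⟩ := (Finite.injective_iff_surjective.mp hf) ⟨(c : G) * v⁻¹ * (c : G)⁻¹,
    (mem_normalizer_iff.mp hcN _).mp (inv_mem hv)⟩
  have hu' : (u : G) * c * (u : G)⁻¹ * (c : G)⁻¹ = (c : G) * v⁻¹ * (c : G)⁻¹ := congrArg Subtype.val hu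
  have hud : (u : G) * c * (u : G)⁻¹ = d := by
    have h1 : (u : G) * c * (u : G)⁻¹ = c * v⁻¹ := mul_right_cancel hu'
    rw [h1, hcdv]; group
  refine ⟨u, u.2, ?_⟩
  apply eq_of_le_of_card_ge
  · rintro _ ⟨x, hx, rfl⟩
    obtain ⟨k, hk⟩ := mem_zpowers_iff.mp (hc ⟨x, hx⟩)
    have hk' : (c : G) ^ k = x := by
      have := congrArg Subtype.val hk
      simpa using this
    change (u : G) * x * (u : G)⁻¹ ∈ H₂
    rw [← hk', ← conj_zpow, hud]
    exact zpow_mem hd k
  · have h3 := Nat.card_congr (H₁.equivMapOfInjective (MulAut.conj (u : G)).toMonoidHom (MulAut.conj (u : G)).injective).toEquiv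
    rw [h₂e, ← h₁e, h3]

/-- self-normalizing in `N` -/
theorem self_norm {H : Subgroup G} (hH : H ≤ normalizer (P : Set G)) (hHP : H ⊓ P = ⊥) (hHe : Nat.card H = e) {x : G}
    (hx : x ∈ normalizer (P : Set G)) (hxH : x ∈ normalizer (H : Set G)) : x ∈ H := by
  haveI : Nontrivial H := by
    rw [← Finite.one_lt_card_iff_nontrivial, hHe]
    have := A.he; omega
  obtain ⟨c, hc⟩ := _root_.exists_ne (1 : H)
  have hc1 : (c : G) ≠ 1 := fun h => hc (Subtype.ext h)
  have hcP := A.notMem_P hHP c.2 hc1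
  obtain ⟨d, hd, v, hv, hxd⟩ := A.decomp hH hHP hHe hx
  have hvH : v ∈ normalizer (H : Set G) := by
    have h1 : v = d⁻¹ * x := by rw [hxd]; group
    rw [h1]
    exact mul_mem (inv_mem (le_normalizer hd)) hxH
  have h1 : v * (c : G) * v⁻¹ ∈ H := (mem_normalizer_iff.mp hvH _).mp c.2
  have h2 : v * (c : G) * v⁻¹ * (c : G)⁻¹ ∈ H := mul_mem h1 (inv_mem c.2)
  have h3 : v * (c : G) * v⁻¹ * (c : G)⁻¹ ∈ P := by
    have h4 : (c : G) * v⁻¹ * (c : G)⁻¹ ∈ P := (mem_normalizer_iff.mp (hH c.2) _).mp (inv_mem hv)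
    have h5 : v * (c : G) * v⁻¹ * (c : G)⁻¹ = v * ((c : G) * v⁻¹ * (c : G)⁻¹) := by group
    rw [h5]; exact mul_mem hv h4
  have h4 : v * (c : G) * v⁻¹ * (c : G)⁻¹ = 1 := by
    have : v * (c : G) * v⁻¹ * (c : G)⁻¹ ∈ H ⊓ P := ⟨h2, h3⟩
    rwa [hHP, mem_bot] at this
  have h5 : (c : G) * v = v * c := by
    have h6 : v * (c : G) * v⁻¹ = c := mul_inv_eq_one.mp h4
    calc (c : G) * v = (v * (c : G) * v⁻¹) * v := by rw [h6]
      _ = v * c := by group
  have h6 := A.comm_P hcP hv h5
  rw [hxd, h6, mul_one]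
  exact hd

/-- two-point stabilizers -/
theorem S_inf {a : Ω} (ha : a ≠ o) : (stabilizer G a ⊓ normalizer (P : Set G)) ⊓ P = ⊥ := by
  rw [eq_bot_iff]
  rintro x ⟨⟨hx, -⟩, hxP⟩
  rw [mem_bot]
  by_contra hx1
  exact ha (A.P_fix hxP hx1 (mem_stabilizer_iff.mp hx))

theorem sum_fix [Fintype (normalizer (P : Set G))] :
    ∑ c : normalizer (P : Set G), Nat.card (fixedBy Ω (c : G)) = (n + 1) * (p * e) := by
  classical
  haveI := A.fin
  have h1 : ∀ c : normalizer (P : Set G), Nat.card (fixedBy Ω (c : G)) + (if (c : G) ∈ P then n else 0) =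
      (n + 1) + (if c = 1 then n * p else 0) := by
    intro c
    by_cases hc : c = 1
    · subst hc
      rw [if_pos (by rw [coe_one]; exact one_mem P), if_pos rfl]
      have h2 : Nat.card (fixedBy Ω ((1 : normalizer (P : Set G)) : G)) = Nat.card Ω := by
        rw [coe_one]
        apply Nat.card_congr
        exact (Equiv.subtypeUnivEquiv (fun a => by rw [mem_fixedBy, one_smul]))
      rw [h2, A.hΩ]; ring
    · rw [if_neg hc, add_zero]
      have hc' : (c : G) ≠ 1 := fun h => hc (Subtype.ext h)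
      by_cases hcP : (c : G) ∈ P
      · rw [if_pos hcP]
        have h2 : Nat.card (fixedBy Ω (c : G)) = 1 := by
          rw [Nat.card_eq_one_iff_unique]
          refine ⟨⟨fun a b => Subtype.ext ?_⟩, ⟨⟨o, ?_⟩⟩⟩
          · rw [A.P_fix hcP hc' a.2, A.P_fix hcP hc' b.2]
          · rw [mem_fixedBy]
            have h4 : (c : G) ∈ stabilizer G o := by rw [A.hst]; exact c.2
            exact mem_stabilizer_iff.mp h4
        rw [h2]; ring
      · rw [if_neg hcP, add_zero, A.fix c c.2 hcP]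
  have h2 := Finset.sum_congr rfl (fun c (_ : c ∈ Finset.univ) => h1 c)
  rw [Finset.sum_add_distrib, Finset.sum_add_distrib, Finset.sum_ite_eq' Finset.univ (1 : normalizer (P : Set G)),
    if_pos (Finset.mem_univ _), Finset.sum_const, Finset.card_univ, ← Nat.card_eq_fintype_card, A.hN, smul_eq_mul,
    ← Finset.sum_filter, Finset.sum_const, smul_eq_mul] at h2
  have h3 : (Finset.univ.filter (fun c : normalizer (P : Set G) => (c : G) ∈ P)).card = p := by
    rw [← A.hP, ← Nat.card_congr (subgroupOfEquivOfLe A.P_le).toEquiv, Nat.card_eq_fintype_card,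
      Fintype.card_of_subtype]
    intro c
    simp [mem_subgroupOf]
  rw [h3] at h2
  have : p * n = n * p := mul_comm _ _
  have h4 : p * e * (n + 1) = (n + 1) * (p * e) := mul_comm _ _
  omega

theorem card_S {a : Ω} (ha : a ≠ o) : Nat.card (stabilizer G a ⊓ normalizer (P : Set G) : Subgroup G) = e := by
  classical
  haveI := A.fin
  letI : Fintype Ω := Fintype.ofFinite Ω
  letI : Fintype (normalizer (P : Set G)) := Fintype.ofFinite _
  let F : Ω → ℕ := fun b => Nat.card (stabilizer G b ⊓ normalizer (P : Set G) : Subgroup G)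
  let Bd : Ω → ℕ := fun b => if b = o then p * e else e
  have hle : ∀ b ∈ Finset.univ, F b ≤ Bd b := by
    intro b _
    by_cases hb : b = o
    · simp only [F, Bd, if_pos hb]
      rw [hb, A.hst, inf_idem, A.hN]
    · simp only [F, Bd, if_neg hb]
      exact A.card_le inf_le_right (A.S_inf hb)
  have hsum : ∑ b : Ω, F b = ∑ b : Ω, Bd b := by
    have h1 : ∀ b : Ω, F b = ∑ c : normalizer (P : Set G), (if (c : G) • b = b then 1 else 0) := by
      intro b
      rw [Finset.sum_boole, Nat.cast_id]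
      simp only [F]
      rw [← Nat.card_congr (subgroupOfEquivOfLe (inf_le_right :
        stabilizer G b ⊓ normalizer (P : Set G) ≤ normalizer (P : Set G))).toEquiv, Nat.card_eq_fintype_card,
        Fintype.card_of_subtype]
      intro c
      simp [mem_subgroupOf, mem_stabilizer_iff]
    rw [Finset.sum_congr rfl fun b _ => h1 b, Finset.sum_comm]
    have h2 : ∀ c : normalizer (P : Set G), ∑ b : Ω, (if (c : G) • b = b then 1 else 0) = Nat.card (fixedBy Ω (c : G)) := by
      intro c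
      rw [Finset.sum_boole, Nat.cast_id, Nat.card_eq_fintype_card, Fintype.card_of_subtype]
      intro b
      simp
    rw [Finset.sum_congr rfl fun c _ => h2 c, A.sum_fix]
    have h3 : ∀ b : Ω, Bd b + (if b = o then e else 0) = e + (if b = o then p * e else 0) := by
      intro b
      by_cases hb : b = o <;> simp [Bd, hb, add_comm]
    have h4 := Finset.sum_congr rfl (fun b (_ : b ∈ Finset.univ) => h3 b)
    rw [Finset.sum_add_distrib, Finset.sum_add_distrib, Finset.sum_ite_eq' Finset.univ o,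
      Finset.sum_ite_eq' Finset.univ o, if_pos (Finset.mem_univ _), if_pos (Finset.mem_univ _), Finset.sum_const,
      Finset.card_univ, ← Nat.card_eq_fintype_card, A.hΩ, smul_eq_mul] at h4
    have h5 : (1 + n * p) * e + p * e = (n + 1) * (p * e) + e := by ring
    omega
  have h6 := (Finset.sum_eq_sum_iff_of_le hle).mp hsum a (Finset.mem_univ a)
  simp only [F, Bd, if_neg ha] at h6
  exact h6

/-- fixed points of elements of two-point stabilizers -/
theorem fix_eq {a : Ω} (ha : a ≠ o) {c : G} (hc : c ∈ stabilizer G a ⊓ normalizer (P : Set G)) (hc1 : c ≠ 1) {b : Ω}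
    (hb : c • b = b) : b = o ∨ stabilizer G b ⊓ normalizer (P : Set G) = stabilizer G a ⊓ normalizer (P : Set G) := by
  by_cases hbo : b = o
  · exact Or.inl hbo
  · right
    exact A.comp_unique inf_le_right (A.S_inf hbo) (A.card_S hbo) inf_le_right (A.S_inf ha) (A.card_S ha) hc1
      ⟨mem_stabilizer_iff.mpr hb, hc.2⟩ hc

theorem fix_all {a : Ω} (ha : a ≠ o) {c : G} (hc : c ∈ stabilizer G a ⊓ normalizer (P : Set G)) (hc1 : c ≠ 1) {b : Ω} :
    c • b = b ↔ stabilizer G a ⊓ normalizer (P : Set G) ≤ stabilizer G b := by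
  constructor
  · intro hb
    rcases A.fix_eq ha hc hc1 hb with h | h
    · rw [h, A.hst]; exact inf_le_right
    · rw [← h]; exact inf_le_left
  · intro h
    exact mem_stabilizer_iff.mp (h hc)

theorem exists_c {a : Ω} (ha : a ≠ o) : ∃ c ∈ stabilizer G a ⊓ normalizer (P : Set G), c ≠ 1 := by
  haveI : Nontrivial (stabilizer G a ⊓ normalizer (P : Set G) : Subgroup G) := by
    rw [← Finite.one_lt_card_iff_nontrivial, A.card_S ha]
    have := A.he; omega
  obtain ⟨c, hc⟩ := _root_.exists_ne (1 : (stabilizer G a ⊓ normalizer (P : Set G) : Subgroup G))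
  exact ⟨c, c.2, fun h => hc (Subtype.ext h)⟩

/-- the normalizer of a two-point stabilizer is transitive on the fixed points -/
theorem norm_tr {a : Ω} (ha : a ≠ o) {b : Ω} (hb : stabilizer G a ⊓ normalizer (P : Set G) ≤ stabilizer G b) :
    ∃ g ∈ normalizer ((stabilizer G a ⊓ normalizer (P : Set G) : Subgroup G) : Set G), g • o = b := by
  haveI := A.tr
  by_cases hbo : b = o
  · exact ⟨1, one_mem _, by rw [one_smul, hbo]⟩
  obtain ⟨c, hc, hc1⟩ := A.exists_c ha
  have hSb := (A.fix_eq ha hc hc1 (mem_stabilizer_iff.mp (hb hc))).resolve_left hbo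
  obtain ⟨g, hg⟩ := exists_smul_eq G o b
  have hb' : g⁻¹ • o ≠ o := by
    intro h
    apply hbo
    rw [← hg]
    exact (inv_smul_eq_iff.mp h).symm
  -- `g S_{b'} g⁻¹ = S_b`
  have key : ∀ x : G, x ∈ stabilizer G (g⁻¹ • o) ⊓ normalizer (P : Set G) ↔
      g * x * g⁻¹ ∈ stabilizer G b ⊓ normalizer (P : Set G) := by
    intro x
    rw [mem_inf, mem_inf, ← A.hst]
    simp only [mem_stabilizer_iff]
    constructor
    · rintro ⟨h1, h2⟩
      constructor
      · rw [← hg, mul_smul, inv_smul_smul, mul_smul, h2]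
      · rw [mul_smul, mul_smul, h1, smul_inv_smul]
    · rintro ⟨h1, h2⟩
      constructor
      · rw [← hg, mul_smul, inv_smul_smul, mul_smul] at h1
        have h3 := smul_left_cancel g h1
        rw [mul_smul, mul_smul] at h2
        exact eq_inv_smul_iff.mpr h2
      · rw [← hg, mul_smul, inv_smul_smul, mul_smul] at h1
        exact smul_left_cancel g h1
  obtain ⟨u, hu, hmap⟩ := A.conj_comp (inf_le_right : stabilizer G (g⁻¹ • o) ⊓ normalizer (P : Set G) ≤ _)
    (A.S_inf hb') (A.card_S hb') (inf_le_right : stabilizer G a ⊓ normalizer (P : Set G) ≤ _) (A.S_inf ha) (A.card_S ha)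
  refine ⟨g * u⁻¹, ?_, ?_⟩
  · rw [mem_normalizer_iff]
    intro x
    have h1 : x ∈ stabilizer G a ⊓ normalizer (P : Set G) ↔ u⁻¹ * x * u ∈ stabilizer G (g⁻¹ • o) ⊓ normalizer (P : Set G) := by
      rw [← hmap]
      constructor
      · rintro ⟨y, hy, hyx⟩
        have : u⁻¹ * x * u = y := by
          rw [← hyx]
          change u⁻¹ * (u * y * u⁻¹) * u = y
          group
        rw [this]; exact hy
      · intro h
        refine ⟨_, h, ?_⟩
        change u * (u⁻¹ * x * u) * u⁻¹ = x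
        group
    rw [h1, key, hSb]
    have h2 : g * (u⁻¹ * x * u) * g⁻¹ = g * u⁻¹ * x * (g * u⁻¹)⁻¹ := by group
    rw [h2]
  · rw [mul_smul]
    have : u⁻¹ • o = o := by
      have h1 := A.P_le (inv_mem hu)
      rwa [← A.hst, mem_stabilizer_iff] at h1
    rw [this, hg]

theorem card_norm {a : Ω} (ha : a ≠ o) :
    Nat.card (normalizer ((stabilizer G a ⊓ normalizer (P : Set G) : Subgroup G) : Set G)) = (n + 1) * e := by
  classical
  haveI := A.fin
  set S := stabilizer G a ⊓ normalizer (P : Set G) with hS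
  set M := normalizer ((S : Subgroup G) : Set G) with hM
  obtain ⟨c, hc, hc1⟩ := A.exists_c ha
  have h1 : Nat.card (orbit M o) * Nat.card (stabilizer M o) = Nat.card M := by
    letI : Fintype M := Fintype.ofFinite _
    letI : Fintype (orbit M o) := Fintype.ofFinite _
    letI : Fintype (stabilizer M o) := Fintype.ofFinite _
    rw [Nat.card_eq_fintype_card, Nat.card_eq_fintype_card, Nat.card_eq_fintype_card]
    exact card_orbit_mul_card_stabilizer_eq_card_group M o
  have hSo : S ≤ stabilizer G o := by rw [A.hst]; exact inf_le_right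
  have h2 : Nat.card (orbit M o) = n + 1 := by
    rw [← A.fix c hc.2 (A.notMem_P (A.S_inf ha) hc hc1)]
    apply Nat.card_congr
    apply Equiv.subtypeEquivRight
    intro b
    rw [mem_fixedBy, A.fix_all ha hc hc1]
    constructor
    · rintro ⟨m, rfl⟩
      intro x hx
      rw [mem_stabilizer_iff]
      have h3 : (m : G)⁻¹ * x * m ∈ S := by
        have := (mem_normalizer_iff.mp (inv_mem m.2) x).mp hx
        rwa [inv_inv] at this
      have h4 := mem_stabilizer_iff.mp (hSo h3)
      change x • ((m : G) • o) = (m : G) • o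
      rw [mul_smul, mul_smul, inv_smul_eq_iff] at h4
      exact h4
    · intro h3
      obtain ⟨g, hg, hgo⟩ := A.norm_tr ha h3
      exact ⟨⟨g, hg⟩, hgo⟩
  have h3 : Nat.card (stabilizer M o) = e := by
    have h5 : (stabilizer M o).map M.subtype = S := by
      ext x
      constructor
      · rintro ⟨y, hy, rfl⟩
        have hy' : (y : G) • o = o := mem_stabilizer_iff.mp hy
        apply A.self_norm inf_le_right (A.S_inf ha) (A.card_S ha) _ y.2
        rw [← A.hst]; exact mem_stabilizer_iff.mpr hy'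
      · intro hx
        refine ⟨⟨x, le_normalizer hx⟩, ?_, rfl⟩
        exact mem_stabilizer_iff.mp (hSo hx)
    have h6 := Nat.card_congr ((stabilizer M o).equivMapOfInjective _ M.subtype_injective).toEquiv
    rw [h5, A.card_S ha] at h6
    exact h6
  rw [← h1, h2, h3]

theorem card_G : Nat.card G = p * e * (1 + n * p) := by
  haveI := A.tr
  haveI := A.fin
  classical
  letI : Fintype G := Fintype.ofFinite _
  letI : Fintype (orbit G o) := Fintype.ofFinite _
  letI : Fintype (stabilizer G o) := Fintype.ofFinite _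
  have h1 := card_orbit_mul_card_stabilizer_eq_card_group G o
  rw [← Nat.card_eq_fintype_card, ← Nat.card_eq_fintype_card, ← Nat.card_eq_fintype_card, orbit_eq_univ,
    A.hst, A.hN, Nat.card_congr (Equiv.Set.univ Ω), A.hΩ] at h1
  rw [← h1]; ring

theorem exists_ne_o : ∃ a : Ω, a ≠ o := by
  haveI := A.fin
  haveI : Nontrivial Ω := by
    rw [← Finite.one_lt_card_iff_nontrivial, A.hΩ]
    have := Nat.mul_pos A.hn A.hp.pos
    omega
  exact _root_.exists_ne o

/-- the divisibility -/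
theorem dvd : (n + 1) ∣ p * (1 + n * p) := by
  obtain ⟨a, ha⟩ := A.exists_ne_o
  have h1 := card_subgroup_dvd_card (normalizer ((stabilizer G a ⊓ normalizer (P : Set G) : Subgroup G) : Set G))
  rw [A.card_norm ha, A.card_G] at h1
  have h2 : p * e * (1 + n * p) = (p * (1 + n * p)) * e := by ring
  rw [h2] at h1
  exact Nat.dvd_of_mul_dvd_mul_right (by have := A.he; omega) h1

theorem dvd_sub (hlt : n + 1 < p) : (n + 1) ∣ p - 1 := by
  have h1 : (n + 1).Coprime p := by
    rw [Nat.coprime_comm, Nat.Prime.coprime_iff_not_dvd A.hp]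
    intro h
    have := Nat.le_of_dvd (by omega) h
    omega
  have h2 := h1.dvd_of_dvd_mul_left A.dvd
  have h3 : (n + 1) * p - (1 + n * p) = p - 1 := by
    have : (n + 1) * p = n * p + p := by ring
    omega
  rw [← h3]
  exact Nat.dvd_sub (Dvd.intro _ rfl) h2

end

end PG

end Cfsg.Agent.H9.BR
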