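import Cfsg.Agent.H9.BRH
import Cfsg.Agent.H9.BSWN
import Cfsg.Agent.H20.ZPsl7

set_option autoImplicit false
set_option linter.unusedSectionVars false
set_option linter.style.haveILetI false
set_option linter.unusedVariables false
set_option linter.unusedSimpArgs false

/-! The permutation group on the Sylow subgroups: swapping elements. -/

open Cfsg

namespace Cfsg.Agent.H9.BR

open Subgroup Exc MulAction

universe u v

namespace PG

variable {G : Type u} [Group G] [Finite G] {p : ℕ} {P : Subgroup G} {e n : ℕ} {Ω : Type v} [MulAction G Ω] {o : Ω}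

section
variable (A : PG G p P e n Ω o)
include A

/-- the centralizer of an involution of a two-point stabilizer -/
theorem centralizer_inv {a : Ω} (ha : a ≠ o) {z : G} (hz : z ∈ stabilizer G a ⊓ normalizer (P : Set G))
    (hz2 : orderOf z = 2) : centralizer ({z} : Set G) =
      normalizer ((stabilizer G a ⊓ normalizer (P : Set G) : Subgroup G) : Set G) := by
  classical
  haveI := A.fin
  have hz1 : z ≠ 1 := by rintro rfl; rw [orderOf_one] at hz2; omega
  have hzz : z * z = 1 := by rw [← pow_two, ← hz2, pow_orderOf_eq_one]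
  symm
  apply eq_of_le_of_card_ge
  · intro g hg
    rw [mem_centralizer_singleton_iff]
    have h1 : g * z * g⁻¹ ∈ stabilizer G a ⊓ normalizer (P : Set G) := (mem_normalizer_iff.mp hg z).mp hz
    have h2 : (g * z * g⁻¹) * (g * z * g⁻¹) = 1 := by
      calc (g * z * g⁻¹) * (g * z * g⁻¹) = g * (z * z) * g⁻¹ := by group
        _ = 1 := by rw [hzz]; group
    rcases Cfsg.Agent.H9.BSW.cyclic_uniq (A.isCyclic inf_le_right (A.S_inf ha)) hz h1 hz1 hzz h2 with h3 | h3
    · exfalso
      apply hz1
      have : z = g⁻¹ * (g * z * g⁻¹) * g := by group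
      rw [this, h3]; group
    · calc g * z = (g * z * g⁻¹) * g := by group
        _ = z * g := by rw [h3]
  · rw [A.card_norm ha]
    set C := centralizer ({z} : Set G) with hC
    have h1 : Nat.card (orbit C o) * Nat.card (stabilizer C o) = Nat.card C := by
      letI : Fintype C := Fintype.ofFinite _
      letI : Fintype (orbit C o) := Fintype.ofFinite _
      letI : Fintype (stabilizer C o) := Fintype.ofFinite _
      rw [Nat.card_eq_fintype_card, Nat.card_eq_fintype_card, Nat.card_eq_fintype_card]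
      exact card_orbit_mul_card_stabilizer_eq_card_group C o
    have hzo : z • o = o := by
      have : z ∈ stabilizer G o := by rw [A.hst]; exact hz.2
      exact mem_stabilizer_iff.mp this
    have h2 : Nat.card (orbit C o) ≤ n + 1 := by
      rw [← A.fix z hz.2 (A.notMem_P (A.S_inf ha) hz hz1)]
      apply Nat.card_mono (Set.toFinite _)
      rintro _ ⟨m, rfl⟩
      have h3 := mem_centralizer_singleton_iff.mp m.2
      change z • ((m : G) • o) = (m : G) • o
      rw [← mul_smul, ← h3, mul_smul, hzo]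
    have h3 : Nat.card (stabilizer C o) ≤ e := by
      have h6 := Nat.card_congr ((stabilizer C o).equivMapOfInjective _ C.subtype_injective).toEquiv
      rw [h6]
      apply A.card_le
      · rintro _ ⟨y, hy, rfl⟩
        rw [← A.hst]
        exact mem_stabilizer_iff.mpr (mem_stabilizer_iff.mp hy)
      · rw [eq_bot_iff]
        rintro _ ⟨⟨y, hy, rfl⟩, hyP⟩
        rw [mem_bot]
        exact A.comm_P (A.notMem_P (A.S_inf ha) hz hz1) hyP (mem_centralizer_singleton_iff.mp y.2).symm
    rw [← h1]
    exact Nat.mul_le_mul h2 h3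

/-- arbitrary two-point stabilizers -/
theorem card_two {a b : Ω} (hab : a ≠ b) : Nat.card (stabilizer G a ⊓ stabilizer G b : Subgroup G) = e := by
  haveI := A.tr
  obtain ⟨g, hg⟩ := exists_smul_eq G b o
  have hga : g • a ≠ o := by
    intro h
    apply hab
    exact smul_left_cancel g (h.trans hg.symm)
  rw [← A.card_S hga, ← A.hst]
  have h1 : (stabilizer G a ⊓ stabilizer G b : Subgroup G).map (MulAut.conj g).toMonoidHom =
      stabilizer G (g • a) ⊓ stabilizer G o := by
    ext x
    constructor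
    · rintro ⟨y, ⟨hy1, hy2⟩, rfl⟩
      have hy1' : y • a = a := hy1
      have hy2' : y • b = b := hy2
      change g * y * g⁻¹ ∈ _
      rw [mem_inf, mem_stabilizer_iff, mem_stabilizer_iff]
      constructor
      · rw [mul_smul, mul_smul, inv_smul_smul, hy1']
      · rw [← hg, mul_smul, mul_smul, inv_smul_smul, hy2']
    · rintro ⟨h1, h2⟩
      have h1' : x • (g • a) = g • a := h1
      have h2' : x • o = o := h2
      refine ⟨g⁻¹ * x * g, ⟨?_, ?_⟩, ?_⟩
      · change (g⁻¹ * x * g) • a = a
        rw [mul_smul, mul_smul, h1', inv_smul_smul]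
      · change (g⁻¹ * x * g) • b = b
        rw [mul_smul, mul_smul, hg, h2', ← hg, inv_smul_smul]
      · change g * (g⁻¹ * x * g) * g⁻¹ = x
        group
  rw [← h1]
  exact Nat.card_congr ((stabilizer G a ⊓ stabilizer G b : Subgroup G).equivMapOfInjective (MulAut.conj g).toMonoidHom
    (MulAut.conj g).injective).toEquiv

open scoped Classical in
/-- the number of elements swapping two points -/
theorem card_swap [Fintype G] {a b : Ω} (hab : a ≠ b) :
    (Finset.univ.filter (fun g : G => g • a = b ∧ g • b = a)).card ≤ e := by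
  rcases (Finset.univ.filter (fun g : G => g • a = b ∧ g • b = a)).eq_empty_or_nonempty with h | ⟨g₀, hg₀⟩
  · rw [h, Finset.card_empty]; omega
  · rw [Finset.mem_filter] at hg₀
    have h1 := hg₀.2.1
    have h2 := hg₀.2.2
    rw [← A.card_two hab]
    letI : Fintype (stabilizer G a ⊓ stabilizer G b : Subgroup G) := Fintype.ofFinite _
    rw [Nat.card_eq_fintype_card, ← Finset.card_univ]
    have hmem : ∀ g : G, g • a = b → g • b = a → g₀⁻¹ * g ∈ stabilizer G a ⊓ stabilizer G b := by
      intro g hg1 hg2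
      rw [mem_inf, mem_stabilizer_iff, mem_stabilizer_iff]
      constructor
      · rw [mul_smul, hg1, ← h1, inv_smul_smul]
      · rw [mul_smul, hg2, ← h2, inv_smul_smul]
    apply Finset.card_le_card_of_injOn (fun g => if h : g • a = b ∧ g • b = a then
      (⟨g₀⁻¹ * g, hmem g h.1 h.2⟩ : (stabilizer G a ⊓ stabilizer G b : Subgroup G)) else 1)
    · intro g _; exact Finset.mem_coe.mpr (Finset.mem_univ _)
    · intro g hg g' hg' hgg
      rw [Finset.mem_coe, Finset.mem_filter] at hg hg'
      simp only [dif_pos hg.2, dif_pos hg'.2] at hgg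
      exact mul_left_cancel (congrArg Subtype.val hgg)

/-- all elements swapping two points are conjugate to `z` -/
theorem swap (ht : (n + 1) * e = p - 1) {a : Ω} (ha : a ≠ o) {z : G} (hz : z ∈ stabilizer G a ⊓ normalizer (P : Set G))
    (hz2 : orderOf z = 2) {b c : Ω} (hbc : b ≠ c) :
    (∀ g : G, g • b = c → g • c = b → IsConj z g) ∧ ∃ g : G, g • b = c ∧ g • c = b := by
  classical
  haveI := A.fin
  letI : Fintype Ω := Fintype.ofFinite Ω
  letI : Fintype G := Fintype.ofFinite G
  have hz1 : z ≠ 1 := by rintro rfl; rw [orderOf_one] at hz2; omega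
  let f : Ω × Ω → ℕ := fun x => (Finset.univ.filter (fun g : G => IsConj z g ∧ g • x.1 = x.2 ∧ g • x.2 = x.1)).card
  let pairs : Finset (Ω × Ω) := Finset.univ.filter (fun x => x.1 ≠ x.2)
  have hfle : ∀ x ∈ pairs, f x ≤ e := by
    intro x hx
    rw [Finset.mem_filter] at hx
    refine le_trans (Finset.card_le_card ?_) (A.card_swap hx.2)
    intro g hg
    rw [Finset.mem_filter] at hg ⊢
    exact ⟨hg.1, hg.2.2⟩
  -- number of pairs
  have hpairs : pairs.card = (1 + n * p) * (n * p) := by
    have h1 : pairs = (Finset.univ : Finset Ω).offDiag := by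
      ext x
      simp [pairs, Finset.mem_offDiag]
    rw [h1, Finset.offDiag_card, Finset.card_univ, ← Nat.card_eq_fintype_card, A.hΩ]
    have : (1 + n * p) * (1 + n * p) = (1 + n * p) * (n * p) + (1 + n * p) := by ring
    omega
  -- size of the class
  have hK : Nat.card {g : G // IsConj z g} * (n + 1) = p * (1 + n * p) := by
    have h1 := O168.card_conj_class z
    rw [A.centralizer_inv ha hz hz2, A.card_norm ha, A.card_G] at h1
    have he := A.he
    have h2 : (Nat.card {g : G // IsConj z g} * (n + 1)) * e = (p * (1 + n * p)) * e := by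
      calc (Nat.card {g : G // IsConj z g} * (n + 1)) * e = Nat.card {g : G // IsConj z g} * ((n + 1) * e) := by ring
        _ = p * e * (1 + n * p) := h1
        _ = _ := by ring
    exact Nat.eq_of_mul_eq_mul_right (by omega) h2
  -- the total number
  have htot : ∑ x ∈ pairs, f x = Nat.card {g : G // IsConj z g} * (n * (p - 1)) := by
    have h1 : ∀ x : Ω × Ω, f x = ∑ g : G, (if IsConj z g ∧ g • x.1 = x.2 ∧ g • x.2 = x.1 then 1 else 0) := by
      intro x
      rw [Finset.sum_boole, Nat.cast_id]
    rw [Finset.sum_congr rfl fun x _ => h1 x, Finset.sum_comm]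
    have h2 : ∀ g : G, ∑ x ∈ pairs, (if IsConj z g ∧ g • x.1 = x.2 ∧ g • x.2 = x.1 then 1 else 0) =
        if IsConj z g then n * (p - 1) else 0 := by
      intro g
      by_cases hg : IsConj z g
      · rw [if_pos hg, Finset.sum_boole, Nat.cast_id]
        obtain ⟨w, hw⟩ := isConj_iff.mp hg
        have hgg : g * g = 1 := by
          have hzz : z * z = 1 := by rw [← pow_two, ← hz2, pow_orderOf_eq_one]
          rw [← hw]
          calc (w * z * w⁻¹) * (w * z * w⁻¹) = w * (z * z) * w⁻¹ := by group
            _ = 1 := by rw [hzz]; group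
        have hfixg : Nat.card (fixedBy Ω g) = n + 1 := by
          rw [← A.fix z hz.2 (A.notMem_P (A.S_inf ha) hz hz1)]
          refine Nat.card_congr ⟨fun x => ⟨w⁻¹ • x.1, ?_⟩, fun x => ⟨w • x.1, ?_⟩, fun x => ?_, fun x => ?_⟩
          · rw [mem_fixedBy]
            have h3 : z = w⁻¹ * g * w := by rw [← hw]; group
            rw [h3, mul_smul, mul_smul, smul_inv_smul, x.2]
          · rw [mem_fixedBy, ← hw, mul_smul, mul_smul, inv_smul_smul, x.2]
          · simp
          · simp
        have h3 : (pairs.filter (fun x => IsConj z g ∧ g • x.1 = x.2 ∧ g • x.2 = x.1)).card =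
            (Finset.univ.filter (fun x : Ω => ¬ g • x = x)).card := by
          symm
          apply Finset.card_bij (fun x _ => (x, g • x))
          · intro x hx
            rw [Finset.mem_filter] at hx
            rw [Finset.mem_filter, Finset.mem_filter]
            refine ⟨⟨Finset.mem_univ _, fun h => hx.2 h.symm⟩, hg, rfl, ?_⟩
            change g • (g • x) = x
            rw [← mul_smul, hgg, one_smul]
          · intro x _ y _ hxy
            exact congrArg Prod.fst hxy
          · rintro ⟨x, y⟩ hxy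
            rw [Finset.mem_filter, Finset.mem_filter] at hxy
            obtain ⟨⟨-, hne⟩, -, h4, -⟩ := hxy
            simp only at hne h4
            refine ⟨x, ?_, by rw [h4]⟩
            rw [Finset.mem_filter]
            exact ⟨Finset.mem_univ _, fun h5 => hne (by rw [← h4, h5])⟩
        rw [h3]
        have h4 := Finset.card_filter_add_card_filter_not (s := (Finset.univ : Finset Ω)) (fun x => g • x = x)
        have h5 : (Finset.univ.filter (fun x : Ω => g • x = x)).card = n + 1 := by
          rw [← hfixg, Nat.card_eq_fintype_card, Fintype.card_of_subtype]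
          intro x; simp
        rw [h5, Finset.card_univ, ← Nat.card_eq_fintype_card, A.hΩ] at h4
        have h6 : n * (p - 1) + n = n * p := by
          have := A.hp.one_le
          rw [← Nat.mul_succ]; congr 1; omega
        omega
      · rw [if_neg hg]
        apply Finset.sum_eq_zero
        intro x _
        rw [if_neg (fun h => hg h.1)]
    rw [Finset.sum_congr rfl fun g _ => h2 g, ← Finset.sum_filter, Finset.sum_const, smul_eq_mul,
      Nat.card_eq_fintype_card, Fintype.card_of_subtype (Finset.univ.filter (fun g : G => IsConj z g))]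
    intro g; simp
  have hall : ∀ x ∈ pairs, f x = e := by
    have h1 : ∑ x ∈ pairs, f x = ∑ x ∈ pairs, e := by
      rw [htot, Finset.sum_const, hpairs, smul_eq_mul, ← ht]
      calc Nat.card {g : G // IsConj z g} * (n * ((n + 1) * e)) = (Nat.card {g : G // IsConj z g} * (n + 1)) * (n * e) := by ring
        _ = p * (1 + n * p) * (n * e) := by rw [hK]
        _ = _ := by ring
    exact (Finset.sum_eq_sum_iff_of_le hfle).mp h1
  have hbc' : (b, c) ∈ pairs := by rw [Finset.mem_filter]; exact ⟨Finset.mem_univ _, hbc⟩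
  have h1 := hall _ hbc'
  have h2 : (Finset.univ.filter (fun g : G => IsConj z g ∧ g • b = c ∧ g • c = b)) =
      (Finset.univ.filter (fun g : G => g • b = c ∧ g • c = b)) := by
    apply Finset.eq_of_subset_of_card_le
    · intro g hg
      rw [Finset.mem_filter] at hg ⊢
      exact ⟨hg.1, hg.2.2⟩
    · exact (A.card_swap hbc).trans h1.ge
  constructor
  · intro g hg1 hg2
    have h3 : g ∈ (Finset.univ.filter (fun g : G => g • b = c ∧ g • c = b)) := by
      rw [Finset.mem_filter]; exact ⟨Finset.mem_univ _, hg1, hg2⟩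
    rw [← h2, Finset.mem_filter] at h3
    exact h3.2.1
  · have h3 : 0 < (Finset.univ.filter (fun g : G => IsConj z g ∧ g • b = c ∧ g • c = b)).card := by
      have := A.he
      have h4 : (Finset.univ.filter (fun g : G => IsConj z g ∧ g • b = c ∧ g • c = b)).card = e := h1
      omega
    obtain ⟨g, hg⟩ := Finset.card_pos.mp h3
    rw [Finset.mem_filter] at hg
    exact ⟨g, hg.2.2⟩

/-- elements of `M` outside the two-point stabilizer -/
theorem out_inv (ht : (n + 1) * e = p - 1) {a : Ω} (ha : a ≠ o) {z : G} (hz : z ∈ stabilizer G a ⊓ normalizer (P : Set G))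
    (hz2 : orderOf z = 2) {w : G}
    (hw : w ∈ normalizer ((stabilizer G a ⊓ normalizer (P : Set G) : Subgroup G) : Set G))
    (hwS : w ∉ stabilizer G a ⊓ normalizer (P : Set G)) :
    IsConj z w ∧ ∀ d ∈ stabilizer G a ⊓ normalizer (P : Set G), w * d * w⁻¹ = d⁻¹ := by
  haveI := A.fin
  haveI := A.tr
  set S := stabilizer G a ⊓ normalizer (P : Set G) with hS
  have hSo : S ≤ stabilizer G o := by rw [A.hst]; exact inf_le_right
  -- `w o ≠ o`
  have hwo : w • o ≠ o := by
    intro h
    apply hwS
    apply A.self_norm inf_le_right (A.S_inf ha) (A.card_S ha) _ hw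
    rw [← A.hst]; exact mem_stabilizer_iff.mpr h
  have hSw : S ≤ stabilizer G (w • o) := by
    intro x hx
    rw [mem_stabilizer_iff]
    have h3 : w⁻¹ * x * w ∈ S := by
      have := (mem_normalizer_iff.mp (inv_mem hw) x).mp hx
      rwa [inv_inv] at this
    have h4 := mem_stabilizer_iff.mp (hSo h3)
    rw [mul_smul, mul_smul, inv_smul_eq_iff] at h4
    exact h4
  have hSeq : stabilizer G (w • o) ⊓ stabilizer G o = S := by
    symm
    apply eq_of_le_of_card_ge (le_inf hSw hSo)
    rw [A.card_two hwo, A.card_S ha]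
  obtain ⟨g, hg1, hg2⟩ := (A.swap ht ha hz hz2 (Ne.symm hwo)).2
  have hall := (A.swap ht ha hz hz2 (Ne.symm hwo)).1
  -- every swapping element inverts `S`
  have hinv2 : ∀ g : G, g • o = w • o → g • (w • o) = o → g * g = 1 := by
    intro g h1 h2
    obtain ⟨y, hy⟩ := isConj_iff.mp (hall g h1 h2)
    have hzz : z * z = 1 := by rw [← pow_two, ← hz2, pow_orderOf_eq_one]
    rw [← hy]
    calc (y * z * y⁻¹) * (y * z * y⁻¹) = y * (z * z) * y⁻¹ := by group
      _ = 1 := by rw [hzz]; group
  have hinvert : ∀ g : G, g • o = w • o → g • (w • o) = o → ∀ d ∈ S, g * d * g⁻¹ = d⁻¹ := by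
    intro g h1 h2 d hd
    have hdo : d • o = o := mem_stabilizer_iff.mp (hSo hd)
    have hdw : d • (w • o) = w • o := mem_stabilizer_iff.mp (hSw hd)
    have h3 := hinv2 g h1 h2
    have h4 := hinv2 (g * d) (by rw [mul_smul, hdo, h1]) (by rw [mul_smul, hdw, h2])
    have h5 : g⁻¹ = g := inv_eq_of_mul_eq_one_left h3
    rw [h5]
    calc g * d * g = ((g * d) * (g * d)) * d⁻¹ := by group
      _ = d⁻¹ := by rw [h4, one_mul]
  have hgN : g⁻¹ * w ∈ S := by
    have hgM : g ∈ normalizer ((S : Subgroup G) : Set G) := by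
      have h3 := hinv2 g hg1 hg2
      have h5 : g⁻¹ = g := inv_eq_of_mul_eq_one_left h3
      rw [mem_normalizer_iff]
      intro x
      constructor
      · intro hx
        rw [hinvert g hg1 hg2 x hx]; exact inv_mem hx
      · intro hx
        have h6 := hinvert g hg1 hg2 _ hx
        rw [h5] at h6 hx
        have h7 : x = g * (g * x * g) * g := by
          calc x = (g * g) * x * (g * g) := by rw [h3]; group
            _ = g * (g * x * g) * g := by group
        rw [h7, h6]; exact inv_mem hx
    apply A.self_norm inf_le_right (A.S_inf ha) (A.card_S ha) _ (mul_mem (inv_mem hgM) hw)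
    rw [← A.hst, mem_stabilizer_iff, mul_smul, inv_smul_eq_iff]
    exact hg1.symm
  have hw2 : w • (w • o) = o := by
    have h1 : w = g * (g⁻¹ * w) := by group
    have h2 : (g⁻¹ * w) • (w • o) = w • o := mem_stabilizer_iff.mp (hSw hgN)
    calc w • (w • o) = (g * (g⁻¹ * w)) • (w • o) := by rw [← h1]
      _ = g • ((g⁻¹ * w) • (w • o)) := by rw [mul_smul]
      _ = o := by rw [h2, hg2]
  exact ⟨hall w rfl hw2, hinvert w rfl hw2⟩

/-- the dichotomy -/
theorem dichotomy (ht : (n + 1) * e = p - 1) (hev : Even e) : n = 1 ∨ e = 2 := by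
  classical
  haveI := A.fin
  by_contra hcon
  push Not at hcon
  obtain ⟨hn1, he2⟩ := hcon
  obtain ⟨a, ha⟩ := A.exists_ne_o
  set S := stabilizer G a ⊓ normalizer (P : Set G) with hS
  have hcS := A.card_S ha
  obtain ⟨z, hz⟩ := exists_prime_orderOf_dvd_card' (G := S) 2 (by rw [hcS]; exact hev.two_dvd)
  have hz2 : orderOf (z : G) = 2 := by rw [Subgroup.orderOf_coe]; exact hz
  set M := normalizer ((S : Subgroup G) : Set G) with hM
  have hcM : Nat.card M = (n + 1) * e := A.card_norm ha
  have hSM : S ≤ M := le_normalizer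
  have hout := fun (w : G) (hw : w ∈ M) (hwS : w ∉ S) => A.out_inv ht ha z.2 hz2 hw hwS
  -- two elements
  have hn := A.hn
  have he := A.he
  have h1 : ∃ w₁ ∈ M, w₁ ∉ S := by
    by_contra hc
    push Not at hc
    have h2 : M ≤ S := hc
    have h3 := card_le_of_le h2
    rw [hcM, hcS] at h3
    nlinarith
  obtain ⟨w₁, hw₁, hw₁S⟩ := h1
  have h2 : ∃ w₂ ∈ M, w₂ ∉ S ∧ w₁⁻¹ * w₂ ∉ S := by
    by_contra hc
    push Not at hc
    letI : Fintype M := Fintype.ofFinite _
    letI : Fintype S := Fintype.ofFinite _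
    -- M injects into S ⊕ S
    let f : M → S ⊕ S := fun w => if h : (w : G) ∈ S then Sum.inl ⟨w, h⟩ else Sum.inr ⟨w₁⁻¹ * w, hc w w.2 h⟩
    have hf : Function.Injective f := by
      intro x y hxy
      simp only [f] at hxy
      by_cases hx : (x : G) ∈ S
      · by_cases hy : (y : G) ∈ S
        · rw [dif_pos hx, dif_pos hy] at hxy
          have h3 := congrArg Subtype.val (Sum.inl_injective hxy)
          exact Subtype.ext h3
        · rw [dif_pos hx, dif_neg hy] at hxy
          cases hxy
      · by_cases hy : (y : G) ∈ S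
        · rw [dif_neg hx, dif_pos hy] at hxy
          cases hxy
        · rw [dif_neg hx, dif_neg hy] at hxy
          have h3 := congrArg Subtype.val (Sum.inr_injective hxy)
          exact Subtype.ext (mul_left_cancel h3)
    have h3 := Nat.card_le_card_of_injective f hf
    rw [Nat.card_sum, hcM, hcS] at h3
    have h4 : 2 < n + 1 := by omega
    nlinarith
  obtain ⟨w₂, hw₂, hw₂S, hw₁₂⟩ := h2
  -- every element of `S` squares to 1
  have hsq : ∀ d ∈ S, d * d = 1 := by
    intro d hd
    have e1 := (hout w₁ hw₁ hw₁S).2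
    have e2 := (hout w₂ hw₂ hw₂S).2
    have e3 := (hout _ (mul_mem (inv_mem hw₁) hw₂) hw₁₂).2 d hd
    have e4 : (w₁⁻¹ * w₂) * d * (w₁⁻¹ * w₂)⁻¹ = d := by
      have h5 : w₂ * d * w₂⁻¹ = d⁻¹ := e2 d hd
      have h6 : w₁ * d * w₁⁻¹ = d⁻¹ := e1 d hd
      calc (w₁⁻¹ * w₂) * d * (w₁⁻¹ * w₂)⁻¹ = w₁⁻¹ * (w₂ * d * w₂⁻¹) * w₁ := by group
        _ = w₁⁻¹ * (w₁ * d * w₁⁻¹) * w₁ := by rw [h5, h6]
        _ = d := by group
    rw [e4] at e3
    calc d * d = d⁻¹ * d := by rw [← e3]
      _ = 1 := by group
  haveI := A.isCyclic (inf_le_right : S ≤ _) (A.S_inf ha)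
  obtain ⟨c, hc⟩ := IsCyclic.exists_generator (α := S)
  have h3 : orderOf c = Nat.card S := orderOf_eq_card_of_forall_mem_zpowers hc
  have h4 : orderOf c ∣ 2 := orderOf_dvd_of_pow_eq_one (Subtype.ext (by
    change (c : G) ^ 2 = 1
    rw [pow_two]; exact hsq c c.2))
  have h5 := Nat.le_of_dvd (by norm_num) h4
  rw [h3, hcS] at h5
  omega

/-- for `n = 1` the group is a Zassenhaus group -/
theorem zass (hn1 : n = 1) [IsSimpleGroup G] : IsZassenhausGroup G Ω := by
  classical
  haveI := A.fin
  haveI := A.tr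
  have hpp := A.hp
  have hΩ := A.hΩ
  rw [hn1, one_mul] at hΩ
  haveI hnt : Nontrivial Ω := by
    rw [← Finite.one_lt_card_iff_nontrivial, hΩ]
    have := hpp.pos; omega
  -- transitivity of P
  have hPtr : ∀ a b : Ω, a ≠ o → b ≠ o → ∃ u ∈ P, u • a = b := by
    intro a b ha hb
    have hmem : ∀ u : P, (u : G) • a ≠ o := by
      intro u h
      apply ha
      have h1 : (u : G) ∈ stabilizer G o := by rw [A.hst]; exact A.P_le u.2
      have h2 := mem_stabilizer_iff.mp h1
      rw [← h2] at h
      exact smul_left_cancel (u : G) h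
    let f : P → {x : Ω // x ≠ o} := fun u => ⟨(u : G) • a, hmem u⟩
    have hf : Function.Injective f := by
      intro u v huv
      have h1 : (u : G) • a = (v : G) • a := congrArg Subtype.val huv
      have h2 : ((v : G)⁻¹ * u) • a = a := by rw [mul_smul, h1, inv_smul_smul]
      by_contra hne
      have h3 : (v : G)⁻¹ * u ≠ 1 := fun h => hne (Subtype.ext (inv_mul_eq_one.mp h)).symm
      exact ha (A.P_fix (mul_mem (inv_mem v.2) u.2) h3 h2)
    have hbij : Function.Bijective f := by
      rw [Nat.bijective_iff_injective_and_card]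
      refine ⟨hf, ?_⟩
      rw [A.hP]
      letI : Fintype Ω := Fintype.ofFinite Ω
      rw [Nat.card_eq_fintype_card, Fintype.card_subtype_compl, Fintype.card_subtype_eq, ← Nat.card_eq_fintype_card, hΩ]
      omega
    obtain ⟨u, hu⟩ := hbij.2 ⟨b, hb⟩
    exact ⟨u, u.2, congrArg Subtype.val hu⟩
  refine ⟨?_, ?_, ?_, ?_, ?_⟩
  · -- faithful
    have hker : (MulAction.toPermHom G Ω).ker = ⊥ := by
      rcases (inferInstance : (MulAction.toPermHom G Ω).ker.Normal).eq_bot_or_eq_top with h | h
      · exact h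
      · exfalso
        obtain ⟨a, ha⟩ := _root_.exists_ne o
        obtain ⟨g, hg⟩ := exists_smul_eq G o a
        have h1 : g ∈ (MulAction.toPermHom G Ω).ker := by rw [h]; trivial
        have h2 : (MulAction.toPermHom G Ω) g = 1 := h1
        have h3 := congrArg (fun f : Equiv.Perm Ω => f o) h2
        simp only [toPermHom_apply, toPerm_apply, Equiv.Perm.coe_one, id_eq] at h3
        exact ha (hg.symm.trans h3)
    have hinj := (MonoidHom.ker_eq_bot_iff _).mp hker
    exact ⟨fun {g h} hgh => hinj (Equiv.ext hgh)⟩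
  · rw [is_two_pretransitive_iff]
    intro a b c d hab hcd
    obtain ⟨g, hg⟩ := exists_smul_eq G a o
    obtain ⟨k, hk⟩ := exists_smul_eq G c o
    have h1 : g • b ≠ o := fun h => hab (smul_left_cancel g (hg.trans h.symm))
    have h2 : k • d ≠ o := fun h => hcd (smul_left_cancel k (hk.trans h.symm))
    obtain ⟨u, hu, hub⟩ := hPtr _ _ h1 h2
    have huo : u • o = o := by
      have h3 : u ∈ stabilizer G o := by rw [A.hst]; exact A.P_le hu
      exact mem_stabilizer_iff.mp h3
    refine ⟨k⁻¹ * u * g, ?_, ?_⟩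
    · rw [mul_smul, mul_smul, hg, huo, ← hk, inv_smul_smul]
    · rw [mul_smul, mul_smul, hub, inv_smul_smul]
  · intro g a b c hab hbc hac ha hb hc
    by_contra hg1
    obtain ⟨k, hk⟩ := exists_smul_eq G a o
    set g' := k * g * k⁻¹ with hg'
    have hg'1 : g' ≠ 1 := by
      intro h
      apply hg1
      have : g = k⁻¹ * g' * k := by rw [hg']; group
      rw [this, h]; group
    have hfo : g' • o = o := by rw [hg', ← hk, mul_smul, mul_smul, inv_smul_smul, ha]
    have hfb : g' • (k • b) = k • b := by rw [hg', mul_smul, mul_smul, inv_smul_smul, hb]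
    have hfc : g' • (k • c) = k • c := by rw [hg', mul_smul, mul_smul, inv_smul_smul, hc]
    have hbo : k • b ≠ o := fun h => hab (smul_left_cancel k (hk.trans h.symm))
    have hco : k • c ≠ o := fun h => hac (smul_left_cancel k (hk.trans h.symm))
    have hbc' : k • b ≠ k • c := fun h => hbc (smul_left_cancel k h)
    have hgN : g' ∈ normalizer (P : Set G) := by rw [← A.hst]; exact mem_stabilizer_iff.mpr hfo
    have hgP : g' ∉ P := fun h => hbo (A.P_fix h hg'1 hfb)
    have h3 := A.fix g' hgN hgP
    rw [hn1] at h3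
    letI : Fintype (fixedBy Ω g') := Fintype.ofFinite _
    have h4 : ({⟨o, hfo⟩, ⟨k • b, hfb⟩, ⟨k • c, hfc⟩} : Finset (fixedBy Ω g')).card = 3 := by
      rw [Finset.card_eq_three]
      refine ⟨_, _, _, ?_, ?_, ?_, rfl⟩
      · intro h; exact hbo (congrArg Subtype.val h).symm
      · intro h; exact hco (congrArg Subtype.val h).symm
      · intro h; exact hbc' (congrArg Subtype.val h)
    have h5 := Finset.card_le_univ ({⟨o, hfo⟩, ⟨k • b, hfb⟩, ⟨k • c, hfc⟩} : Finset (fixedBy Ω g'))
    rw [h4, ← Nat.card_eq_fintype_card, h3] at h5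
    omega
  · obtain ⟨a, ha⟩ := A.exists_ne_o
    obtain ⟨c, hc, hc1⟩ := A.exists_c ha
    refine ⟨c, hc1, a, o, ha, mem_stabilizer_iff.mp hc.1, ?_⟩
    have h3 : c ∈ stabilizer G o := by rw [A.hst]; exact hc.2
    exact mem_stabilizer_iff.mp h3
  · intro N hN hNt
    rcases hN.eq_bot_or_eq_top with h | h
    · exfalso
      obtain ⟨a, ha⟩ := A.exists_ne_o
      obtain ⟨⟨x, hx⟩, hxo⟩ := hNt.exists_smul_eq o a
      rw [h, mem_bot] at hx
      subst hx
      have h2 : (1 : G) • o = a := hxo
      rw [one_smul] at h2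
      exact ha h2.symm
    · refine ⟨o, ?_⟩
      intro h1
      haveI : Nontrivial P := by
        rw [← Finite.one_lt_card_iff_nontrivial, A.hP]; exact hpp.one_lt
      obtain ⟨u, hu⟩ := _root_.exists_ne (1 : P)
      have h2 : (⟨u, by rw [h]; trivial⟩ : N) ∈ stabilizer N o := by
        rw [mem_stabilizer_iff]
        have h3 : (u : G) ∈ stabilizer G o := by rw [A.hst]; exact A.P_le u.2
        exact mem_stabilizer_iff.mp h3
      rw [h1, mem_bot] at h2
      have h4 : (u : G) = 1 := congrArg Subtype.val h2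
      exact hu (Subtype.ext h4)

/-- the case `n = 1` -/
theorem psl_p (hn1 : n = 1) [IsSimpleGroup G] (h2 : 2 < p) : ∃ (F : Type) (_ : Field F) (_ : Fintype F),
    Fintype.card F = p ∧ Nonempty (G ≃* Matrix.ProjectiveSpecialLinearGroup (Fin 2) F) := by
  haveI := A.fin
  have hZ := A.zass hn1
  rcases H20.Zass.simple_classification hZ with ⟨F, i1, i2, hF, hiso⟩ | ⟨a, hK2, -⟩
  · refine ⟨F, i1, i2, ?_, hiso⟩
    rw [A.hΩ, hn1] at hF
    omega
  · exfalso
    have h1 := H20.Zass.card_K hZ a
    rw [A.hΩ, hn1] at h1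
    have h3 : Nat.card (H20.Zass.K hZ a) = p := by omega
    obtain ⟨k, hk⟩ := (IsPGroup.iff_card.mp hK2)
    rw [h3] at hk
    have h4 : p ∣ 2 := A.hp.dvd_of_dvd_pow (Dvd.intro_left 1 (by rw [one_mul]; exact hk))
    have := Nat.le_of_dvd (by norm_num) h4
    omega

/-- the case `e = 2` -/
theorem psl_two (ht : (n + 1) * e = p - 1) (he2 : e = 2) (hodd : Even (n + 1)) [IsSimpleGroup G]
    (hG : ¬ IsMulCommutative G) : ∃ (m : ℕ) (F : Type) (_ : Field F) (_ : Fintype F),
    Fintype.card F = 2 ^ m ∧ p = 2 ^ m + 1 ∧ Nonempty (G ≃* Matrix.ProjectiveSpecialLinearGroup (Fin 2) F) := by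
  classical
  haveI := A.fin
  obtain ⟨a, ha⟩ := A.exists_ne_o
  set S := stabilizer G a ⊓ normalizer (P : Set G) with hS
  have hcS := A.card_S ha
  obtain ⟨z, hz⟩ := exists_prime_orderOf_dvd_card' (G := S) 2 (by rw [hcS, he2])
  have hz2 : orderOf (z : G) = 2 := by rw [Subgroup.orderOf_coe]; exact hz
  have hz1 : (z : G) ≠ 1 := by intro h; rw [h, orderOf_one] at hz2; omega
  set M := normalizer ((S : Subgroup G) : Set G) with hM
  have hcM : Nat.card M = p - 1 := by rw [← ht]; exact A.card_norm ha
  have hCM : centralizer ({(z : G)} : Set G) = M := A.centralizer_inv ha z.2 hz2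
  have hconj : ∀ w ∈ M, w ≠ 1 → IsConj (z : G) w := by
    intro w hw hw1
    by_cases hwS : w ∈ S
    · -- S = {1, z}
      have h1 : w = z := by
        have h2 : w * w = 1 := by
          have h3 := orderOf_dvd_natCard (⟨w, hwS⟩ : S)
          rw [hcS, he2, ← Subgroup.orderOf_coe] at h3
          have := orderOf_dvd_iff_pow_eq_one.mp h3
          rw [← pow_two]; exact this
        have hzz : (z : G) * z = 1 := by rw [← pow_two, ← hz2, pow_orderOf_eq_one]
        rcases Cfsg.Agent.H9.BSW.cyclic_uniq (A.isCyclic inf_le_right (A.S_inf ha)) z.2 hwS hz1 hzz h2 with h4 | h4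
        · exact absurd h4 hw1
        · exact h4
      rw [h1]
    · exact (A.out_inv ht ha z.2 hz2 hw hwS).1
  have hord : ∀ w : G, IsConj (z : G) w → orderOf w = 2 := by
    intro w hw
    obtain ⟨y, hy⟩ := isConj_iff.mp hw
    rw [← hy, ← hz2]
    exact orderOf_injective (MulAut.conj y).toMonoidHom (MulAut.conj y).injective (z : G)
  have hcent : ∀ w : G, IsConj (z : G) w → Nat.card (centralizer ({w} : Set G)) = p - 1 := by
    intro w hw
    have h1 := O168.card_conj_class w
    have h2 := O168.card_conj_class (z : G)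
    have h3 : Nat.card {g : G // IsConj w g} = Nat.card {g : G // IsConj (z : G) g} :=
      Nat.card_congr (Equiv.subtypeEquivRight (fun g => ⟨fun h => hw.trans h, fun h => hw.symm.trans h⟩))
    rw [h3] at h1
    rw [hCM, hcM] at h2
    have h4 : 0 < Nat.card {g : G // IsConj (z : G) g} := by
      haveI : Nonempty {g : G // IsConj (z : G) g} := ⟨⟨z, IsConj.refl _⟩⟩
      exact Nat.card_pos
    exact Nat.eq_of_mul_eq_mul_left h4 (h1.trans h2.symm)
  have hM2 : ∀ w ∈ M, w ^ 2 = 1 := by
    intro w hw
    by_cases hw1 : w = 1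
    · rw [hw1, one_pow]
    · rw [← hord w (hconj w hw hw1), pow_orderOf_eq_one]
  have hMp : IsPGroup 2 M := fun w => ⟨1, Subtype.ext (by rw [pow_one]; exact hM2 w w.2)⟩
  obtain ⟨T, hT⟩ := hMp.exists_le_sylow
  haveI : Nontrivial (T : Subgroup G) := by
    have h1 : (z : G) ∈ (T : Subgroup G) := hT (le_normalizer z.2)
    exact ⟨⟨⟨z, h1⟩, 1, fun h => hz1 (congrArg Subtype.val h)⟩⟩
  -- `T = M`
  have hTM : (T : Subgroup G) = M := by
    symm
    apply eq_of_le_of_card_ge hT
    haveI := T.isPGroup'.center_nontrivial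
    obtain ⟨y, hy⟩ := _root_.exists_ne (1 : center (T : Subgroup G))
    have hy1 : ((y : (T : Subgroup G)) : G) ≠ 1 := fun h => hy (Subtype.ext (Subtype.ext h))
    have hcomm : ∀ x ∈ (T : Subgroup G), x * ((y : (T : Subgroup G)) : G) = ((y : (T : Subgroup G)) : G) * x := by
      intro x hx
      have := mem_center_iff.mp y.2 ⟨x, hx⟩
      exact congrArg Subtype.val this
    have hyM : ((y : (T : Subgroup G)) : G) ∈ M := by
      rw [← hCM, mem_centralizer_singleton_iff]
      exact (hcomm z (hT (le_normalizer z.2))).symm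
    have h1 : (T : Subgroup G) ≤ centralizer ({((y : (T : Subgroup G)) : G)} : Set G) := by
      intro x hx
      rw [mem_centralizer_singleton_iff]
      exact hcomm x hx
    have h2 := card_le_of_le h1
    rw [hcent _ (hconj _ hyM hy1)] at h2
    rw [hcM]; exact h2
  have hcT : Nat.card (T : Subgroup G) = p - 1 := by rw [hTM, hcM]
  haveI : Fact (Nat.Prime 2) := ⟨Nat.prime_two⟩
  have hmove : ∀ g : G, (∃ k : ℕ, g ^ 2 ^ k = 1) → ∃ y : G, y * g * y⁻¹ ∈ M := by
    rintro g ⟨k, hk⟩
    have h1 : IsPGroup 2 (zpowers g) := by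
      rw [IsPGroup.iff_card]
      rw [Nat.card_zpowers]
      obtain ⟨j, -, hj⟩ := (Nat.dvd_prime_pow Nat.prime_two).mp (orderOf_dvd_of_pow_eq_one hk)
      exact ⟨j, hj⟩
    obtain ⟨Q, hQ⟩ := h1.exists_le_sylow
    obtain ⟨y, hy⟩ := exists_smul_eq G Q T
    refine ⟨y, ?_⟩
    rw [← hTM, ← hy]
    exact ⟨g, hQ (mem_zpowers g), rfl⟩
  obtain ⟨m, hm⟩ := IsPGroup.iff_card.mp hMp
  have hm0 : m ≠ 0 := by
    rintro rfl
    rw [hcM, pow_zero] at hm
    have := A.hn
    have : (n + 1) * e = 1 := by rw [ht, hm]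
    have := Nat.eq_one_of_mul_eq_one_left this
    omega
  letI : Fintype (GaloisField 2 m) := Fintype.ofFinite _
  have hF : Fintype.card (GaloisField 2 m) = 2 ^ m := by
    rw [← Nat.card_eq_fintype_card, GaloisField.card 2 m hm0]
  have hpm : p = 2 ^ m + 1 := by
    have := A.hp.one_le
    rw [← hm, hcM]; omega
  refine ⟨m, GaloisField 2 m, inferInstance, inferInstance, hF, hpm, ?_⟩
  apply CentInv.iso_psl hG T
  · rw [hcT, ← ht, he2]
    have := A.hn
    obtain ⟨k, hk⟩ := hodd
    omega
  · intro z' hz'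
    obtain ⟨y, hy⟩ := hmove z' ⟨1, by rw [pow_one, ← hz', pow_orderOf_eq_one]⟩
    have h1 : y * z' * y⁻¹ ≠ 1 := by
      intro h
      have : z' = y⁻¹ * (y * z' * y⁻¹) * y := by group
      rw [h] at this
      rw [this] at hz'
      simp at hz'
    have h2 := hconj _ hy h1
    have h3 : IsConj (z : G) z' := h2.trans (isConj_iff.mpr ⟨y, rfl⟩).symm
    rw [hcent z' h3, hcT]
  · intro g hg
    obtain ⟨y, hy⟩ := hmove g hg
    have h1 := hM2 _ hy
    have h2 : y * g ^ 2 * y⁻¹ = 1 := by rw [← conj_pow]; exact h1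
    have : g ^ 2 = y⁻¹ * (y * g ^ 2 * y⁻¹) * y := by group
    rw [this, h2]; group
  · rw [hF, ← hm, hTM]

end

end PG

end Cfsg.Agent.H9.BR
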