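import Cfsg.Agent.H9.SPrB

set_option autoImplicit false
set_option linter.unusedSectionVars false
set_option linter.style.haveILetI false
set_option linter.unusedVariables false
set_option linter.unusedSimpArgs false

/-! Groups with an element `x` of prime order with `C(x) = ⟨x⟩`: normal subgroups of order `n_p`. -/

namespace Cfsg.Agent.H9.SPr

open Subgroup MulAction
open scoped commutatorElement

section
variable {G : Type*} [Group G] [Finite G] {p : ℕ} [hpf : Fact p.Prime] {x : G}
  (hx : orderOf x = p) (hC : centralizer ({x} : Set G) = zpowers x)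
include hx hC

omit [Finite G] in
theorem inf_N {S : Subgroup G} [S.Normal] (hS : ¬ p ∣ Nat.card S) :
    S ⊓ normalizer ((zpowers x : Subgroup G) : Set G) = ⊥ := by
  rw [eq_bot_iff]
  intro y hy
  obtain ⟨hyS, hyN⟩ := mem_inf.mp hy
  have h1 : ⁅y, x⁆ ∈ zpowers x := by
    rw [commutatorElement_def]
    exact mul_mem ((mem_normalizer_iff.mp hyN x).mp (mem_zpowers x)) (inv_mem (mem_zpowers x))
  have h2 : ⁅y, x⁆ ∈ S := by
    rw [commutatorElement_def]
    have : y * x * y⁻¹ * x⁻¹ = y * (x * y⁻¹ * x⁻¹) := by group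
    rw [this]
    exact mul_mem hyS ((inferInstance : S.Normal).conj_mem _ (inv_mem hyS) x)
  have h3 := inf_eq_bot hx hC hS h2 h1
  rw [commutatorElement_eq_one_iff_mul_comm] at h3
  have h4 : y ∈ zpowers x := by
    rw [← hC, mem_centralizer_singleton_iff]; exact h3
  exact inf_eq_bot hx hC hS hyS h4

theorem card_sup {S : Subgroup G} [S.Normal] (hS : ¬ p ∣ Nat.card S) :
    Nat.card (normalizer ((zpowers x : Subgroup G) : Set G) ⊔ S : Subgroup G) =
      Nat.card S * Nat.card (normalizer ((zpowers x : Subgroup G) : Set G)) := by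
  rw [← H1.card_mul_relIndex (K := S) (H := normalizer ((zpowers x : Subgroup G) : Set G) ⊔ S) le_sup_right,
    relIndex_sup_right, ← inf_relIndex_right, inf_N hx hC hS, relIndex_bot_left]

/-- the case `G'' ≠ G'`, `e > 1` -/
theorem derived (hN : normalizer ((zpowers x : Subgroup G) : Set G) ≠ zpowers x)
    (hne : ⁅commutator G, commutator G⁆ ≠ commutator G) :
    ⁅commutator G, commutator G⁆ = pPrimeCore p G ∧ Nat.card (pPrimeCore p G) = Nat.card (Sylow p G) ∧
      Nat.card (commutator G) = p * Nat.card (pPrimeCore p G) := by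
  have hp : p.Prime := Fact.out
  have hxG := mem_commutator hx hC hN
  set D := ⁅commutator G, commutator G⁆ with hD
  haveI hDn : D.Normal := by rw [hD]; infer_instance
  have hSd := not_dvd_core hx hC (G := G)
  have hSle : pPrimeCore p G ≤ commutator G := le_commutator hx hC hSd
  have hDle : D ≤ commutator G := Subgroup.commutator_le_left _ _
  have h1 : ¬ p ∣ Nat.card D := fun h => hne (le_antisymm hDle (le_of_dvd hx hC h))
  have hDS : D = pPrimeCore p G := by
    apply le_antisymm
    · exact H1.le_pPrimeCore hDn ((Nat.Prime.coprime_iff_not_dvd hp).mpr h1).symm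
    · intro s hs
      obtain ⟨u, hu, rfl⟩ := exists_comm hx hC hSd hs
      exact commutator_mem_commutator (hSle hu) hxG
  set S := pPrimeCore p G with hSdef
  have hMle : S ⊔ zpowers x ≤ commutator G := sup_le hSle (zpowers_le.mpr hxG)
  have hMn : ((S ⊔ zpowers x).subgroupOf (commutator G)).Normal := by
    constructor
    rintro ⟨m, hmG⟩ hm ⟨g, hgG⟩
    rw [mem_subgroupOf] at hm ⊢
    change g * m * g⁻¹ ∈ S ⊔ zpowers x
    have h2 : g * m * g⁻¹ = ⁅g, m⁆ * m := by rw [commutatorElement_def]; group
    rw [h2]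
    refine mul_mem ?_ hm
    have h3 : ⁅g, m⁆ ∈ D := commutator_mem_commutator hgG hmG
    rw [hDS] at h3
    exact (le_sup_left : S ≤ S ⊔ zpowers x) h3
  have hM : commutator G = S ⊔ zpowers x := by
    rcases normal_sub hx hC hN ((S ⊔ zpowers x).subgroupOf (commutator G)) with h2 | h2
    · exfalso
      have h3 : (⟨x, hxG⟩ : commutator G) ∈ (S ⊔ zpowers x).subgroupOf (commutator G) := by
        rw [mem_subgroupOf]
        exact (le_sup_right : zpowers x ≤ S ⊔ zpowers x) (mem_zpowers x)
      have h4 := h2 h3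
      rw [mem_subgroupOf] at h4
      have := S.orderOf_dvd_natCard h4
      change orderOf x ∣ _ at this
      rw [hx] at this
      exact hSd this
    · apply le_antisymm _ hMle
      rw [subgroupOf_eq_top] at h2
      exact h2
  have hNS : normalizer ((zpowers x : Subgroup G) : Set G) ⊔ S = ⊤ := by
    have h2 := sup_eq_top hx hC hN
    rw [hM, ← sup_assoc] at h2
    rw [eq_top_iff, ← h2]
    refine sup_le le_rfl (le_normalizer.trans le_sup_left)
  have h2 := card_sup hx hC (S := S) hSd
  rw [hNS, card_top] at h2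
  obtain ⟨c1, c2, c3⟩ := count hx hC rfl
  refine ⟨hDS, ?_, ?_⟩
  · rw [← c2] at h2
    exact (Nat.eq_of_mul_eq_mul_right Nat.card_pos h2).symm
  · have h3 : Nat.card (commutator G) ∣ p * Nat.card S := by
      rw [hM, sup_comm]
      have := H1.card_sup_dvd_of_normal_right (zpowers x) S
      rwa [Nat.card_zpowers, hx] at this
    have h4 : p * Nat.card S ∣ Nat.card (commutator G) := by
      apply Nat.Coprime.mul_dvd_of_dvd_of_dvd ((Nat.Prime.coprime_iff_not_dvd hp).mpr hSd)
      · exact dvd_card_commutator hx hC hN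
      · exact card_dvd_of_le hSle
    exact Nat.dvd_antisymm h3 h4

/-- a normal subgroup of order `n_p` -/
theorem derived_ne {S : Subgroup G} [S.Normal] (hS : Nat.card S = Nat.card (Sylow p G))
    (hN : normalizer ((zpowers x : Subgroup G) : Set G) ≠ zpowers x) :
    ⁅commutator G, commutator G⁆ ≠ commutator G := by
  have hp : p.Prime := Fact.out
  have hxG := mem_commutator hx hC hN
  obtain ⟨c1, c2, c3⟩ := count hx hC rfl
  have hSd : ¬ p ∣ Nat.card S := by
    rw [hS]
    exact not_dvd_card_sylow p G
  have hNS : normalizer ((zpowers x : Subgroup G) : Set G) ⊔ S = ⊤ := by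
    apply eq_top_of_card_eq
    rw [card_sup hx hC hSd, hS, c2]
  have hMn : (S ⊔ zpowers x).Normal := by
    constructor
    intro m hm g
    have key : S ⊔ zpowers x ≤ (S ⊔ zpowers x).comap (MulAut.conj g).toMonoidHom := by
      refine sup_le ?_ ?_
      · intro s hs
        rw [mem_comap]
        exact (le_sup_left : S ≤ S ⊔ zpowers x) ((inferInstance : S.Normal).conj_mem s hs g)
      · rw [zpowers_le, mem_comap]
        change g * x * g⁻¹ ∈ S ⊔ zpowers x
        have hg : g ∈ normalizer ((zpowers x : Subgroup G) : Set G) ⊔ S := by rw [hNS]; exact mem_top g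
        rw [mem_sup_of_normal_right] at hg
        obtain ⟨n, hn, s, hs, rfl⟩ := hg
        have h1 : n * s * x * (n * s)⁻¹ = (n * (s * (x * s⁻¹ * x⁻¹)) * n⁻¹) * (n * x * n⁻¹) := by group
        rw [h1]
        refine mul_mem ?_ ?_
        · exact (le_sup_left : S ≤ S ⊔ zpowers x) ((inferInstance : S.Normal).conj_mem _
            (mul_mem hs ((inferInstance : S.Normal).conj_mem _ (inv_mem hs) x)) n)
        · exact (le_sup_right : zpowers x ≤ S ⊔ zpowers x) ((mem_normalizer_iff.mp hn x).mp (mem_zpowers x))
    exact key hm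
  have hxM : x ∈ S ⊔ zpowers x := (le_sup_right : zpowers x ≤ S ⊔ zpowers x) (mem_zpowers x)
  have hGM : commutator G ≤ S ⊔ zpowers x := by
    apply le_of_dvd hx hC
    have := (S ⊔ zpowers x).orderOf_dvd_natCard hxM
    rwa [hx] at this
  have hDS : ⁅commutator G, commutator G⁆ ≤ S := by
    rw [commutator_le]
    intro a ha b hb
    have ha' := hGM ha
    have hb' := hGM hb
    rw [mem_sup_of_normal_left] at ha' hb'
    obtain ⟨s, hs, u, hu, rfl⟩ := ha'
    obtain ⟨s', hs', v, hv, rfl⟩ := hb'
    rw [← QuotientGroup.eq_one_iff]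
    change QuotientGroup.mk' S ⁅s * u, s' * v⁆ = 1
    rw [map_commutatorElement, map_mul, map_mul]
    have e1 : QuotientGroup.mk' S s = 1 := (QuotientGroup.eq_one_iff _).mpr hs
    have e2 : QuotientGroup.mk' S s' = 1 := (QuotientGroup.eq_one_iff _).mpr hs'
    rw [e1, e2, one_mul, one_mul, ← map_commutatorElement]
    have : ⁅u, v⁆ = 1 := by
      rw [commutatorElement_eq_one_iff_mul_comm]
      obtain ⟨i, rfl⟩ := mem_zpowers_iff.mp hu
      obtain ⟨j, rfl⟩ := mem_zpowers_iff.mp hv
      rw [← zpow_add, ← zpow_add, add_comm]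
    rw [this, map_one]
  intro he
  rw [he] at hDS
  have := S.orderOf_dvd_natCard (hDS hxG)
  rw [hx] at this
  exact hSd this

end

end Cfsg.Agent.H9.SPr
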