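import Cfsg.Agent.H9.SPrD

set_option autoImplicit false
set_option linter.unusedSectionVars false
set_option linter.style.haveILetI false
set_option linter.unusedVariables false
set_option linter.unusedSimpArgs false

/-! Determinants of representations restricting to a multiple of the regular representation. -/

open Cfsg
open scoped ComplexConjugate

namespace Cfsg.Agent.H9.SPr

open Subgroup Exc Polynomial

theorem prod_roots {q : ℕ} (hq : 0 < q) (h2 : Even q) : ∏ z ∈ nthRootsFinset q (1 : ℂ), z = -1 := by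
  have h1 := X_pow_sub_one_eq_prod hq (Complex.isPrimitiveRoot_exp q hq.ne')
  have h3 := congrArg (Polynomial.eval 0) h1
  rw [Polynomial.eval_prod] at h3
  simp only [eval_sub, eval_pow, eval_X, eval_one, eval_C, zero_sub, zero_pow hq.ne'] at h3
  rw [Finset.prod_neg] at h3
  have h4 : (nthRootsFinset q (1 : ℂ)).card = q := (Complex.isPrimitiveRoot_exp q hq.ne').card_nthRootsFinset
  rw [h4, h2.neg_one_pow, one_mul] at h3
  exact h3.symm

variable {G : Type*} [Group G] [Finite G]

theorem det_eq {y : G} {q m n : ℕ} (hy : orderOf y = q) (hq2 : Even q) (ρ : Representation ℂ G (Fin n → ℂ))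
    (h1 : ρ.character 1 = ((q * m : ℕ) : ℂ)) (h0 : ∀ k, 0 < k → k < q → ρ.character (y ^ k) = 0) :
    LinearMap.det (ρ y) = (-1) ^ m := by
  classical
  have hq : 0 < q := by rw [← hy]; exact orderOf_pos y
  have hq0 : (q : ℂ) ≠ 0 := by exact_mod_cast hq.ne'
  haveI : IsMulCommutative (zpowers y) := by
    rw [isMulCommutative_iff]
    rintro ⟨_, i, rfl⟩ ⟨_, j, rfl⟩
    exact Subtype.ext ((Commute.refl y).zpow_zpow i j).eq
  haveI : NeZero (Nat.card (zpowers y) : ℂ) := ⟨by exact_mod_cast Nat.card_pos.ne'⟩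
  obtain ⟨ι, hι, b, μ, hμ⟩ := H3.exists_simul_eigenbasis (k := ℂ) (A := zpowers y) (V := Fin n → ℂ)
    (ρ.comp (zpowers y).subtype)
  let Y : zpowers y := ⟨y, mem_zpowers y⟩
  let ω : ι → ℂ := fun i => μ i Y
  have hYk : ∀ (k : ℕ) (i : ι), ρ (y ^ k) (b i) = (ω i) ^ k • b i := by
    intro k i
    have h2 := hμ (Y ^ k) i
    have h3 : (ρ.comp (zpowers y).subtype) (Y ^ k) = ρ (y ^ k) := rfl
    rw [h3] at h2
    rw [h2]
    simp [ω]
  have hω : ∀ i, ω i ^ q = 1 := by
    intro i
    have h2 : Y ^ q = 1 := Subtype.ext (by change y ^ q = 1; rw [← hy, pow_orderOf_eq_one])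
    have := congrArg (fun x => ((μ i x : ℂˣ) : ℂ)) h2
    simpa [ω] using this
  have hchar : ∀ k : ℕ, ρ.character (y ^ k) = ∑ i, ω i ^ k := by
    intro k
    rw [Representation.character, LinearMap.trace_eq_matrix_trace ℂ b, Matrix.trace]
    apply Finset.sum_congr rfl
    intro i _
    rw [Matrix.diag_apply, LinearMap.toMatrix_apply, hYk]
    simp
  have hdet : LinearMap.det (ρ y) = ∏ i, ω i := by
    rw [← LinearMap.det_toMatrix b]
    have h2 : LinearMap.toMatrix b b (ρ y) = Matrix.diagonal ω := by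
      ext i j
      rw [LinearMap.toMatrix_apply]
      have h3 := hYk 1 j
      rw [pow_one, pow_one] at h3
      rw [h3, map_smul, Module.Basis.repr_self, Matrix.diagonal_apply]
      by_cases hij : i = j
      · subst hij; simp
      · rw [if_neg hij]
        simp [Finsupp.single_apply, Ne.symm hij]
    rw [h2, Matrix.det_diagonal]
  -- multiplicities
  have hmult : ∀ z ∈ nthRootsFinset q (1 : ℂ), (Finset.univ.filter (fun i => ω i = z)).card = m := by
    intro z hz
    have hzq : z ^ q = 1 := (mem_nthRootsFinset hq 1).mp hz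
    have hz0 : z ≠ 0 := by
      rintro rfl
      rw [zero_pow hq.ne'] at hzq
      exact zero_ne_one hzq
    have h2 : ∑ k ∈ Finset.range q, (z⁻¹) ^ k * ρ.character (y ^ k) = ((q * m : ℕ) : ℂ) := by
      rw [Finset.sum_eq_single 0]
      · rw [pow_zero, pow_zero, one_mul, h1]
      · intro k hk hk0
        rw [h0 k (Nat.pos_of_ne_zero hk0) (Finset.mem_range.mp hk), mul_zero]
      · intro h
        exact absurd (Finset.mem_range.mpr hq) h
    have h3 : ∑ k ∈ Finset.range q, (z⁻¹) ^ k * ρ.character (y ^ k) =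
        (q : ℂ) * ((Finset.univ.filter (fun i => ω i = z)).card : ℂ) := by
      have h4 : ∀ k ∈ Finset.range q, (z⁻¹) ^ k * ρ.character (y ^ k) = ∑ i, (z⁻¹ * ω i) ^ k := by
        intro k _
        rw [hchar, Finset.mul_sum]
        exact Finset.sum_congr rfl fun i _ => by rw [mul_pow]
      rw [Finset.sum_congr rfl h4, Finset.sum_comm]
      have h5 : ∀ i : ι, ∑ k ∈ Finset.range q, (z⁻¹ * ω i) ^ k = if ω i = z then (q : ℂ) else 0 := by
        intro i
        rw [sum_pow_eq hq (by rw [mul_pow, inv_pow, hzq, hω]; simp)]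
        by_cases hi : ω i = z
        · rw [if_pos hi, if_pos (by rw [hi, inv_mul_cancel₀ hz0])]
        · rw [if_neg hi, if_neg (fun h' => hi (by
            have := congrArg (fun w => z * w) h'
            simpa [← mul_assoc, mul_inv_cancel₀ hz0] using this))]
      rw [Finset.sum_congr rfl fun i _ => h5 i, ← Finset.sum_filter, Finset.sum_const, nsmul_eq_mul, mul_comm]
    rw [h2] at h3
    have h6 : q * m = q * (Finset.univ.filter (fun i => ω i = z)).card := by exact_mod_cast h3
    exact (Nat.eq_of_mul_eq_mul_left hq h6).symm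
  rw [hdet, ← Finset.prod_fiberwise_of_maps_to (s := Finset.univ) (t := nthRootsFinset q (1 : ℂ)) (g := ω)
    (fun i _ => (mem_nthRootsFinset hq 1).mpr (hω i))]
  have h2 : ∀ z ∈ nthRootsFinset q (1 : ℂ), ∏ i ∈ Finset.univ.filter (fun i => ω i = z), ω i = z ^ m := by
    intro z hz
    have h3 : ∀ i ∈ Finset.univ.filter (fun i => ω i = z), ω i = z := fun i hi => (Finset.mem_filter.mp hi).2
    rw [Finset.prod_congr rfl h3, Finset.prod_const, hmult z hz]
  rw [Finset.prod_congr rfl h2, Finset.prod_pow, prod_roots hq hq2]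

theorem even_index {y : G} {q m n : ℕ} (hy : orderOf y = q) (hq2 : Even q) (hm : Odd m)
    (ρ : Representation ℂ G (Fin n → ℂ))
    (h1 : ρ.character 1 = ((q * m : ℕ) : ℂ)) (h0 : ∀ k, 0 < k → k < q → ρ.character (y ^ k) = 0) :
    Even (commutator G).index := by
  have h2 := det_eq hy hq2 ρ h1 h0
  rw [hm.neg_one_pow] at h2
  let d : G →* ℂ := (LinearMap.det).comp ρ
  let D : G →* ℂˣ := MonoidHom.toHomUnits d
  have h3 : y ^ (commutator G).index ∈ commutator G := Subgroup.pow_index_mem _ y
  have h4 : D (y ^ (commutator G).index) = 1 := MonoidHom.mem_ker.mp ((Abelianization.commutator_subset_ker D) h3)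
  have h5 : d (y ^ (commutator G).index) = 1 := by
    have := congrArg (fun u : ℂˣ => (u : ℂ)) h4
    simpa [D] using this
  rw [map_pow] at h5
  have h6 : d y = -1 := h2
  rw [h6] at h5
  by_contra hcon
  rw [Nat.not_even_iff_odd] at hcon
  rw [hcon.neg_one_pow] at h5
  norm_num at h5

end Cfsg.Agent.H9.SPr
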