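import Cfsg.Agent.H9.BRI
import Cfsg.Agent.H9.SPrC
import Cfsg.Agent.S4503
import Cfsg.Agent.S4508
import Cfsg.Agent.S4496
import Cfsg.Agent.H22.SL2Act

set_option autoImplicit false
set_option linter.unusedSectionVars false
set_option linter.style.haveILetI false
set_option linter.unusedVariables false
set_option linter.unusedSimpArgs false

/-! The Brauer-Reynolds theorem for groups with trivial `p'`-core. -/

open Cfsg

namespace Cfsg.Agent.H9.BR

open Subgroup Exc MulAction

universe u

theorem charDegree_eq {G : Type u} [Group G] [Fintype G] (χ : IrrCharacter G) : charDegree (χ : G → ℂ) = dg χ := by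
  unfold charDegree
  rw [dg_spec]
  simp

variable {G : Type u} [Group G] [Fintype G] {p : ℕ} [Fact p.Prime] {P : Subgroup G} {L e n : ℕ}
  {pw : centralizer (P : Set G) →* P}

/-- the main theorem -/
theorem main (B : Base G p P L e n pw) (hcore : ∀ N : Subgroup G, N.Normal → ¬ p ∣ Nat.card N → N = ⊥)
    (hperf : commutator G = ⊤) :
    (∃ (F : Type) (_ : Field F) (_ : Fintype F), Fintype.card F = p ∧ 3 < p ∧
      Nonempty (G ≃* Matrix.ProjectiveSpecialLinearGroup (Fin 2) F)) ∨
    (∃ (m : ℕ) (F : Type) (_ : Field F) (_ : Fintype F), Fintype.card F = 2 ^ m ∧ p = 2 ^ m + 1 ∧ 3 < p ∧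
      Nonempty (G ≃* Matrix.ProjectiveSpecialLinearGroup (Fin 2) F)) := by
  classical
  have hpp : p.Prime := Fact.out
  have hp2 := B.h2
  have hL := trivial_core B hcore
  subst hL
  have hCP := centralizer_eq B.st
  haveI : Nontrivial P := by
    rw [← Finite.one_lt_card_iff_nontrivial, B.st.hP]; exact hpp.one_lt
  obtain ⟨x', hx'⟩ := _root_.exists_ne (1 : P)
  obtain ⟨x, hxP, hx1⟩ : ∃ x ∈ P, x ≠ 1 := ⟨x', x'.2, fun h => hx' (Subtype.ext h)⟩
  have hPx : zpowers x = P := B.st.zpowers_eq hxP hx1
  have hx : orderOf x = p := by rw [← Nat.card_zpowers, hPx, B.st.hP]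
  have hC : centralizer ({x} : Set G) = zpowers x := by rw [hPx, B.st.centralizer_eq hxP hx1, hCP]
  haveI : Nontrivial G := ⟨⟨x, 1, hx1⟩⟩
  haveI hsimple : IsSimpleGroup G := by
    refine ⟨fun S hS => ?_⟩
    by_cases hd : p ∣ Nat.card S
    · right
      rw [eq_top_iff, ← hperf]
      exact (S4496.result p hpp x hx hC S).1 hd
    · exact Or.inl (hcore S hS hd)
  have hG : ¬ IsMulCommutative G := by
    intro h
    have h1 : commutator G = ⊥ := by
      rw [commutator_eq_bot_iff]; exact h
    rw [h1] at hperf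
    exact bot_ne_top hperf
  -- `t`
  obtain ⟨t, X, ε, δ, η, rep, D⟩ := exists_data B.st B.hS B.h2
  have hte := D.hte
  have hepos := e_pos B D
  have htpos := t_pos D hp2
  -- parity of `t`
  have hteven : Even t := by
    obtain ⟨χ, hv, hd⟩ := exists_minus B D
    rcases S4508.result p hpp x hx hC _ rfl χ (by rw [charDegree_eq, hd]; omega) with h | h
    · have h1 := (SPr.count hx hC (t := Nat.card {C : ConjClasses G // ∃ g ∈ C.carrier, orderOf g = p}) rfl).1
      rw [hPx, B.st.hN, mul_one, mul_assoc] at h1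
      have h2 := Nat.eq_of_mul_eq_mul_left hpp.pos h1
      rw [← hte, mul_comm t e] at h2
      have h3 := Nat.eq_of_mul_eq_mul_left hepos h2
      rw [h3] at h; exact h
    · rw [hperf, index_top] at h
      exact absurd h (by decide)
  have ht2 : 2 ≤ t := by
    obtain ⟨k, hk⟩ := hteven
    omega
  letI : Fintype P := Fintype.ofFinite P
  obtain ⟨s, hs, hsf, hs1, hs2, hα, hm, -⟩ := big B D ht2
  set α := (X.filter (fun χ => ε χ = 1 ∧ χ ≠ triv G)).card with hαdef
  let i₀ : Fin t := ⟨0, by omega⟩
  have hηne : η i₀ ≠ triv G := fun h' => D.notX i₀ (by rw [h']; exact (triv_mem D ht2).1)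
  have he2 : 2 ≤ e := by
    by_contra hcon
    have he1 : e = 1 := by omega
    have hs0 : s = 0 := by omega
    rcases D.hδ with h | h
    · have h1 := hs i₀
      rw [hs0, h, he1] at h1
      have h2 := one_lt_dg B hηne
      have h3 : (dg (η i₀) : ℤ) = 1 := by rw [h1]; norm_num
      omega
    · have h1 := hs2 h
      rw [hs0, zero_mul] at h1
      omega
  have hst : stabilizer G ((1 : G) : G ⧸ normalizer (P : Set G)) = normalizer (P : Set G) :=
    stabilizer_quotient _
  have A : PG G p P e n (G ⧸ normalizer (P : Set G)) ((1 : G) : G ⧸ normalizer (P : Set G)) :=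
    { hp := hpp
      hP := B.st.hP
      hC := fun u hu hu1 c hc => by
        have h1 := B.st.centralizer_eq hu hu1
        rw [hCP] at h1
        rw [← h1, mem_centralizer_singleton_iff]
        exact hc
      hN := by rw [B.st.hN, mul_one]
      hNP := B.hNP
      hst := hst
      fin := inferInstance
      tr := inferInstance
      hΩ := by rw [← B.hidx]; rfl
      hn := B.hn
      he := he2
      fix := fun c hc hcP => fixed B D ht2 hc hcP }
  have h3p : 3 < p := by
    have h1 : 2 * 2 ≤ t * e := Nat.mul_le_mul ht2 he2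
    omega
  have hlt : n + 1 < p := by
    rcases D.hδ with h | h
    · have h1 := hs1 h
      have hα0 : α ≠ 0 := by
        intro h2
        rw [h2, h1] at hα
        omega
      have h2 : 1 * (n + 1) ≤ α * (n + 1) := Nat.mul_le_mul_right _ (Nat.pos_of_ne_zero hα0)
      have h3 : e ≤ t * e := Nat.le_mul_of_pos_left _ htpos
      omega
    · have h1 := hs2 h
      have h2 : s < e := by
        have : 0 ≤ α * (n + 1) := Nat.zero_le _
        omega
      have h3 : s * t ≤ (e - 1) * t := Nat.mul_le_mul_right _ (by omega)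
      have h4 : (e - 1) * t + t = t * e := by
        rw [Nat.sub_mul, one_mul, mul_comm e t]
        apply Nat.sub_add_cancel
        exact Nat.le_mul_of_pos_right _ hepos
      omega
  have hdvd := A.dvd_sub hlt
  have hpsl : ∀ hn1 : n = 1, (∃ (F : Type) (_ : Field F) (_ : Fintype F), Fintype.card F = p ∧ 3 < p ∧
      Nonempty (G ≃* Matrix.ProjectiveSpecialLinearGroup (Fin 2) F)) := by
    intro hn1
    obtain ⟨F, i1, i2, hF, hiso⟩ := A.psl_p hn1 hp2
    exact ⟨F, i1, i2, hF, h3p, hiso⟩
  rcases D.hδ with hδ | hδ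
  · -- `δ = 1`
    left
    apply hpsl
    have hs0 := hs1 hδ
    have hdη : dg (η i₀) = e := by
      have h1 := hs i₀
      rw [hs0, hδ] at h1
      have h3 : (dg (η i₀) : ℤ) = e := by rw [h1]; push_cast; ring
      exact_mod_cast h3
    have hcardG := A.card_G
    have h1 := S4503.result p hpp (by rw [hcardG, mul_assoc]; exact dvd_mul_right _ _) (by
      intro h
      rw [hcardG, pow_two, mul_assoc p e] at h
      have h2 := Nat.dvd_of_mul_dvd_mul_left hpp.pos h
      rcases hpp.dvd_mul.mp h2 with h3 | h3
      · have := Nat.le_of_dvd hepos h3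
        have h4 : e ≤ t * e := Nat.le_mul_of_pos_left _ htpos
        omega
      · have h4 : p ∣ 1 := by
          have h5 : p ∣ n * p := dvd_mul_left _ _
          exact (Nat.dvd_add_left h5).mp h3
        exact hpp.one_lt.ne' (Nat.dvd_one.mp h4)) (by
      intro H hH hHp
      rcases hH.eq_bot_or_eq_top with h | h
      · rw [h, card_bot] at hHp; exact hpp.one_lt.ne hHp
      · rw [h, card_top, hcardG] at hHp
        have h2 : p * 1 < p * (e * (1 + n * p)) := by
          apply Nat.mul_lt_mul_of_pos_left _ hpp.pos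
          have := Nat.mul_pos B.hn hpp.pos
          nlinarith
        rw [← mul_assoc, hHp] at h2
        omega) (η i₀ : G → ℂ) (H3.irr_isChar (η i₀).2) (fun g hg => by
      exact Exc.ker_trivial (η i₀).2 (fun h' => hηne (Subtype.ext h')) hg)
    rw [charDegree_eq, hdη] at h1
    -- `t = 2`
    have ht' : t = 2 := by
      by_contra hne
      have h3 : 3 ≤ t := by omega
      have h4 : 3 * e ≤ t * e := Nat.mul_le_mul_right _ h3
      omega
    rw [ht'] at hte
    rw [hs0, add_zero] at hα
    rw [← hte] at hdvd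
    have h3 : (n + 1) ∣ 2 * e - 2 := by
      have h4 : 2 * e - 2 = (n + 1) * (2 * α) := by
        have : (n + 1) * (2 * α) = 2 * (α * (n + 1)) := by ring
        omega
      rw [h4]; exact dvd_mul_right _ _
    have h4 : (n + 1) ∣ 2 := by
      have h5 := Nat.dvd_sub hdvd h3
      have h6 : 2 * e - (2 * e - 2) = 2 := by omega
      rwa [h6] at h5
    have h5 := Nat.le_of_dvd (by norm_num) h4
    have := B.hn
    omega
  · -- `δ = -1`
    have hst' := hs2 hδ
    have hs1' : s = 1 := by
      have h1 : s ∣ e := by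
        rw [hst', ← hte, mul_comm s t] at hdvd
        exact Nat.dvd_of_mul_dvd_mul_left htpos hdvd
      have h2 : s ∣ α * (n + 1) + s := by
        rw [hst']
        exact Dvd.dvd.add (Dvd.dvd.mul_left (dvd_mul_right _ _) _) (dvd_refl _)
      have h3 : s ∣ 1 := by
        rw [← hα] at h1
        exact (Nat.dvd_add_right h2).mp h1
      exact Nat.dvd_one.mp h3
    rw [hs1', one_mul] at hst'
    have hnt : (n + 1) * e = p - 1 := by rw [hst', hte]
    have hev : Even e := by
      rw [hs1'] at hα
      rw [← hα, hst']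
      obtain ⟨k, hk⟩ := hteven
      exact ⟨α * k + 1, by rw [hk]; ring⟩
    rcases A.dichotomy hnt hev with h | h
    · left; exact hpsl h
    · right
      obtain ⟨m, F, i1, i2, hF, hpm, hiso⟩ := A.psl_two hnt h (by rw [hst']; exact hteven) hG
      exact ⟨m, F, i1, i2, hF, hpm, h3p, hiso⟩

end Cfsg.Agent.H9.BR
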