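import Cfsg.Agent.H9.BRJ

set_option autoImplicit false
set_option linter.unusedSectionVars false
set_option linter.style.haveILetI false
set_option linter.unusedVariables false
set_option linter.unusedSimpArgs false

/-! The Brauer-Reynolds theorem: setting up and passing to the quotient. -/

open Cfsg

namespace Cfsg.Agent.H9.BR

open Subgroup Exc MulAction

universe u

section
variable {G : Type u} [Group G] [Finite G] {p : ℕ} [Fact p.Prime]

theorem hom_trivial_of_perfect {A : Type*} [CommGroup A] (hperf : commutator G = ⊤) (f : G →* A) : f = 1 := by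
  ext g
  have h1 : commutator G ≤ f.ker := Abelianization.commutator_subset_ker f
  rw [hperf] at h1
  exact h1 (mem_top g)

theorem perfect_not_le (hperf : commutator G = ⊤) (hd : p ∣ Nat.card G) (P : Sylow p G) :
    ¬ normalizer ((P : Subgroup G) : Set G) ≤ centralizer ((P : Subgroup G) : Set G) := by
  intro h
  have hc : ∀ a b : (P : Subgroup G), a * b = b * a := by
    intro a b
    apply Subtype.ext
    exact (mem_centralizer_iff.mp (h (le_normalizer b.2)) a a.2)
  have h1 := MonoidHom.not_dvd_card_ker_transferSylow P h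
  have h2 : (MonoidHom.transferSylow P h).ker = ⊤ := by
    rw [eq_top_iff, ← hperf, commutator_def, commutator_le]
    intro a _ b _
    rw [MonoidHom.mem_ker, map_commutatorElement, commutatorElement_def,
      hc ((MonoidHom.transferSylow P h) a) ((MonoidHom.transferSylow P h) b), mul_inv_cancel_right, mul_inv_cancel]
  rw [h2, card_top] at h1
  exact h1 hd

theorem one_lt_index (hperf : commutator G = ⊤) (hd : p ∣ Nat.card G) (P : Sylow p G) :
    2 ≤ (centralizer ((P : Subgroup G) : Set G)).relIndex (normalizer ((P : Subgroup G) : Set G)) := by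
  have h1 : (centralizer ((P : Subgroup G) : Set G)).relIndex (normalizer ((P : Subgroup G) : Set G)) ≠ 1 := by
    intro h4
    exact perfect_not_le hperf hd P (relIndex_eq_one.mp h4)
  have h2 : (centralizer ((P : Subgroup G) : Set G)).relIndex (normalizer ((P : Subgroup G) : Set G)) ≠ 0 := by
    rw [relIndex]; exact index_ne_zero_of_finite
  omega

/-- a Sylow subgroup of order `p` in a perfect group -/
theorem two_lt (hperf : commutator G = ⊤) (P : Sylow p G) (hP : Nat.card P = p) : 2 < p := by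
  have hpp : p.Prime := Fact.out
  have hd : p ∣ Nat.card G := by rw [← hP]; exact card_subgroup_dvd_card _
  have h1 := one_lt_index hperf hd P
  have h2 : (centralizer ((P : Subgroup G) : Set G)).relIndex (normalizer ((P : Subgroup G) : Set G)) ∣ p - 1 :=
    Simple.relIndex_dvd_of_card_eq hP
  have h3 := Nat.le_of_dvd (by have := hpp.one_lt; omega) h2
  omega

theorem n_pos (hperf : commutator G = ⊤) (P : Sylow p G) (hP : Nat.card P = p) {n : ℕ}
    (hn : Nat.card (Sylow p G) = 1 + n * p) : 0 < n := by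
  have hpp : p.Prime := Fact.out
  have hd : p ∣ Nat.card G := by rw [← hP]; exact card_subgroup_dvd_card _
  by_contra hcon
  have hn0 : n = 0 := by omega
  rw [hn0, zero_mul, add_zero, P.card_eq_index_normalizer] at hn
  have h1 : normalizer ((P : Subgroup G) : Set G) = ⊤ := index_eq_one.mp hn
  apply perfect_not_le hperf hd P
  intro x _
  -- the action on `P` is trivial
  haveI : IsCyclic (P : Subgroup G) := isCyclic_of_prime_card hP
  let f : G →* normalizer ((P : Subgroup G) : Set G) :=
    { toFun := fun g => ⟨g, by rw [h1]; trivial⟩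
      map_one' := rfl
      map_mul' := fun _ _ => rfl }
  let g := ((IsCyclic.mulAutMulEquiv (P : Subgroup G)).toMonoidHom).comp (((P : Subgroup G).normalizerMonoidHom).comp f)
  have h2 := hom_trivial_of_perfect hperf g
  have h3 : (IsCyclic.mulAutMulEquiv (P : Subgroup G)) ((P : Subgroup G).normalizerMonoidHom (f x)) = 1 := by
    have := congrArg (fun k : G →* _ => k x) h2
    exact this
  have h4 : (P : Subgroup G).normalizerMonoidHom (f x) = 1 :=
    (IsCyclic.mulAutMulEquiv (P : Subgroup G)).injective (by rw [h3, map_one])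
  have h5 : f x ∈ ((P : Subgroup G).normalizerMonoidHom).ker := h4
  rw [normalizerMonoidHom_ker, mem_subgroupOf] at h5
  exact h5

end

/-- the setup -/
theorem exists_base {G : Type u} [Group G] [Fintype G] {p : ℕ} [Fact p.Prime] (hperf : commutator G = ⊤) (P : Sylow p G)
    (hP : Nat.card P = p) {n : ℕ} (hn : Nat.card (Sylow p G) = 1 + n * p) (hNF : NF p n) :
    ∃ (L e : ℕ) (pw : centralizer ((P : Subgroup G) : Set G) →* (P : Subgroup G)), Base G p (P : Subgroup G) L e n pw := by
  have hpp : p.Prime := Fact.out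
  have hPC : (P : Subgroup G) ≤ centralizer ((P : Subgroup G) : Set G) := Syl.le_centralizer_of_card_prime hP
  have hCN : centralizer ((P : Subgroup G) : Set G) ≤ normalizer ((P : Subgroup G) : Set G) := centralizer_le_normalizer _
  have h5 := H1.card_mul_relIndex_aux hCN
  have h6 := H1.card_mul_relIndex_aux hPC
  have hL : Nat.card (centralizer ((P : Subgroup G) : Set G)) =
      p * (P : Subgroup G).relIndex (centralizer ((P : Subgroup G) : Set G)) := by
    rw [hP] at h6; exact h6.symm
  obtain ⟨pw, hpw⟩ := exists_pw hP hL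
  have hnd : ¬ p ∣ (P : Subgroup G).index := P.not_dvd_index
  refine ⟨(P : Subgroup G).relIndex (centralizer ((P : Subgroup G) : Set G)),
    (centralizer ((P : Subgroup G) : Set G)).relIndex (normalizer ((P : Subgroup G) : Set G)), pw,
    { st := ⟨hP, hL, ?_, hpw, ?_⟩
      hS := ⟨P, rfl⟩
      hNP := ?_
      hord := ?_
      hidx := P.card_eq_index_normalizer.symm.trans hn
      hlin := fun μ => hom_trivial_of_perfect hperf μ
      h2 := two_lt hperf P hP
      hn := n_pos hperf P hP hn
      hNF := hNF }⟩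
  · rw [hpp.coprime_iff_not_dvd]
    intro h7
    exact hnd (h7.trans (relIndex_dvd_index_of_le hPC))
  · rw [← hL]; exact h5.symm
  · intro y hy hyo
    have h1 : IsPGroup p (zpowers y) := by
      rw [IsPGroup.iff_card]
      exact ⟨1, by rw [Nat.card_zpowers, hyo, pow_one]⟩
    have h2 := IsPGroup.inf_normalizer_sylow h1 P
    have h3 : y ∈ zpowers y ⊓ normalizer (P : Set G) := ⟨mem_zpowers y, hy⟩
    rw [h2] at h3
    exact h3.2
  · intro y hyo
    have h1 : IsPGroup p (zpowers y) := by
      rw [IsPGroup.iff_card]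
      exact ⟨1, by rw [Nat.card_zpowers, hyo, pow_one]⟩
    obtain ⟨Q, hQ⟩ := h1.exists_le_sylow
    obtain ⟨g, hg⟩ := exists_smul_eq G Q P
    refine ⟨g, ?_⟩
    rw [← hg]
    exact ⟨y, hQ (mem_zpowers y), rfl⟩

/-- quotients by normal `p'`-subgroups -/
theorem quot {G : Type u} [Group G] [Finite G] {p : ℕ} [Fact p.Prime] (N : Subgroup G) [N.Normal]
    (hN : ¬ p ∣ Nat.card N) (P : Sylow p G) (hP : Nat.card P = p) {n : ℕ} (hn : Nat.card (Sylow p G) = 1 + n * p) :
    ∃ (Q : Sylow p (G ⧸ N)) (n' m : ℕ), Nat.card Q = p ∧ Nat.card (Sylow p (G ⧸ N)) = 1 + n' * p ∧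
      1 + n * p = (1 + n' * p) * (1 + m * p) := by
  have hpp : p.Prime := Fact.out
  have hf := QuotientGroup.mk'_surjective N
  let Q : Sylow p (G ⧸ N) := P.mapSurjective hf
  have hQ : (Q : Subgroup (G ⧸ N)) = (P : Subgroup G).map (QuotientGroup.mk' N) := Sylow.coe_mapSurjective hf P
  have hPN : (P : Subgroup G) ⊓ N = ⊥ := by
    apply inf_eq_bot_of_coprime
    rw [hP, hpp.coprime_iff_not_dvd]
    exact hN
  have hcQ : Nat.card Q = p := by
    have h1 : Nat.card ((P : Subgroup G).map (QuotientGroup.mk' N)) = Nat.card (P : Subgroup G) := by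
      apply Nat.card_image_of_injOn (f := QuotientGroup.mk' N) (s := ((P : Subgroup G) : Set G))
      intro a ha b hb hab
      have h2 : a⁻¹ * b ∈ N := QuotientGroup.eq.mp hab
      have ha' : a ∈ (P : Subgroup G) := ha
      have hb' : b ∈ (P : Subgroup G) := hb
      have h3 : a⁻¹ * b ∈ (P : Subgroup G) ⊓ N := mem_inf.mpr ⟨mul_mem (inv_mem ha') hb', h2⟩
      rw [hPN, mem_bot] at h3
      exact inv_mul_eq_one.mp h3
    change Nat.card (Q : Subgroup (G ⧸ N)) = p
    rw [hQ, h1]; exact hP
  -- divisibility of the Sylow numbers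
  have hdvd : Nat.card (Sylow p (G ⧸ N)) ∣ Nat.card (Sylow p G) := by
    rw [Q.card_eq_index_normalizer, P.card_eq_index_normalizer,
      ← index_comap_of_surjective _ hf]
    apply index_dvd_of_le
    intro x hx
    change x ∈ normalizer ((P : Subgroup G) : Set G) at hx
    change (QuotientGroup.mk' N) x ∈ normalizer ((Q : Subgroup (G ⧸ N)) : Set (G ⧸ N))
    rw [mem_normalizer_iff]
    intro y
    obtain ⟨y, rfl⟩ := hf y
    rw [← map_inv, ← map_mul, ← map_mul]
    change (QuotientGroup.mk' N) y ∈ (Q : Subgroup (G ⧸ N)) ↔ (QuotientGroup.mk' N) (x * y * x⁻¹) ∈ (Q : Subgroup (G ⧸ N))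
    rw [hQ]
    have key : ∀ x ∈ normalizer ((P : Subgroup G) : Set G), ∀ y : G,
        (QuotientGroup.mk' N) y ∈ (P : Subgroup G).map (QuotientGroup.mk' N) →
        (QuotientGroup.mk' N) (x * y * x⁻¹) ∈ (P : Subgroup G).map (QuotientGroup.mk' N) := by
      rintro x hx y ⟨u, hu, huy⟩
      refine ⟨x * u * x⁻¹, (mem_normalizer_iff.mp hx u).mp hu, ?_⟩
      rw [map_mul, map_mul, huy, ← map_mul, ← map_mul]
    constructor
    · exact key x hx y
    · intro h
      have := key x⁻¹ (inv_mem hx) _ h
      have h2 : x⁻¹ * (x * y * x⁻¹) * x⁻¹⁻¹ = y := by group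
      rwa [h2] at this
  have hmod : ∀ (a : ℕ), a ≡ 1 [MOD p] → ∃ k, a = 1 + k * p := by
    intro a ha
    rcases Nat.eq_zero_or_pos a with h | h
    · exfalso
      rw [h] at ha
      have h2 : p ∣ 1 := by
        have := (Nat.modEq_iff_dvd' (by omega)).mp ha
        simpa using this
      exact hpp.one_lt.ne' (Nat.dvd_one.mp h2)
    · obtain ⟨k, hk⟩ := (Nat.modEq_iff_dvd' h).mp ha.symm
      exact ⟨k, by rw [mul_comm k p]; omega⟩
  obtain ⟨n', hn'⟩ := hmod _ (card_sylow_modEq_one p (G ⧸ N))
  obtain ⟨k, hk⟩ := hdvd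
  have hk1 : k ≡ 1 [MOD p] := by
    have h1 := card_sylow_modEq_one p G
    rw [hk, hn'] at h1
    have h2 : (1 + n' * p) * k ≡ k [MOD p] := by
      have h3 : (1 + n' * p) ≡ 1 [MOD p] := by
        have := (Nat.modEq_zero_iff_dvd.mpr (dvd_mul_left p n')).add_left 1
        simpa using this
      have := h3.mul_right k
      simpa using this
    exact h2.symm.trans h1
  obtain ⟨m, hm⟩ := hmod _ hk1
  exact ⟨Q, n', m, hcQ, hn', by rw [← hn, hk, hn', hm]⟩

/-- the arithmetic of the quotient -/
theorem NF.quot {p n n' m : ℕ} (hp : 0 < p) (h : NF p n) (hn' : 0 < n') (he : 1 + n * p = (1 + n' * p) * (1 + m * p)) :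
    n' = n := by
  have h1 : n * p = (n' + m + n' * m * p) * p := by
    have : (1 + n' * p) * (1 + m * p) = 1 + (n' + m + n' * m * p) * p := by ring
    omega
  have h2 : n = n' + m + n' * m * p := Nat.eq_of_mul_eq_mul_right hp h1
  rcases Nat.eq_zero_or_pos m with h3 | h3
  · rw [h3] at h2; simp at h2; exact h2.symm
  · exfalso
    apply h (m * (n' + 1)) n' (by positivity) hn'
    rw [h2]; ring

theorem perfect_quot {G : Type*} [Group G] (N : Subgroup G) [N.Normal] (hperf : commutator G = ⊤) :
    commutator (G ⧸ N) = ⊤ := by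
  have hf := QuotientGroup.mk'_surjective N
  have h1 := map_commutator (⊤ : Subgroup G) ⊤ (QuotientGroup.mk' N)
  rw [map_top_of_surjective _ hf, ← commutator_def, hperf, map_top_of_surjective _ hf] at h1
  rw [commutator_def, ← h1]

/-- the Brauer-Reynolds theorem modulo the `p'`-core -/
theorem reynolds {G : Type u} [Group G] [Finite G] {p : ℕ} [Fact p.Prime] (hperf : commutator G = ⊤) (P : Sylow p G)
    (hP : Nat.card P = p) {n : ℕ} (hn : Nat.card (Sylow p G) = 1 + n * p) (hNF : NF p n) :
    Nat.card (Sylow p (G ⧸ pPrimeCore p G)) = 1 + n * p ∧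
    ((∃ (F : Type) (_ : Field F) (_ : Fintype F), Fintype.card F = p ∧ 3 < p ∧
      Nonempty (G ⧸ pPrimeCore p G ≃* Matrix.ProjectiveSpecialLinearGroup (Fin 2) F)) ∨
    (∃ (m : ℕ) (F : Type) (_ : Field F) (_ : Fintype F), Fintype.card F = 2 ^ m ∧ p = 2 ^ m + 1 ∧ 3 < p ∧
      Nonempty (G ⧸ pPrimeCore p G ≃* Matrix.ProjectiveSpecialLinearGroup (Fin 2) F))) := by
  have hpp : p.Prime := Fact.out
  have hnd : ¬ p ∣ Nat.card (pPrimeCore p G) := by
    have := H1.pPrimeCore_coprime p G
    exact (Nat.Prime.coprime_iff_not_dvd hpp).mp this.symm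
  haveI : (pPrimeCore p G).Normal := H1.pPrimeCore_normal p G
  obtain ⟨Q, n', m, hQ, hn', hnm⟩ := quot (pPrimeCore p G) hnd P hP hn
  have hperf' := perfect_quot (pPrimeCore p G) hperf
  have hn'0 := n_pos hperf' Q hQ hn'
  have hnn := hNF.quot hpp.pos hn'0 hnm
  subst hnn
  letI : Fintype (G ⧸ pPrimeCore p G) := Fintype.ofFinite _
  obtain ⟨L, e, pw, B⟩ := exists_base hperf' Q hQ hn' hNF
  refine ⟨hn', main B ?_ hperf'⟩
  intro N hN hNp
  have h1 : N ≤ pPrimeCore p (G ⧸ pPrimeCore p G) :=
    H1.le_pPrimeCore hN ((Nat.Prime.coprime_iff_not_dvd hpp).mpr hNp).symm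
  rw [H1.pPrimeCore_quotient_eq_bot] at h1
  exact eq_bot_iff.mpr h1

/-- from `PSL` to `SL` in even characteristic -/
theorem psl_sl {F : Type} [Field F] [Fintype F] {m : ℕ} (hF : Fintype.card F = 2 ^ m) :
    Nonempty (Matrix.ProjectiveSpecialLinearGroup (Fin 2) F ≃* Matrix.SpecialLinearGroup (Fin 2) F) := by
  obtain ⟨r, hr⟩ := CharP.exists F
  haveI := hr
  haveI : Fact r.Prime := ⟨CharP.char_is_prime F r⟩
  obtain ⟨k, hrp, hk⟩ := FiniteField.card F r
  have hr2 : r = 2 := by
    have h6 : r ∣ 2 ^ m := by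
      rw [← hF, hk]
      exact dvd_pow_self r k.pos.ne'
    exact (Nat.prime_dvd_prime_iff_eq hrp Nat.prime_two).mp (hrp.dvd_of_dvd_pow h6)
  subst hr2
  have hc : center (Matrix.SpecialLinearGroup (Fin 2) F) = ⊥ := H22.sl2_center_eq_bot
  exact ⟨(QuotientGroup.quotientMulEquivOfEq hc).trans QuotientGroup.quotientBot⟩

end Cfsg.Agent.H9.BR
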