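import Cfsg.Agent.H9.BSWA

set_option autoImplicit false
set_option linter.unusedSectionVars false
set_option linter.style.haveILetI false
set_option linter.unusedVariables false
set_option linter.unusedSimpArgs false

/-! Brauer–Suzuki–Wall, part B: the setup and the induced functions. -/

open Cfsg
open scoped ComplexConjugate

namespace Cfsg.Agent.H9.BSW

open Subgroup

universe u

/-- The Brauer–Suzuki–Wall configuration: `K` abelian with a unique involution `t`,
`C(t) = K ⟨s⟩` with `s` an involution inverting `K`, centralizers of non-identity elements of `K` in `C(t)`,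
one class of involutions. -/
structure Setup (G : Type u) [Group G] (K : Subgroup G) (t s : G) (k : ℕ) : Prop where
  hk : Nat.card K = k
  comm : ∀ x ∈ K, ∀ y ∈ K, x * y = y * x
  tK : t ∈ K
  t1 : t ≠ 1
  t2 : t * t = 1
  uniq : ∀ x ∈ K, x * x = 1 → x = 1 ∨ x = t
  sK : s ∉ K
  s2 : s * s = 1
  inv : ∀ x ∈ K, s * x * s⁻¹ = x⁻¹
  cent : ∀ g, g * t = t * g → g ∈ K ∨ g * s ∈ K
  cen : ∀ x ∈ K, x ≠ 1 → ∀ g, g * x = x * g → g * t = t * g
  one : ∀ u : G, u ≠ 1 → u * u = 1 → ∃ g, g * t * g⁻¹ = u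

variable {G : Type u} [Group G] {K : Subgroup G} {t s : G} {k : ℕ}

namespace Setup

theorem sinv (h : Setup G K t s k) : s⁻¹ = s := inv_eq_of_mul_eq_one_left h.s2

theorem tinv (h : Setup G K t s k) : t⁻¹ = t := inv_eq_of_mul_eq_one_left h.t2

theorem inv' (h : Setup G K t s k) {x : G} (hx : x ∈ K) : s * x * s = x⁻¹ := by
  have := h.inv x hx
  rwa [h.sinv] at this

theorem st (h : Setup G K t s k) : s * t = t * s := by
  have h1 := h.inv' h.tK
  rw [h.tinv] at h1
  calc s * t = s * t * (s * s) := by rw [h.s2, mul_one]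
    _ = s * t * s * s := by group
    _ = t * s := by rw [h1]

/-- an element of the coset `K s` inverts `K` -/
theorem conj_coset (h : Setup G K t s k) {g x : G} (hg : g * s ∈ K) (hx : x ∈ K) : g * x * g⁻¹ = x⁻¹ := by
  have h1 : g = (g * s) * s := by rw [mul_assoc, h.s2, mul_one]
  rw [h1]
  have h2 : g * s * s * x * (g * s * s)⁻¹ = g * s * (s * x * s⁻¹) * (g * s)⁻¹ := by group
  rw [h2, h.inv x hx, h.comm _ hg _ (inv_mem hx)]
  group

theorem sq_coset (h : Setup G K t s k) {g : G} (hg : g * s ∈ K) : g * g = 1 := by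
  have h1 := h.conj_coset hg hg
  have h2 : g * (g * s) * g⁻¹ = g * g * (s * g⁻¹) := by group
  rw [h2, mul_inv_rev, h.sinv] at h1
  have h3 : g * g * (s * g⁻¹) = 1 * (s * g⁻¹) := by rw [one_mul]; exact h1
  exact mul_right_cancel h3

theorem coset_ne (h : Setup G K t s k) {g : G} (hg : g * s ∈ K) : g ∉ K := by
  intro hgK
  apply h.sK
  have := mul_mem (inv_mem hgK) hg
  rwa [inv_mul_cancel_left] at this

theorem comm_of_coset (h : Setup G K t s k) {g : G} (hg : g ∈ K ∨ g * s ∈ K) : g * t = t * g := by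
  rcases hg with hg | hg
  · exact h.comm _ hg _ h.tK
  · have := h.conj_coset hg h.tK
    rw [h.tinv, mul_inv_eq_iff_eq_mul] at this
    exact this

/-- `K` is a TI set -/
theorem ti (h : Setup G K t s k) {g x : G} (hx : x ∈ K) (hx1 : x ≠ 1) (hg : g * x * g⁻¹ ∈ K) :
    g ∈ K ∨ g * s ∈ K := by
  apply h.cent
  have key : g * t * g⁻¹ = t := by
    have hne : g * t * g⁻¹ ≠ 1 := by
      intro hc
      apply h.t1
      rw [mul_inv_eq_one] at hc
      exact mul_left_cancel (hc.trans (mul_one g).symm)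
    have hsq : g * t * g⁻¹ * (g * t * g⁻¹) = 1 := by
      have : g * t * g⁻¹ * (g * t * g⁻¹) = g * (t * t) * g⁻¹ := by group
      rw [this, h.t2]; group
    have hy1 : g * x * g⁻¹ ≠ 1 := by
      intro hc
      apply hx1
      rw [mul_inv_eq_one] at hc
      exact mul_left_cancel (hc.trans (mul_one g).symm)
    by_cases hxx : x * x = 1
    · have hxt : x = t := (h.uniq x hx hxx).resolve_left hx1
      subst hxt
      exact (h.uniq _ hg hsq).resolve_left hne
    · -- `g t g⁻¹` centralizes `y = g x g⁻¹`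
      have hc1 : g * t * g⁻¹ * (g * x * g⁻¹) = g * x * g⁻¹ * (g * t * g⁻¹) := by
        have e1 : g * t * g⁻¹ * (g * x * g⁻¹) = g * (t * x) * g⁻¹ := by group
        have e2 : g * x * g⁻¹ * (g * t * g⁻¹) = g * (x * t) * g⁻¹ := by group
        rw [e1, e2, h.comm _ h.tK _ hx]
      have hc2 := h.cen _ hg hy1 _ hc1
      rcases h.cent _ hc2 with h3 | h3
      · exact (h.uniq _ h3 hsq).resolve_left hne
      · exfalso
        have h4 := h.conj_coset h3 hg
        have h5 : g * t * g⁻¹ * (g * x * g⁻¹) * (g * t * g⁻¹)⁻¹ = g * x * g⁻¹ := by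
          rw [hc1, mul_inv_cancel_right]
        rw [h5] at h4
        apply hxx
        have h6 : g * x * g⁻¹ * (g * x * g⁻¹) = 1 := by
          nth_rewrite 2 [h4]
          exact mul_inv_cancel _
        have h7 : g * x * g⁻¹ * (g * x * g⁻¹) = g * (x * x) * g⁻¹ := by group
        rw [h7, mul_inv_eq_one] at h6
        exact mul_left_cancel (h6.trans (mul_one g).symm)
  rw [mul_inv_eq_iff_eq_mul] at key
  exact key

variable [Fintype G]

theorem kpos (h : Setup G K t s k) : 0 < k := by rw [← h.hk]; exact Nat.card_pos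

theorem k_even (h : Setup G K t s k) : 2 ∣ k := by
  rw [← h.hk]
  have h1 : orderOf (⟨t, h.tK⟩ : K) = 2 := by
    apply orderOf_eq_prime
    · apply Subtype.ext
      change t ^ 2 = 1
      rw [pow_two, h.t2]
    · intro hc
      exact h.t1 (congrArg Subtype.val hc)
  rw [← h1]
  exact orderOf_dvd_natCard _

theorem sum_ind (h : Setup G K t s k) (F : G → ℂ) (c : ℂ) (hF : ∀ g, g ∈ K → F g = c) (hF' : ∀ g, g ∉ K → F g = 0) :
    ∑ g : G, F g = k * c := by
  classical
  have h1 := H3.sum_extendByZero_mul K (fun _ => c) (fun _ => (1 : ℂ))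
  have h2 : ∑ g : G, F g = ∑ g : G, extendByZero K (fun _ => c) g * 1 := by
    apply Finset.sum_congr rfl
    intro g _
    by_cases hg : g ∈ K
    · rw [hF g hg, H3.extendByZero_mem K _ hg, mul_one]
    · rw [hF' g hg, H3.extendByZero_not_mem K _ hg, zero_mul]
  rw [h2, h1]
  simp only [mul_one, Finset.sum_const, Finset.card_univ, nsmul_eq_mul]
  rw [← Nat.card_eq_fintype_card, h.hk]

/-- the induced function on `K` -/
theorem ind_K (h : Setup G K t s k) {f : K → ℂ} (hf : f 1 = 0) (x : K) :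
    indFun K f x = f x + f x⁻¹ := by
  classical
  have hk0 : (k : ℂ) ≠ 0 := by exact_mod_cast h.kpos.ne'
  by_cases hx : x = 1
  · subst hx
    have h1 : ((1 : K) : G) = 1 := rfl
    rw [h1, H3.indFun_one_apply, inv_one, hf]
    simp
  · have hx1 : (x : G) ≠ 1 := fun e => hx (Subtype.ext e)
    have key : ∀ g : G, extendByZero K f (g⁻¹ * x * g) =
        (if g ∈ K then f x else 0) + (if g * s ∈ K then f x⁻¹ else 0) := by
      intro g
      by_cases hg : g ∈ K
      · have h1 : g * s ∉ K := fun hc => h.coset_ne hc hg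
        rw [if_pos hg, if_neg h1, add_zero]
        have h2 : g⁻¹ * x * g = x := by rw [mul_assoc, h.comm _ x.2 _ hg, inv_mul_cancel_left]
        rw [h2]
        exact H3.extendByZero_coe K f x
      · rw [if_neg hg, zero_add]
        by_cases hgs : g * s ∈ K
        · rw [if_pos hgs]
          have h1 := h.conj_coset hgs x.2
          have h2 : g⁻¹ * x * g = (x : G)⁻¹ := by
            have h3 : g⁻¹ = g := inv_eq_of_mul_eq_one_left (h.sq_coset hgs)
            rw [h3]
            rw [h3] at h1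
            exact h1
          rw [h2]
          exact H3.extendByZero_coe K f x⁻¹
        · rw [if_neg hgs]
          apply H3.extendByZero_not_mem
          intro hc
          have h1 := h.ti (g := g⁻¹) x.2 hx1 (by simpa using hc)
          rcases h1 with h1 | h1
          · exact hg (by simpa using inv_mem h1)
          · apply hgs
            have h2 : g⁻¹ = g := by
              have := h.sq_coset h1
              have h3 : g⁻¹ * g⁻¹ = 1 := this
              exact (mul_eq_one_iff_eq_inv.mp h3).trans (inv_inv g)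
            rwa [h2] at h1
    rw [indFun, Finset.sum_congr rfl fun g _ => key g, Finset.sum_add_distrib, h.hk]
    have h1 : ∑ g : G, (if g ∈ K then f x else 0) = k * f x :=
      h.sum_ind _ _ (fun g hg => if_pos hg) (fun g hg => if_neg hg)
    have h2 : ∑ g : G, (if g * s ∈ K then f x⁻¹ else 0) = k * f x⁻¹ := by
      rw [← h.sum_ind (fun g => if g ∈ K then f x⁻¹ else 0) _ (fun g hg => if_pos hg) (fun g hg => if_neg hg)]
      exact Fintype.sum_equiv (Equiv.mulRight s) _ _ fun g => rfl
    rw [h1, h2]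
    field_simp

/-- the class function `(1 - μ)^G` -/
noncomputable def v (K : Subgroup G) (μ : K →* ℂˣ) : G → ℂ := indFun K (Exc.ph K μ)

theorem v_gen (μ : K →* ℂˣ) : IsGeneralizedCharacter G (v K μ) := by
  classical
  exact H3.isGen_ind K (Exc.ph_isGen _)

theorem v_one (μ : K →* ℂˣ) : v K μ 1 = 0 := by
  rw [v, H3.indFun_one_apply, Exc.ph_one, mul_zero]

theorem v_K (h : Setup G K t s k) (μ : K →* ℂˣ) (x : K) : v K μ x = 2 - (μ x : ℂ) - (μ x⁻¹ : ℂ) := by
  rw [v, h.ind_K (Exc.ph_one μ) x]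
  simp only [Exc.ph]
  ring

/-- vanishing off the conjugates of `K` -/
theorem v_off {y : G} (hy : ∀ g, g * y * g⁻¹ ∈ K → g * y * g⁻¹ = 1) (μ : K →* ℂˣ) : v K μ y = 0 := by
  rw [v, indFun]
  rw [Finset.sum_eq_zero, mul_zero]
  intro x _
  by_cases hx : x⁻¹ * y * x ∈ K
  · have h1 := hy x⁻¹ (by simpa using hx)
    rw [inv_inv] at h1
    rw [h1]
    have h2 : (1 : G) = ((1 : K) : G) := rfl
    rw [h2, H3.extendByZero_coe, Exc.ph_one]
  · exact H3.extendByZero_not_mem K _ hx

theorem inner_v {χ : G → ℂ} [Fintype K] (hχ : IsClassFunction G χ) (μ : K →* ℂˣ) :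
    classInner (v K μ) χ = classInner (Exc.ph K μ) (fun x : K => χ x) :=
  H3.frobenius_reciprocity K _ hχ

theorem inner_v' {χ : G → ℂ} [Fintype K] (hχ : IsClassFunction G χ) (μ : K →* ℂˣ) :
    classInner χ (v K μ) = classInner (fun x : K => χ x) (Exc.ph K μ) :=
  H3.frobenius_reciprocity' K _ hχ

theorem v_trivial {μ : K →* ℂˣ} (hμ : μ ≠ 1) : classInner (v K μ) (fun _ => 1 : G → ℂ) = 1 := by
  classical
  letI : Fintype K := Fintype.ofFinite K
  rw [inner_v (H3.isGen_classFun H3.isGen_one) μ]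
  have h3 : Exc.ph K μ = (fun y : K => (((1 : K →* ℂˣ) y : ℂˣ) : ℂ)) - (fun y : K => (μ y : ℂ)) := by
    ext y; simp [Exc.ph]
  have h2 : (fun _ : K => (1 : ℂ)) = fun y : K => (((1 : K →* ℂˣ) y : ℂˣ) : ℂ) := by ext y; simp
  rw [h2, h3, H3.classInner_sub_left, Exc.lin_inner, Exc.lin_inner, if_pos rfl, if_neg hμ, sub_zero]

theorem hom_inv_ne {ν : K →* ℂˣ} (hν : ν ≠ 1) : ν⁻¹ ≠ 1 := by
  intro e
  apply hν
  ext x
  have h1 := congrArg (fun f : K →* ℂˣ => f x) e
  simp only [MonoidHom.inv_apply, MonoidHom.one_apply, inv_eq_one] at h1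
  rw [h1]; rfl

open scoped Classical in
theorem gram (h : Setup G K t s k) {μ ν : K →* ℂˣ} (hμ : μ ≠ 1) (hν : ν ≠ 1) :
    classInner (v K μ) (v K ν) = 2 + (if μ = ν then 1 else 0) + (if μ = ν⁻¹ then 1 else 0) := by
  letI : Fintype K := Fintype.ofFinite K
  rw [inner_v (H3.isGen_classFun (v_gen ν)) μ]
  have h1 : (fun x : K => v K ν x) = Exc.ph K ν + Exc.ph K ν⁻¹ := by
    ext x
    rw [h.v_K, Pi.add_apply]
    simp only [Exc.ph]
    rw [MonoidHom.inv_apply, ← map_inv]
    ring
  rw [h1, H3.classInner_add_right, Exc.ph_inner hμ hν, Exc.ph_inner hμ (hom_inv_ne hν)]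
  ring

end Setup

end Cfsg.Agent.H9.BSW
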