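import Cfsg.Agent.H9.BSWB

set_option autoImplicit false
set_option linter.unusedSectionVars false
set_option linter.style.haveILetI false
set_option linter.unusedVariables false
set_option linter.unusedSimpArgs false

/-! Brauer–Suzuki–Wall, part C: counting involutions. -/

open Cfsg
open scoped ComplexConjugate

namespace Cfsg.Agent.H9.BSW

open Subgroup

universe u

variable {G : Type u} [Group G] [Fintype G] {K : Subgroup G} {t s : G} {k : ℕ}

/-- being an involution -/
def Inv (u : G) : Prop := u ≠ 1 ∧ u * u = 1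

/-- the number of ways to write `y` as a product of two involutions -/
noncomputable def nn (y : G) : ℕ := Nat.card {u : G // Inv u ∧ Inv (u * y)}

/-- the averaging functional -/
noncomputable def L (t y : G) (ψ : G → ℂ) : ℂ := ∑ a : G, ψ (a * t * a⁻¹ * y)

theorem L_add (t y : G) (φ ψ : G → ℂ) : L t y (φ + ψ) = L t y φ + L t y ψ := by
  simp [L, Finset.sum_add_distrib]

theorem L_sub (t y : G) (φ ψ : G → ℂ) : L t y (φ - ψ) = L t y φ - L t y ψ := by
  simp [L, Finset.sum_sub_distrib]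

theorem L_one (t y : G) : L t y (fun _ => 1) = Nat.card G := by
  simp [L, Nat.card_eq_fintype_card]

theorem N1.L {x : G → ℂ} (h : N1 x) (t y : G) : L t y x = (Nat.card G : ℂ) * x t * x y / x 1 := h.conv t y

namespace Setup

theorem inv_conj {u g : G} : Inv (g * u * g⁻¹) ↔ Inv u := by
  unfold Inv
  have h1 : g * u * g⁻¹ = 1 ↔ u = 1 := by
    rw [mul_inv_eq_one, mul_eq_left]
  have h2 : g * u * g⁻¹ * (g * u * g⁻¹) = g * (u * u) * g⁻¹ := by group
  rw [h2, Ne, h1]
  have h3 : g * (u * u) * g⁻¹ = 1 ↔ u * u = 1 := by rw [mul_inv_eq_one, mul_eq_left]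
  rw [h3]

theorem inv_t (h : Setup G K t s k) : Inv t := ⟨h.t1, h.t2⟩

open scoped Classical in
theorem card_conj (h : Setup G K t s k) (u : G) :
    ∑ b : G, (if b * t * b⁻¹ = u then (1 : ℂ) else 0) = if Inv u then 2 * (k : ℂ) else 0 := by
  by_cases hu : Inv u
  · rw [if_pos hu]
    obtain ⟨g, hg⟩ := h.one u hu.1 hu.2
    have h1 : ∀ b : G, (if b * t * b⁻¹ = u then (1 : ℂ) else 0) =
        (if g⁻¹ * b ∈ K then 1 else 0) + (if g⁻¹ * b * s ∈ K then 1 else 0) := by
      intro b
      have h2 : b * t * b⁻¹ = u ↔ (g⁻¹ * b ∈ K ∨ g⁻¹ * b * s ∈ K) := by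
        rw [← hg]
        constructor
        · intro e
          apply h.cent
          have e2 : b * t = g * t * g⁻¹ * b := mul_inv_eq_iff_eq_mul.mp e
          rw [mul_assoc, e2]; group
        · intro e
          have := h.comm_of_coset e
          have e2 : g * (g⁻¹ * b * t) = g * (t * (g⁻¹ * b)) := by rw [this]
          have e3 : b * t = g * t * g⁻¹ * b := by
            calc b * t = g * (g⁻¹ * b * t) := by group
              _ = _ := e2
              _ = _ := by group
          rw [e3]; group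
      by_cases h3 : g⁻¹ * b ∈ K
      · have h4 : g⁻¹ * b * s ∉ K := fun hc => h.coset_ne hc h3
        rw [if_pos (h2.mpr (Or.inl h3)), if_pos h3, if_neg h4, add_zero]
      · by_cases h4 : g⁻¹ * b * s ∈ K
        · rw [if_pos (h2.mpr (Or.inr h4)), if_neg h3, if_pos h4, zero_add]
        · rw [if_neg (fun e => (h2.mp e).elim h3 h4), if_neg h3, if_neg h4, zero_add]
    rw [Finset.sum_congr rfl fun b _ => h1 b, Finset.sum_add_distrib]
    have h5 : ∑ b : G, (if g⁻¹ * b ∈ K then (1 : ℂ) else 0) = k * 1 := by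
      rw [← h.sum_ind (fun g => if g ∈ K then 1 else 0) 1 (fun g hg => if_pos hg) (fun g hg => if_neg hg)]
      exact Fintype.sum_equiv (Equiv.mulLeft g⁻¹) _ _ fun g => rfl
    have h6 : ∑ b : G, (if g⁻¹ * b * s ∈ K then (1 : ℂ) else 0) = k * 1 := by
      rw [← h.sum_ind (fun g => if g ∈ K then 1 else 0) 1 (fun g hg => if_pos hg) (fun g hg => if_neg hg)]
      exact Fintype.sum_equiv ((Equiv.mulLeft g⁻¹).trans (Equiv.mulRight s)) _ _ fun g => rfl
    rw [h5, h6]; ring
  · rw [if_neg hu]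
    apply Finset.sum_eq_zero
    intro b _
    rw [if_neg]
    rintro rfl
    exact hu (inv_conj.mpr h.inv_t)

open scoped Classical in
theorem conj_sum (h : Setup G K t s k) (F : G → ℂ) :
    ∑ b : G, F (b * t * b⁻¹) = 2 * (k : ℂ) * ∑ u : G, if Inv u then F u else 0 := by
  have h1 : ∀ b : G, F (b * t * b⁻¹) = ∑ u : G, (if b * t * b⁻¹ = u then (1 : ℂ) else 0) * F u := by
    intro b
    simp only [ite_mul, one_mul, zero_mul]
    rw [Finset.sum_ite_eq, if_pos (Finset.mem_univ _)]
  rw [Finset.sum_congr rfl fun b _ => h1 b, Finset.sum_comm, Finset.mul_sum]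
  apply Finset.sum_congr rfl
  intro u _
  rw [← Finset.sum_mul, h.card_conj]
  by_cases hu : Inv u
  · rw [if_pos hu, if_pos hu]
  · rw [if_neg hu, if_neg hu]; ring

open scoped Classical in
theorem nn_eq_sum (y : G) : (nn y : ℂ) = ∑ u : G, if Inv u ∧ Inv (u * y) then (1 : ℂ) else 0 := by
  rw [nn, Nat.card_eq_fintype_card, Fintype.card_subtype, Finset.sum_boole]

/-- elements of `K` are inverted exactly by the involutions of `K s` -/
theorem nn_K (h : Setup G K t s k) {y : G} (hy : y ∈ K) (hy1 : y ≠ 1) : nn y = k := by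
  rw [nn, ← h.hk]
  apply Nat.card_congr
  refine (Equiv.subtypeEquivRight ?_).trans ((Equiv.mulRight s).subtypeEquiv (p := fun u => u * s ∈ K) (q := fun u => u ∈ K) fun a => Iff.rfl)
  intro u
  constructor
  · rintro ⟨⟨hu1, hu2⟩, ⟨hv1, hv2⟩⟩
    have huinv : u⁻¹ = u := inv_eq_of_mul_eq_one_left hu2
    have h1 : u * y * u⁻¹ = y⁻¹ := by
      rw [huinv]
      calc u * y * u = u * y * u * (y * y⁻¹) := by group
        _ = (u * y * (u * y)) * y⁻¹ := by group
        _ = y⁻¹ := by rw [hv2, one_mul]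
    rcases h.ti hy hy1 (by rw [h1]; exact inv_mem hy) with h2 | h2
    · exfalso
      have hut : u = t := (h.uniq u h2 hu2).resolve_left hu1
      have h3 : (u * y) ∈ K := mul_mem h2 hy
      have h4 : u * y = t := (h.uniq _ h3 hv2).resolve_left hv1
      rw [hut] at h4
      exact hy1 (mul_eq_left.mp h4)
    · exact h2
  · intro hu
    have h1 := h.conj_coset hu hy
    have h2 := h.sq_coset hu
    have huinv : u⁻¹ = u := inv_eq_of_mul_eq_one_left h2
    have hu1 : u ≠ 1 := by
      rintro rfl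
      exact h.coset_ne hu (one_mem K)
    have h3 : u * y * s ∈ K := by
      have : u * y * s = (u * s) * (s * y * s) := by
        calc u * y * s = u * (s * s) * y * s := by rw [h.s2, mul_one]
          _ = _ := by group
      rw [this, h.inv' hy]
      exact mul_mem hu (inv_mem hy)
    refine ⟨⟨hu1, h2⟩, ⟨?_, h.sq_coset h3⟩⟩
    intro e
    rw [e] at h3
    exact h.coset_ne h3 (one_mem K)

theorem sum_ph [Fintype K] {μ : K →* ℂˣ} (hμ : μ ≠ 1) : ∑ x : K, Exc.ph K μ x = (Nat.card K : ℂ) := by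
  simp only [Exc.ph, Finset.sum_sub_distrib, Finset.sum_const, Finset.card_univ, nsmul_eq_mul, mul_one]
  have h1 : ∑ x : K, (μ x : ℂ) = 0 := by
    classical
    have h2 := Exc.lin_inner (P := K) μ 1
    rw [if_neg hμ, classInner] at h2
    have hk : (Nat.card K : ℂ)⁻¹ ≠ 0 := inv_ne_zero (by exact_mod_cast Nat.card_pos.ne')
    have h3 := (mul_eq_zero.mp h2).resolve_left hk
    simpa using h3
  rw [h1, sub_zero, Nat.card_eq_fintype_card]

/-- the key relation -/
theorem L_v (h : Setup G K t s k) {μ : K →* ℂˣ} (hμ : μ ≠ 1) : L t t (v K μ) = 4 * (k : ℂ) ^ 3 := by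
  classical
  letI : Fintype K := Fintype.ofFinite K
  have hk0 : (k : ℂ) ≠ 0 := by exact_mod_cast h.kpos.ne'
  set E : G → ℂ := extendByZero K (Exc.ph K μ) with hE
  have h1 : L t t (v K μ) = (k : ℂ)⁻¹ * ∑ x : G, ∑ b : G, E (b * t * b⁻¹ * (x * t * x⁻¹)) := by
    simp only [L, v, indFun, h.hk]
    rw [← Finset.mul_sum, Finset.sum_comm]
    congr 1
    rw [← Equiv.sum_comp (Equiv.inv G)]
    apply Finset.sum_congr rfl
    intro x _
    rw [← Equiv.sum_comp (Equiv.mulLeft x⁻¹)]
    apply Finset.sum_congr rfl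
    intro b _
    congr 1
    simp only [Equiv.inv_apply, Equiv.coe_mulLeft]
    group
  have h2 : ∀ x : G, ∑ b : G, E (b * t * b⁻¹ * (x * t * x⁻¹)) =
      2 * (k : ℂ) * ∑ u : G, if Inv u then E (u * (x * t * x⁻¹)) else 0 :=
    fun x => h.conj_sum (fun u => E (u * (x * t * x⁻¹)))
  have h3 : ∑ x : G, ∑ b : G, E (b * t * b⁻¹ * (x * t * x⁻¹)) =
      2 * (k : ℂ) * (2 * (k : ℂ) * ∑ w : G, if Inv w then ∑ u : G, (if Inv u then E (u * w) else 0) else 0) := by
    rw [Finset.sum_congr rfl fun x _ => h2 x, ← Finset.mul_sum]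
    congr 1
    exact h.conj_sum (fun w => ∑ u : G, if Inv u then E (u * w) else 0)
  have h4 : (∑ w : G, if Inv w then ∑ u : G, (if Inv u then E (u * w) else 0) else 0) =
      ∑ y : G, E y * (nn y : ℂ) := by
    have h5 : ∀ w : G, (if Inv w then ∑ u : G, (if Inv u then E (u * w) else 0) else 0) =
        ∑ u : G, if Inv u ∧ Inv w then E (u * w) else 0 := by
      intro w
      by_cases hw : Inv w
      · rw [if_pos hw]
        apply Finset.sum_congr rfl
        intro u _
        simp only [hw, and_true]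
      · rw [if_neg hw]
        symm
        apply Finset.sum_eq_zero
        intro u _
        rw [if_neg (fun e => hw e.2)]
    rw [Finset.sum_congr rfl fun w _ => h5 w, Finset.sum_comm]
    have h6 : ∀ u : G, ∑ w : G, (if Inv u ∧ Inv w then E (u * w) else 0) =
        ∑ y : G, if Inv u ∧ Inv (u⁻¹ * y) then E y else 0 := by
      intro u
      rw [← Equiv.sum_comp (Equiv.mulLeft u⁻¹)]
      apply Finset.sum_congr rfl
      intro y _
      simp
    rw [Finset.sum_congr rfl fun u _ => h6 u, Finset.sum_comm]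
    apply Finset.sum_congr rfl
    intro y _
    rw [nn_eq_sum, Finset.mul_sum]
    apply Finset.sum_congr rfl
    intro u _
    by_cases hu : Inv u
    · have : u⁻¹ = u := inv_eq_of_mul_eq_one_left hu.2
      rw [this]
      by_cases hw : Inv (u * y)
      · rw [if_pos ⟨hu, hw⟩, if_pos ⟨hu, hw⟩, mul_one]
      · rw [if_neg (fun e => hw e.2), if_neg (fun e => hw e.2), mul_zero]
    · rw [if_neg (fun e => hu e.1), if_neg (fun e => hu e.1), mul_zero]
  have h7 : ∑ y : G, E y * (nn y : ℂ) = ∑ y : K, Exc.ph K μ y * (nn (y : G) : ℂ) :=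
    H3.sum_extendByZero_mul K (Exc.ph K μ) (fun y => (nn y : ℂ))
  have h8 : ∀ y : K, Exc.ph K μ y * (nn (y : G) : ℂ) = Exc.ph K μ y * (k : ℂ) := by
    intro y
    by_cases hy : y = 1
    · subst hy; rw [Exc.ph_one, zero_mul, zero_mul]
    · rw [h.nn_K y.2 (fun e => hy (Subtype.ext e))]
  rw [h1, h3, h4, h7, Finset.sum_congr rfl fun y _ => h8 y, ← Finset.sum_mul, sum_ph hμ, h.hk]
  field_simp
  ring

/-- the expansion of the class of involutions -/
theorem Phi (h : Setup G K t s k) [Fintype (K →* ℂˣ)] (g : G) [Decidable (Inv g)] :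
    ∑ μ : K →* ℂˣ, -(μ ⟨t, h.tK⟩ : ℂ) * v K μ g = if Inv g then 2 * (k : ℂ) else 0 := by
  classical
  have hk0 : (k : ℂ) ≠ 0 := by exact_mod_cast h.kpos.ne'
  have h1 : ∀ z : G, ∑ μ : K →* ℂˣ, -(μ ⟨t, h.tK⟩ : ℂ) * extendByZero K (Exc.ph K μ) z =
      if z = t then (k : ℂ) else 0 := by
    intro z
    by_cases hz : z ∈ K
    · have h2 : ∀ μ : K →* ℂˣ, -(μ ⟨t, h.tK⟩ : ℂ) * extendByZero K (Exc.ph K μ) z =
          (μ (⟨t, h.tK⟩ * ⟨z, hz⟩) : ℂ) - (μ ⟨t, h.tK⟩ : ℂ) := by
        intro μ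
        rw [H3.extendByZero_mem K _ hz, Exc.ph, map_mul, Units.val_mul]
        ring
      rw [Finset.sum_congr rfl fun μ _ => h2 μ, Finset.sum_sub_distrib, sum_hom h.comm, sum_hom h.comm]
      have h3 : (⟨t, h.tK⟩ : K) ≠ 1 := fun e => h.t1 (congrArg Subtype.val e)
      rw [if_neg h3, sub_zero, h.hk]
      by_cases hzt : z = t
      · subst hzt
        rw [if_pos rfl, if_pos]
        exact Subtype.ext h.t2
      · rw [if_neg hzt, if_neg]
        intro e
        apply hzt
        have h4 : t * z = 1 := congrArg Subtype.val e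
        have h5 := eq_inv_of_mul_eq_one_right h4
        rw [h.tinv] at h5
        exact h5
    · rw [if_neg (fun e : z = t => hz (by rw [e]; exact h.tK))]
      apply Finset.sum_eq_zero
      intro μ _
      rw [H3.extendByZero_not_mem K _ hz, mul_zero]
  have h2 : ∀ μ : K →* ℂˣ, -(μ ⟨t, h.tK⟩ : ℂ) * v K μ g =
      (k : ℂ)⁻¹ * ∑ x : G, -(μ ⟨t, h.tK⟩ : ℂ) * extendByZero K (Exc.ph K μ) (x⁻¹ * g * x) := by
    intro μ
    rw [v, indFun, h.hk, ← Finset.mul_sum]
    ring
  rw [Finset.sum_congr rfl fun μ _ => h2 μ, ← Finset.mul_sum, Finset.sum_comm,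
    Finset.sum_congr rfl fun x _ => h1 (x⁻¹ * g * x)]
  have h3 : ∀ x : G, (if x⁻¹ * g * x = t then (k : ℂ) else 0) = k * (if x * t * x⁻¹ = g then 1 else 0) := by
    intro x
    have h4 : x⁻¹ * g * x = t ↔ x * t * x⁻¹ = g := by
      constructor
      · rintro rfl; group
      · rintro rfl; group
    by_cases h5 : x * t * x⁻¹ = g
    · rw [if_pos h5, if_pos (h4.mpr h5), mul_one]
    · rw [if_neg h5, if_neg (fun e => h5 (h4.mp e)), mul_zero]
  rw [Finset.sum_congr rfl fun x _ => h3 x, ← Finset.mul_sum, h.card_conj, ← mul_assoc, inv_mul_cancel₀ hk0, one_mul]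
  by_cases hg : Inv g
  · rw [if_pos hg, if_pos hg]
  · rw [if_neg hg, if_neg hg]

/-- the formula for the number of inverting involutions -/
theorem nn_formula (h : Setup G K t s k) [Fintype (K →* ℂˣ)] (y : G) :
    4 * (k : ℂ) ^ 2 * nn y = ∑ μ : K →* ℂˣ, -(μ ⟨t, h.tK⟩ : ℂ) * L t y (v K μ) := by
  classical
  have h1 : ∑ μ : K →* ℂˣ, -(μ ⟨t, h.tK⟩ : ℂ) * L t y (v K μ) =
      ∑ a : G, ∑ μ : K →* ℂˣ, -(μ ⟨t, h.tK⟩ : ℂ) * v K μ (a * t * a⁻¹ * y) := by
    rw [Finset.sum_comm]
    apply Finset.sum_congr rfl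
    intro μ _
    rw [L, Finset.mul_sum]
  rw [h1, Finset.sum_congr rfl fun a _ => h.Phi (a * t * a⁻¹ * y)]
  rw [h.conj_sum (fun u => if Inv (u * y) then 2 * (k : ℂ) else 0), nn_eq_sum, Finset.mul_sum, Finset.mul_sum]
  apply Finset.sum_congr rfl
  intro u _
  by_cases hu : Inv u
  · by_cases hw : Inv (u * y)
    · rw [if_pos ⟨hu, hw⟩, if_pos hu, if_pos hw]; ring
    · rw [if_neg (fun e => hw e.2), if_pos hu, if_neg hw]; ring
  · rw [if_neg (fun e => hu e.1), if_neg hu]; ring

end Setup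

end Cfsg.Agent.H9.BSW
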