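import Cfsg.Agent.H9.BSWC
import Cfsg.Agent.H3.CohB

set_option autoImplicit false
set_option linter.unusedSectionVars false
set_option linter.style.haveILetI false
set_option linter.unusedVariables false
set_option linter.unusedSimpArgs false

/-! Brauer–Suzuki–Wall, part D: the exceptional characters. -/

open Cfsg
open scoped ComplexConjugate

namespace Cfsg.Agent.H9.BSW

open Subgroup

universe u

variable {G : Type u} [Group G] [Fintype G] {K : Subgroup G} {t s : G} {k : ℕ}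

theorem hinv_inv (μ : K →* ℂˣ) : μ⁻¹⁻¹ = μ := by
  ext x; simp [MonoidHom.inv_apply]

theorem hinv_one : (1 : K →* ℂˣ)⁻¹ = 1 := by
  ext x; simp [MonoidHom.inv_apply]

theorem hmul_inv (μ : K →* ℂˣ) : μ * μ⁻¹ = 1 := by
  ext x; simp [MonoidHom.inv_apply]

theorem hinv_of_mul {μ : K →* ℂˣ} (h : μ * μ = 1) : μ⁻¹ = μ := by
  ext x
  have h1 := congrArg (fun f : K →* ℂˣ => f x) h
  simp only [MonoidHom.mul_apply, MonoidHom.one_apply] at h1
  rw [MonoidHom.inv_apply, inv_eq_of_mul_eq_one_left h1]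

theorem N1.symm {x y : G → ℂ} (hx : N1 x) (hy : N1 y) : classInner x y = classInner y x :=
  H3.classInner_gen_symm hx.1 hy.1

theorem N1.ne_zero_inner {x y : G → ℂ} (hx : N1 x) (hy : N1 y) (h : classInner x y = 1) : x = y := by
  rcases hx.tri hy with e | e | e
  · exact e
  · rw [e, H3.classInner_neg_left, hy.2] at h; norm_num at h
  · rw [e] at h; norm_num at h

theorem zero_of_sum {c d e : G → ℂ} (hc : N1 c) (hd : N1 d) (he : N1 e) (hcd : classInner c d = 0)
    (h : classInner c e + classInner d e = 0) : classInner c e = 0 ∧ classInner d e = 0 := by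
  rcases hc.tri he with h1 | h1 | h1
  · exfalso
    rw [h1, he.2] at h
    rcases hd.tri he with h2 | h2 | h2
    · rw [h2, he.2] at h; norm_num at h
    · rw [h1, h2, H3.classInner_neg_right, he.2] at hcd; norm_num at hcd
    · rw [h2] at h; norm_num at h
  · exfalso
    rw [h1, H3.classInner_neg_left, he.2] at h
    rcases hd.tri he with h2 | h2 | h2
    · rw [h1, h2, H3.classInner_neg_left, he.2] at hcd; norm_num at hcd
    · rw [h2, H3.classInner_neg_left, he.2] at h; norm_num at h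
    · rw [h2] at h; norm_num at h
  · refine ⟨h1, ?_⟩
    rw [h1, zero_add] at h; exact h

namespace Setup

/-- `(1 - μ)^G - 1` -/
noncomputable def w (K : Subgroup G) (μ : K →* ℂˣ) : G → ℂ := v K μ - fun _ => 1

theorem w_gen (μ : K →* ℂˣ) : IsGeneralizedCharacter G (w K μ) := H3.isGen_sub (v_gen μ) H3.isGen_one

theorem w_one (μ : K →* ℂˣ) : w K μ 1 = -1 := by
  rw [w, Pi.sub_apply, v_one]; ring

theorem v_eq (μ : K →* ℂˣ) : v K μ = (fun _ => 1) + w K μ := by
  rw [w]; ext x; simp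

theorem w_trivial {μ : K →* ℂˣ} (hμ : μ ≠ 1) : classInner (w K μ) (fun _ => 1 : G → ℂ) = 0 := by
  rw [w, H3.classInner_sub_left, v_trivial hμ, N1.one.2, sub_self]

open scoped Classical in
theorem w_gram (h : Setup G K t s k) {μ ν : K →* ℂˣ} (hμ : μ ≠ 1) (hν : ν ≠ 1) :
    classInner (w K μ) (w K ν) = 1 + (if μ = ν then 1 else 0) + (if μ = ν⁻¹ then 1 else 0) := by
  rw [w, w, H3.classInner_sub_left, H3.classInner_sub_right, H3.classInner_sub_right, h.gram hμ hν,
    v_trivial hμ, N1.one.2, H3.classInner_gen_symm H3.isGen_one (v_gen ν), v_trivial hν]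
  ring

/-- the real linear character -/
theorem exists_real (h : Setup G K t s k) :
    ∃ l : K →* ℂˣ, l ≠ 1 ∧ l⁻¹ = l ∧ ∀ μ : K →* ℂˣ, μ = μ⁻¹ → μ = 1 ∨ μ = l := by
  obtain ⟨e⟩ := mulEquiv_hom h.comm
  have h1 : (⟨t, h.tK⟩ : K) ≠ 1 := fun e => h.t1 (congrArg Subtype.val e)
  have h2 : (⟨t, h.tK⟩ : K) * ⟨t, h.tK⟩ = 1 := Subtype.ext h.t2
  refine ⟨e.symm ⟨t, h.tK⟩, ?_, ?_, ?_⟩
  · intro hc
    apply h1
    rw [← e.apply_symm_apply ⟨t, h.tK⟩, hc, map_one]
  · apply hinv_of_mul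
    rw [← map_mul, h2, map_one]
  · intro μ hμ
    have h3 : μ * μ = 1 := by
      nth_rewrite 2 [hμ]
      exact hmul_inv μ
    have h4 : ((e μ : K) : G) * (e μ : K) = 1 := by
      rw [← Subgroup.coe_mul, ← map_mul, h3, map_one]; rfl
    rcases h.uniq _ (e μ).2 h4 with h5 | h5
    · left
      apply e.injective
      rw [map_one]
      exact Subtype.ext h5
    · right
      rw [MulEquiv.eq_symm_apply]
      exact Subtype.ext h5

theorem pm (h : Setup G K t s k) (μ : K →* ℂˣ) : (μ ⟨t, h.tK⟩ : ℂ) = 1 ∨ (μ ⟨t, h.tK⟩ : ℂ) = -1 := by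
  have h2 : (⟨t, h.tK⟩ : K) * ⟨t, h.tK⟩ = 1 := Subtype.ext h.t2
  have h3 : (μ ⟨t, h.tK⟩ : ℂ) * (μ ⟨t, h.tK⟩ : ℂ) = 1 := by
    rw [← Units.val_mul, ← map_mul, h2, map_one, Units.val_one]
  exact mul_self_eq_one_iff.mp h3

theorem inv_pm (h : Setup G K t s k) (μ : K →* ℂˣ) : (μ⁻¹ ⟨t, h.tK⟩ : ℂˣ) = μ ⟨t, h.tK⟩ := by
  rw [MonoidHom.inv_apply, ← map_inv]
  congr 1
  exact Subtype.ext h.tinv

theorem w_t (h : Setup G K t s k) (μ : K →* ℂˣ) : w K μ t = 1 - 2 * (μ ⟨t, h.tK⟩ : ℂ) := by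
  have h1 := h.v_K μ ⟨t, h.tK⟩
  rw [w, Pi.sub_apply]
  rw [h1]
  have h2 : (⟨t, h.tK⟩ : K)⁻¹ = ⟨t, h.tK⟩ := Subtype.ext h.tinv
  rw [h2]; ring

theorem v_inv (h : Setup G K t s k) (μ : K →* ℂˣ) : v K μ⁻¹ = v K μ := by
  classical
  have hmu : ∀ (μ : K →* ℂˣ) (y : G), v K μ y = v K μ y := fun _ _ => rfl
  by_cases h1 : μ = 1
  · subst h1; rw [hinv_one]
  · have h2 : μ⁻¹ ≠ 1 := hom_inv_ne h1
    have h3 : classInner (v K μ⁻¹ - v K μ) (v K μ⁻¹ - v K μ) = 0 := by
      rw [H3.classInner_sub_left, H3.classInner_sub_right, H3.classInner_sub_right,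
        h.gram h2 h2, h.gram h2 h1, h.gram h1 h2, h.gram h1 h1, hinv_inv]
      simp only [if_true, eq_comm (a := μ⁻¹) (b := μ)]
      ring
    exact sub_eq_zero.mp (H3.eq_zero_of_norm' h3)

/-- splitting off the constituent shared with the real one -/
theorem split (h : Setup G K t s k) {l : K →* ℂˣ} (hl : l ≠ 1) (hl2 : l⁻¹ = l) {μ : K →* ℂˣ} (hμ : μ ≠ μ⁻¹) :
    ∃ α β : G → ℂ, N1 α ∧ N1 β ∧ classInner α β = 0 ∧ w K μ = α - β ∧ classInner (w K l) α = 1 ∧
      classInner (w K l) β = 0 := by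
  classical
  have hμ1 : μ ≠ 1 := by rintro rfl; exact hμ hinv_one.symm
  have hlμ : l ≠ μ := by rintro rfl; exact hμ hl2.symm
  have hlμ' : l ≠ μ⁻¹ := by
    rintro rfl
    rw [hinv_inv] at hl2
    exact hμ hl2
  have n2 : classInner (w K μ) (w K μ) = 2 := by rw [h.w_gram hμ1 hμ1, if_pos rfl, if_neg hμ]; norm_num
  have n1 : classInner (w K l) (w K μ) = 1 := by rw [h.w_gram hl hμ1, if_neg hlμ, if_neg hlμ']; norm_num
  have n3 : classInner (w K l) (w K l) = 3 := by rw [h.w_gram hl hl, if_pos rfl, if_pos hl2.symm]; norm_num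
  obtain ⟨x, y, hx, hy, hxy, e⟩ := dec2 (w_gen μ) n2
  obtain ⟨p, hp⟩ := H3.classInner_gen_int (w_gen (K := K) l) hx.1
  obtain ⟨q, hq⟩ := H3.classInner_gen_int (w_gen (K := K) l) hy.1
  have h1 : (p : ℂ) + q = 1 := by rw [← n1, e, H3.classInner_add_right, hp, hq]
  have h1' : p + q = 1 := by exact_mod_cast h1
  have hyx : classInner y x = 0 := by rw [← hx.symm hy]; exact hxy
  have hxl : classInner x (w K l) = p := by rw [H3.classInner_gen_symm hx.1 (w_gen l), hp]
  have hyl : classInner y (w K l) = q := by rw [H3.classInner_gen_symm hy.1 (w_gen l), hq]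
  have h2 : 0 ≤ 3 - p ^ 2 - q ^ 2 := by
    have h3 := H3.classInner_self_re_nonneg (w K l - (p : ℂ) • x - (q : ℂ) • y)
    have h4 : classInner (w K l - (p : ℂ) • x - (q : ℂ) • y) (w K l - (p : ℂ) • x - (q : ℂ) • y) =
        ((3 - p ^ 2 - q ^ 2 : ℤ) : ℂ) := by
      simp only [H3.classInner_sub_left, H3.classInner_sub_right, H3.classInner_smul_left, H3.classInner_smul_right,
        hp, hq, hxl, hyl, n3, hxy, hyx, hx.2, hy.2, map_intCast]
      push_cast; ring
    rw [h4, Complex.intCast_re] at h3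
    exact_mod_cast h3
  have h5 : p = 0 ∨ p = 1 := by
    have hq' : q = 1 - p := by linarith
    rw [hq'] at h2
    have : -2 < p := by nlinarith
    have : p < 3 := by nlinarith
    interval_cases p <;> simp_all
  rcases h5 with h5 | h5
  · have h6 : q = 1 := by linarith
    refine ⟨y, -x, hy, hx.neg, ?_, ?_, ?_, ?_⟩
    · rw [H3.classInner_neg_right, hyx, neg_zero]
    · rw [e]; ring
    · rw [hq, h6]; norm_num
    · rw [H3.classInner_neg_right, hp, h5]; norm_num
  · have h6 : q = 0 := by linarith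
    refine ⟨x, -y, hx, hy.neg, ?_, ?_, ?_, ?_⟩
    · rw [H3.classInner_neg_right, hxy, neg_zero]
    · rw [e]; ring
    · rw [hp, h5]; norm_num
    · rw [H3.classInner_neg_right, hq, h6]; norm_num

theorem one_ne_real_one {l : K →* ℂˣ} (h : Setup G K t s k) {α α' : G → ℂ} (hα : N1 α) (hα' : N1 α')
    (h1 : classInner (w K l) α = 1) (h2 : classInner (w K l) α' = 1) : α = α' ∨ classInner α α' = 0 := by
  rcases hα.tri hα' with e | e | e
  · exact Or.inl e
  · exfalso
    rw [e, H3.classInner_neg_right, h2] at h1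
    norm_num at h1
  · exact Or.inr e

theorem cross_zero {l : K →* ℂˣ} {α β : G → ℂ} (hα : N1 α) (hβ : N1 β)
    (h1 : classInner (w K l) α = 1) (h2 : classInner (w K l) β = 0) : classInner α β = 0 := by
  rcases hα.tri hβ with e | e | e
  · exfalso; rw [e, h2] at h1; norm_num at h1
  · exfalso; rw [e, H3.classInner_neg_right, h2] at h1; norm_num at h1
  · exact e

/-- Fourier coefficients of a generalized character on `K` -/
theorem four (h : Setup G K t s k) [Fintype (K →* ℂˣ)] {ψ : G → ℂ} (hψ : IsGeneralizedCharacter G ψ) :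
    ∃ m : ℤ, (ψ 1 = m * k - ∑ μ : K →* ℂˣ, classInner ψ (v K μ)) ∧
      ψ t = - ∑ μ : K →* ℂˣ, classInner ψ (v K μ) * (μ ⟨t, h.tK⟩ : ℂ) := by
  classical
  letI : Fintype K := Fintype.ofFinite K
  have hψK : IsGeneralizedCharacter K (fun x : K => ψ x) := H3.isGen_restrict K hψ
  obtain ⟨m, hm⟩ := H3.classInner_gen_int hψK (H3.isGen_one (G := K))
  have key : ∀ μ : K →* ℂˣ, classInner (fun x : K => ψ x) (fun y => ((μ y : ℂˣ) : ℂ)) = m - classInner ψ (v K μ) := by
    intro μ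
    rw [inner_v' (H3.isGen_classFun hψ) μ]
    have h3 : Exc.ph K μ = (fun y : K => (1 : ℂ)) - (fun y : K => (μ y : ℂ)) := by
      ext y; simp [Exc.ph]
    rw [h3, H3.classInner_sub_right, hm]; ring
  have h1 : ∀ x : K, ψ x = ∑ μ : K →* ℂˣ, (m - classInner ψ (v K μ)) * (μ x : ℂ) := by
    intro x
    have := fourier h.comm (fun x : K => ψ x) x
    simp only [key] at this
    exact this
  refine ⟨m, ?_, ?_⟩
  · have h2 := h1 1
    simp only [map_one, Units.val_one, mul_one, Finset.sum_sub_distrib, Finset.sum_const, Finset.card_univ,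
      nsmul_eq_mul] at h2
    rw [← Nat.card_eq_fintype_card, card_hom h.comm, h.hk] at h2
    have h3 : ((1 : K) : G) = 1 := rfl
    rw [h3] at h2
    rw [h2]; ring
  · have h2 := h1 ⟨t, h.tK⟩
    simp only [sub_mul, Finset.sum_sub_distrib] at h2
    rw [← Finset.mul_sum, sum_hom h.comm, if_neg (fun e => h.t1 (congrArg Subtype.val e)), mul_zero, zero_sub] at h2
    exact h2

end Setup

end Cfsg.Agent.H9.BSW
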