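import Cfsg.Agent.H9.BSWD

set_option autoImplicit false
set_option linter.unusedSectionVars false
set_option linter.style.haveILetI false
set_option linter.unusedVariables false
set_option linter.unusedSimpArgs false
set_option maxHeartbeats 1000000

/-! Brauer–Suzuki–Wall, part E: the main character-theoretic computation. -/

open Cfsg
open scoped ComplexConjugate

namespace Cfsg.Agent.H9.BSW

open Subgroup

universe u

variable {G : Type u} [Group G] [Fintype G] {K : Subgroup G} {t s : G} {k : ℕ}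

namespace Setup

theorem v_hom_one : v K (1 : K →* ℂˣ) = 0 := by
  have : Exc.ph K (1 : K →* ℂˣ) = 0 := by ext x; simp [Exc.ph]
  rw [v, this, H3.indFun_zero]

theorem pair (h : Setup G K t s k) {l : K →* ℂˣ} (hl : l ≠ 1) (hl2 : l⁻¹ = l) {μ ν : K →* ℂˣ}
    (hμ : μ ≠ μ⁻¹) (hν : ν ≠ ν⁻¹) {α β α' β' : G → ℂ} (n1 : N1 α) (n2 : N1 β) (n3 : N1 α') (n4 : N1 β')
    (e1 : w K μ = α - β) (e2 : w K ν = α' - β') (p1 : classInner (w K l) α = 1)
    (p2 : classInner (w K l) β = 0) (p3 : classInner (w K l) α' = 1) (p4 : classInner (w K l) β' = 0) :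
    α = α' ∨ (classInner α α' = 0 ∧ β = β' ∧ μ ≠ ν ∧ μ ≠ ν⁻¹) := by
  classical
  have hμ1 : μ ≠ 1 := by rintro rfl; exact hμ hinv_one.symm
  have hν1 : ν ≠ 1 := by rintro rfl; exact hν hinv_one.symm
  rcases one_ne_real_one h n1 n3 p1 p3 with e | e
  · exact Or.inl e
  · right
    have h1 := h.w_gram hμ1 hν1
    have h2 := cross_zero n1 n4 p1 p4
    have h3 := cross_zero n3 n2 p3 p2
    rw [n3.symm n2] at h3
    rw [e1, e2, H3.classInner_sub_left, H3.classInner_sub_right, H3.classInner_sub_right, e, h2, h3] at h1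
    rcases n2.tri n4 with h4 | h4 | h4
    · rw [h4, n4.2] at h1
      refine ⟨e, h4, ?_, ?_⟩
      · intro h5
        rw [if_pos h5] at h1
        by_cases h6 : μ = ν⁻¹
        · rw [if_pos h6] at h1; norm_num at h1
        · rw [if_neg h6] at h1; norm_num at h1
      · intro h6
        rw [if_pos h6] at h1
        by_cases h5 : μ = ν
        · rw [if_pos h5] at h1; norm_num at h1
        · rw [if_neg h5] at h1; norm_num at h1
    · rw [h4, H3.classInner_neg_left, n4.2] at h1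
      exfalso
      split_ifs at h1 <;> norm_num at h1
    · rw [h4] at h1
      exfalso
      split_ifs at h1 <;> norm_num at h1

/-- the excluded configuration -/
theorem no_bad (h : Setup G K t s k) {l : K →* ℂˣ} (hl : l ≠ 1) (hl2 : l⁻¹ = l)
    (hreal : ∀ μ : K →* ℂˣ, μ = μ⁻¹ → μ = 1 ∨ μ = l)
    (α β : (K →* ℂˣ) → G → ℂ)
    (hαβ : ∀ μ : K →* ℂˣ, μ ≠ μ⁻¹ → N1 (α μ) ∧ N1 (β μ) ∧ classInner (α μ) (β μ) = 0 ∧ w K μ = α μ - β μ ∧
      classInner (w K l) (α μ) = 1 ∧ classInner (w K l) (β μ) = 0)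
    {μ ν : K →* ℂˣ} (hμ : μ ≠ μ⁻¹) (hν : ν ≠ ν⁻¹) : α μ = α ν := by
  classical
  by_contra hne
  haveI := finite_hom h.comm
  letI : Fintype (K →* ℂˣ) := Fintype.ofFinite _
  have hpair : ∀ κ κ' : K →* ℂˣ, κ ≠ κ⁻¹ → κ' ≠ κ'⁻¹ →
      α κ = α κ' ∨ (classInner (α κ) (α κ') = 0 ∧ β κ = β κ' ∧ κ ≠ κ' ∧ κ ≠ κ'⁻¹) := by
    intro κ κ' h1 h2
    obtain ⟨a1, a2, a3, a4, a5, a6⟩ := hαβ κ h1
    obtain ⟨b1, b2, b3, b4, b5, b6⟩ := hαβ κ' h2
    exact pair h hl hl2 h1 h2 a1 a2 b1 b2 a4 b4 a5 a6 b5 b6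
  obtain ⟨a1, a2, a3, a4, a5, a6⟩ := hαβ μ hμ
  obtain ⟨b1, b2, b3, b4, b5, b6⟩ := hαβ ν hν
  obtain ⟨q1, q2, q3, q4⟩ := (hpair μ ν hμ hν).resolve_left hne
  have hμ1 : μ ≠ 1 := by rintro rfl; exact hμ hinv_one.symm
  have hν1 : ν ≠ 1 := by rintro rfl; exact hν hinv_one.symm
  have hdeg : ∀ κ : K →* ℂˣ, κ ≠ κ⁻¹ → β κ = β μ → α κ 1 = β μ 1 - 1 := by
    intro κ hκ hb
    obtain ⟨c1, c2, c3, c4, c5, c6⟩ := hαβ κ hκ
    have := congrFun c4 1
    rw [w_one, Pi.sub_apply, hb] at this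
    linear_combination -this
  -- all non-real characters
  have hall : ∀ κ : K →* ℂˣ, κ ≠ κ⁻¹ → κ = μ ∨ κ = μ⁻¹ ∨ κ = ν ∨ κ = ν⁻¹ := by
    intro κ hκ
    by_contra hcon
    push Not at hcon
    obtain ⟨r1, r2, r3, r4⟩ := hcon
    have hκ1 : κ ≠ 1 := by rintro rfl; exact hκ hinv_one.symm
    obtain ⟨c1, c2, c3, c4, c5, c6⟩ := hαβ κ hκ
    rcases hpair κ μ hκ hμ with h1 | ⟨h1, h1b, -, -⟩
    · rcases hpair κ ν hκ hν with h2 | ⟨h2, h2b, -, -⟩
      · exact hne (h1.symm.trans h2)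
      · have h3 : w K κ = w K μ := by rw [c4, a4, h1, h2b, q2]
        have h4 := h.w_gram hκ1 hμ1
        rw [h3, h.w_gram hμ1 hμ1, if_pos rfl, if_neg hμ, if_neg r1, if_neg r2] at h4
        norm_num at h4
    · rcases hpair κ ν hκ hν with h2 | ⟨h2, h2b, -, -⟩
      · have h3 : w K κ = w K ν := by rw [c4, b4, h2, h1b, q2]
        have h4 := h.w_gram hκ1 hν1
        rw [h3, h.w_gram hν1 hν1, if_pos rfl, if_neg hν, if_neg r3, if_neg r4] at h4
        norm_num at h4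
      · have n3 : classInner (w K l) (w K l) = 3 := by
          rw [h.w_gram hl hl, if_pos rfl, if_pos hl2.symm]; norm_num
        have s1 : classInner (α μ) (w K l) = 1 := by rw [H3.classInner_gen_symm a1.1 (w_gen l), a5]
        have s2 : classInner (α ν) (w K l) = 1 := by rw [H3.classInner_gen_symm b1.1 (w_gen l), b5]
        have s3 : classInner (α κ) (w K l) = 1 := by rw [H3.classInner_gen_symm c1.1 (w_gen l), c5]
        have s4 : classInner (α ν) (α μ) = 0 := by rw [b1.symm a1]; exact q1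
        have s5 : classInner (α μ) (α κ) = 0 := by rw [a1.symm c1]; exact h1
        have s6 : classInner (α ν) (α κ) = 0 := by rw [b1.symm c1]; exact h2
        have hz : w K l - α μ - α ν - α κ = 0 := by
          apply H3.eq_zero_of_norm'
          simp only [H3.classInner_sub_left, H3.classInner_sub_right, n3, a5, b5, c5, s1, s2, s3, s4, s5, s6, q1,
            h1, h2, a1.2, b1.2, c1.2]
          norm_num
        have h5 := congrFun hz 1
        simp only [Pi.sub_apply, Pi.zero_apply, w_one] at h5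
        rw [hdeg κ hκ h1b, hdeg μ hμ rfl, hdeg ν hν q2.symm] at h5
        obtain ⟨d, hd0, hd, -⟩ := a2.deg
        rw [hd] at h5
        have h6 : (3 * d : ℤ) = 2 := by
          have : (3 * (d : ℂ)) = 2 := by linear_combination -h5
          exact_mod_cast this
        omega
  -- Fourier coefficients of `β`
  have hβ1 : classInner (β μ) (fun _ => 1 : G → ℂ) = 0 := by
    have h1 := w_trivial (K := K) hμ1
    rw [a4, sub_eq_add_neg, H3.classInner_add_left] at h1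
    have h2 := (zero_of_sum a1 a2.neg N1.one (by rw [H3.classInner_neg_right, a3, neg_zero]) h1).2
    rw [H3.classInner_neg_left, neg_eq_zero] at h2
    exact h2
  have hβl : classInner (β μ) (w K l) = 0 := by rw [H3.classInner_gen_symm a2.1 (w_gen l), a6]
  have hwinv : ∀ κ : K →* ℂˣ, w K κ⁻¹ = w K κ := by
    intro κ; rw [w, h.v_inv, ← w]
  have hβμ : classInner (β μ) (w K μ) = -1 := by
    rw [a4, H3.classInner_sub_right, a2.symm a1, a3, a2.2]; norm_num
  have hβν : classInner (β μ) (w K ν) = -1 := by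
    rw [q2, b4, H3.classInner_sub_right, b2.symm b1, b3, b2.2]; norm_num
  have hcoef : ∀ κ : K →* ℂˣ, classInner (β μ) (v K κ) = -1 + (if κ = 1 then 1 else 0) + (if κ = l then 1 else 0) := by
    intro κ
    by_cases hκ1 : κ = 1
    · rw [hκ1, v_hom_one, H3.classInner_zero_right, if_pos rfl, if_neg (Ne.symm hl)]; norm_num
    · by_cases hκl : κ = l
      · rw [hκl, v_eq, H3.classInner_add_right, hβ1, hβl, if_neg hl, if_pos rfl]; norm_num
      · have hκ : κ ≠ κ⁻¹ := fun e => (hreal κ e).elim hκ1 hκl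
        rw [if_neg hκ1, if_neg hκl, v_eq, H3.classInner_add_right, hβ1]
        rcases hall κ hκ with e | e | e | e
        · rw [e, hβμ]; norm_num
        · rw [e, hwinv, hβμ]; norm_num
        · rw [e, hβν]; norm_num
        · rw [e, hwinv, hβν]; norm_num
  have hsum0 : ∑ κ : K →* ℂˣ, (κ ⟨t, h.tK⟩ : ℂ) = 0 := by
    rw [sum_hom h.comm, if_neg (fun e => h.t1 (congrArg Subtype.val e))]
  have hβt : β μ t = -1 - (l ⟨t, h.tK⟩ : ℂ) := by
    obtain ⟨m, -, h2⟩ := h.four a2.1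
    rw [h2]
    have h3 : ∀ κ : K →* ℂˣ, classInner (β μ) (v K κ) * (κ ⟨t, h.tK⟩ : ℂ) =
        -(κ ⟨t, h.tK⟩ : ℂ) + (if κ = 1 then (κ ⟨t, h.tK⟩ : ℂ) else 0) + (if κ = l then (κ ⟨t, h.tK⟩ : ℂ) else 0) := by
      intro κ
      rw [hcoef κ]
      by_cases h4 : κ = 1 <;> by_cases h5 : κ = l <;> simp [h4, h5] <;> ring
    rw [Finset.sum_congr rfl fun κ _ => h3 κ, Finset.sum_add_distrib, Finset.sum_add_distrib, Finset.sum_neg_distrib,
      hsum0, Finset.sum_ite_eq', Finset.sum_ite_eq', if_pos (Finset.mem_univ _), if_pos (Finset.mem_univ _)]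
    simp
    ring
  have hαμt : α μ t = -(l ⟨t, h.tK⟩ : ℂ) - 2 * (μ ⟨t, h.tK⟩ : ℂ) := by
    have := congrFun a4 t
    rw [h.w_t, Pi.sub_apply, hβt] at this
    linear_combination -this
  have hανt : α ν t = -(l ⟨t, h.tK⟩ : ℂ) - 2 * (ν ⟨t, h.tK⟩ : ℂ) := by
    have := congrFun b4 t
    rw [h.w_t, Pi.sub_apply, ← q2, hβt] at this
    linear_combination -this
  -- the two relations
  have hd1 : α μ 1 = α ν 1 := by rw [hdeg μ hμ rfl, hdeg ν hν q2.symm]
  obtain ⟨A, hA0, hA, -⟩ := a1.deg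
  have hA' : α ν 1 = A := by rw [← hd1, hA]
  have hn0 : (Nat.card G : ℂ) ≠ 0 := by exact_mod_cast Nat.card_pos.ne'
  have hA0' : (A : ℂ) ≠ 0 := by exact_mod_cast hA0
  have r1 := h.L_v hμ1
  have r2 := h.L_v hν1
  rw [v_eq, a4, L_add, L_sub, L_one, a1.L, a2.L, hA] at r1
  rw [v_eq, b4, L_add, L_sub, L_one, b1.L, ← q2, a2.L, hA'] at r2
  have r3 : (α μ t) * (α μ t) = (α ν t) * (α ν t) := by
    have r4 : (Nat.card G : ℂ) * α μ t * α μ t / A = (Nat.card G : ℂ) * α ν t * α ν t / A := by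
      linear_combination r1 - r2
    rw [div_left_inj' hA0'] at r4
    have r5 : (Nat.card G : ℂ) * (α μ t * α μ t) = (Nat.card G : ℂ) * (α ν t * α ν t) := by
      linear_combination r4
    exact mul_left_cancel₀ hn0 r5
  rw [hαμt, hανt] at r3
  have hμν : (μ ⟨t, h.tK⟩ : ℂ) = (ν ⟨t, h.tK⟩ : ℂ) := by
    rcases h.pm l with e1 | e1 <;> rcases h.pm μ with e2 | e2 <;> rcases h.pm ν with e3 | e3 <;>
      rw [e1, e2, e3] at r3 <;> rw [e2, e3] <;> norm_num at r3
  -- enumeration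
  have huniv : (Finset.univ : Finset (K →* ℂˣ)) = {1, l, μ, μ⁻¹, ν, ν⁻¹} := by
    ext κ
    simp only [Finset.mem_univ, Finset.mem_insert, Finset.mem_singleton, true_iff]
    by_cases hκ : κ = κ⁻¹
    · rcases hreal κ hκ with e | e
      · exact Or.inl e
      · exact Or.inr (Or.inl e)
    · exact Or.inr (Or.inr (hall κ hκ))
  have hlr : l = l⁻¹ := hl2.symm
  have x1 : (1 : K →* ℂˣ) ≠ l := Ne.symm hl
  have x2 : (1 : K →* ℂˣ) ≠ μ := Ne.symm hμ1
  have x3 : (1 : K →* ℂˣ) ≠ μ⁻¹ := Ne.symm (hom_inv_ne hμ1)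
  have x4 : (1 : K →* ℂˣ) ≠ ν := Ne.symm hν1
  have x5 : (1 : K →* ℂˣ) ≠ ν⁻¹ := Ne.symm (hom_inv_ne hν1)
  have x6 : l ≠ μ := by intro e; exact hμ (by rw [← e]; exact hlr)
  have x7 : l ≠ μ⁻¹ := by intro e; apply hμ; rw [e, hinv_inv] at hlr; exact hlr.symm
  have x8 : l ≠ ν := by intro e; exact hν (by rw [← e]; exact hlr)
  have x9 : l ≠ ν⁻¹ := by intro e; apply hν; rw [e, hinv_inv] at hlr; exact hlr.symm
  have x10 : μ⁻¹ ≠ ν := by intro e; apply q4; rw [← e, hinv_inv]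
  have x11 : μ⁻¹ ≠ ν⁻¹ := by intro e; apply q3; rw [← hinv_inv μ, e, hinv_inv]
  rw [huniv, Finset.sum_insert (by simp [x1, x2, x3, x4, x5]), Finset.sum_insert (by simp [x6, x7, x8, x9]),
    Finset.sum_insert (by simp [hμ, q3, q4]), Finset.sum_insert (by simp [x10, x11]), Finset.sum_insert (by simp [hν]),
    Finset.sum_singleton, h.inv_pm, h.inv_pm, ← hμν] at hsum0
  simp only [MonoidHom.one_apply, Units.val_one] at hsum0
  rcases h.pm l with e1 | e1 <;> rcases h.pm μ with e2 | e2 <;> rw [e1, e2] at hsum0 <;> norm_num at hsum0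

end Setup

end Cfsg.Agent.H9.BSW
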