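import Cfsg.Agent.H9.BSWE

set_option autoImplicit false
set_option linter.unusedSectionVars false
set_option linter.style.haveILetI false
set_option linter.unusedVariables false
set_option linter.unusedSimpArgs false
set_option maxHeartbeats 1000000

/-! Brauer–Suzuki–Wall, part F: the order formula. -/

open Cfsg
open scoped ComplexConjugate

namespace Cfsg.Agent.H9.BSW

open Subgroup

universe u

variable {G : Type u} [Group G] [Fintype G] {K : Subgroup G} {t s : G} {k : ℕ}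

namespace Setup

/-- **the main character-theoretic result** -/
theorem main (h : Setup G K t s k) (hk : 4 ≤ k) :
    ∃ (a b : G → ℂ) (A m : ℤ), N1 a ∧ N1 b ∧ a 1 = A ∧ b 1 = 1 + A ∧ A = 1 + 2 * m * k ∧ A ≠ 0 ∧ 1 + A ≠ 0 ∧
      (Nat.card G : ℤ) * (A - 1) ^ 2 = 4 * (k : ℤ) ^ 3 * A * (A + 1) ∧
      ∀ y : G, (∀ g, g * y * g⁻¹ ∈ K → g * y * g⁻¹ = 1) → b y = 1 + a y ∧
        4 * (k : ℂ) ^ 2 * nn y * (A * (A + 1)) =
          (Nat.card G : ℂ) * ((A + a y) * (A + 1) + 2 * (k - 1) * (1 + a y) * A) := by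
  classical
  haveI := finite_hom h.comm
  letI : Fintype (K →* ℂˣ) := Fintype.ofFinite _
  obtain ⟨l, hl, hl2, hreal⟩ := h.exists_real
  have hn0 : (Nat.card G : ℂ) ≠ 0 := by exact_mod_cast Nat.card_pos.ne'
  -- a non-real character
  obtain ⟨μ, hμ⟩ : ∃ μ : K →* ℂˣ, μ ≠ μ⁻¹ := by
    by_contra hcon
    push Not at hcon
    have h1 : (Finset.univ : Finset (K →* ℂˣ)) ⊆ {1, l} := by
      intro κ _
      simp only [Finset.mem_insert, Finset.mem_singleton]
      exact hreal κ (hcon κ)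
    have h2 := (Finset.card_le_card h1).trans Finset.card_le_two
    rw [Finset.card_univ, ← Nat.card_eq_fintype_card, card_hom h.comm, h.hk] at h2
    omega
  have key : ∀ μ : K →* ℂˣ, ∃ α β : G → ℂ, μ ≠ μ⁻¹ → (N1 α ∧ N1 β ∧ classInner α β = 0 ∧ w K μ = α - β ∧
      classInner (w K l) α = 1 ∧ classInner (w K l) β = 0) := by
    intro μ
    by_cases hμ : μ = μ⁻¹
    · exact ⟨0, 0, fun e => absurd hμ e⟩
    · obtain ⟨α, β, h1⟩ := h.split hl hl2 hμ
      exact ⟨α, β, fun _ => h1⟩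
  choose α β hαβ using key
  have hall : ∀ κ : K →* ℂˣ, κ ≠ κ⁻¹ → α κ = α μ :=
    fun κ hκ => h.no_bad hl hl2 hreal α β hαβ hκ hμ
  obtain ⟨a1, a2, a3, a4, a5, a6⟩ := hαβ μ hμ
  have hμ1 : μ ≠ 1 := by rintro rfl; exact hμ hinv_one.symm
  set a : G → ℂ := α μ with ha
  set b : G → ℂ := β μ with hb
  -- orthogonality to `1`
  have hone : ∀ κ : K →* ℂˣ, κ ≠ κ⁻¹ → classInner (β κ) (fun _ => 1 : G → ℂ) = 0 ∧ classInner (α κ) (fun _ => 1 : G → ℂ) = 0 := by
    intro κ hκ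
    obtain ⟨c1, c2, c3, c4, c5, c6⟩ := hαβ κ hκ
    have hκ1 : κ ≠ 1 := by rintro rfl; exact hκ hinv_one.symm
    have h1 := w_trivial (K := K) hκ1
    rw [c4, sub_eq_add_neg, H3.classInner_add_left] at h1
    have h2 := zero_of_sum c1 c2.neg N1.one (by rw [H3.classInner_neg_right, c3, neg_zero]) h1
    refine ⟨?_, h2.1⟩
    have h3 := h2.2
    rw [H3.classInner_neg_left, neg_eq_zero] at h3
    exact h3
  have ha1 := (hone μ hμ).2
  have hal : classInner a (w K l) = 1 := by rw [H3.classInner_gen_symm a1.1 (w_gen l), a5]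
  -- second decomposition
  have hw2gen : IsGeneralizedCharacter G (w K l - a) := H3.isGen_sub (w_gen l) a1.1
  have hw2 : classInner (w K l - a) (w K l - a) = 2 := by
    rw [H3.classInner_sub_left, H3.classInner_sub_right, H3.classInner_sub_right, a5, hal, a1.2, h.w_gram hl hl,
      if_pos rfl, if_pos hl2.symm]
    norm_num
  obtain ⟨c, d, n3, n4, hcd, hsum⟩ := dec2 hw2gen hw2
  have hdc : classInner d c = 0 := by rw [← n3.symm n4]; exact hcd
  have hca : classInner c a = 0 ∧ classInner d a = 0 := by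
    apply zero_of_sum n3 n4 a1 hcd
    rw [← H3.classInner_add_left, ← hsum, H3.classInner_sub_left, a5, a1.2, sub_self]
  have hcβ : ∀ κ : K →* ℂˣ, κ ≠ κ⁻¹ → classInner c (β κ) = 0 ∧ classInner d (β κ) = 0 := by
    intro κ hκ
    obtain ⟨c1, c2, c3, c4, c5, c6⟩ := hαβ κ hκ
    apply zero_of_sum n3 n4 c2 hcd
    rw [← H3.classInner_add_left, ← hsum, H3.classInner_sub_left, c6, ← hall κ hκ, c3, sub_self]
  have hc1 : classInner c (fun _ => 1 : G → ℂ) = 0 ∧ classInner d (fun _ => 1 : G → ℂ) = 0 := by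
    apply zero_of_sum n3 n4 N1.one hcd
    rw [← H3.classInner_add_left, ← hsum, H3.classInner_sub_left, w_trivial hl, ha1, sub_self]
  have hwl : w K l = a + c + d := by
    have : w K l = a + (w K l - a) := by ring
    rw [this, hsum]; ring
  -- Fourier coefficients
  have coa : ∀ κ : K →* ℂˣ, classInner a (v K κ) = 1 - (if κ = 1 then 1 else 0) := by
    intro κ
    by_cases hκ1 : κ = 1
    · rw [hκ1, v_hom_one, H3.classInner_zero_right, if_pos rfl]; norm_num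
    · rw [if_neg hκ1, v_eq, H3.classInner_add_right, ha1]
      by_cases hκ : κ = κ⁻¹
      · have e := (hreal κ hκ).resolve_left hκ1
        rw [e, hal]; norm_num
      · obtain ⟨c1, c2, c3, c4, c5, c6⟩ := hαβ κ hκ
        rw [c4, H3.classInner_sub_right, hall κ hκ, a1.2]
        have : classInner a (β κ) = 0 := by rw [← hall κ hκ]; exact c3
        rw [this]; norm_num
  have coc : ∀ e : G → ℂ, N1 e → classInner e a = 0 → (∀ κ : K →* ℂˣ, κ ≠ κ⁻¹ → classInner e (β κ) = 0) →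
      classInner e (fun _ => 1 : G → ℂ) = 0 → classInner e (w K l) = 1 →
      ∀ κ : K →* ℂˣ, classInner e (v K κ) = if κ = l then 1 else 0 := by
    intro e he h1 h2 h3 h4 κ
    by_cases hκ1 : κ = 1
    · rw [hκ1, v_hom_one, H3.classInner_zero_right, if_neg (Ne.symm hl)]
    · rw [v_eq, H3.classInner_add_right, h3, zero_add]
      by_cases hκ : κ = κ⁻¹
      · have e := (hreal κ hκ).resolve_left hκ1
        rw [e, h4, if_pos rfl]
      · obtain ⟨c1, c2, c3, c4, c5, c6⟩ := hαβ κ hκ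
        rw [c4, H3.classInner_sub_right, hall κ hκ, h1, h2 κ hκ, sub_zero, if_neg]
        rintro rfl
        exact hκ hl2.symm
  have coc1 := coc c n3 hca.1 (fun κ hκ => (hcβ κ hκ).1) hc1.1 (by
    rw [hwl, H3.classInner_add_right, H3.classInner_add_right, hca.1, n3.2, hcd]; norm_num)
  have coc2 := coc d n4 hca.2 (fun κ hκ => (hcβ κ hκ).2) hc1.2 (by
    rw [hwl, H3.classInner_add_right, H3.classInner_add_right, hca.2, n4.2, hdc]; norm_num)
  have hsum0 : ∑ κ : K →* ℂˣ, (κ ⟨t, h.tK⟩ : ℂ) = 0 := by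
    rw [sum_hom h.comm, if_neg (fun e => h.t1 (congrArg Subtype.val e))]
  have hcardX : (Fintype.card (K →* ℂˣ) : ℂ) = k := by
    rw [← Nat.card_eq_fintype_card, card_hom h.comm, h.hk]
  -- values of `a`
  have hat : a t = 1 := by
    obtain ⟨m, -, h2⟩ := h.four a1.1
    rw [h2]
    have h3 : ∀ κ : K →* ℂˣ, classInner a (v K κ) * (κ ⟨t, h.tK⟩ : ℂ) =
        (κ ⟨t, h.tK⟩ : ℂ) - (if κ = 1 then (κ ⟨t, h.tK⟩ : ℂ) else 0) := by
      intro κ
      rw [coa κ]
      by_cases h4 : κ = 1 <;> simp [h4]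
    rw [Finset.sum_congr rfl fun κ _ => h3 κ, Finset.sum_sub_distrib, hsum0, Finset.sum_ite_eq', if_pos (Finset.mem_univ _)]
    simp
  have hcval : ∀ e : G → ℂ, N1 e → (∀ κ : K →* ℂˣ, classInner e (v K κ) = if κ = l then 1 else 0) →
      e t = -(l ⟨t, h.tK⟩ : ℂ) ∧ ∃ m : ℤ, e 1 = m * k - 1 := by
    intro e he h1
    obtain ⟨m, h2, h3⟩ := h.four he.1
    constructor
    · rw [h3]
      have h4 : ∀ κ : K →* ℂˣ, classInner e (v K κ) * (κ ⟨t, h.tK⟩ : ℂ) = if κ = l then (κ ⟨t, h.tK⟩ : ℂ) else 0 := by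
        intro κ
        rw [h1 κ]
        by_cases h5 : κ = l <;> simp [h5]
      rw [Finset.sum_congr rfl fun κ _ => h4 κ, Finset.sum_ite_eq', if_pos (Finset.mem_univ _)]
    · refine ⟨m, ?_⟩
      rw [h2, Finset.sum_congr rfl fun κ _ => h1 κ, Finset.sum_ite_eq', if_pos (Finset.mem_univ _)]
  obtain ⟨hct, mc, hc1'⟩ := hcval c n3 coc1
  obtain ⟨hdt, md, hd1'⟩ := hcval d n4 coc2
  -- degrees
  obtain ⟨A, hA0, hA, -⟩ := a1.deg
  obtain ⟨C, hC0, hC, -⟩ := n3.deg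
  obtain ⟨D, hD0, hD, -⟩ := n4.deg
  have hA0' : (A : ℂ) ≠ 0 := by exact_mod_cast hA0
  have hC0' : (C : ℂ) ≠ 0 := by exact_mod_cast hC0
  have hD0' : (D : ℂ) ≠ 0 := by exact_mod_cast hD0
  have hβdeg : ∀ κ : K →* ℂˣ, κ ≠ κ⁻¹ → β κ 1 = 1 + A := by
    intro κ hκ
    obtain ⟨c1, c2, c3, c4, c5, c6⟩ := hαβ κ hκ
    have := congrFun c4 1
    rw [w_one, Pi.sub_apply, hall κ hκ, hA] at this
    linear_combination this
  have hβt : ∀ κ : K →* ℂˣ, κ ≠ κ⁻¹ → β κ t = 2 * (κ ⟨t, h.tK⟩ : ℂ) := by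
    intro κ hκ
    obtain ⟨c1, c2, c3, c4, c5, c6⟩ := hαβ κ hκ
    have := congrFun c4 t
    rw [h.w_t, Pi.sub_apply, hall κ hκ, hat] at this
    linear_combination this
  have hb1 : b 1 = 1 + A := hβdeg μ hμ
  have hbt : b t = 2 * (μ ⟨t, h.tK⟩ : ℂ) := hβt μ hμ
  have hA1 : (1 + A : ℂ) ≠ 0 := by
    obtain ⟨e, he0, he, -⟩ := a2.deg
    rw [← hb1, he]
    exact_mod_cast he0
  have hA1' : 1 + A ≠ 0 := by exact_mod_cast hA1
  have hACD : (A : ℂ) + C + D = -1 := by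
    have := congrFun hwl 1
    rw [w_one, Pi.add_apply, Pi.add_apply, hA, hC, hD] at this
    exact this.symm
  have hsq : ∀ κ : K →* ℂˣ, (κ ⟨t, h.tK⟩ : ℂ) * (κ ⟨t, h.tK⟩ : ℂ) = 1 := by
    intro κ
    rcases h.pm κ with e | e <;> rw [e] <;> norm_num
  -- the relations
  have r1 := h.L_v hμ1
  rw [v_eq, a4, L_add, L_sub, L_one, a1.L, a2.L, hA, hb1, hbt, hat] at r1
  have r2 := h.L_v hl
  rw [v_eq, hwl, L_add, L_add, L_add, L_one, a1.L, n3.L, n4.L, hA, hC, hD, hat, hct, hdt] at r2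
  have e1 : 4 * (k : ℂ) ^ 3 = (Nat.card G : ℂ) * (1 + 1 / A - 4 / (1 + A)) := by
    rw [← r1]
    have e0 : (Nat.card G : ℂ) * (2 * (μ ⟨t, h.tK⟩ : ℂ)) * (2 * (μ ⟨t, h.tK⟩ : ℂ)) = (Nat.card G : ℂ) * 4 := by
      linear_combination (4 * (Nat.card G : ℂ)) * hsq μ
    rw [e0]
    field_simp
    try ring
  have e2 : 4 * (k : ℂ) ^ 3 = (Nat.card G : ℂ) * (1 + 1 / A + 1 / C + 1 / D) := by
    rw [← r2]
    have e0 : (Nat.card G : ℂ) * (-(l ⟨t, h.tK⟩ : ℂ)) * (-(l ⟨t, h.tK⟩ : ℂ)) = (Nat.card G : ℂ) := by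
      linear_combination ((Nat.card G : ℂ)) * hsq l
    rw [e0]
    field_simp
    try ring
  have e3 : 1 / (C : ℂ) + 1 / D = -(4 / (1 + A)) := by
    have : (Nat.card G : ℂ) * (1 + 1 / A + 1 / C + 1 / D) = (Nat.card G : ℂ) * (1 + 1 / A - 4 / (1 + A)) := by
      rw [← e1, ← e2]
    have := mul_left_cancel₀ hn0 this
    linear_combination this
  have e4 : (C : ℂ) = D := by
    have h1 : ((C : ℂ) - D) ^ 2 = 0 := by
      have h2 : (1 + (A : ℂ)) = -(C + D) := by linear_combination hACD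
      have hCD : (-(C + D) : ℂ) ≠ 0 := by rw [← h2]; exact hA1
      have hCD' : ((C + D) : ℂ) ≠ 0 := by
        intro e; apply hCD; rw [e]; simp
      rw [h2] at e3
      field_simp at e3
      linear_combination e3
    exact sub_eq_zero.mp (pow_eq_zero_iff (by norm_num) |>.mp h1)
  have e5 : (1 + A : ℂ) = -2 * C := by
    rw [← e4] at hACD
    linear_combination hACD
  have e6 : A = 1 + 2 * (-mc) * k := by
    have h1 : (C : ℂ) = mc * k - 1 := by rw [← hC, hc1']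
    have h2 : (A : ℂ) = 1 + 2 * (-mc) * k := by rw [h1] at e5; linear_combination e5
    exact_mod_cast h2
  have e7 : (Nat.card G : ℤ) * (A - 1) ^ 2 = 4 * (k : ℤ) ^ 3 * A * (A + 1) := by
    have h1 : (Nat.card G : ℂ) * (A - 1) ^ 2 = 4 * (k : ℂ) ^ 3 * A * (A + 1) := by
      rw [e1]
      field_simp
      ring
    exact_mod_cast h1
  refine ⟨a, b, A, -mc, a1, a2, hA, hβdeg μ hμ, e6, hA0, hA1', e7, ?_⟩
  intro y hy
  have hwy : ∀ κ : K →* ℂˣ, w K κ y = -1 := by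
    intro κ
    rw [w, Pi.sub_apply, v_off hy]; ring
  have hβy : ∀ κ : K →* ℂˣ, κ ≠ κ⁻¹ → β κ y = 1 + a y := by
    intro κ hκ
    obtain ⟨c1, c2, c3, c4, c5, c6⟩ := hαβ κ hκ
    have := congrFun c4 y
    rw [hwy, Pi.sub_apply, hall κ hκ] at this
    linear_combination this
  refine ⟨hβy μ hμ, ?_⟩
  have hcdy : c y + d y = -(1 + a y) := by
    have := congrFun hwl y
    rw [hwy, Pi.add_apply, Pi.add_apply] at this
    linear_combination -this
  have hLval : ∀ κ : K →* ℂˣ, κ ≠ 1 → L t y (v K κ) =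
      (Nat.card G : ℂ) * ((1 + a y / A) - 2 * (κ ⟨t, h.tK⟩ : ℂ) * ((1 + a y) / (1 + A))) := by
    intro κ hκ1
    by_cases hκ : κ = κ⁻¹
    · have e := (hreal κ hκ).resolve_left hκ1
      rw [e, v_eq, hwl, L_add, L_add, L_add, L_one, a1.L, n3.L, n4.L, hA, hC, hD, hat, hct, hdt, ← e4, e5]
      have h1 : d y = -(1 + a y) - c y := by linear_combination hcdy
      rw [h1]
      field_simp
      ring
    · obtain ⟨c1, c2, c3, c4, c5, c6⟩ := hαβ κ hκ
      rw [v_eq, c4, L_add, L_sub, L_one, hall κ hκ, a1.L, c2.L, hA, hβdeg κ hκ, hat, hβt κ hκ, hβy κ hκ]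
      field_simp
      ring
  have hfin : 4 * (k : ℂ) ^ 2 * nn y = (Nat.card G : ℂ) * ((1 + a y / A) + 2 * (k - 1) * ((1 + a y) / (1 + A))) := by
    rw [h.nn_formula y]
    have h1 : ∀ κ : K →* ℂˣ, -(κ ⟨t, h.tK⟩ : ℂ) * L t y (v K κ) =
        (-((Nat.card G : ℂ) * (1 + a y / A))) * (κ ⟨t, h.tK⟩ : ℂ) + (Nat.card G : ℂ) * (2 * ((1 + a y) / (1 + A))) -
          (if κ = 1 then (-((Nat.card G : ℂ) * (1 + a y / A))) + (Nat.card G : ℂ) * (2 * ((1 + a y) / (1 + A))) else 0) := by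
      intro κ
      by_cases hκ1 : κ = 1
      · rw [if_pos hκ1, hκ1, v_hom_one]
        simp [L]
      · rw [if_neg hκ1, hLval κ hκ1]
        linear_combination (2 * (Nat.card G : ℂ) * ((1 + a y) / (1 + A))) * hsq κ
    rw [Finset.sum_congr rfl fun κ _ => h1 κ, Finset.sum_sub_distrib, Finset.sum_add_distrib, ← Finset.mul_sum, hsum0,
      Finset.sum_ite_eq', if_pos (Finset.mem_univ _), Finset.sum_const, Finset.card_univ, nsmul_eq_mul, hcardX]
    ring
  rw [hfin]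
  have hA1'' : (A + 1 : ℂ) ≠ 0 := by rw [add_comm]; exact hA1
  field_simp
  ring

end Setup

end Cfsg.Agent.H9.BSW
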