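import Cfsg.Agent.H9.BSWF
import Mathlib.GroupTheory.FixedPointFree

set_option autoImplicit false
set_option linter.unusedSectionVars false
set_option linter.style.haveILetI false
set_option linter.unusedVariables false
set_option linter.unusedSimpArgs false
set_option maxHeartbeats 1000000

/-! Brauer–Suzuki–Wall, part G: order formula and centralizers of real elements. -/

open Cfsg

namespace Cfsg.Agent.H9.BSW

open Subgroup

universe u

variable {G : Type u} [Group G] {K : Subgroup G} {t s : G} {k : ℕ}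

/-- not conjugate to a non-identity element of `K` -/
def Off (K : Subgroup G) (y : G) : Prop := ∀ g, g * y * g⁻¹ ∈ K → g * y * g⁻¹ = 1

theorem inv_conj' {u g : G} : Inv (g * u * g⁻¹) ↔ Inv u := by
  unfold Inv
  have h1 : g * u * g⁻¹ = 1 ↔ u = 1 := by
    rw [mul_inv_eq_one, mul_eq_left]
  have h2 : g * u * g⁻¹ * (g * u * g⁻¹) = g * (u * u) * g⁻¹ := by group
  rw [h2, Ne, h1]
  have h3 : g * (u * u) * g⁻¹ = 1 ↔ u * u = 1 := by rw [mul_inv_eq_one, mul_eq_left]
  rw [h3]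

theorem Off.not_inv (h : Setup G K t s k) {y : G} (hy : Off K y) : ¬ Inv y := by
  rintro ⟨h1, h2⟩
  obtain ⟨g, hg⟩ := h.one y h1 h2
  have h3 : g⁻¹ * y * g⁻¹⁻¹ = t := by rw [← hg]; group
  have h4 := hy g⁻¹ (by rw [h3]; exact h.tK)
  rw [h3] at h4
  exact h.t1 h4

theorem conj_ne_one {g y : G} (hy : y ≠ 1) : g * y * g⁻¹ ≠ 1 := by
  intro hc
  apply hy
  rw [mul_inv_eq_one, mul_eq_left] at hc
  exact hc

/-- no involution centralizes an element not conjugate into `K` -/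
theorem Off.no_inv_comm (h : Setup G K t s k) {y : G} (hy : Off K y) (hy1 : y ≠ 1) {u : G} (hu : Inv u) :
    u * y ≠ y * u := by
  intro hc
  obtain ⟨g, hg⟩ := h.one u hu.1 hu.2
  have h1 : g⁻¹ * y * g⁻¹⁻¹ * t = t * (g⁻¹ * y * g⁻¹⁻¹) := by
    have e1 : g⁻¹ * y * g⁻¹⁻¹ * t = g⁻¹ * (y * (g * t * g⁻¹)) * g := by group
    have e2 : t * (g⁻¹ * y * g⁻¹⁻¹) = g⁻¹ * ((g * t * g⁻¹) * y) * g := by group
    rw [e1, e2, hg, hc]
  rcases h.cent _ h1 with h2 | h2
  · exact conj_ne_one hy1 (hy _ h2)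
  · have h3 := h.sq_coset h2
    have h4 : Inv (g⁻¹ * y * g⁻¹⁻¹) := ⟨conj_ne_one hy1, h3⟩
    exact Off.not_inv h hy (inv_conj'.mp h4)

/-- an involution inverting `y` centralizes no nontrivial element of `C(y)` -/
theorem Off.fpf (h : Setup G K t s k) {y : G} (hy : Off K y) (hy1 : y ≠ 1) {u : G} (hu : Inv u)
    (huy : u * y * u⁻¹ = y⁻¹) {z : G} (hz : z * y = y * z) (hzu : u * z = z * u) : z = 1 := by
  by_contra hz1
  obtain ⟨g, hg⟩ := h.one u hu.1 hu.2
  have h1 : g⁻¹ * z * g⁻¹⁻¹ * t = t * (g⁻¹ * z * g⁻¹⁻¹) := by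
    have e1 : g⁻¹ * z * g⁻¹⁻¹ * t = g⁻¹ * (z * (g * t * g⁻¹)) * g := by group
    have e2 : t * (g⁻¹ * z * g⁻¹⁻¹) = g⁻¹ * ((g * t * g⁻¹) * z) * g := by group
    rw [e1, e2, hg, hzu]
  rcases h.cent _ h1 with h2 | h2
  · have h3 : g⁻¹ * y * g⁻¹⁻¹ * (g⁻¹ * z * g⁻¹⁻¹) = g⁻¹ * z * g⁻¹⁻¹ * (g⁻¹ * y * g⁻¹⁻¹) := by
      have e1 : g⁻¹ * y * g⁻¹⁻¹ * (g⁻¹ * z * g⁻¹⁻¹) = g⁻¹ * (y * z) * g := by group
      have e2 : g⁻¹ * z * g⁻¹⁻¹ * (g⁻¹ * y * g⁻¹⁻¹) = g⁻¹ * (z * y) * g := by group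
      rw [e1, e2, hz]
    have h4 := h.cen _ h2 (conj_ne_one hz1) _ h3
    have h5 : u * y = y * u := by
      rw [← hg]
      have e1 : g * t * g⁻¹ * y = g * (t * (g⁻¹ * y * g⁻¹⁻¹)) * g⁻¹ := by group
      have e2 : y * (g * t * g⁻¹) = g * (g⁻¹ * y * g⁻¹⁻¹ * t) * g⁻¹ := by group
      rw [e1, e2, h4]
    exact Off.no_inv_comm h hy hy1 hu h5
  · have h3 := h.sq_coset h2
    have h4 : Inv z := inv_conj'.mp ⟨conj_ne_one hz1, h3⟩
    exact Off.no_inv_comm h hy hy1 h4 hz

theorem inv_mul_inv {u y : G} (h1 : Inv u) (h2 : Inv (u * y)) : u * y * u⁻¹ = y⁻¹ := by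
  have huinv : u⁻¹ = u := inv_eq_of_mul_eq_one_left h1.2
  rw [huinv]
  calc u * y * u = u * y * u * (y * y⁻¹) := by group
    _ = (u * y * (u * y)) * y⁻¹ := by group
    _ = y⁻¹ := by rw [h2.2, one_mul]

/-- **centralizers of real elements** -/
theorem Off.real [Finite G] (h : Setup G K t s k) {y : G} (hy : Off K y) (hy1 : y ≠ 1) (hn : nn y ≠ 0) :
    Nat.card (centralizer ({y} : Set G)) = nn y ∧
      (∀ a ∈ centralizer ({y} : Set G), ∀ b ∈ centralizer ({y} : Set G), a * b = b * a) ∧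
      ∃ u : G, Inv u ∧ ∀ z ∈ centralizer ({y} : Set G), u * z * u⁻¹ = z⁻¹ := by
  classical
  have hne : Nonempty {u : G // Inv u ∧ Inv (u * y)} := by
    by_contra hc
    rw [not_nonempty_iff] at hc
    exact hn Nat.card_of_isEmpty
  obtain ⟨⟨u, hu1, hu2⟩⟩ := hne
  have huy := inv_mul_inv hu1 hu2
  have huinv : u⁻¹ = u := inv_eq_of_mul_eq_one_left hu1.2
  set C := centralizer ({y} : Set G) with hC
  have hmemC : ∀ z, z ∈ C ↔ z * y = y * z := fun z => by
    rw [hC, mem_centralizer_singleton_iff]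
  have hmem : ∀ z ∈ C, u * z * u⁻¹ ∈ C := by
    intro z hz
    rw [hmemC] at hz ⊢
    have e1 : u * z * u⁻¹ * y = u * (z * (u⁻¹ * y * u)) * u⁻¹ := by group
    have e2 : y * (u * z * u⁻¹) = u * ((u⁻¹ * y * u) * z) * u⁻¹ := by group
    have e3 : u⁻¹ * y * u = y⁻¹ := by rw [huinv]; rw [huinv] at huy; exact huy
    rw [e1, e2, e3]
    congr 2
    rw [eq_inv_mul_iff_mul_eq, ← mul_assoc, ← hz, mul_inv_cancel_right]
  let φ : C →* C :=
    { toFun := fun z => ⟨u * z * u⁻¹, hmem z z.2⟩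
      map_one' := by apply Subtype.ext; simp
      map_mul' := by
        intro a b
        apply Subtype.ext
        simp only [Subgroup.coe_mul]
        group }
  have hφ : ∀ z : C, ((φ z : C) : G) = u * z * u⁻¹ := fun z => rfl
  have hfpf : MonoidHom.FixedPointFree φ := by
    intro z hz
    have h1 : u * z * u⁻¹ = z := by rw [← hφ, hz]
    apply Subtype.ext
    exact hy.fpf h hy1 hu1 huy ((hmemC z).mp z.2) (mul_inv_eq_iff_eq_mul.mp h1)
  have hinv : Function.Involutive φ := by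
    intro z
    apply Subtype.ext
    rw [hφ, hφ]
    have : u * (u * z * u⁻¹) * u⁻¹ = (u * u) * z * (u * u)⁻¹ := by group
    rw [this, hu1.2]; group
  have hcomm : ∀ a ∈ C, ∀ b ∈ C, a * b = b * a := by
    intro a ha b hb
    exact congrArg Subtype.val (hfpf.commute_all_of_involutive hinv ⟨a, ha⟩ ⟨b, hb⟩)
  have hinvert : ∀ z ∈ C, u * z * u⁻¹ = z⁻¹ := by
    intro z hz
    have := congrFun (hfpf.coe_eq_inv_of_involutive hinv) ⟨z, hz⟩
    have h1 := congrArg Subtype.val this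
    exact h1
  refine ⟨?_, hcomm, u, hu1, hinvert⟩
  rw [nn]
  symm
  apply Nat.card_congr
  refine ((Equiv.mulRight u).subtypeEquiv ?_)
  intro v
  change (Inv v ∧ Inv (v * y)) ↔ v * u ∈ C
  constructor
  · rintro ⟨hv1, hv2⟩
    have hvy := inv_mul_inv hv1 hv2
    rw [hmemC]
    have e1 : v * u * y = v * (u * y * u⁻¹) * u := by group
    have e2 : y * (v * u) = v * (v⁻¹ * y * v) * u := by group
    have hvinv : v⁻¹ = v := inv_eq_of_mul_eq_one_left hv1.2
    have e3 : v⁻¹ * y * v = y⁻¹ := by rw [hvinv]; rw [hvinv] at hvy; exact hvy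
    rw [e1, e2, e3, huy]
  · intro hz
    have h1 := hinvert _ hz
    have h2 : v * v = 1 := by
      have h3 : u * (v * u) * u⁻¹ = u * v := by group
      rw [h3, mul_inv_rev, huinv] at h1
      have h4 : v = v⁻¹ := mul_left_cancel h1
      nth_rewrite 2 [h4]
      exact mul_inv_cancel v
    have hv1 : v ≠ 1 := by
      rintro rfl
      rw [one_mul] at hz
      exact hy.no_inv_comm h hy1 hu1 ((hmemC u).mp hz)
    have hvy : v * y * v⁻¹ = y⁻¹ := by
      have h3 := (hmemC _).mp hz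
      have h4 : v * y * v⁻¹ = (v * u) * (u⁻¹ * y * u) * (v * u)⁻¹ := by group
      have e3 : u⁻¹ * y * u = y⁻¹ := by rw [huinv]; rw [huinv] at huy; exact huy
      rw [h4, e3, mul_inv_eq_iff_eq_mul]
      rw [eq_inv_mul_iff_mul_eq, ← mul_assoc, ← h3, mul_inv_cancel_right]
    refine ⟨⟨hv1, h2⟩, ?_, ?_⟩
    · intro hc
      have h5 : y = v := by
        have h6 := eq_inv_of_mul_eq_one_right hc
        rw [h6]
        exact inv_eq_of_mul_eq_one_left h2
      have : y ≠ 1 ∧ y * y = 1 := ⟨hy1, by rw [h5]; exact h2⟩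
      exact hy.not_inv h this
    · have hvinv : v⁻¹ = v := inv_eq_of_mul_eq_one_left h2
      rw [hvinv] at hvy
      calc v * y * (v * y) = v * y * v * y := by group
        _ = 1 := by rw [hvy, inv_mul_cancel]

section numeric

variable [Fintype G]

/-- elements of order not coprime to a number coprime to `k` are off `K` -/
theorem off_of_not_coprime (h : Setup G K t s k) {q : ℕ} (hq : Nat.Coprime k q) {y : G}
    (hy : ¬ Nat.Coprime (orderOf y) q) : Off K y := by
  intro g hg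
  exfalso
  apply hy
  have h1 : orderOf (g * y * g⁻¹) = orderOf y := by
    have := orderOf_injective (MulAut.conj g).toMonoidHom (MulAut.conj g).injective y
    simpa using this
  rw [← h1]
  apply Nat.Coprime.coprime_dvd_left _ hq
  rw [← h.hk]
  have h2 : orderOf (⟨_, hg⟩ : K) = orderOf (g * y * g⁻¹) := by
    rw [← orderOf_injective K.subtype Subtype.val_injective]; rfl
  rw [← h2]
  exact orderOf_dvd_natCard _

theorem ne_one_of_not_coprime {q : ℕ} {y : G} (hy : ¬ Nat.Coprime (orderOf y) q) : y ≠ 1 := by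
  rintro rfl
  apply hy
  rw [orderOf_one]
  exact Nat.coprime_one_left q

/-- vanishing of norm one characters -/
theorem vanish_p {x : G → ℂ} (hx : N1 x) {d c e : ℤ} (hd : x 1 = d) (hd0 : d ≠ 0)
    (hG : (Nat.card G : ℤ) * c = d * e) {p : ℕ} (hp : p.Prime) (hco : IsCoprime (p : ℤ) e) {y : G}
    (hpy : p ∣ orderOf y) : x y = 0 := by
  have hd0n : d.natAbs ≠ 0 := by simpa using hd0
  obtain ⟨n, d', hpd', hdeq⟩ := Nat.exists_eq_pow_mul_and_not_dvd hd0n p hp.ne_one
  have h1 : ((p : ℤ) ^ n) ∣ d := by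
    have : (p ^ n) ∣ d.natAbs := ⟨d', hdeq⟩
    have h2 := Int.natCast_dvd.mpr this
    push_cast at h2
    exact h2
  refine hx.vanish hd hp (n := n) ?_ h1 hpy
  intro hc
  have h3 : ((p : ℤ) ^ (n + 1)) ∣ d * e := by
    rw [← hG]
    apply Dvd.dvd.mul_right
    exact_mod_cast hc
  have h4 : ((p : ℤ) ^ (n + 1)) ∣ d := (hco.pow_left).dvd_of_dvd_mul_right h3
  have h5 : (p ^ (n + 1)) ∣ d.natAbs := by
    apply Int.natCast_dvd.mp
    push_cast
    exact h4
  rw [hdeq, pow_succ] at h5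
  exact hpd' (Nat.dvd_of_mul_dvd_mul_left (pow_pos hp.pos n) h5)

/-- the two possibilities -/
theorem order_cases (h : Setup G K t s k) (hk : 4 ≤ k) :
    (Nat.card G = 2 * k * (2 * k + 1) * (k + 1) ∧
      ∀ y : G, ¬ Nat.Coprime (orderOf y) (2 * k + 1) → nn y = 2 * k + 1) ∨
    (Nat.card G = 2 * k * (2 * k - 1) * (k - 1) ∧
      (∀ y : G, ¬ Nat.Coprime (orderOf y) (2 * k - 1) → nn y = 0) ∧
      (∀ y : G, ¬ Nat.Coprime (orderOf y) (k - 1) → nn y = k - 1)) := by
  classical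
  obtain ⟨a, b, A, m, n1, n2, hA, hB, hAm, hA0, hA1, hG, hval⟩ := h.main hk
  have hn0 : (Nat.card G : ℤ) ≠ 0 := by exact_mod_cast Nat.card_pos.ne'
  have hk0 : (k : ℤ) ≠ 0 := by exact_mod_cast h.kpos.ne'
  have hk0' : (0 : ℤ) < k := by exact_mod_cast h.kpos
  have keven := h.k_even
  -- reduced formula
  have hG2 : (Nat.card G : ℤ) * m ^ 2 = A * (2 * k * (1 + m * k)) := by
    have h1 : (4 * (k : ℤ) ^ 2) * ((Nat.card G : ℤ) * m ^ 2) = (4 * (k : ℤ) ^ 2) * (A * (2 * k * (1 + m * k))) := by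
      have h2 : A - 1 = 2 * m * k := by rw [hAm]; ring
      have h3 : A + 1 = 2 * (1 + m * k) := by rw [hAm]; ring
      rw [h2, h3] at hG
      linear_combination hG
    exact mul_left_cancel₀ (by positivity) h1
  have hm0 : m ≠ 0 := by
    rintro rfl
    rw [zero_mul, add_zero] at hG2
    have : (2 : ℤ) * k * A = 0 := by linear_combination -hG2
    rcases mul_eq_zero.mp this with h1 | h1
    · omega
    · exact hA0 h1
  have hmk : 1 + m * (k : ℤ) ≠ 0 := by
    intro hc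
    apply hA1
    rw [hAm]
    linear_combination 2 * hc
  -- a prime dividing `A`
  have hAabs : A.natAbs ≠ 1 := by
    intro hc
    have : A = 1 ∨ A = -1 := Int.natAbs_eq_iff.mp (by simpa using hc)
    rcases this with h1 | h1
    · rw [h1] at hAm
      have : 2 * m * (k : ℤ) = 0 := by linarith
      rcases mul_eq_zero.mp this with h2 | h2
      · omega
      · exact hk0 h2
    · apply hA1; rw [h1]; norm_num
  have hcoA : IsCoprime A (2 * k * (1 + m * k)) := by
    have e1 : IsCoprime A (2 * k) := ⟨1, -m, by rw [hAm]; ring⟩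
    have e2 : IsCoprime A (1 + m * k) := ⟨-1, 2, by rw [hAm]; ring⟩
    exact e1.mul_right e2
  -- vanishing
  have hvan : ∀ y : G, ¬ Nat.Coprime (orderOf y) A.natAbs → a y = 0 := by
    intro y hy
    obtain ⟨p, hp, hp1, hp2⟩ := Nat.Prime.not_coprime_iff_dvd.mp hy
    have hpA : (p : ℤ) ∣ A := Int.natCast_dvd.mpr hp2
    exact vanish_p n1 hA hA0 hG2 hp (IsCoprime.of_isCoprime_of_dvd_left hcoA hpA) hp1
  have hkA : Nat.Coprime k A.natAbs := by
    have e1 : IsCoprime (k : ℤ) A := ⟨-2 * m, 1, by rw [hAm]; ring⟩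
    have := Int.isCoprime_iff_gcd_eq_one.mp e1
    simpa [Int.gcd] using this
  have hnn : ∀ y : G, ¬ Nat.Coprime (orderOf y) A.natAbs → 2 * m ^ 2 * (nn y : ℤ) = A * (m + 1) := by
    intro y hy
    obtain ⟨h1, h2⟩ := hval y (off_of_not_coprime h hkA hy)
    rw [hvan y hy] at h2
    have h3 : 4 * (k : ℤ) ^ 2 * nn y * (A * (A + 1)) = (Nat.card G : ℤ) * (A * (A + 1) + 2 * (k - 1) * A) := by
      have h4 : 4 * (k : ℂ) ^ 2 * nn y * (A * (A + 1)) = (Nat.card G : ℂ) * (A * (A + 1) + 2 * (k - 1) * A) := by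
        rw [h2]; ring
      exact_mod_cast h4
    have h5 : (4 * (k : ℤ) ^ 2 * A * (1 + m * k)) * (2 * m ^ 2 * (nn y : ℤ)) =
        (4 * (k : ℤ) ^ 2 * A * (1 + m * k)) * (A * (m + 1)) := by
      have e3 : A + 1 = 2 * (1 + m * k) := by rw [hAm]; ring
      calc (4 * (k : ℤ) ^ 2 * A * (1 + m * k)) * (2 * m ^ 2 * (nn y : ℤ)) =
          (4 * (k : ℤ) ^ 2 * nn y * (A * (2 * (1 + m * k)))) * m ^ 2 := by ring
        _ = (Nat.card G : ℤ) * m ^ 2 * (A * (2 * (1 + m * k)) + 2 * (k - 1) * A) := by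
          rw [← e3, h3]; ring
        _ = _ := by rw [hG2]; ring
    exact mul_left_cancel₀ (mul_ne_zero (mul_ne_zero (by positivity) hA0) hmk) h5
  -- `m = ± 1`
  obtain ⟨p, hp, hpA⟩ := Nat.exists_prime_and_dvd hAabs
  have hpAZ : (p : ℤ) ∣ A := Int.natCast_dvd.mpr hpA
  have hmA : IsCoprime m A := ⟨-2 * k, 1, by rw [hAm]; ring⟩
  have hpG : p ∣ Nat.card G := by
    have h1 : (p : ℤ) ∣ (Nat.card G : ℤ) * m ^ 2 := by rw [hG2]; exact Dvd.dvd.mul_right hpAZ _
    have h2 : IsCoprime (p : ℤ) (m ^ 2) := (IsCoprime.of_isCoprime_of_dvd_left hmA.symm hpAZ).pow_right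
    have h3 := h2.dvd_of_dvd_mul_right h1
    exact_mod_cast h3
  haveI := Fact.mk hp
  obtain ⟨y, hy⟩ := exists_prime_orderOf_dvd_card' p hpG
  have hyco : ¬ Nat.Coprime (orderOf y) A.natAbs := by
    rw [hy, hp.coprime_iff_not_dvd, not_not]
    exact hpA
  have h6 := hnn y hyco
  have hm1 : m = 1 ∨ m = -1 := by
    have h7 : m ^ 2 ∣ A * (m + 1) := ⟨2 * nn y, by rw [← h6]; ring⟩
    have h8 : IsCoprime (m ^ 2) (A * (m + 1)) := by
      apply IsCoprime.pow_left
      exact hmA.mul_right ⟨-1, 1, by ring⟩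
    have h9 := h8.isUnit_of_dvd' (dvd_refl _) h7
    have h10 : IsUnit m := (isUnit_pow_iff (by norm_num)).mp h9
    exact Int.isUnit_iff.mp h10
  rcases hm1 with rfl | rfl
  · left
    have hAk : A = ((2 * k + 1 : ℕ) : ℤ) := by rw [hAm]; push_cast; ring
    have hAn : A.natAbs = 2 * k + 1 := by rw [hAk]; exact Int.natAbs_natCast _
    constructor
    · have : (Nat.card G : ℤ) = 2 * k * (2 * k + 1) * (k + 1) := by
        rw [hAk] at hG2; push_cast at hG2; linear_combination hG2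
      exact_mod_cast this
    · intro y hy
      have h7 := hnn y (by rw [hAn]; exact hy)
      rw [hAk] at h7
      push_cast at h7
      have : (nn y : ℤ) = 2 * k + 1 := by linarith
      exact_mod_cast this
  · right
    have hk1 : 1 ≤ k := by omega
    have hk2 : 1 ≤ 2 * k := by omega
    have hAk : A = -((2 * k - 1 : ℕ) : ℤ) := by rw [hAm, Nat.cast_sub hk2]; push_cast; ring
    have hAn : A.natAbs = 2 * k - 1 := by rw [hAk, Int.natAbs_neg]; exact Int.natAbs_natCast _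
    have hGZ : (Nat.card G : ℤ) = A * (2 * k * (1 - k)) := by linear_combination hG2
    refine ⟨?_, ?_, ?_⟩
    · have h7 : (Nat.card G : ℤ) = ((2 * k * (2 * k - 1) * (k - 1) : ℕ) : ℤ) := by
        rw [hGZ, hAk]
        push_cast [Nat.cast_sub hk2, Nat.cast_sub hk1]
        ring
      exact_mod_cast h7
    · intro y hy
      have h7 := hnn y (by rw [hAn]; exact hy)
      have : (nn y : ℤ) = 0 := by linarith
      exact_mod_cast this
    · intro y hy
      have hcok : Nat.Coprime k (k - 1) := (Nat.coprime_self_sub_right hk1).mpr (Nat.coprime_one_right k)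
      obtain ⟨h1, h2⟩ := hval y (off_of_not_coprime h hcok hy)
      obtain ⟨p, hp, hp1, hp2⟩ := Nat.Prime.not_coprime_iff_dvd.mp hy
      have hpk : (p : ℤ) ∣ (k : ℤ) - 1 := by
        have := Int.natCast_dvd_natCast.mpr hp2
        rwa [Nat.cast_sub hk1, Nat.cast_one] at this
      have hby : b y = 0 := by
        refine vanish_p n2 (d := 1 + A) (c := 1) (e := A * k) (by rw [hB]; push_cast; ring) hA1 ?_ hp ?_ hp1
        · rw [hGZ, hAm]; ring
        · have e1 : IsCoprime ((k : ℤ) - 1) (A * k) := by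
            apply IsCoprime.mul_right
            · exact ⟨-2, -1, by rw [hAm]; ring⟩
            · exact ⟨-1, 1, by ring⟩
          exact IsCoprime.of_isCoprime_of_dvd_left e1 hpk
      have hay : a y = -1 := by rw [hby] at h1; linear_combination -h1
      rw [hay] at h2
      have h3 : 4 * (k : ℤ) ^ 2 * nn y * (A * (A + 1)) = (Nat.card G : ℤ) * ((A - 1) * (A + 1)) := by
        have h4 : 4 * (k : ℂ) ^ 2 * nn y * (A * (A + 1)) = (Nat.card G : ℂ) * ((A - 1) * (A + 1)) := by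
          rw [h2]; ring
        exact_mod_cast h4
      have h5 : (4 * (k : ℤ) ^ 2 * A * (1 + A)) * (nn y : ℤ) = (4 * (k : ℤ) ^ 2 * A * (1 + A)) * ((k : ℤ) - 1) := by
        rw [hGZ] at h3
        have e3 : A - 1 = -2 * k := by rw [hAm]; ring
        rw [e3] at h3
        linear_combination h3
      have h6 := mul_left_cancel₀ (mul_ne_zero (mul_ne_zero (by positivity) hA0) hA1) h5
      have h7 : (nn y : ℤ) = ((k - 1 : ℕ) : ℤ) := by rw [h6, Nat.cast_sub hk1, Nat.cast_one]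
      exact_mod_cast h7

end numeric

end Cfsg.Agent.H9.BSW
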