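import Cfsg.Agent.H21.TIcount
import Cfsg.Agent.H20.Zass3

set_option autoImplicit false
set_option linter.unusedSectionVars false
set_option linter.style.haveILetI false
set_option linter.unusedVariables false
set_option linter.unusedSimpArgs false
set_option maxHeartbeats 1000000

/-! Brauer–Suzuki–Wall, part H: abelian Hall subgroups containing the centralizers of their non-identity elements. -/

open Cfsg

namespace Cfsg.Agent.H9.BSW

open Subgroup

universe u

variable {G : Type u} [Group G]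

/-- an abelian Hall subgroup containing the centralizers of its non-identity elements -/
structure HallTI (A : Subgroup G) : Prop where
  ne : A ≠ ⊥
  cop : Nat.Coprime (Nat.card A) A.index
  cen : ∀ z ∈ A, z ≠ 1 → ∀ g : G, g * z = z * g → g ∈ A
  comm : ∀ a ∈ A, ∀ b ∈ A, a * b = b * a

theorem conj_ne_one' {g y : G} (hy : y ≠ 1) : g * y * g⁻¹ ≠ 1 := by
  intro hc
  apply hy
  rw [mul_inv_eq_one, mul_eq_left] at hc
  exact hc

namespace HallTI

variable {A : Subgroup G} [Finite G]

theorem ti (hA : HallTI A) {g a : G} (ha : a ∈ A) (ha1 : a ≠ 1) (hg : g * a * g⁻¹ ∈ A) :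
    g ∈ normalizer (A : Set G) := by
  apply mem_normalizer_fintype
  intro b hb
  apply hA.cen _ hg (conj_ne_one' ha1)
  have e1 : g * b * g⁻¹ * (g * a * g⁻¹) = g * (b * a) * g⁻¹ := by group
  have e2 : g * a * g⁻¹ * (g * b * g⁻¹) = g * (a * b) * g⁻¹ := by group
  rw [e1, e2, hA.comm _ hb _ ha]

theorem hall (hA : HallTI A) {w : G} (hw : w ∈ normalizer (A : Set G)) (hw2 : Nat.Coprime (orderOf w) A.index) :
    w ∈ A := by
  haveI : (A.subgroupOf (normalizer (A : Set G))).Normal := normal_in_normalizer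
  set n : normalizer (A : Set G) := ⟨w, hw⟩ with hn
  have h1 : orderOf (QuotientGroup.mk n : normalizer (A : Set G) ⧸ A.subgroupOf (normalizer (A : Set G))) ∣ orderOf w := by
    have e1 : orderOf (QuotientGroup.mk' (A.subgroupOf (normalizer (A : Set G))) n) ∣ orderOf n := orderOf_map_dvd _ _
    have e2 : orderOf n = orderOf w := by
      rw [← orderOf_injective (normalizer (A : Set G)).subtype Subtype.val_injective]; rfl
    rw [e2] at e1
    exact e1
  have h2 : orderOf (QuotientGroup.mk n : normalizer (A : Set G) ⧸ A.subgroupOf (normalizer (A : Set G))) ∣ A.index := by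
    have e1 : orderOf (QuotientGroup.mk n : normalizer (A : Set G) ⧸ A.subgroupOf (normalizer (A : Set G))) ∣
        A.relIndex (normalizer (A : Set G)) := orderOf_dvd_natCard _
    exact e1.trans (relIndex_dvd_index_of_le le_normalizer)
  have h3 := Nat.eq_one_of_dvd_coprimes hw2 h1 h2
  rw [orderOf_eq_one_iff, QuotientGroup.eq_one_iff, mem_subgroupOf] at h3
  exact h3

theorem hall_of_mem (hA : HallTI A) {w : G} (hw : w ∈ normalizer (A : Set G)) {g a : G} (ha : a ∈ A)
    (hwa : w = g * a * g⁻¹) : w ∈ A := by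
  apply hA.hall hw
  have h1 : orderOf w = orderOf a := by
    rw [hwa]
    have := orderOf_injective (MulAut.conj g).toMonoidHom (MulAut.conj g).injective a
    simpa using this
  rw [h1]
  apply Nat.Coprime.coprime_dvd_left _ hA.cop
  have h2 : orderOf (⟨a, ha⟩ : A) = orderOf a := by
    rw [← orderOf_injective A.subtype Subtype.val_injective]; rfl
  rw [← h2]
  exact orderOf_dvd_natCard _

/-- elements of `A` fix only one point -/
theorem fix (hA : HallTI A) {z g : G} (hz : z ∈ A) (hz1 : z ≠ 1) (hg : g⁻¹ * z * g ∈ normalizer (A : Set G)) :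
    g ∈ normalizer (A : Set G) := by
  have h1 : g⁻¹ * z * g ∈ A := hA.hall_of_mem hg hz (g := g⁻¹) (by group)
  have h2 := hA.ti (g := g⁻¹) hz hz1 (by simpa using h1)
  simpa using inv_mem h2

theorem index_dvd (hA : HallTI A) : Nat.card A ∣ (normalizer (A : Set G)).index - 1 := by
  classical
  set N := normalizer (A : Set G) with hN
  have hfixed : ∀ z : A, ∀ x : G ⧸ N, x ≠ QuotientGroup.mk 1 → z • x ≠ QuotientGroup.mk 1 := by
    intro z x hx hc
    apply hx
    have h1 : x = (z : G)⁻¹ • (QuotientGroup.mk 1 : G ⧸ N) := by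
      rw [← hc]
      change x = (z : G)⁻¹ • ((z : G) • x)
      rw [inv_smul_smul]
    rw [h1]
    change (QuotientGroup.mk ((z : G)⁻¹ * 1) : G ⧸ N) = QuotientGroup.mk 1
    rw [mul_one]
    apply QuotientGroup.eq.mpr
    rw [inv_inv, mul_one]
    exact le_normalizer z.2
  letI act : MulAction A {x : G ⧸ N // x ≠ QuotientGroup.mk 1} :=
    { smul := fun z x => ⟨z • x.1, hfixed z x.1 x.2⟩
      one_smul := fun x => Subtype.ext (one_smul A x.1)
      mul_smul := fun a b x => Subtype.ext (mul_smul a b x.1) }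
  have hsm : ∀ (z : A) (x : {x : G ⧸ N // x ≠ QuotientGroup.mk 1}), (z • x).1 = (z : G) • x.1 := fun _ _ => rfl
  have h1 : Nat.card A ∣ Nat.card {x : G ⧸ N // x ≠ QuotientGroup.mk 1} := by
    apply H20.Zass.card_dvd_of_semiregular
    intro z x hzx
    by_contra hz1
    have hz1' : (z : G) ≠ 1 := fun e => hz1 (Subtype.ext e)
    apply x.2
    obtain ⟨g, hg⟩ := QuotientGroup.mk_surjective x.1
    have h2 := congrArg Subtype.val hzx
    rw [hsm, ← hg] at h2
    have h3 : (QuotientGroup.mk ((z : G) * g) : G ⧸ N) = QuotientGroup.mk g := h2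
    have h4 := QuotientGroup.eq.mp h3.symm
    have h5 := hA.fix z.2 hz1' (g := g) (by rw [← mul_assoc] at h4; exact h4)
    rw [← hg]
    apply QuotientGroup.eq.mpr
    rw [mul_one]
    exact inv_mem h5
  have h2 : Nat.card {x : G ⧸ N // x ≠ QuotientGroup.mk 1} = N.index - 1 := by
    have h3 : Nat.card (G ⧸ N) = Nat.card {x : G ⧸ N // x = QuotientGroup.mk 1} +
        Nat.card {x : G ⧸ N // x ≠ QuotientGroup.mk 1} := by
      rw [← Nat.card_sum]
      exact Nat.card_congr (Equiv.sumCompl (fun x : G ⧸ N => x = QuotientGroup.mk 1)).symm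
    have h4 : Nat.card {x : G ⧸ N // x = QuotientGroup.mk 1} = 1 := by
      haveI : Unique {x : G ⧸ N // x = QuotientGroup.mk 1} := ⟨⟨⟨_, rfl⟩⟩, fun b => Subtype.ext b.2⟩
      exact Nat.card_unique
    rw [Subgroup.index]
    omega
  rwa [h2] at h1

theorem one_lt (hA : HallTI A) : 1 < Nat.card A := by
  by_contra hc
  have : Nat.card A = 1 := by
    have := Nat.card_pos (α := A)
    omega
  exact hA.ne (card_eq_one.mp this)

theorem relIndex_le (hA : HallTI A) : A.relIndex (normalizer (A : Set G)) ≤ Nat.card A - 1 := by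
  classical
  set N := normalizer (A : Set G) with hN
  obtain ⟨z, hz, hz1⟩ := (bot_or_exists_ne_one A).resolve_left hA.ne
  have h1 : Nat.card {x : A // x ≠ 1} = Nat.card A - 1 := by
    have h3 : Nat.card A = Nat.card {x : A // x = 1} + Nat.card {x : A // x ≠ 1} := by
      rw [← Nat.card_sum]
      exact Nat.card_congr (Equiv.sumCompl (fun x : A => x = 1)).symm
    have h4 : Nat.card {x : A // x = 1} = 1 := by
      haveI : Unique {x : A // x = 1} := ⟨⟨⟨_, rfl⟩⟩, fun b => Subtype.ext b.2⟩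
      exact Nat.card_unique
    omega
  rw [← h1]
  change Nat.card (N ⧸ A.subgroupOf N) ≤ _
  have hmem : ∀ n : N, (n : G) * z * (n : G)⁻¹ ∈ A := fun n => (mem_normalizer_iff.mp n.2 z).mp hz
  let f : N ⧸ A.subgroupOf N → {x : A // x ≠ 1} := fun c =>
    ⟨⟨_, hmem c.out⟩, fun e => conj_ne_one' hz1 (congrArg Subtype.val e)⟩
  apply Nat.card_le_card_of_injective f
  intro c c' hcc
  have h2 : (c.out : G) * z * (c.out : G)⁻¹ = (c'.out : G) * z * (c'.out : G)⁻¹ := by
    have := congrArg (fun x => ((x : {x : A // x ≠ 1}).1 : G)) hcc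
    exact this
  have h3 : ((c'.out⁻¹ * c.out : N) : G) ∈ A := by
    apply hA.cen z hz hz1
    rw [Subgroup.coe_mul, Subgroup.coe_inv]
    have h4 : (c'.out : G)⁻¹ * c.out * z = (c'.out : G)⁻¹ * ((c.out : G) * z * (c.out : G)⁻¹) * c.out := by group
    rw [h4, h2]; group
  have h4 := (QuotientGroup.eq (s := A.subgroupOf N)).mpr (mem_subgroupOf.mpr h3)
  rw [← QuotientGroup.out_eq' c, ← QuotientGroup.out_eq' c']
  exact h4.symm

theorem card_eq (hA : HallTI A) :
    Nat.card G = Nat.card A * (A.relIndex (normalizer (A : Set G)) * (normalizer (A : Set G)).index) := by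
  have h1 := relIndex_mul_index (le_normalizer : A ≤ normalizer (A : Set G))
  rw [h1, card_mul_index]

end HallTI

/-- the arithmetic of `2 f + 1 = q` -/
theorem arith1 {q f i : ℕ} (hq : 1 < q) (hi : 0 < i) (h1 : q ∣ i - 1) (h2 : f ≤ q - 1) (h3 : 2 * (f * i) + 1 = q * q) :
    2 * f + 1 = q ∧ i = q + 1 := by
  obtain ⟨j, hj⟩ := h1
  have hi' : i = q * j + 1 := by omega
  have h4 : q ∣ 2 * f + 1 := by
    have e : 2 * f + 1 + q * (2 * f * j) = q * q := by rw [← h3, hi']; ring
    have e2 : q ∣ 2 * f + 1 + q * (2 * f * j) := by rw [e]; exact dvd_mul_right _ _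
    exact (Nat.dvd_add_left (dvd_mul_right _ _)).mp e2
  obtain ⟨c, hc⟩ := h4
  have hc1 : c = 1 := by
    have h5 : c < 2 := by
      by_contra hcon
      have : 2 ≤ c := by omega
      have : q * 2 ≤ q * c := Nat.mul_le_mul_left q this
      omega
    have h6 : c ≠ 0 := by rintro rfl; omega
    omega
  rw [hc1, mul_one] at hc
  refine ⟨hc, ?_⟩
  have hf : 0 < f := by
    rcases Nat.eq_zero_or_pos f with h | h
    · subst h; omega
    · exact h
  have h7 : 2 * f * i = 2 * f * (q + 1) := by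
    have : 2 * f = q - 1 := by omega
    have e1 : 2 * (f * i) = q * q - 1 := by omega
    have e2 : q * q - 1 = (q - 1) * (q + 1) := by
      obtain ⟨r, rfl⟩ : ∃ r, q = r + 1 := ⟨q - 1, by omega⟩
      have e3 : (r + 1) * (r + 1) = r * (r + 1 + 1) + 1 := by ring
      rw [e3]; simp
    rw [mul_assoc, e1, e2, ← this]
  exact Nat.eq_of_mul_eq_mul_left (by omega) h7

theorem arith2 {m f i k : ℕ} (hk : 4 ≤ k) (hm : m = k - 1) (hi : 0 < i) (h1 : m ∣ i - 1) (h2 : f ≤ m - 1)
    (h3 : f * i = 2 * k * (2 * k - 1)) : f = 2 ∧ i = k * (2 * k - 1) := by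
  obtain ⟨j, hj⟩ := h1
  obtain ⟨r, rfl⟩ : ∃ r, k = r + 4 := ⟨k - 4, by omega⟩
  have hm' : m = r + 3 := by omega
  subst hm'
  have hi' : i = (r + 3) * j + 1 := by omega
  have e1 : 2 * (r + 4) * (2 * (r + 4) - 1) = (r + 3) * (4 * r + 18) + 2 := by
    have : 2 * (r + 4) - 1 = 2 * r + 7 := by omega
    rw [this]; ring
  have h4 : f = 2 := by
    have e2 : f + (r + 3) * (f * j) = (r + 3) * (4 * r + 18) + 2 := by rw [← e1, ← h3, hi']; ring
    have e3 : f % (r + 3) = 2 % (r + 3) := by
      have := congrArg (· % (r + 3)) e2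
      simpa [Nat.add_mul_mod_self_left, Nat.mul_add_mod] using this
    rw [Nat.mod_eq_of_lt (by omega), Nat.mod_eq_of_lt (by omega)] at e3
    exact e3
  refine ⟨h4, ?_⟩
  rw [h4] at h3
  have e5 : 2 * i = 2 * ((r + 4) * (2 * (r + 4) - 1)) := by rw [h3]; ring
  omega

/-- an element of prime order is conjugate into a subgroup of index prime to `p` -/
theorem exists_conj_mem [Finite G] {H : Subgroup G} {p : ℕ} (hp : p.Prime) {y : G} (hy : orderOf y = p)
    (hH : ¬ p ∣ H.index) : ∃ g : G, g * y * g⁻¹ ∈ H := by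
  haveI := Fact.mk hp
  have hpg : IsPGroup p (zpowers y) := by
    apply IsPGroup.of_card (n := 1)
    rw [Nat.card_zpowers, hy, pow_one]
  obtain ⟨x, hx⟩ := hpg.nonempty_fixed_point_of_prime_not_dvd_card (α := G ⧸ H) (by rwa [← Subgroup.index])
  obtain ⟨g, rfl⟩ := QuotientGroup.mk_surjective x
  have h1 := hx ⟨y, mem_zpowers y⟩
  have h2 : (QuotientGroup.mk (y * g) : G ⧸ H) = QuotientGroup.mk g := h1
  have h3 := QuotientGroup.eq.mp h2.symm
  exact ⟨g⁻¹, by rw [← mul_assoc] at h3; simpa using h3⟩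

section PH

variable [Finite G] {m r : ℕ}

/-- all `m`-singular elements have abelian centralizers of order `m` -/
def PH (G : Type u) [Group G] (m : ℕ) : Prop :=
  ∀ y : G, ¬ Nat.Coprime (orderOf y) m → Nat.card (centralizer ({y} : Set G)) = m ∧
    ∀ a ∈ centralizer ({y} : Set G), ∀ b ∈ centralizer ({y} : Set G), a * b = b * a

theorem orderOf_dvd_of_mem {A : Subgroup G} {z : G} (hz : z ∈ A) : orderOf z ∣ Nat.card A := by
  have h2 : orderOf (⟨z, hz⟩ : A) = orderOf z := by
    rw [← orderOf_injective A.subtype Subtype.val_injective]; rfl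
  rw [← h2]
  exact orderOf_dvd_natCard _

theorem PH.not_coprime (h : PH G m) {y : G} (hy : ¬ Nat.Coprime (orderOf y) m) {z : G}
    (hz : z ∈ centralizer ({y} : Set G)) (hz1 : z ≠ 1) : ¬ Nat.Coprime (orderOf z) m := by
  intro hc
  have h1 := orderOf_dvd_of_mem hz
  rw [(h y hy).1] at h1
  have h2 : orderOf z = 1 := Nat.Coprime.eq_one_of_dvd hc h1
  exact hz1 (orderOf_eq_one_iff.mp h2)

theorem PH.centralizer_eq (h : PH G m) {y : G} (hy : ¬ Nat.Coprime (orderOf y) m) {z : G}
    (hz : z ∈ centralizer ({y} : Set G)) (hz1 : z ≠ 1) : centralizer ({z} : Set G) = centralizer ({y} : Set G) := by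
  have h1 : centralizer ({y} : Set G) ≤ centralizer ({z} : Set G) := by
    intro a ha
    rw [mem_centralizer_singleton_iff]
    exact (h y hy).2 a ha z hz
  symm
  apply Subgroup.eq_of_le_of_card_ge h1
  rw [(h y hy).1, (h z (h.not_coprime hy hz hz1)).1]

theorem PH.hallTI (h : PH G m) (hG : Nat.card G = m * r) (hco : Nat.Coprime m r) {y : G}
    (hy : ¬ Nat.Coprime (orderOf y) m) : HallTI (centralizer ({y} : Set G)) := by
  have hy1 : y ≠ 1 := by
    rintro rfl
    apply hy
    rw [orderOf_one]; exact Nat.coprime_one_left m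
  have hm : 0 < m := by
    rw [← (h y hy).1]; exact Nat.card_pos
  refine ⟨?_, ?_, ?_, (h y hy).2⟩
  · intro hc
    apply hy1
    have : y ∈ centralizer ({y} : Set G) := mem_centralizer_singleton_iff.mpr rfl
    rw [hc] at this
    exact mem_bot.mp this
  · have h1 := card_mul_index (centralizer ({y} : Set G))
    rw [(h y hy).1, hG] at h1
    rw [(h y hy).1, Nat.eq_of_mul_eq_mul_left hm h1]
    exact hco
  · intro z hz hz1 g hg
    rw [← h.centralizer_eq hy hz hz1, mem_centralizer_singleton_iff]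
    exact hg

theorem PH.conj (h : PH G m) (hG : Nat.card G = m * r) (hco : Nat.Coprime m r) {y y' : G}
    (hy : ¬ Nat.Coprime (orderOf y) m) (hy' : ¬ Nat.Coprime (orderOf y') m) :
    ∃ g : G, g * y' * g⁻¹ ∈ centralizer ({y} : Set G) := by
  obtain ⟨p, hp, hp1, hp2⟩ := Nat.Prime.not_coprime_iff_dvd.mp hy'
  have hm : 0 < m := by
    rw [← (h y hy).1]; exact Nat.card_pos
  have hord : orderOf (y' ^ (orderOf y' / p)) = p := by
    rw [orderOf_pow_of_dvd (Nat.div_pos (Nat.le_of_dvd (orderOf_pos y') hp1) hp.pos).ne' (Nat.div_dvd_of_dvd hp1)]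
    exact Nat.div_div_self hp1 (orderOf_pos y').ne'
  have hidx : ¬ p ∣ (centralizer ({y} : Set G)).index := by
    intro hc
    have h1 := card_mul_index (centralizer ({y} : Set G))
    rw [(h y hy).1, hG] at h1
    rw [Nat.eq_of_mul_eq_mul_left hm h1] at hc
    exact hp.one_lt.ne' (Nat.eq_one_of_dvd_coprimes hco hp2 hc)
  obtain ⟨g, hg⟩ := exists_conj_mem hp hord hidx
  refine ⟨g, ?_⟩
  have hne : g * y' ^ (orderOf y' / p) * g⁻¹ ≠ 1 := by
    apply conj_ne_one'
    intro hc
    rw [hc, orderOf_one] at hord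
    exact hp.one_lt.ne' hord.symm
  apply (h.hallTI hG hco hy).cen _ hg hne
  have e1 : g * y' * g⁻¹ * (g * y' ^ (orderOf y' / p) * g⁻¹) = g * (y' * y' ^ (orderOf y' / p)) * g⁻¹ := by group
  have e2 : g * y' ^ (orderOf y' / p) * g⁻¹ * (g * y' * g⁻¹) = g * (y' ^ (orderOf y' / p) * y') * g⁻¹ := by group
  rw [e1, e2, ← pow_succ', ← pow_succ]

/-- counting the `m`-singular elements -/
theorem PH.count (h : PH G m) (hG : Nat.card G = m * r) (hco : Nat.Coprime m r) {y : G}
    (hy : ¬ Nat.Coprime (orderOf y) m) :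
    {x : G | ¬ Nat.Coprime (orderOf x) m}.ncard =
      (m - 1) * (normalizer (centralizer ({y} : Set G) : Set G)).index := by
  have hH := h.hallTI hG hco hy
  have h1 : {x : G | ¬ Nat.Coprime (orderOf x) m} =
      H21.conjSet ((centralizer ({y} : Set G) : Set G) \ {1}) := by
    ext x
    simp only [Set.mem_setOf_eq, H21.conjSet, Set.mem_diff, Set.mem_singleton_iff, SetLike.mem_coe]
    constructor
    · intro hx
      obtain ⟨g, hg⟩ := h.conj hG hco hy hx
      refine ⟨g⁻¹, g * x * g⁻¹, ⟨hg, ?_⟩, by group⟩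
      apply conj_ne_one'
      rintro rfl
      apply hx
      rw [orderOf_one]; exact Nat.coprime_one_left m
    · rintro ⟨g, z, ⟨hz, hz1⟩, rfl⟩
      have h2 : orderOf (g * z * g⁻¹) = orderOf z := by
        have := orderOf_injective (MulAut.conj g).toMonoidHom (MulAut.conj g).injective z
        simpa using this
      rw [h2]
      exact h.not_coprime hy hz hz1
  rw [h1, H21.card_conjSet _ (normalizer (centralizer ({y} : Set G) : Set G))]
  · congr 1
    rw [Set.ncard_diff_singleton_of_mem (one_mem _)]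
    congr 1
    rw [← Nat.card_coe_set_eq]
    exact (h y hy).1
  · rintro g z ⟨hz, hz1⟩ ⟨hg, -⟩
    exact hH.ti hz hz1 hg
  · rintro g hg z ⟨hz, hz1⟩
    exact ⟨(mem_normalizer_iff.mp hg z).mp hz, conj_ne_one' hz1⟩

end PH

end Cfsg.Agent.H9.BSW
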