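import Cfsg.Agent.H9.BSWG
import Cfsg.Agent.H9.BSWH

set_option autoImplicit false
set_option linter.unusedSectionVars false
set_option linter.style.haveILetI false
set_option linter.unusedVariables false
set_option linter.unusedSimpArgs false
set_option maxHeartbeats 1000000

/-! Brauer–Suzuki–Wall, part I: local analysis tools and case I. -/

open Cfsg

namespace Cfsg.Agent.H9.BSW

open Subgroup

universe u

variable {G : Type u} [Group G]

/-- an `r`-subgroup is conjugate into a subgroup of index prime to `r` -/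
theorem exists_conj_le [Finite G] {H R : Subgroup G} {p : ℕ} (hp : p.Prime) (hR : IsPGroup p R)
    (hH : ¬ p ∣ H.index) : ∃ g : G, ∀ y ∈ R, g * y * g⁻¹ ∈ H := by
  haveI := Fact.mk hp
  obtain ⟨x, hx⟩ := hR.nonempty_fixed_point_of_prime_not_dvd_card (α := G ⧸ H) (by rwa [← Subgroup.index])
  obtain ⟨g, rfl⟩ := QuotientGroup.mk_surjective x
  refine ⟨g⁻¹, fun y hy => ?_⟩
  have h1 := hx ⟨y, hy⟩
  have h2 : (QuotientGroup.mk (y * g) : G ⧸ H) = QuotientGroup.mk g := h1
  have h3 := QuotientGroup.eq.mp h2.symm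
  rw [← mul_assoc] at h3
  simpa using h3

/-- a group satisfying Burnside's condition for all primes other than `p` has a normal Sylow `p`-subgroup -/
theorem pclosed {X : Type u} [Group X] [Finite X] {p : ℕ} (hp : p.Prime)
    (h : ∀ r : ℕ, r.Prime → r ≠ p → ∀ R : Sylow r X,
      normalizer ((R : Subgroup X) : Set X) ≤ centralizer ((R : Subgroup X) : Set X)) :
    ∃ M : Subgroup X, IsPGroup p M ∧ ∀ g : X, (∃ n : ℕ, g ^ p ^ n = 1) → g ∈ M := by
  classical
  let M : Subgroup X := sInf {N : Subgroup X | ∀ g : X, (∃ n : ℕ, g ^ p ^ n = 1) → g ∈ N}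
  refine ⟨M, ?_, ?_⟩
  · have key : ∀ {r : ℕ}, r.Prime → r ∣ Nat.card M → r = p := by
      intro r hr hdvd
      by_contra hrp
      haveI := Fact.mk hr
      obtain ⟨R⟩ : Nonempty (Sylow r X) := inferInstance
      have hR := h r hr hrp R
      have hle : M ≤ (MonoidHom.transferSylow R hR).ker := by
        apply sInf_le
        rintro g ⟨n, hn⟩
        rw [MonoidHom.mem_ker]
        have h1 : (MonoidHom.transferSylow R hR g) ^ p ^ n = 1 := by rw [← map_pow, hn, map_one]
        obtain ⟨j, hj⟩ := R.isPGroup' (MonoidHom.transferSylow R hR g)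
        have h2 : orderOf (MonoidHom.transferSylow R hR g) ∣ p ^ n := orderOf_dvd_of_pow_eq_one h1
        have h3 : orderOf (MonoidHom.transferSylow R hR g) ∣ r ^ j := orderOf_dvd_of_pow_eq_one hj
        have h4 : Nat.Coprime (p ^ n) (r ^ j) := Nat.Coprime.pow _ _ ((Nat.coprime_primes hp hr).mpr (Ne.symm hrp))
        exact orderOf_eq_one_iff.mp (Nat.eq_one_of_dvd_coprimes h4 h2 h3)
      exact MonoidHom.not_dvd_card_ker_transferSylow R hR (hdvd.trans (card_dvd_of_le hle))
    have h1 := Nat.eq_prime_pow_of_unique_prime_dvd (Nat.card_pos (α := M)).ne' key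
    exact IsPGroup.of_card h1
  · intro g hg
    rw [Subgroup.mem_sInf]
    intro N hN
    exact hN g hg

/-- if all `p`-local subgroups are `p`-closed then the Sylow `p`-subgroups are TI -/
theorem sylow_ti [Finite G] {p : ℕ} (hp : p.Prime)
    (hloc : ∀ D : Subgroup G, D ≠ ⊥ → IsPGroup p D → ∃ T : Subgroup G, IsPGroup p T ∧
      ∀ g ∈ normalizer (D : Set G), (∃ n : ℕ, g ^ p ^ n = 1) → g ∈ T)
    (P Q : Sylow p G) (hPQ : (P : Subgroup G) ⊓ Q ≠ ⊥) : P = Q := by
  classical
  haveI := Fact.mk hp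
  by_contra hne
  -- maximal intersection
  obtain ⟨⟨P, Q⟩, ⟨hne, hPQ⟩, hmax⟩ := Set.Finite.exists_maximalFor
    (fun x : Sylow p G × Sylow p G => Nat.card ((x.1 : Subgroup G) ⊓ x.2 : Subgroup G))
    {x : Sylow p G × Sylow p G | x.1 ≠ x.2 ∧ (x.1 : Subgroup G) ⊓ x.2 ≠ ⊥} (Set.toFinite _) ⟨(P, Q), hne, hPQ⟩
  simp only at hne hPQ hmax
  have hDp : IsPGroup p ((P : Subgroup G) ⊓ Q : Subgroup G) := P.isPGroup'.to_le inf_le_left
  obtain ⟨T, hT, hTmem⟩ := hloc _ hPQ hDp
  obtain ⟨S, hS⟩ := hT.exists_le_sylow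
  have key : ∀ R : Sylow p G, (P : Subgroup G) ⊓ Q ≤ R → (P : Subgroup G) ⊓ Q ≠ R → R = S := by
    intro R hle hneR
    by_contra hRS
    set D : Subgroup G := (P : Subgroup G) ⊓ Q with hD
    -- normalizer grows
    have hnil : Group.IsNilpotent (R : Subgroup G) := R.isPGroup'.isNilpotent
    have hlt : D.subgroupOf R < ⊤ := by
      rw [lt_top_iff_ne_top, Ne, subgroupOf_eq_top]
      intro hc
      exact hneR (le_antisymm hle hc)
    have hN := normalizerCondition_of_isNilpotent (G := (R : Subgroup G)) _ hlt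
    obtain ⟨x, hx1, hx2⟩ := SetLike.exists_of_lt hN
    -- `D ≤ R ⊓ S` and `x ∈ R ⊓ S`
    have hxN : ((x : (R : Subgroup G)) : G) ∈ normalizer (D : Set G) := by
      apply mem_normalizer_fintype
      intro d hd
      have h1 : (⟨d, hle hd⟩ : (R : Subgroup G)) ∈ D.subgroupOf R := mem_subgroupOf.mpr hd
      have h2 := (mem_normalizer_iff.mp hx1 ⟨d, hle hd⟩).mp h1
      exact mem_subgroupOf.mp h2
    have hpel : ∀ y ∈ (R : Subgroup G), ∃ n : ℕ, y ^ p ^ n = 1 := by
      intro y hy
      obtain ⟨n, hn⟩ := R.isPGroup' ⟨y, hy⟩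
      exact ⟨n, congrArg Subtype.val hn⟩
    have hDS : D ≤ S := by
      intro d hd
      exact hS (hTmem d (le_normalizer hd) (hpel d (hle hd)))
    have hxS : (x : G) ∈ (S : Subgroup G) := hS (hTmem _ hxN (hpel _ x.2))
    have hlt2 : D < (R : Subgroup G) ⊓ S := by
      refine lt_of_le_of_ne (le_inf hle hDS) ?_
      intro e
      apply hx2
      rw [mem_subgroupOf, e]
      exact ⟨x.2, hxS⟩
    have hbot : (R : Subgroup G) ⊓ S ≠ ⊥ := by
      intro hc
      rw [hc] at hlt2
      exact not_lt_bot hlt2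
    have h3 := hmax (j := (R, S)) ⟨hRS, hbot⟩
    simp only at h3
    have h4 : Nat.card D < Nat.card ((R : Subgroup G) ⊓ S : Subgroup G) := by
      have h5 := card_dvd_of_le hlt2.le
      refine lt_of_le_of_ne (Nat.le_of_dvd Nat.card_pos h5) ?_
      intro e
      exact hlt2.ne (Subgroup.eq_of_le_of_card_ge hlt2.le e.ge)
    have h5 := h3 h4.le
    exact absurd h5 (not_le.mpr h4)
  have hP : P = S := by
    apply key P inf_le_left
    intro e
    apply hne
    apply Sylow.ext
    have h1 : (P : Subgroup G) ≤ Q := by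
      intro x hx
      have : x ∈ ((P : Subgroup G) ⊓ Q : Subgroup G) := by rw [e]; exact hx
      exact this.2
    apply Subgroup.eq_of_le_of_card_ge h1
    rw [P.card_eq_multiplicity, Q.card_eq_multiplicity]
  have hQ : Q = S := by
    apply key Q inf_le_right
    intro e
    apply hne
    apply Sylow.ext
    have h1 : (Q : Subgroup G) ≤ P := by
      intro x hx
      have : x ∈ ((P : Subgroup G) ⊓ Q : Subgroup G) := by rw [e]; exact hx
      exact this.1
    symm
    apply Subgroup.eq_of_le_of_card_ge h1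
    rw [P.card_eq_multiplicity, Q.card_eq_multiplicity]
  exact hne (hP.trans hQ.symm)

/-- the common situation: one class of `m`-singular elements -/
theorem PH_of_nn [Finite G] {K : Subgroup G} {t s : G} {k : ℕ} (h : Setup G K t s k) {m : ℕ}
    (hkm : Nat.Coprime k m) (hm : m ≠ 0) (hnn : ∀ y : G, ¬ Nat.Coprime (orderOf y) m → nn y = m) : PH G m := by
  letI : Fintype G := Fintype.ofFinite G
  intro y hy
  have h1 := (off_of_not_coprime h hkm hy).real h (ne_one_of_not_coprime hy) (by rw [hnn y hy]; exact hm)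
  rw [hnn y hy] at h1
  exact ⟨h1.1, h1.2.1⟩

theorem case1 [Finite G] {K : Subgroup G} {t s : G} {k : ℕ} (h : Setup G K t s k)
    (hG : Nat.card G = 2 * k * (2 * k + 1) * (k + 1))
    (hnn : ∀ y : G, ¬ Nat.Coprime (orderOf y) (2 * k + 1) → nn y = 2 * k + 1) :
    ∃ A : Subgroup G, HallTI A ∧ Nat.card A = 2 * k + 1 := by
  have hk0 : 0 < k := by rw [← h.hk]; exact Nat.card_pos
  have hc1 : Nat.Coprime k (2 * k + 1) := by
    rw [Nat.coprime_mul_right_add_right]; exact Nat.coprime_one_right k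
  have hPH := PH_of_nn h hc1 (by omega) hnn
  have hco : Nat.Coprime (2 * k + 1) (2 * k * (k + 1)) := by
    apply Nat.Coprime.mul_right
    · apply Nat.Coprime.mul_right
      · exact Nat.coprime_two_right.mpr ⟨k, rfl⟩
      · exact hc1.symm
    · have h2 : 2 * k + 1 = k + (k + 1) := by ring
      rw [h2, Nat.coprime_add_self_left]
      rw [Nat.coprime_self_add_right]; exact Nat.coprime_one_right k
  have hG' : Nat.card G = (2 * k + 1) * (2 * k * (k + 1)) := by rw [hG]; ring
  obtain ⟨p, hp, hpq⟩ := Nat.exists_prime_and_dvd (show 2 * k + 1 ≠ 1 by omega)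
  haveI := Fact.mk hp
  obtain ⟨y, hy⟩ := exists_prime_orderOf_dvd_card' (G := G) p (by rw [hG']; exact Dvd.dvd.mul_right hpq _)
  have hyc : ¬ Nat.Coprime (orderOf y) (2 * k + 1) := by
    rw [hy, hp.coprime_iff_not_dvd, not_not]; exact hpq
  exact ⟨_, hPH.hallTI hG' hco hyc, (hPH y hyc).1⟩

end Cfsg.Agent.H9.BSW
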