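import Cfsg.Agent.H9.BSWI

set_option autoImplicit false
set_option linter.unusedSectionVars false
set_option linter.style.haveILetI false
set_option linter.unusedVariables false
set_option linter.unusedSimpArgs false
set_option maxHeartbeats 1000000

/-! Brauer–Suzuki–Wall, part J: case II. -/

open Cfsg

namespace Cfsg.Agent.H9.BSW

open Subgroup

universe u

variable {G : Type u} [Group G]

theorem nn_ne_zero [Finite G] {K : Subgroup G} {t s : G} {k : ℕ} (h : Setup G K t s k) {w u : G} (hw : Off K w)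
    (hu : Inv u) (hinv : u * w * u⁻¹ = w⁻¹) : nn w ≠ 0 := by
  have huinv : u⁻¹ = u := inv_eq_of_mul_eq_one_left hu.2
  have h1 : Inv (u * w) := by
    constructor
    · intro hc
      have h2 : w = u := by rw [eq_inv_of_mul_eq_one_right hc, huinv]
      apply hw.not_inv h
      rw [h2]; exact hu
    · have h2 : u * w * (u * w) = (u * w * u) * w := by group
      rw [huinv] at hinv
      rw [h2, hinv, inv_mul_cancel]
  rw [nn]
  haveI : Nonempty {u : G // Inv u ∧ Inv (u * w)} := ⟨⟨u, hu, h1⟩⟩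
  exact Nat.card_pos.ne'

theorem card_cent [Finite G] {K : Subgroup G} {t s : G} {k : ℕ} (h : Setup G K t s k) :
    Nat.card (centralizer ({t} : Set G)) = 2 * k := by
  have h1 : (centralizer ({t} : Set G) : Set G) = (K : Set G) ∪ {g | g * s ∈ K} := by
    ext g
    rw [SetLike.mem_coe, mem_centralizer_singleton_iff]
    constructor
    · intro hg
      exact h.cent g hg
    · intro hg
      exact h.comm_of_coset hg
  have h2 : Nat.card (centralizer ({t} : Set G)) = (centralizer ({t} : Set G) : Set G).ncard :=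
    Nat.card_coe_set_eq _
  rw [h2, h1, Set.ncard_union_eq]
  · have h3 : (K : Set G).ncard = k := by
      rw [← Nat.card_coe_set_eq]; exact h.hk
    have h4 : {g | g * s ∈ K}.ncard = k := by
      rw [← h3, ← Nat.card_coe_set_eq, ← Nat.card_coe_set_eq]
      apply Nat.card_congr
      exact (Equiv.mulRight s).subtypeEquiv (fun g => Iff.rfl)
    rw [h3, h4]; ring
  · rw [Set.disjoint_left]
    intro g hg hg2
    exact h.coset_ne hg2 hg

theorem orderOf_conj' {g z : G} : orderOf (g * z * g⁻¹) = orderOf z := by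
  have := orderOf_injective (MulAut.conj g).toMonoidHom (MulAut.conj g).injective z
  simpa using this

structure C2 (G : Type u) [Group G] (K : Subgroup G) (t s : G) (m : ℕ) : Prop where
  h : Setup G K t s (m + 1)
  hm : 3 ≤ m
  hG : Nat.card G = (2 * m + 1) * (2 * (m + 1) * m)
  h0 : ∀ y : G, ¬ Nat.Coprime (orderOf y) (2 * m + 1) → nn y = 0
  h1 : ∀ y : G, ¬ Nat.Coprime (orderOf y) m → nn y = m

namespace C2

variable [Finite G] {K : Subgroup G} {t s : G} {m : ℕ}

theorem odd_m (c : C2 G K t s m) : Odd m := by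
  letI : Fintype G := Fintype.ofFinite G
  have := c.h.k_even
  rw [Nat.odd_iff]; omega

theorem co1 : Nat.Coprime (m + 1) m := by
  rw [Nat.coprime_self_add_left]; exact Nat.coprime_one_left m

theorem co2 : Nat.Coprime (m + 1) (2 * m + 1) := by
  have : 2 * m + 1 = m + (m + 1) := by ring
  rw [this, Nat.coprime_add_self_right]; exact co1

theorem co3 : Nat.Coprime m (2 * m + 1) := by
  rw [Nat.coprime_mul_right_add_right]; exact Nat.coprime_one_right m

theorem coq : Nat.Coprime (2 * m + 1) (2 * (m + 1) * m) := by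
  apply Nat.Coprime.mul_right
  · apply Nat.Coprime.mul_right
    · exact Nat.coprime_two_right.mpr ⟨m, rfl⟩
    · exact co2.symm
  · exact co3.symm

theorem com (c : C2 G K t s m) : Nat.Coprime m ((2 * m + 1) * (2 * (m + 1))) := by
  apply Nat.Coprime.mul_right
  · exact co3
  · apply Nat.Coprime.mul_right
    · exact Nat.coprime_two_right.mpr c.odd_m
    · exact co1.symm

theorem ph (c : C2 G K t s m) : PH G m := by
  have := c.hm
  exact PH_of_nn c.h co1 (by omega) c.h1

theorem hG' (c : C2 G K t s m) : Nat.card G = m * ((2 * m + 1) * (2 * (m + 1))) := by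
  rw [c.hG]; ring

theorem exists_w (c : C2 G K t s m) : ∃ w : G, ¬ Nat.Coprime (orderOf w) m := by
  have := c.hm
  obtain ⟨p, hp, hpq⟩ := Nat.exists_prime_and_dvd (show m ≠ 1 by omega)
  haveI := Fact.mk hp
  obtain ⟨y, hy⟩ := exists_prime_orderOf_dvd_card' (G := G) p (by rw [c.hG']; exact Dvd.dvd.mul_right hpq _)
  refine ⟨y, ?_⟩
  rw [hy, hp.coprime_iff_not_dvd, not_not]; exact hpq

theorem normA (c : C2 G K t s m) {w : G} (hw : ¬ Nat.Coprime (orderOf w) m) :
    (centralizer ({w} : Set G)).relIndex (normalizer (centralizer ({w} : Set G) : Set G)) = 2 ∧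
      (normalizer (centralizer ({w} : Set G) : Set G)).index = (m + 1) * (2 * m + 1) := by
  have hA := c.ph.hallTI c.hG' c.com hw
  have hcA := (c.ph w hw).1
  have h1 := hA.card_eq
  have h2 := hA.index_dvd
  have h3 := hA.relIndex_le
  rw [hcA] at h1 h2 h3
  have hm := c.hm
  have h4 := arith2 (m := m) (k := m + 1) (by omega) rfl (Nat.pos_of_ne_zero index_ne_zero_of_finite) h2 h3 (by
    rw [c.hG'] at h1
    have h5 := Nat.eq_of_mul_eq_mul_left (by omega) h1
    rw [← h5]
    have : 2 * (m + 1) - 1 = 2 * m + 1 := by omega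
    rw [this]; ring)
  have : 2 * (m + 1) - 1 = 2 * m + 1 := by omega
  rw [this] at h4
  exact h4

/-- the remaining elements -/
def Y (K : Subgroup G) (m : ℕ) : Set G := {y | y ≠ 1 ∧ Off K y ∧ Nat.Coprime (orderOf y) m}

theorem off_conj {y : G} (hy : Off K y) (g : G) : Off K (g * y * g⁻¹) := by
  intro x hx
  have h1 : x * (g * y * g⁻¹) * x⁻¹ = (x * g) * y * (x * g)⁻¹ := by group
  rw [h1] at hx ⊢
  exact hy _ hx

theorem off_inv {y : G} (hy : Off K y) : Off K y⁻¹ := by
  intro x hx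
  have h1 : x * y⁻¹ * x⁻¹ = (x * y * x⁻¹)⁻¹ := by group
  rw [h1] at hx ⊢
  rw [hy x (by simpa using inv_mem hx), inv_one]

theorem Y_conj {y : G} (hy : y ∈ Y K m) (g : G) : g * y * g⁻¹ ∈ Y K m :=
  ⟨conj_ne_one hy.1, off_conj hy.2.1 g, by rw [orderOf_conj']; exact hy.2.2⟩

theorem Y_inv {y : G} (hy : y ∈ Y K m) : y⁻¹ ∈ Y K m :=
  ⟨inv_ne_one.mpr hy.1, off_inv hy.2.1, by rw [orderOf_inv]; exact hy.2.2⟩

theorem Y_card_dvd (c : C2 G K t s m) {y : G} (hy : y ∈ Y K m) : Nat.card (centralizer ({y} : Set G)) ∣ 2 * m + 1 := by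
  have h1 : Nat.Coprime (Nat.card (centralizer ({y} : Set G))) (2 * (m + 1) * m) := by
    apply Nat.coprime_of_dvd
    intro r hr hr1 hr2
    haveI := Fact.mk hr
    obtain ⟨z, hz⟩ := exists_prime_orderOf_dvd_card' (G := centralizer ({y} : Set G)) r hr1
    have hzy := mem_centralizer_singleton_iff.mp z.2
    have hzo : orderOf (z : G) = r := by rw [Subgroup.orderOf_coe]; exact hz
    have hz1 : (z : G) ≠ 1 := by
      intro e; rw [e, orderOf_one] at hzo; exact hr.one_lt.ne hzo
    rcases (Nat.Prime.dvd_mul hr).mp hr2 with h2 | h2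
    · by_cases hr2 : r = 2
      · subst hr2
        have hu : Inv (z : G) := ⟨hz1, by rw [← pow_two, ← hzo]; exact pow_orderOf_eq_one _⟩
        exact hy.2.1.no_inv_comm c.h hy.1 hu hzy
      · have h3 : r ∣ m + 1 := by
          rcases (Nat.Prime.dvd_mul hr).mp h2 with h4 | h4
          · exact absurd ((Nat.prime_dvd_prime_iff_eq hr Nat.prime_two).mp h4) hr2
          · exact h4
        have hidx : ¬ r ∣ K.index := by
          intro h4
          have h5 := card_mul_index K
          rw [c.h.hk, c.hG] at h5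
          have h6 : K.index = (2 * m + 1) * (2 * m) := by
            apply Nat.eq_of_mul_eq_mul_left (show 0 < m + 1 by omega)
            rw [h5]; ring
          rw [h6] at h4
          rcases (Nat.Prime.dvd_mul hr).mp h4 with h7 | h7
          · exact hr.one_lt.ne' (Nat.eq_one_of_dvd_coprimes co2 h3 h7)
          · rcases (Nat.Prime.dvd_mul hr).mp h7 with h8 | h8
            · exact absurd ((Nat.prime_dvd_prime_iff_eq hr Nat.prime_two).mp h8) hr2
            · exact hr.one_lt.ne' (Nat.eq_one_of_dvd_coprimes co1 h3 h8)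
        obtain ⟨g, hg⟩ := exists_conj_mem hr hzo hidx
        have h5 : g * y * g⁻¹ * t = t * (g * y * g⁻¹) := by
          apply c.h.cen _ hg (conj_ne_one hz1)
          have e1 : g * y * g⁻¹ * (g * z * g⁻¹) = g * (y * z) * g⁻¹ := by group
          have e2 : g * z * g⁻¹ * (g * y * g⁻¹) = g * (z * y) * g⁻¹ := by group
          rw [e1, e2, hzy]
        rcases c.h.cent _ h5 with h6 | h6
        · exact conj_ne_one hy.1 (hy.2.1 _ h6)
        · have h7 := c.h.sq_coset h6
          exact (off_conj hy.2.1 g).not_inv c.h ⟨conj_ne_one hy.1, h7⟩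
    · have h3 : ¬ Nat.Coprime (orderOf (z : G)) m := by
        rw [hzo, hr.coprime_iff_not_dvd, not_not]; exact h2
      have h4 : y ∈ centralizer ({(z : G)} : Set G) := mem_centralizer_singleton_iff.mpr hzy.symm
      exact c.ph.not_coprime h3 h4 hy.1 hy.2.2
  have h2 : Nat.card (centralizer ({y} : Set G)) ∣ (2 * m + 1) * (2 * (m + 1) * m) := by
    rw [← c.hG]; exact card_subgroup_dvd_card _
  exact h1.dvd_of_dvd_mul_right h2

theorem Y_order_dvd (c : C2 G K t s m) {y : G} (hy : y ∈ Y K m) : orderOf y ∣ 2 * m + 1 :=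
  (orderOf_dvd_of_mem (A := centralizer ({y} : Set G)) (mem_centralizer_singleton_iff.mpr rfl)).trans (c.Y_card_dvd hy)

theorem Y_nn (c : C2 G K t s m) {y : G} (hy : y ∈ Y K m) : nn y = 0 := by
  apply c.h0
  intro hc
  apply hy.1
  exact orderOf_eq_one_iff.mp (Nat.Coprime.eq_one_of_dvd hc (c.Y_order_dvd hy))

theorem mem_Y (c : C2 G K t s m) {y : G} (hy : ¬ Nat.Coprime (orderOf y) (2 * m + 1)) : y ∈ Y K m := by
  letI : Fintype G := Fintype.ofFinite G
  refine ⟨ne_one_of_not_coprime hy, off_of_not_coprime c.h co2 hy, ?_⟩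
  by_contra hc
  have h1 := c.h1 y hc
  rw [c.h0 y hy] at h1
  have := c.hm
  omega

theorem Y_not_real (c : C2 G K t s m) {y : G} (hy : y ∈ Y K m) (g : G) : g * y * g⁻¹ ≠ y⁻¹ := by
  intro hg
  have hsq : Commute (g ^ 2) y := by
    have h1 : g ^ 2 * y * (g ^ 2)⁻¹ = y := by
      have e1 : g ^ 2 * y * (g ^ 2)⁻¹ = g * (g * y * g⁻¹) * g⁻¹ := by rw [pow_two]; group
      have e2 : g * y⁻¹ * g⁻¹ = (g * y * g⁻¹)⁻¹ := by group
      rw [e1, hg, e2, hg, inv_inv]
    exact mul_inv_eq_iff_eq_mul.mp h1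
  obtain ⟨a, n, hn2, hn⟩ := Nat.exists_eq_pow_mul_and_not_dvd (orderOf_pos g).ne' 2 (by norm_num)
  obtain ⟨j, hj⟩ : ∃ j, n = 2 * j + 1 := ⟨n / 2, by omega⟩
  set u := g ^ n with hu
  have huy : u * y * u⁻¹ = y⁻¹ := by
    have h1 : Commute ((g ^ 2) ^ j) y := hsq.pow_left j
    have h2 : u = g * (g ^ 2) ^ j := by rw [hu, hj, pow_succ', pow_mul]
    rw [h2, mul_inv_rev]
    have h3 : g * (g ^ 2) ^ j * y * (((g ^ 2) ^ j)⁻¹ * g⁻¹) = g * ((g ^ 2) ^ j * y * ((g ^ 2) ^ j)⁻¹) * g⁻¹ := by group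
    rw [h3, h1.eq, mul_inv_cancel_right, hg]
  have hu2 : u ^ 2 = 1 := by
    have h1 : orderOf (u ^ 2) ∣ 2 * m + 1 := by
      have h2 : u ^ 2 ∈ centralizer ({y} : Set G) := by
        rw [mem_centralizer_singleton_iff, hu, ← pow_mul, mul_comm, pow_mul]
        exact hsq.pow_left n
      exact (orderOf_dvd_of_mem h2).trans (c.Y_card_dvd hy)
    have h3 : orderOf (u ^ 2) ∣ 2 ^ a := by
      apply orderOf_dvd_of_pow_eq_one
      have h5 : (u ^ 2) ^ 2 ^ a = (g ^ (2 ^ a * n)) ^ 2 := by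
        rw [hu, ← pow_mul, ← pow_mul, ← pow_mul]; congr 1; ring
      rw [h5, ← hn, pow_orderOf_eq_one, one_pow]
    have h4 : Nat.Coprime (2 * m + 1) (2 ^ a) := Nat.Coprime.pow_right a (Nat.coprime_two_right.mpr ⟨m, rfl⟩)
    exact orderOf_eq_one_iff.mp (Nat.eq_one_of_dvd_coprimes h4 h1 h3)
  have hInv : Inv u := by
    refine ⟨?_, by rw [← pow_two]; exact hu2⟩
    intro hc
    rw [hc] at huy
    have h1 : y * y = 1 := by
      have : y = y⁻¹ := by simpa using huy
      nth_rewrite 2 [this]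
      exact mul_inv_cancel y
    exact hy.2.1.not_inv c.h ⟨hy.1, h1⟩
  exact nn_ne_zero c.h hy.2.1 hInv huy (c.Y_nn hy)

theorem Y_ncard (c : C2 G K t s m) : (Y K m).ncard + 1 = (2 * m + 1) ^ 2 := by
  classical
  letI : Fintype G := Fintype.ofFinite G
  obtain ⟨w, hw⟩ := c.exists_w
  have hA := c.ph.count c.hG' c.com hw
  rw [(c.normA hw).2] at hA
  have hK : (H21.conjSet ((K : Set G) \ {1})).ncard = m * ((2 * m + 1) * m) := by
    rw [H21.card_conjSet _ (centralizer ({t} : Set G))]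
    · have h1 : ((K : Set G) \ {1}).ncard = m := by
        rw [Set.ncard_diff_singleton_of_mem (one_mem _), ← Nat.card_coe_set_eq]
        have : Nat.card K = m + 1 := c.h.hk
        change Nat.card K - 1 = m
        omega
      have h2 : (centralizer ({t} : Set G)).index = (2 * m + 1) * m := by
        have h3 := card_mul_index (centralizer ({t} : Set G))
        rw [card_cent c.h, c.hG] at h3
        apply Nat.eq_of_mul_eq_mul_left (show 0 < 2 * (m + 1) by omega)
        rw [h3]; ring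
      rw [h1, h2]
    · rintro g z ⟨hz, hz1⟩ ⟨hg, -⟩
      rw [mem_centralizer_singleton_iff]
      exact c.h.comm_of_coset (c.h.ti hz hz1 hg)
    · rintro g hg z ⟨hz, hz1⟩
      refine ⟨?_, conj_ne_one hz1⟩
      rcases c.h.cent g (mem_centralizer_singleton_iff.mp hg) with h1 | h1
      · exact mul_mem (mul_mem h1 hz) (inv_mem h1)
      · rw [c.h.conj_coset h1 hz]; exact inv_mem hz
  have hcompl : Y K m = (({1} : Set G) ∪ (H21.conjSet ((K : Set G) \ {1}) ∪ {x : G | ¬ Nat.Coprime (orderOf x) m}))ᶜ := by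
    ext y
    simp only [Y, Set.mem_setOf_eq, Set.mem_compl_iff, Set.mem_union, Set.mem_singleton_iff, H21.conjSet, not_or, not_not]
    constructor
    · rintro ⟨h1, h2, h3⟩
      refine ⟨h1, ?_, h3⟩
      rintro ⟨g, z, ⟨hz, hz1⟩, rfl⟩
      have h4 : g⁻¹ * (g * z * g⁻¹) * g⁻¹⁻¹ = z := by group
      have h5 := h2 g⁻¹ (by rw [h4]; exact hz)
      rw [h4] at h5
      exact hz1 h5
    · rintro ⟨h1, h2, h3⟩
      refine ⟨h1, ?_, h3⟩
      intro g hg
      by_contra hc
      exact h2 ⟨g⁻¹, g * y * g⁻¹, ⟨hg, hc⟩, by group⟩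
  have hd1 : Disjoint (H21.conjSet ((K : Set G) \ {1})) {x : G | ¬ Nat.Coprime (orderOf x) m} := by
    rw [Set.disjoint_left]
    rintro y ⟨g, z, ⟨hz, hz1⟩, rfl⟩ hy
    apply hy
    rw [orderOf_conj']
    have h1 := orderOf_dvd_of_mem (show z ∈ K from hz)
    rw [c.h.hk] at h1
    exact Nat.Coprime.coprime_dvd_left h1 co1
  have hd2 : Disjoint ({1} : Set G) (H21.conjSet ((K : Set G) \ {1}) ∪ {x : G | ¬ Nat.Coprime (orderOf x) m}) := by
    rw [Set.disjoint_left]
    rintro y hy1 (⟨g, z, ⟨hz, hz1⟩, hgz⟩ | hy)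
    · rw [Set.mem_singleton_iff] at hy1
      exact conj_ne_one hz1 (hgz.symm.trans hy1)
    · rw [Set.mem_singleton_iff] at hy1
      exact ne_one_of_not_coprime hy hy1
  have h1 := Set.ncard_add_ncard_compl (({1} : Set G) ∪ (H21.conjSet ((K : Set G) \ {1}) ∪ {x : G | ¬ Nat.Coprime (orderOf x) m}))
  rw [← hcompl, Set.ncard_union_eq hd2, Set.ncard_union_eq hd1, Set.ncard_singleton, hK, hA, c.hG] at h1
  have hm := c.hm
  obtain ⟨j, rfl⟩ : ∃ j, m = j + 1 := ⟨m - 1, by omega⟩
  simp only [Nat.add_sub_cancel] at h1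
  nlinarith [h1]

theorem Y_cent (c : C2 G K t s m) {y : G} (hy : y ∈ Y K m) :
    Nat.card (centralizer ({y} : Set G)) = 2 * m + 1 ∧ ∀ x ∈ Y K m, orderOf x = orderOf y := by
  classical
  have hcl : ∀ y : G, (H21.conjSet ({y} : Set G)).ncard = (centralizer ({y} : Set G)).index := by
    intro y
    rw [H21.card_conjSet _ (centralizer ({y} : Set G)), Set.ncard_singleton, one_mul]
    · rintro g z hz hg
      rw [Set.mem_singleton_iff] at hz hg
      subst hz
      rw [mem_centralizer_singleton_iff]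
      exact mul_inv_eq_iff_eq_mul.mp hg
    · rintro g hg z hz
      rw [Set.mem_singleton_iff] at hz ⊢
      subst hz
      exact mul_inv_eq_iff_eq_mul.mpr (mem_centralizer_singleton_iff.mp hg)
  have hinvC : centralizer ({y⁻¹} : Set G) = centralizer ({y} : Set G) := by
    ext g
    rw [mem_centralizer_singleton_iff, mem_centralizer_singleton_iff]
    constructor
    · intro h
      have : Commute g y⁻¹ := h
      exact (Commute.inv_right_iff.mp this).eq
    · intro h
      have : Commute g y := h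
      exact this.inv_right
  have hdis : Disjoint (H21.conjSet ({y} : Set G)) (H21.conjSet ({y⁻¹} : Set G)) := by
    rw [Set.disjoint_left]
    rintro x ⟨g, z, hz, rfl⟩ ⟨g', z', hz', hx⟩
    rw [Set.mem_singleton_iff] at hz hz'
    subst hz hz'
    apply c.Y_not_real hy (g'⁻¹ * g)
    have : g'⁻¹ * g * z * (g'⁻¹ * g)⁻¹ = g'⁻¹ * (g * z * g⁻¹) * g' := by group
    rw [this, hx]; group
  have hsub : H21.conjSet ({y} : Set G) ∪ H21.conjSet ({y⁻¹} : Set G) ⊆ Y K m := by
    rintro x (⟨g, z, hz, rfl⟩ | ⟨g, z, hz, rfl⟩)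
    · rw [Set.mem_singleton_iff] at hz; subst hz
      exact Y_conj hy g
    · rw [Set.mem_singleton_iff] at hz; subst hz
      exact Y_conj (Y_inv hy) g
  have hun : (H21.conjSet ({y} : Set G) ∪ H21.conjSet ({y⁻¹} : Set G)).ncard = 2 * (centralizer ({y} : Set G)).index := by
    rw [Set.ncard_union_eq hdis, hcl, hcl, hinvC]; ring
  have hle := Set.ncard_le_ncard hsub (Set.toFinite _)
  rw [hun] at hle
  have hY := c.Y_ncard
  have hdvd := c.Y_card_dvd hy
  have hcle := Nat.le_of_dvd (by omega) hdvd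
  have hcm := card_mul_index (centralizer ({y} : Set G))
  rw [c.hG] at hcm
  have hm := c.hm
  have hi : (centralizer ({y} : Set G)).index ≤ 2 * (m + 1) * m := by nlinarith
  have hcard : Nat.card (centralizer ({y} : Set G)) = 2 * m + 1 := by
    by_contra hc
    have h1 : Nat.card (centralizer ({y} : Set G)) < 2 * m + 1 := lt_of_le_of_ne hcle hc
    have h2 : Nat.card (centralizer ({y} : Set G)) * (centralizer ({y} : Set G)).index < (2 * m + 1) * (2 * (m + 1) * m) := by
      calc Nat.card (centralizer ({y} : Set G)) * (centralizer ({y} : Set G)).index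
          ≤ Nat.card (centralizer ({y} : Set G)) * (2 * (m + 1) * m) := Nat.mul_le_mul_left _ hi
        _ < (2 * m + 1) * (2 * (m + 1) * m) := Nat.mul_lt_mul_of_pos_right h1 (by positivity)
    omega
  refine ⟨hcard, ?_⟩
  rw [hcard] at hcm
  have hidx := Nat.eq_of_mul_eq_mul_left (by omega) hcm
  have heq : H21.conjSet ({y} : Set G) ∪ H21.conjSet ({y⁻¹} : Set G) = Y K m := by
    apply Set.eq_of_subset_of_ncard_le hsub _ (Set.toFinite _)
    rw [hun, hidx]
    nlinarith
  intro x hx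
  rw [← heq] at hx
  rcases hx with ⟨g, z, hz, rfl⟩ | ⟨g, z, hz, rfl⟩
  · rw [Set.mem_singleton_iff] at hz; subst hz
    rw [orderOf_conj']
  · rw [Set.mem_singleton_iff] at hz; subst hz
    rw [orderOf_conj', orderOf_inv]

/-- everything is `p`-power -/
theorem exists_p (c : C2 G K t s m) : ∃ p n : ℕ, p.Prime ∧ 2 * m + 1 = p ^ n ∧ n ≠ 0 := by
  have hm := c.hm
  obtain ⟨p, hp, hpq⟩ := Nat.exists_prime_and_dvd (show 2 * m + 1 ≠ 1 by omega)
  haveI := Fact.mk hp
  have key : ∀ r : ℕ, r.Prime → r ∣ 2 * m + 1 → ∃ y ∈ Y K m, orderOf y = r := by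
    intro r hr hrq
    haveI := Fact.mk hr
    obtain ⟨y, hy⟩ := exists_prime_orderOf_dvd_card' (G := G) r (by rw [c.hG]; exact Dvd.dvd.mul_right hrq _)
    refine ⟨y, c.mem_Y ?_, hy⟩
    rw [hy, hr.coprime_iff_not_dvd, not_not]; exact hrq
  obtain ⟨y, hyY, hy⟩ := key p hp hpq
  have h1 := Nat.eq_prime_pow_of_unique_prime_dvd (n := 2 * m + 1) (p := p) (by omega) (by
    intro r hr hrq
    obtain ⟨x, hxY, hx⟩ := key r hr hrq
    rw [← hx, ← hy]
    exact (c.Y_cent hyY).2 x hxY)
  refine ⟨p, _, hp, h1, ?_⟩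
  intro hc
  rw [hc, pow_zero] at h1
  omega

end C2

end Cfsg.Agent.H9.BSW
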