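import Cfsg.Agent.H9.BSWJ

set_option autoImplicit false
set_option linter.unusedSectionVars false
set_option linter.style.haveILetI false
set_option linter.unusedVariables false
set_option linter.unusedSimpArgs false
set_option maxHeartbeats 1000000

/-! Brauer–Suzuki–Wall, part K: case II, local analysis. -/

open Cfsg

namespace Cfsg.Agent.H9.BSW

open Subgroup

universe u

variable {G : Type u} [Group G]

namespace C2

variable [Finite G] {K : Subgroup G} {t s : G} {m : ℕ}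

theorem p_mem_Y (c : C2 G K t s m) {p n : ℕ} (hp : p.Prime) (hq : 2 * m + 1 = p ^ n) (hn : n ≠ 0) {d : G}
    (hd1 : d ≠ 1) (hd : ∃ j : ℕ, d ^ p ^ j = 1) : d ∈ Y K m := by
  apply c.mem_Y
  intro hc
  obtain ⟨j, hj⟩ := hd
  have h1 : orderOf d ∣ p ^ j := orderOf_dvd_of_pow_eq_one hj
  obtain ⟨i, -, hi⟩ := (Nat.dvd_prime_pow hp).mp h1
  rw [hi, hq] at hc
  have hi0 : i ≠ 0 := by
    rintro rfl
    exact hd1 (orderOf_eq_one_iff.mp (by rw [hi, pow_zero]))
  exact hp.one_lt.ne' (Nat.eq_one_of_dvd_coprimes hc (dvd_pow_self p hi0) (dvd_pow_self p hn))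

theorem no_inv (c : C2 G K t s m) {p n : ℕ} (hp : p.Prime) (hq : 2 * m + 1 = p ^ n) (hn : n ≠ 0)
    {D : Subgroup G} (hD : D ≠ ⊥) (hDp : IsPGroup p D) {u : G} (hu : u ∈ normalizer (D : Set G)) : ¬ Inv u := by
  intro hI
  have hpel : ∀ y ∈ D, ∃ n : ℕ, y ^ p ^ n = 1 := by
    intro y hy
    obtain ⟨n, hn⟩ := hDp ⟨y, hy⟩
    exact ⟨n, congrArg Subtype.val hn⟩
  obtain ⟨d, hd, hd1⟩ := (bot_or_exists_ne_one D).resolve_left hD
  have hud : u * d * u⁻¹ ∈ D := (mem_normalizer_iff.mp hu d).mp hd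
  have hdY := c.p_mem_Y hp hq hn hd1 (hpel d hd)
  by_cases hw : d⁻¹ * (u * d * u⁻¹) = 1
  · have h1 : u * d * u⁻¹ = d := (inv_mul_eq_one.mp hw).symm
    exact hdY.2.1.no_inv_comm c.h hd1 hI (mul_inv_eq_iff_eq_mul.mp h1)
  · have hwD : d⁻¹ * (u * d * u⁻¹) ∈ D := mul_mem (inv_mem hd) hud
    have hwY := c.p_mem_Y hp hq hn hw (hpel _ hwD)
    have h1 : u * (d⁻¹ * (u * d * u⁻¹)) * u⁻¹ = (d⁻¹ * (u * d * u⁻¹))⁻¹ := by
      have e1 : u * (d⁻¹ * (u * d * u⁻¹)) * u⁻¹ = (u * d⁻¹ * u⁻¹) * ((u * u) * d * (u * u)⁻¹) := by group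
      rw [e1, hI.2]; group
    exact nn_ne_zero c.h hwY.2.1 hI h1 (c.Y_nn hwY)

theorem odd_order (c : C2 G K t s m) {p n : ℕ} (hp : p.Prime) (hq : 2 * m + 1 = p ^ n) (hn : n ≠ 0)
    {D : Subgroup G} (hD : D ≠ ⊥) (hDp : IsPGroup p D) {u : G} (hu : u ∈ normalizer (D : Set G)) :
    ¬ 2 ∣ orderOf u := by
  rintro ⟨j, hj⟩
  have hpos := orderOf_pos u
  have h1 : orderOf (u ^ j) = 2 := by
    rw [orderOf_pow_of_dvd (by omega) ⟨2, by omega⟩, hj, Nat.mul_div_cancel]
    omega
  apply c.no_inv hp hq hn hD hDp (pow_mem hu j)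
  refine ⟨?_, ?_⟩
  · intro e
    rw [e, orderOf_one] at h1
    omega
  · rw [← pow_two, ← h1]; exact pow_orderOf_eq_one _

theorem loc (c : C2 G K t s m) {p n : ℕ} (hp : p.Prime) (hq : 2 * m + 1 = p ^ n) (hn : n ≠ 0)
    {D : Subgroup G} (hD : D ≠ ⊥) (hDp : IsPGroup p D) :
    ∃ T : Subgroup G, IsPGroup p T ∧ ∀ g ∈ normalizer (D : Set G), (∃ n : ℕ, g ^ p ^ n = 1) → g ∈ T := by
  classical
  have hodd := fun {u : G} (hu : u ∈ normalizer (D : Set G)) => c.odd_order hp hq hn hD hDp hu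
  obtain ⟨M, hM, hMmem⟩ := pclosed (X := normalizer (D : Set G)) hp (by
    intro r hr hrp R x hx
    rw [mem_centralizer_iff]
    intro a ha
    haveI := Fact.mk hr
    by_cases ha1 : a = 1
    · rw [ha1]; simp
    have ha1' : (a : G) ≠ 1 := fun e => ha1 (Subtype.ext e)
    apply Subtype.ext
    rw [Subgroup.coe_mul, Subgroup.coe_mul]
    set R' : Subgroup G := (R : Subgroup (normalizer (D : Set G))).map (normalizer (D : Set G)).subtype with hR'
    have hR'p : IsPGroup r R' := R.isPGroup'.map _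
    have haR : (a : G) ∈ R' := mem_map_of_mem _ ha
    have hxa : (x : G) * a * (x : G)⁻¹ ∈ R' := by
      have h1 : x * a * x⁻¹ ∈ (R : Subgroup (normalizer (D : Set G))) := (mem_normalizer_iff.mp hx a).mp ha
      exact mem_map_of_mem _ h1
    -- `r` divides the order of `a`
    have hra : r ∣ orderOf (a : G) := by
      obtain ⟨j, hj⟩ := hR'p ⟨a, haR⟩
      have h1 : (a : G) ^ r ^ j = 1 := congrArg Subtype.val hj
      obtain ⟨i, -, hi⟩ := (Nat.dvd_prime_pow hr).mp (orderOf_dvd_of_pow_eq_one h1)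
      have hi0 : i ≠ 0 := by
        rintro rfl
        exact ha1' (orderOf_eq_one_iff.mp (by rw [hi, pow_zero]))
      rw [hi]; exact dvd_pow_self r hi0
    have hr2 : r ≠ 2 := by
      rintro rfl
      exact hodd a.2 hra
    have hrG : r ∣ (2 * m + 1) * (2 * (m + 1) * m) := by
      rw [← c.hG]; exact hra.trans (orderOf_dvd_natCard _)
    have hrq : ¬ r ∣ 2 * m + 1 := by
      rw [hq]
      intro h1
      exact hrp ((Nat.prime_dvd_prime_iff_eq hr hp).mp (hr.dvd_of_dvd_pow h1))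
    have h2 : r ∣ m + 1 ∨ r ∣ m := by
      rcases (Nat.Prime.dvd_mul hr).mp hrG with h3 | h3
      · exact absurd h3 hrq
      · rcases (Nat.Prime.dvd_mul hr).mp h3 with h4 | h4
        · rcases (Nat.Prime.dvd_mul hr).mp h4 with h5 | h5
          · exact absurd ((Nat.prime_dvd_prime_iff_eq hr Nat.prime_two).mp h5) hr2
          · exact Or.inl h5
        · exact Or.inr h4
    rcases h2 with h2 | h2
    · -- into `K`
      have hidx : ¬ r ∣ K.index := by
        intro h4
        have h5 := card_mul_index K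
        rw [c.h.hk, c.hG] at h5
        have h6 : K.index = (2 * m + 1) * (2 * m) := by
          apply Nat.eq_of_mul_eq_mul_left (show 0 < m + 1 by omega)
          rw [h5]; ring
        rw [h6] at h4
        rcases (Nat.Prime.dvd_mul hr).mp h4 with h7 | h7
        · exact hrq h7
        · rcases (Nat.Prime.dvd_mul hr).mp h7 with h8 | h8
          · exact absurd ((Nat.prime_dvd_prime_iff_eq hr Nat.prime_two).mp h8) hr2
          · exact hr.one_lt.ne' (Nat.eq_one_of_dvd_coprimes co1 h2 h8)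
      obtain ⟨g, hg⟩ := exists_conj_le hr hR'p hidx
      have h3 : g * x * g⁻¹ * (g * a * g⁻¹) * (g * x * g⁻¹)⁻¹ ∈ K := by
        have e1 : g * x * g⁻¹ * (g * a * g⁻¹) * (g * x * g⁻¹)⁻¹ = g * (x * a * (x : G)⁻¹) * g⁻¹ := by group
        rw [e1]; exact hg _ hxa
      rcases c.h.ti (hg _ haR) (conj_ne_one ha1') h3 with h4 | h4
      · have h5 := c.h.comm _ (hg _ haR) _ h4
        have e1 : g * a * g⁻¹ * (g * x * g⁻¹) = g * (a * x) * g⁻¹ := by group
        have e2 : g * x * g⁻¹ * (g * a * g⁻¹) = g * (x * a) * g⁻¹ := by group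
        rw [e1, e2] at h5
        exact mul_left_cancel (mul_right_cancel h5)
      · exfalso
        have h5 : Inv (g * (x : G) * g⁻¹) := by
          refine ⟨?_, c.h.sq_coset h4⟩
          intro e
          apply c.h.coset_ne h4
          rw [e]; exact one_mem _
        exact c.no_inv hp hq hn hD hDp x.2 (inv_conj'.mp h5)
    · -- into `A`
      obtain ⟨w, hw⟩ := c.exists_w
      have hA := c.ph.hallTI c.hG' c.com hw
      have hcA := (c.ph w hw).1
      have hidx : ¬ r ∣ (centralizer ({w} : Set G)).index := by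
        intro h4
        have h5 := hA.cop
        rw [hcA] at h5
        exact hr.one_lt.ne' (Nat.eq_one_of_dvd_coprimes h5 h2 h4)
      obtain ⟨g, hg⟩ := exists_conj_le hr hR'p hidx
      have h3 : g * x * g⁻¹ * (g * a * g⁻¹) * (g * x * g⁻¹)⁻¹ ∈ centralizer ({w} : Set G) := by
        have e1 : g * x * g⁻¹ * (g * a * g⁻¹) * (g * x * g⁻¹)⁻¹ = g * (x * a * (x : G)⁻¹) * g⁻¹ := by group
        rw [e1]; exact hg _ hxa
      have h4 := hA.ti (hg _ haR) (conj_ne_one ha1') h3
      have h5 : (g * (x : G) * g⁻¹) * (g * (x : G) * g⁻¹) ∈ centralizer ({w} : Set G) := by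
        have h6 : ((centralizer ({w} : Set G)).subgroupOf (normalizer (centralizer ({w} : Set G) : Set G))).index = 2 :=
          (c.normA hw).1
        have h7 := Subgroup.mul_self_mem_of_index_two h6 ⟨_, h4⟩
        exact mem_subgroupOf.mp h7
      have h6 : g * (x : G) * g⁻¹ ∈ centralizer ({w} : Set G) := by
        have h7 := hodd x.2
        obtain ⟨j, hj⟩ : ∃ j, orderOf (x : G) + 1 = 2 * j := ⟨(orderOf (x : G) + 1) / 2, by omega⟩
        have h8 : g * (x : G) * g⁻¹ = ((g * (x : G) * g⁻¹) * (g * (x : G) * g⁻¹)) ^ j := by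
          rw [← pow_two, ← pow_mul, ← hj, pow_succ]
          have h9 : (g * (x : G) * g⁻¹) ^ orderOf (x : G) = 1 := by
            have h10 : orderOf (g * (x : G) * g⁻¹) = orderOf (x : G) := orderOf_conj'
            rw [← h10]; exact pow_orderOf_eq_one _
          rw [h9, one_mul]
        rw [h8]
        exact pow_mem h5 j
      have h7 := hA.comm _ (hg _ haR) _ h6
      have e1 : g * a * g⁻¹ * (g * x * g⁻¹) = g * (a * x) * g⁻¹ := by group
      have e2 : g * x * g⁻¹ * (g * a * g⁻¹) = g * (x * a) * g⁻¹ := by group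
      rw [e1, e2] at h7
      exact mul_left_cancel (mul_right_cancel h7))
  refine ⟨M.map (normalizer (D : Set G)).subtype, hM.map _, ?_⟩
  rintro g hg ⟨j, hj⟩
  exact mem_map_of_mem _ (hMmem ⟨g, hg⟩ ⟨j, Subtype.ext hj⟩)

theorem hall (c : C2 G K t s m) : ∃ A : Subgroup G, HallTI A ∧ Nat.card A = 2 * m + 1 := by
  classical
  obtain ⟨p, n, hp, hq, hn⟩ := c.exists_p
  haveI := Fact.mk hp
  have hm := c.hm
  obtain ⟨P⟩ : Nonempty (Sylow p G) := inferInstance
  have hpP : p ∣ Nat.card P := by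
    rw [P.card_eq_multiplicity]
    apply dvd_pow_self
    have h1 : p ∣ Nat.card G := by rw [c.hG, hq]; exact Dvd.dvd.mul_right (dvd_pow_self p hn) _
    exact (Nat.Prime.factorization_pos_of_dvd hp Nat.card_pos.ne' h1).ne'
  haveI : Nontrivial P := by
    rw [← Finite.one_lt_card_iff_nontrivial]
    exact lt_of_lt_of_le hp.one_lt (Nat.le_of_dvd Nat.card_pos hpP)
  haveI := P.isPGroup'.center_nontrivial
  obtain ⟨z, hz1⟩ := _root_.exists_ne (1 : center (P : Subgroup G))
  have hz1' : ((z : (P : Subgroup G)) : G) ≠ 1 := fun e => hz1 (Subtype.ext (Subtype.ext e))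
  have hpel : ∀ y ∈ (P : Subgroup G), ∃ n : ℕ, y ^ p ^ n = 1 := by
    intro y hy
    obtain ⟨n, hn⟩ := P.isPGroup' ⟨y, hy⟩
    exact ⟨n, congrArg Subtype.val hn⟩
  have hcard : ∀ y ∈ (P : Subgroup G), y ≠ 1 → Nat.card (centralizer ({y} : Set G)) = p ^ n := by
    intro y hy hy1
    rw [← hq]
    exact (c.Y_cent (c.p_mem_Y hp hq hn hy1 (hpel y hy))).1
  have hle : (P : Subgroup G) ≤ centralizer ({((z : (P : Subgroup G)) : G)} : Set G) := by
    intro g hg
    rw [mem_centralizer_singleton_iff]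
    have h1 := mem_center_iff.mp z.2 ⟨g, hg⟩
    exact congrArg Subtype.val h1
  have hPz : centralizer ({((z : (P : Subgroup G)) : G)} : Set G) = P :=
    P.is_maximal' (IsPGroup.of_card (hcard _ z.1.2 hz1')) hle
  have hPcard : Nat.card P = p ^ n := by
    rw [← hcard _ z.1.2 hz1', hPz]
  have hP : ∀ y ∈ (P : Subgroup G), y ≠ 1 → centralizer ({y} : Set G) = P := by
    intro y hy hy1
    obtain ⟨S, hS⟩ := (IsPGroup.of_card (hcard y hy hy1)).exists_le_sylow
    have hSP : S = P := by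
      apply sylow_ti hp (fun D hD hDp => c.loc hp hq hn hD hDp)
      intro hc
      have h1 : y ∈ ((S : Subgroup G) ⊓ P : Subgroup G) := ⟨hS (mem_centralizer_singleton_iff.mpr rfl), hy⟩
      rw [hc] at h1
      exact hy1 (mem_bot.mp h1)
    subst hSP
    apply Subgroup.eq_of_le_of_card_ge hS
    rw [hcard y hy hy1, hPcard]
  refine ⟨P, ⟨?_, ?_, ?_, ?_⟩, by rw [hPcard, hq]⟩
  · intro hc
    apply hz1'
    have h1 : ((z : (P : Subgroup G)) : G) ∈ (P : Subgroup G) := z.1.2
    exact mem_bot.mp (hc.le h1)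
  · have h1 := card_mul_index (P : Subgroup G)
    rw [c.hG, hPcard, ← hq] at h1
    have h2 := Nat.eq_of_mul_eq_mul_left (by omega) h1
    rw [h2, hPcard, ← hq]
    exact coq
  · intro y hy hy1 g hg
    rw [← hP y hy hy1, mem_centralizer_singleton_iff]
    exact hg
  · intro a ha b hb
    by_cases hb1 : b = 1
    · rw [hb1]; simp
    · rw [← hP b hb hb1, mem_centralizer_singleton_iff] at ha
      exact ha

end C2

end Cfsg.Agent.H9.BSW
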