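import Cfsg.Agent.H9.BSWK
import Cfsg.Agent.H20.ZPsl5

set_option autoImplicit false
set_option linter.unusedSectionVars false
set_option linter.style.haveILetI false
set_option linter.unusedVariables false
set_option linter.unusedSimpArgs false
set_option maxHeartbeats 1000000

/-! Brauer–Suzuki–Wall, part L: the Zassenhaus action and the identification. -/

open Cfsg

namespace Cfsg.Agent.H9.BSW

open Subgroup

universe u

variable {G : Type u} [Group G]

namespace HallTI

variable {A : Subgroup G} [Finite G]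

/-- the base point -/
def pt (A : Subgroup G) : G ⧸ normalizer (A : Set G) := QuotientGroup.mk 1

theorem smul_pt {g : G} : g • pt A = QuotientGroup.mk g := by
  change (QuotientGroup.mk (g * 1) : G ⧸ normalizer (A : Set G)) = _
  rw [mul_one]

theorem smul_pt_eq {g : G} : g • pt A = pt A ↔ g ∈ normalizer (A : Set G) := by
  rw [smul_pt, pt, eq_comm, QuotientGroup.eq, inv_one, one_mul]

theorem exists_pt (x : G ⧸ normalizer (A : Set G)) : ∃ g : G, g • pt A = x := by
  obtain ⟨g, rfl⟩ := QuotientGroup.mk_surjective x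
  exact ⟨g, smul_pt⟩

/-- semiregularity of `A` -/
theorem semireg (hA : HallTI A) {z : G} (hz : z ∈ A) {x : G ⧸ normalizer (A : Set G)} (hx : x ≠ pt A)
    (hzx : z • x = x) : z = 1 := by
  by_contra hz1
  obtain ⟨g, rfl⟩ := exists_pt x
  apply hx
  rw [smul_pt_eq]
  apply hA.fix hz hz1
  rw [← smul_pt_eq, mul_smul, mul_smul, hzx, inv_smul_smul]

variable {q : ℕ}

/-- regularity of `A` -/
theorem reg (hA : HallTI A) (hq : Nat.card A = q) (hi : (normalizer (A : Set G)).index = q + 1)
    {x y : G ⧸ normalizer (A : Set G)} (hx : x ≠ pt A) (hy : y ≠ pt A) : ∃ z ∈ A, z • x = y := by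
  classical
  have h1 : ∀ z : A, (z : G) • x ≠ pt A := by
    intro z hc
    apply hx
    rw [← inv_smul_smul (z : G) x, hc, smul_pt_eq]
    exact inv_mem (le_normalizer z.2)
  let f : A → {x : G ⧸ normalizer (A : Set G) // x ≠ pt A} := fun z => ⟨(z : G) • x, h1 z⟩
  have hf : Function.Injective f := by
    intro z z' hzz
    have h2 : (z : G) • x = (z' : G) • x := congrArg Subtype.val hzz
    have h3 : ((z' : G)⁻¹ * z) • x = x := by rw [mul_smul, h2, inv_smul_smul]
    have h4 := hA.semireg (mul_mem (inv_mem z'.2) z.2) hx h3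
    exact Subtype.ext (inv_mul_eq_one.mp h4).symm
  have hcard : Nat.card {x : G ⧸ normalizer (A : Set G) // x ≠ pt A} = q := by
    have h3 : Nat.card (G ⧸ normalizer (A : Set G)) = Nat.card {x : G ⧸ normalizer (A : Set G) // x = pt A} +
        Nat.card {x : G ⧸ normalizer (A : Set G) // x ≠ pt A} := by
      rw [← Nat.card_sum]
      exact Nat.card_congr (Equiv.sumCompl (fun x : G ⧸ normalizer (A : Set G) => x = pt A)).symm
    have h4 : Nat.card {x : G ⧸ normalizer (A : Set G) // x = pt A} = 1 := by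
      haveI : Unique {x : G ⧸ normalizer (A : Set G) // x = pt A} := ⟨⟨⟨_, rfl⟩⟩, fun b => Subtype.ext b.2⟩
      exact Nat.card_unique
    rw [Subgroup.index] at hi
    omega
  have hbij : Function.Bijective f := by
    rw [Nat.bijective_iff_injective_and_card]
    exact ⟨hf, by rw [hq, hcard]⟩
  obtain ⟨z, hz⟩ := hbij.2 ⟨y, hy⟩
  exact ⟨z, z.2, congrArg Subtype.val hz⟩

theorem two_trans (hA : HallTI A) (hq : Nat.card A = q) (hi : (normalizer (A : Set G)).index = q + 1) :
    MulAction.IsMultiplyPretransitive G (G ⧸ normalizer (A : Set G)) 2 := by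
  rw [MulAction.is_two_pretransitive_iff]
  intro a b c d hab hcd
  obtain ⟨g, rfl⟩ := exists_pt a
  obtain ⟨g', rfl⟩ := exists_pt c
  have h1 : g⁻¹ • b ≠ pt A := by
    intro hc
    apply hab
    rw [← hc, smul_inv_smul]
  have h2 : g'⁻¹ • d ≠ pt A := by
    intro hc
    apply hcd
    rw [← hc, smul_inv_smul]
  obtain ⟨z, hz, hz2⟩ := hA.reg hq hi h1 h2
  refine ⟨g' * z * g⁻¹, ?_, ?_⟩
  · rw [mul_smul, mul_smul, inv_smul_smul, smul_pt_eq.mpr (le_normalizer hz)]
  · rw [mul_smul, mul_smul, hz2, smul_inv_smul]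

theorem three_fix (hA : HallTI A) (hq : Nat.card A = q) (hi : (normalizer (A : Set G)).index = q + 1)
    {g : G} {a b c : G ⧸ normalizer (A : Set G)} (hab : a ≠ b) (hbc : b ≠ c) (hac : a ≠ c)
    (ha : g • a = a) (hb : g • b = b) (hc : g • c = c) : g = 1 := by
  obtain ⟨x, rfl⟩ := exists_pt a
  set g' := x⁻¹ * g * x with hg'
  have h1 : g' ∈ normalizer (A : Set G) := by
    rw [← smul_pt_eq, hg', mul_smul, mul_smul, ha, inv_smul_smul]
  have hb1 : x⁻¹ • b ≠ pt A := fun e => hab (by rw [← e, smul_inv_smul])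
  have hc1 : x⁻¹ • c ≠ pt A := fun e => hac (by rw [← e, smul_inv_smul])
  have hbf : g' • (x⁻¹ • b) = x⁻¹ • b := by rw [hg', mul_smul, mul_smul, smul_inv_smul, hb]
  have hcf : g' • (x⁻¹ • c) = x⁻¹ • c := by rw [hg', mul_smul, mul_smul, smul_inv_smul, hc]
  obtain ⟨z, hz, hz2⟩ := hA.reg hq hi hb1 hc1
  have hz1 : z ≠ 1 := by
    rintro rfl
    rw [one_smul] at hz2
    exact hbc (smul_left_cancel _ hz2)
  have h2 : z⁻¹ * (g' * z * g'⁻¹) ∈ A := mul_mem (inv_mem hz) ((mem_normalizer_iff.mp h1 z).mp hz)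
  have hbf' : g'⁻¹ • (x⁻¹ • b) = x⁻¹ • b := inv_smul_eq_iff.mpr hbf.symm
  have h3 : (z⁻¹ * (g' * z * g'⁻¹)) • (x⁻¹ • b) = x⁻¹ • b := by
    rw [mul_smul, mul_smul, mul_smul, hbf', hz2, hcf, ← hz2, inv_smul_smul]
  have h4 := hA.semireg h2 hb1 h3
  have h5 : g' * z = z * g' := by
    have h6 : g' * z * g'⁻¹ = z := (inv_mul_eq_one.mp h4).symm
    exact mul_inv_eq_iff_eq_mul.mp h6
  have h6 := hA.cen z hz hz1 g' h5
  have h7 := hA.semireg h6 hb1 hbf
  rw [hg'] at h7
  have h8 : g = x * (x⁻¹ * g * x) * x⁻¹ := by group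
  rw [h8, h7]; group

theorem card_stab (hA : HallTI A) (hq : Nat.card A = q) (hi : (normalizer (A : Set G)).index = q + 1)
    {f : ℕ} (hf : A.relIndex (normalizer (A : Set G)) = f) {b : G ⧸ normalizer (A : Set G)} (hb : pt A ≠ b) :
    Nat.card ↥(MulAction.stabilizer G (pt A) ⊓ MulAction.stabilizer G b) = f := by
  classical
  set H := MulAction.stabilizer G (pt A) ⊓ MulAction.stabilizer G b with hH
  have h1 : Nat.card (normalizer (A : Set G)) = Nat.card A * Nat.card H := by
    rw [← Nat.card_prod]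
    symm
    have hmem : ∀ x : A × H, (x.1 : G) * x.2 ∈ normalizer (A : Set G) := by
      intro x
      apply mul_mem (le_normalizer x.1.2)
      rw [← smul_pt_eq]
      exact x.2.2.1
    apply Nat.card_congr (Equiv.ofBijective (fun x : A × H => (⟨(x.1 : G) * x.2, hmem x⟩ : normalizer (A : Set G))) ?_)
    constructor
    · rintro ⟨x, y⟩ ⟨x', y'⟩ hxy
      have h2 : (x : G) * y = (x' : G) * y' := congrArg Subtype.val hxy
      have h3 : (x : G) • b = (x' : G) • b := by
        have e1 : ((x : G) * y) • b = (x : G) • b := by rw [mul_smul]; congr 1; exact y.2.2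
        have e2 : ((x' : G) * y') • b = (x' : G) • b := by rw [mul_smul]; congr 1; exact y'.2.2
        rw [← e1, ← e2, h2]
      have h4 : ((x' : G)⁻¹ * x) • b = b := by rw [mul_smul, h3, inv_smul_smul]
      have h5 := hA.semireg (mul_mem (inv_mem x'.2) x.2) hb.symm h4
      have h6 : x = x' := Subtype.ext (inv_mul_eq_one.mp h5).symm
      subst h6
      exact Prod.ext rfl (Subtype.ext (mul_left_cancel h2))
    · rintro ⟨n, hn⟩
      have h2 : n • b ≠ pt A := by
        intro e
        apply hb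
        have h3 : n • b = n • pt A := e.trans (smul_pt_eq.mpr hn).symm
        exact (smul_left_cancel _ h3).symm
      obtain ⟨z, hz, hz2⟩ := hA.reg hq hi hb.symm h2
      refine ⟨⟨⟨z, hz⟩, ⟨z⁻¹ * n, ?_, ?_⟩⟩, ?_⟩
      · change (z⁻¹ * n) • pt A = pt A
        rw [smul_pt_eq]
        exact mul_mem (inv_mem (le_normalizer hz)) hn
      · change (z⁻¹ * n) • b = b
        rw [mul_smul, ← hz2, inv_smul_smul]
      · apply Subtype.ext
        change z * (z⁻¹ * n) = n
        rw [mul_inv_cancel_left]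
  have h2 : Nat.card A * f = Nat.card (normalizer (A : Set G)) := by
    rw [← hf, Subgroup.relIndex]
    have h3 := card_mul_index (A.subgroupOf (normalizer (A : Set G)))
    rw [← h3]
    congr 1
    exact Nat.card_congr (subgroupOfEquivOfLe le_normalizer).symm.toEquiv
  rw [h1] at h2
  exact (Nat.eq_of_mul_eq_mul_left Nat.card_pos h2).symm

end HallTI

open HallTI

/-- no regular normal subgroup -/
theorem no_regular {Ω : Type u} [MulAction G Ω] [Finite G] {K : Subgroup G} {t s : G} {k : ℕ} (h : Setup G K t s k)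
    (hk : 4 ≤ k) {q f : ℕ} (hG : 2 * Nat.card G + q = q * (q * q)) (hqf : q = 2 * f + 1)
    (hf : f = k ∨ f = k - 1) (hqk : 2 * k ≤ q + 1) (hΩ : Nat.card Ω = q + 1) :
    ∀ N : Subgroup G, N.Normal → MulAction.IsPretransitive N Ω → ∃ a : Ω, MulAction.stabilizer N a ≠ ⊥ := by
  classical
  intro N hN htr
  by_contra hcon
  push Not at hcon
  have hne : Nonempty Ω := by
    by_contra hc
    rw [not_nonempty_iff] at hc
    rw [Nat.card_of_isEmpty] at hΩ
    omega
  obtain ⟨a⟩ := hne
  have hcard : Nat.card N = q + 1 := by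
    rw [← hΩ]
    apply Nat.card_congr (Equiv.ofBijective (fun n : N => n • a) ?_)
    constructor
    · intro n n' hnn
      have h7 : n'⁻¹ * n ∈ MulAction.stabilizer N a := by
        rw [MulAction.mem_stabilizer_iff, mul_smul]
        have : n • a = n' • a := hnn
        rw [this, inv_smul_smul]
      rw [hcon, mem_bot] at h7
      exact (inv_mul_eq_one.mp h7).symm
    · intro x
      exact MulAction.exists_smul_eq N a x
  obtain ⟨u, hu⟩ := exists_prime_orderOf_dvd_card' (G := N) 2 (by rw [hcard, hqf]; exact ⟨f + 1, by ring⟩)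
  have huo : orderOf (u : G) = 2 := by rw [Subgroup.orderOf_coe]; exact hu
  have hu1 : (u : G) ≠ 1 := by
    intro e; rw [e, orderOf_one] at huo; omega
  have hu2 : (u : G) * u = 1 := by rw [← pow_two, ← huo]; exact pow_orderOf_eq_one _
  obtain ⟨g, hg⟩ := h.one _ hu1 hu2
  have htN : t ∈ N := by
    have h7 : g⁻¹ * u * g⁻¹⁻¹ ∈ N := hN.conj_mem _ u.2 g⁻¹
    rw [← hg] at h7
    have e : g⁻¹ * (g * t * g⁻¹) * g⁻¹⁻¹ = t := by group
    rwa [e] at h7
  have hsub : H21.conjSet ({t} : Set G) ⊆ (N : Set G) := by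
    rintro x ⟨g, z, hz, rfl⟩
    rw [Set.mem_singleton_iff] at hz; subst hz
    exact hN.conj_mem _ htN g
  have h7 := Set.ncard_le_ncard hsub (Set.toFinite _)
  have h8 : (N : Set G).ncard = q + 1 := by
    rw [← Nat.card_coe_set_eq]; exact hcard
  rw [h8, H21.card_conjSet _ (centralizer ({t} : Set G)), Set.ncard_singleton, one_mul] at h7
  · have h9 := card_mul_index (centralizer ({t} : Set G))
    rw [card_cent h] at h9
    have h10 : 2 * (2 * k * (centralizer ({t} : Set G)).index) + q ≤ 2 * (2 * k * (q + 1)) + q :=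
      Nat.add_le_add_right (Nat.mul_le_mul_left _ (Nat.mul_le_mul_left _ h7)) _
    rw [h9, hG] at h10
    have h11 : 8 ≤ q + 1 := by omega
    -- `q³ ≤ 4k(q+1) + q ≤ 2 (q+1)² + q`
    have h12 : 2 * (2 * k * (q + 1)) + q ≤ 2 * ((q + 1) * (q + 1)) + q := by
      have := Nat.mul_le_mul_right (q + 1) hqk
      omega
    have h13 : q * (q * q) ≤ 2 * ((q + 1) * (q + 1)) + q := h10.trans h12
    have h14 : 7 ≤ q := by omega
    nlinarith [Nat.mul_le_mul_left q (Nat.mul_le_mul_left q h14)]
  · rintro g z hz hg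
    rw [Set.mem_singleton_iff] at hz hg
    subst hz
    rw [mem_centralizer_singleton_iff]
    exact mul_inv_eq_iff_eq_mul.mp hg
  · rintro g hg z hz
    rw [Set.mem_singleton_iff] at hz ⊢
    subst hz
    exact mul_inv_eq_iff_eq_mul.mpr (mem_centralizer_singleton_iff.mp hg)

/-- the Zassenhaus property -/
theorem zass [Finite G] {K : Subgroup G} {t s : G} {k : ℕ} (h : Setup G K t s k) (hk : 4 ≤ k) {A : Subgroup G}
    (hA : HallTI A) {q f : ℕ} (hq : Nat.card A = q) (hG : 2 * Nat.card G + q = q * (q * q)) (hqf : q = 2 * f + 1)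
    (hf : f = k ∨ f = k - 1) (hqk : 2 * k ≤ q + 1) :
    IsZassenhausGroup G (G ⧸ normalizer (A : Set G)) ∧ (normalizer (A : Set G)).index = q + 1 ∧
      A.relIndex (normalizer (A : Set G)) = f := by
  classical
  have h1 := hA.card_eq
  rw [hq] at h1
  have h2 : 2 * (A.relIndex (normalizer (A : Set G)) * (normalizer (A : Set G)).index) + 1 = q * q := by
    apply Nat.eq_of_mul_eq_mul_left (show 0 < q by omega)
    rw [← hG, h1]; ring
  have h3 := hA.relIndex_le
  have h4 := hA.index_dvd
  rw [hq] at h3 h4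
  obtain ⟨h5, h6⟩ := arith1 (by omega) (Nat.pos_of_ne_zero index_ne_zero_of_finite) h4 h3 h2
  have hfe : A.relIndex (normalizer (A : Set G)) = f := by omega
  refine ⟨⟨?_, hA.two_trans hq h6, ?_, ?_, ?_⟩, h6, hfe⟩
  · constructor
    intro g g' hgg
    have hfix : ∀ x : G ⧸ normalizer (A : Set G), (g'⁻¹ * g) • x = x := by
      intro x
      rw [mul_smul, hgg x, inv_smul_smul]
    -- three points
    have h7 : 2 < Nat.card (G ⧸ normalizer (A : Set G)) := by
      rw [← Subgroup.index, h6]; omega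
    letI : Fintype (G ⧸ normalizer (A : Set G)) := Fintype.ofFinite _
    rw [Nat.card_eq_fintype_card, Fintype.two_lt_card_iff] at h7
    obtain ⟨a, b, c, hab, hac, hbc⟩ := h7
    have h8 := hA.three_fix hq h6 hab hbc hac (hfix a) (hfix b) (hfix c)
    exact (inv_mul_eq_one.mp h8).symm
  · intro g a b c hab hbc hac ha hb hc
    exact hA.three_fix hq h6 hab hbc hac ha hb hc
  · have h7 : 1 < Nat.card (G ⧸ normalizer (A : Set G)) := by
      rw [← Subgroup.index, h6]; omega
    haveI := Finite.one_lt_card_iff_nontrivial.mp h7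
    obtain ⟨b, hb⟩ := _root_.exists_ne (pt A)
    have h8 := hA.card_stab hq h6 hfe (Ne.symm hb)
    have h9 : 1 < Nat.card ↥(MulAction.stabilizer G (pt A) ⊓ MulAction.stabilizer G b) := by
      rw [h8]; omega
    haveI := Finite.one_lt_card_iff_nontrivial.mp h9
    obtain ⟨z, hz⟩ := _root_.exists_ne (1 : ↥(MulAction.stabilizer G (pt A) ⊓ MulAction.stabilizer G b))
    exact ⟨z, fun e => hz (Subtype.ext e), pt A, b, Ne.symm hb, z.2.1, z.2.2⟩
  · exact no_regular h hk hG hqf hf hqk (by rw [← Subgroup.index]; exact h6)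

end Cfsg.Agent.H9.BSW
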