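import Cfsg.Agent.H9.BSWL

set_option autoImplicit false
set_option linter.unusedSectionVars false
set_option linter.style.haveILetI false
set_option linter.unusedVariables false
set_option linter.unusedSimpArgs false
set_option maxHeartbeats 1000000

/-! Brauer–Suzuki–Wall, part M: the theorem. -/

open Cfsg

namespace Cfsg.Agent.H9.BSW

open Subgroup HallTI

universe u

variable {G : Type u} [Group G]

theorem bsw1 [Finite G] {K : Subgroup G} {t s : G} {k : ℕ} (h : Setup G K t s k) (hk : 4 ≤ k)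
    (hG : Nat.card G = 2 * k * (2 * k + 1) * (k + 1))
    (hnn : ∀ y : G, ¬ Nat.Coprime (orderOf y) (2 * k + 1) → nn y = 2 * k + 1) :
    ∃ (F : Type) (_ : Field F) (_ : Fintype F), ringChar F ≠ 2 ∧ Fintype.card F = 2 * k + 1 ∧
      Nonempty (G ≃* Matrix.ProjectiveSpecialLinearGroup (Fin 2) F) := by
  letI : Fintype G := Fintype.ofFinite G
  obtain ⟨A, hA, hq⟩ := case1 h hG hnn
  obtain ⟨hZ, hi, hf⟩ := zass h hk hA (q := 2 * k + 1) (f := k) hq (by rw [hG]; ring) rfl (Or.inl rfl) (by omega)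
  have hcard : Nat.card (G ⧸ normalizer (A : Set G)) = 2 * k + 1 + 1 := by rw [← Subgroup.index]; exact hi
  have h7 : 1 < Nat.card (G ⧸ normalizer (A : Set G)) := by rw [hcard]; omega
  haveI := Finite.one_lt_card_iff_nontrivial.mp h7
  obtain ⟨b, hb⟩ := _root_.exists_ne (pt A)
  have hst := hA.card_stab hq hi hf (Ne.symm hb)
  obtain ⟨F, iF, iFin, h1, h2, h3⟩ := H20.Zass.psl_of_even hZ (Ne.symm hb)
    (by rw [hst]; exact even_iff_two_dvd.mpr h.k_even) (by rw [hst, hcard])
  exact ⟨F, iF, iFin, h1, by omega, h3⟩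

theorem bsw2 [Finite G] {K : Subgroup G} {t s : G} {m : ℕ} (c : C2 G K t s m) :
    ∃ (F : Type) (_ : Field F) (_ : Fintype F), ringChar F ≠ 2 ∧ Fintype.card F = 2 * m + 1 ∧
      Nonempty (G ≃* Matrix.ProjectiveSpecialLinearGroup (Fin 2) F) := by
  letI : Fintype G := Fintype.ofFinite G
  have hm := c.hm
  have hodd := c.odd_m
  obtain ⟨A, hA, hq⟩ := c.hall
  obtain ⟨hZ, hi, hf⟩ := zass c.h (by omega) hA (q := 2 * m + 1) (f := m) hq (by rw [c.hG]; ring) rfl
    (Or.inr (by omega)) (by omega)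
  have hcard : Nat.card (G ⧸ normalizer (A : Set G)) = 2 * m + 1 + 1 := by rw [← Subgroup.index]; exact hi
  have h7 : 1 < Nat.card (G ⧸ normalizer (A : Set G)) := by rw [hcard]; omega
  haveI := Finite.one_lt_card_iff_nontrivial.mp h7
  obtain ⟨b, hb⟩ := _root_.exists_ne (pt A)
  have hst := hA.card_stab hq hi hf (Ne.symm hb)
  set H := MulAction.stabilizer G (pt A) ⊓ MulAction.stabilizer G b with hH
  -- a non-identity element of the two point stabilizer
  haveI : Nontrivial H := Finite.one_lt_card_iff_nontrivial.mp (by rw [hst]; omega)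
  obtain ⟨w, hw⟩ := _root_.exists_ne (1 : H)
  have hw1 : (w : G) ≠ 1 := fun e => hw (Subtype.ext e)
  have hwm : ¬ Nat.Coprime (orderOf (w : G)) m := by
    intro hc
    have h1 := orderOf_dvd_of_mem w.2
    rw [hst] at h1
    exact hw1 (orderOf_eq_one_iff.mp (Nat.Coprime.eq_one_of_dvd hc h1))
  have hreal := (off_of_not_coprime c.h C2.co1 hwm).real c.h hw1 (by rw [c.h1 _ hwm]; omega)
  rw [c.h1 _ hwm] at hreal
  obtain ⟨hCm, hCcomm, u, huI, huinv⟩ := hreal
  -- elements commuting or inverting preserve the pair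
  have hpair : ∀ x : G, x * w * x⁻¹ ∈ H → (x • pt A = pt A ∨ x • pt A = b) ∧ (x • b = pt A ∨ x • b = b) := by
    have key : ∀ x : G, ∀ y : G ⧸ normalizer (A : Set G), x * w * x⁻¹ ∈ H → (y = pt A ∨ y = b) →
        (x⁻¹ • y = pt A ∨ x⁻¹ • y = b) := by
      intro x y hx hy
      by_contra hc
      push Not at hc
      have h1 : (w : G) • (x⁻¹ • y) = x⁻¹ • y := by
        have h2 : (x * w * x⁻¹) • y = y := by
          rcases hy with rfl | rfl
          · exact hx.1
          · exact hx.2
        rw [mul_smul, mul_smul] at h2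
        exact eq_inv_smul_iff.mpr h2
      exact hw1 (hA.three_fix hq hi (Ne.symm hb) hc.2.symm hc.1.symm w.2.1 w.2.2 h1)
    intro x hx
    have hp := key x (pt A) hx (Or.inl rfl)
    have hb' := key x b hx (Or.inr rfl)
    have e1 : ∀ y z : G ⧸ normalizer (A : Set G), x⁻¹ • y = z → x • z = y := by
      intro y z h; rw [← h, smul_inv_smul]
    rcases hp with hp | hp
    · rcases hb' with hb' | hb'
      · exfalso
        exact hb (smul_left_cancel _ (hb'.trans hp.symm))
      · exact ⟨Or.inl (e1 _ _ hp), Or.inr (e1 _ _ hb')⟩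
    · rcases hb' with hb' | hb'
      · exact ⟨Or.inr (e1 _ _ hb'), Or.inl (e1 _ _ hp)⟩
      · exfalso
        exact hb (smul_left_cancel _ (hb'.trans hp.symm))
  -- the centralizer is the stabilizer
  have hCH : centralizer ({(w : G)} : Set G) ≤ H := by
    intro x hx
    have hxw := mem_centralizer_singleton_iff.mp hx
    have h1 : x * w * x⁻¹ ∈ H := by
      rw [hxw, mul_inv_cancel_right]; exact w.2
    have h2 := hpair x h1
    have hxodd : orderOf x ∣ m := by
      have := orderOf_dvd_of_mem hx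
      rwa [hCm] at this
    have hxo : ¬ 2 ∣ orderOf x := by
      intro h3
      have := h3.trans hxodd
      rw [Nat.odd_iff] at hodd
      omega
    -- `x²` fixes both points
    obtain ⟨j, hj⟩ : ∃ j, orderOf x + 1 = 2 * j := ⟨(orderOf x + 1) / 2, by omega⟩
    have hx2 : x = (x ^ 2) ^ j := by
      rw [← pow_mul, ← hj, pow_succ, pow_orderOf_eq_one, one_mul]
    have hsq : x ^ 2 ∈ H := by
      rw [pow_two]
      rcases h2 with ⟨h3 | h3, h4 | h4⟩
      · exfalso
        exact hb (smul_left_cancel _ (h4.trans h3.symm))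
      · refine ⟨?_, ?_⟩
        · change (x * x) • pt A = pt A
          rw [mul_smul, h3, h3]
        · change (x * x) • b = b
          rw [mul_smul, h4, h4]
      · refine ⟨?_, ?_⟩
        · change (x * x) • pt A = pt A
          rw [mul_smul, h3, h4]
        · change (x * x) • b = b
          rw [mul_smul, h4, h3]
      · exfalso
        exact hb (smul_left_cancel _ (h4.trans h3.symm))
    rw [hx2]
    exact pow_mem hsq j
  have hCeq : centralizer ({(w : G)} : Set G) = H := by
    apply Subgroup.eq_of_le_of_card_ge hCH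
    rw [hCm, hst]
  have hHcomm : ∀ x ∈ H, ∀ y ∈ H, x * y = y * x := by
    intro x hx y hy
    rw [← hCeq] at hx hy
    exact hCcomm x hx y hy
  have hHinv : ∀ x ∈ H, u * x * u⁻¹ = x⁻¹ := by
    intro x hx
    rw [← hCeq] at hx
    exact huinv x hx
  -- stabilizers have odd order
  have hufix : ∀ c : G ⧸ normalizer (A : Set G), u • c ≠ c := by
    intro x hx
    obtain ⟨g, rfl⟩ := exists_pt x
    have h1 : g⁻¹ * u * g ∈ normalizer (A : Set G) := by
      rw [← smul_pt_eq, mul_smul, mul_smul, hx, inv_smul_smul]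
    have h2 : orderOf (g⁻¹ * u * g) = 2 := by
      have h3 : orderOf (g⁻¹ * u * g) = orderOf u := by
        have := orderOf_conj' (g := g⁻¹) (z := u)
        rwa [inv_inv] at this
      rw [h3]
      apply orderOf_eq_prime
      · rw [pow_two]; exact huI.2
      · exact huI.1
    have h3 := orderOf_dvd_of_mem h1
    rw [h2] at h3
    have h4 : Nat.card (normalizer (A : Set G)) = (2 * m + 1) * m := by
      have h5 := card_mul_index (A.subgroupOf (normalizer (A : Set G)))
      have h6 : Nat.card (A.subgroupOf (normalizer (A : Set G))) = 2 * m + 1 := by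
        rw [← hq]; exact Nat.card_congr (subgroupOfEquivOfLe le_normalizer).toEquiv
      have h7 : (A.subgroupOf (normalizer (A : Set G))).index = m := hf
      rw [← h5, h6, h7]
    rw [h4] at h3
    have h5 : Odd ((2 * m + 1) * m) := Odd.mul ⟨m, rfl⟩ hodd
    rw [Nat.odd_iff] at h5
    omega
  have hpu := hpair u (by rw [hHinv _ w.2]; exact inv_mem w.2)
  have hu1 : u • pt A = b := by
    rcases hpu.1 with h1 | h1
    · exact absurd h1 (hufix _)
    · exact h1
  have hu2 : u • b = pt A := by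
    rcases hpu.2 with h1 | h1
    · exact h1
    · exact absurd h1 (hufix _)
  obtain ⟨F, iF, iFin, h1, h2, h3⟩ := H20.Zass.psl_of_odd hZ (Ne.symm hb)
    (by rw [hst]; exact hodd) (by rw [hst, hcard]) hHcomm huI.2 hu1 hu2 hHinv hufix
  exact ⟨F, iF, iFin, h1, by omega, h3⟩

/-- **Brauer–Suzuki–Wall** -/
theorem bsw [Finite G] {K : Subgroup G} {t s : G} {k : ℕ} (h : Setup G K t s k) (hk : 4 ≤ k) :
    ∃ (F : Type) (_ : Field F) (_ : Fintype F), ringChar F ≠ 2 ∧
      (Fintype.card F = 2 * k + 1 ∨ Fintype.card F + 1 = 2 * k) ∧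
      Nonempty (G ≃* Matrix.ProjectiveSpecialLinearGroup (Fin 2) F) := by
  letI : Fintype G := Fintype.ofFinite G
  rcases order_cases h hk with ⟨hG, hnn⟩ | ⟨hG, h0, h1⟩
  · obtain ⟨F, iF, iFin, h1, h2, h3⟩ := bsw1 h hk hG hnn
    exact ⟨F, iF, iFin, h1, Or.inl h2, h3⟩
  · obtain ⟨m, rfl⟩ : ∃ m, k = m + 1 := ⟨k - 1, by omega⟩
    have e1 : 2 * (m + 1) - 1 = 2 * m + 1 := by omega
    rw [e1] at hG h0
    simp only [Nat.add_sub_cancel] at hG h1
    have c : C2 G K t s m := ⟨h, by omega, by rw [hG]; ring, h0, h1⟩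
    obtain ⟨F, iF, iFin, h1, h2, h3⟩ := bsw2 c
    exact ⟨F, iF, iFin, h1, Or.inr (by omega), h3⟩

end Cfsg.Agent.H9.BSW
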