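import Cfsg.Agent.H9.BSWN

set_option autoImplicit false
set_option linter.unusedSectionVars false
set_option linter.style.haveILetI false
set_option linter.unusedVariables false
set_option linter.unusedSimpArgs false
set_option maxHeartbeats 1000000

/-! An involution with dihedral centralizer of order eight. -/

open Cfsg

namespace Cfsg.Agent.H9.BSW

open Subgroup

universe u

variable {G : Type u} [Group G]

/-- the data attached to an involution with a dihedral centralizer of order eight -/
structure D8 (G : Type u) [Group G] (A : Subgroup G) (t s : G) : Prop where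
  cyc : IsCyclic A
  card : Nat.card A = 4
  le : A ≤ centralizer ({t} : Set G)
  tA : t ∈ A
  t1 : t ≠ 1
  t2 : t * t = 1
  st : s * t = t * s
  sA : s ∉ A
  s2 : s * s = 1
  inv : ∀ x ∈ A, s * x * s⁻¹ = x⁻¹
  cent : ∀ g, g * t = t * g → g ∈ A ∨ g * s ∈ A

theorem D8.uniq [Finite G] {A : Subgroup G} {t s : G} (h : D8 G A t s) {x : G} (hx : x ∈ A) (hx2 : x * x = 1) :
    x = 1 ∨ x = t := cyclic_uniq h.cyc h.tA hx h.t1 h.t2 hx2

theorem D8.comm {A : Subgroup G} {t s : G} (h : D8 G A t s) {x y : G} (hx : x ∈ A) (hy : y ∈ A) : x * y = y * x := by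
  haveI := h.cyc
  have := (IsCyclic.commGroup (α := A)).mul_comm ⟨x, hx⟩ ⟨y, hy⟩
  exact congrArg Subtype.val this

/-- powers of elements of `A` -/
theorem D8.pow_eq [Finite G] {A : Subgroup G} {t s : G} (h : D8 G A t s) {x : G} (hx : x ∈ A) (hx1 : x ≠ 1) :
    x = t ∨ x * x = t := by
  have h1 : x ^ 4 = 1 := by
    have h2 : (⟨x, hx⟩ : A) ^ Nat.card A = 1 := pow_card_eq_one'
    rw [h.card] at h2
    exact congrArg Subtype.val h2
  have h3 : (x * x) * (x * x) = 1 := by
    rw [← h1]; simp only [pow_succ, pow_zero, one_mul, mul_assoc]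
  rcases h.uniq (mul_mem hx hx) h3 with h4 | h4
  · exact Or.inl ((h.uniq hx h4).resolve_left hx1)
  · exact Or.inr h4

theorem D8.of_iso [Finite G] {t : G} (ht : orderOf t = 2)
    (e : centralizer ({t} : Set G) ≃* DihedralGroup 4) : ∃ (A : Subgroup G) (s : G), D8 G A t s := by
  obtain ⟨t1, t2⟩ := mul_self_of_orderOf ht
  obtain ⟨A, hAD, hcyc, hcard, s, hsD, hsA, hs2, hsinv, hcov⟩ := dihedral_coords (n := 4) e
  have hmem : ∀ g, g ∈ centralizer ({t} : Set G) ↔ g * t = t * g := fun g => mem_centralizer_singleton_iff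
  have hst := (hmem s).mp hsD
  have htA : t ∈ A := by
    by_contra htA
    have h1 : t * s ∈ A := (hcov t ((hmem t).mpr rfl)).resolve_left htA
    -- `t` inverts `A`
    obtain ⟨x, hx⟩ := hcyc.exists_ofOrder_eq_natCard
    rw [hcard] at hx
    have hxo : orderOf (x : G) = 4 := by rw [Subgroup.orderOf_coe]; exact hx
    haveI := hcyc
    have h2 : t * s * x = x * (t * s) := by
      have := (IsCyclic.commGroup (α := A)).mul_comm ⟨t * s, h1⟩ x
      exact congrArg Subtype.val this
    have h3 : (x : G) * t = t * x := (hmem _).mp (hAD x.2)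
    have h4 : s * x * s⁻¹ = (x : G) := by
      have h5 : s * x = x * s := by
        have h6 : t * (s * x) = t * (x * s) := by
          rw [← mul_assoc, h2, ← mul_assoc, h3, mul_assoc]
        exact mul_left_cancel h6
      rw [h5, mul_inv_cancel_right]
    rw [hsinv x x.2] at h4
    have h5 : (x : G) ^ 2 = 1 := by
      rw [pow_two]; nth_rewrite 1 [← h4]; exact inv_mul_cancel _
    have h6 := orderOf_dvd_of_pow_eq_one h5
    rw [hxo] at h6
    omega
  refine ⟨A, s, hcyc, hcard, hAD, htA, t1, t2, hst, hsA, hs2, hsinv, ?_⟩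
  intro g hg
  exact hcov g ((hmem g).mpr hg)

theorem D8.sylow [Finite G] {A : Subgroup G} {t s : G} (h : D8 G A t s) :
    ∃ P : Sylow 2 G, (P : Subgroup G) = centralizer ({t} : Set G) ∧ A ≤ P ∧ A.relIndex P = 2 := by
  haveI : Fact (Nat.Prime 2) := ⟨Nat.prime_two⟩
  have hmem : ∀ g, g ∈ centralizer ({t} : Set G) ↔ g * t = t * g := fun g => mem_centralizer_singleton_iff
  set D := centralizer ({t} : Set G) with hD
  -- order of `D`
  have hrel : A.relIndex D = 2 := by
    have h1 : (A.subgroupOf D).index = 2 := by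
      rw [Subgroup.index_eq_two_iff]
      refine ⟨⟨s, (hmem s).mpr h.st⟩, ?_⟩
      intro g
      rw [mem_subgroupOf, mem_subgroupOf]
      change Xor' ((g : G) * s ∈ A) ((g : G) ∈ A)
      rcases h.cent g ((hmem _).mp g.2) with h2 | h2
      · right
        refine ⟨h2, ?_⟩
        intro h3
        apply h.sA
        have := mul_mem (inv_mem h2) h3
        rwa [inv_mul_cancel_left] at this
      · left
        refine ⟨h2, ?_⟩
        intro h3
        apply h.sA
        have := mul_mem (inv_mem h3) h2
        rwa [inv_mul_cancel_left] at this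
    exact h1
  have hcard : Nat.card D = 2 ^ 3 := by
    have h1 := card_mul_index (A.subgroupOf D)
    have h2 : Nat.card (A.subgroupOf D) = 4 := by
      rw [← h.card]; exact Nat.card_congr (subgroupOfEquivOfLe h.le).toEquiv
    have h3 : (A.subgroupOf D).index = 2 := hrel
    rw [← h1, h2, h3]; norm_num
  have hDp : IsPGroup 2 D := IsPGroup.of_card hcard
  obtain ⟨P, hP⟩ := hDp.exists_le_sylow
  have htP : t ∈ (P : Subgroup G) := hP ((hmem t).mpr rfl)
  haveI : Nontrivial P := ⟨⟨1, ⟨t, htP⟩, fun e => h.t1 (congrArg Subtype.val e).symm⟩⟩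
  haveI := P.isPGroup'.center_nontrivial
  obtain ⟨z, hz1⟩ := _root_.exists_ne (1 : center (P : Subgroup G))
  have hz1' : ((z : (P : Subgroup G)) : G) ≠ 1 := fun e => hz1 (Subtype.ext (Subtype.ext e))
  have hzc : ∀ g ∈ (P : Subgroup G), g * z = z * g := by
    intro g hg
    exact congrArg Subtype.val (mem_center_iff.mp z.2 ⟨g, hg⟩)
  have hzt : ((z : (P : Subgroup G)) : G) * t = t * z := (hzc t htP).symm
  have hsP : s ∈ (P : Subgroup G) := hP ((hmem s).mpr h.st)
  -- `z` lies in `A`
  have hzA : ((z : (P : Subgroup G)) : G) ∈ A := by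
    rcases h.cent _ hzt with h1 | h1
    · exact h1
    · exfalso
      obtain ⟨x, hx⟩ := h.cyc.exists_ofOrder_eq_natCard
      rw [h.card] at hx
      have hxo : orderOf (x : G) = 4 := by rw [Subgroup.orderOf_coe]; exact hx
      have h2 := hzc x (hP (h.le x.2))
      have h3 : ((z : (P : Subgroup G)) : G) * s * x = x * (z * s) := h.comm h1 x.2
      have h4 : s * x * s⁻¹ = (x : G) := by
        have h5 : s * x = x * s := by
          have h6 : ((z : (P : Subgroup G)) : G) * (s * x) = z * (x * s) := by
            rw [← mul_assoc, h3, ← mul_assoc, h2, mul_assoc]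
          exact mul_left_cancel h6
        rw [h5, mul_inv_cancel_right]
      rw [h.inv x x.2] at h4
      have h5 : (x : G) ^ 2 = 1 := by
        rw [pow_two]; nth_rewrite 1 [← h4]; exact inv_mul_cancel _
      have h6 := orderOf_dvd_of_pow_eq_one h5
      rw [hxo] at h6
      omega
  have hzeq : ((z : (P : Subgroup G)) : G) = t := by
    have h1 := h.inv _ hzA
    rw [hzc s hsP, mul_inv_cancel_right] at h1
    have h2 : ((z : (P : Subgroup G)) : G) * z = 1 := by
      nth_rewrite 2 [h1]; exact mul_inv_cancel _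
    exact (h.uniq hzA h2).resolve_left hz1'
  have hPD : (P : Subgroup G) = D := by
    apply le_antisymm _ hP
    intro g hg
    rw [hmem, ← hzeq]
    exact hzc g hg
  refine ⟨P, hPD, by rw [hPD]; exact h.le, by rw [hPD]; exact hrel⟩

theorem D8.setup [Finite G] {A : Subgroup G} {t s : G} (h : D8 G A t s)
    (hone : ∀ u : G, u ≠ 1 → u * u = 1 → ∃ g, g * t * g⁻¹ = u) : Setup G A t s 4 where
  hk := h.card
  comm := fun x hx y hy => h.comm hx hy
  tK := h.tA
  t1 := h.t1
  t2 := h.t2
  uniq := fun x hx hx2 => h.uniq hx hx2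
  sK := h.sA
  s2 := h.s2
  inv := h.inv
  cent := h.cent
  cen := by
    intro x hx hx1 g hg
    rcases h.pow_eq hx hx1 with h1 | h1
    · rw [← h1]; exact hg
    · rw [← h1]
      have : Commute g x := hg
      exact (this.mul_right this).eq
  one := hone

end Cfsg.Agent.H9.BSW
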