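import Cfsg.Agent.H9.BSWN

set_option autoImplicit false
set_option linter.unusedSectionVars false
set_option linter.style.haveILetI false
set_option linter.unusedVariables false
set_option linter.unusedSimpArgs false
set_option maxHeartbeats 1000000

/-! The Brauer–Suzuki–Wall setup from the centralizer structure `C(t) = O S` with `S` dihedral. -/

open Cfsg

namespace Cfsg.Agent.H9.BSW

open Subgroup

universe u

variable {G : Type u} [Group G]

theorem odd_order_of_mem [Finite G] {O : Subgroup G} (hO : Odd (Nat.card O)) {x : G} (hx : x ∈ O) :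
    Odd (orderOf x) := by
  exact Odd.of_dvd_nat hO (orderOf_dvd_of_mem hx)

theorem eq_one_of_odd {x : G} (h : Odd (orderOf x)) (h2 : x * x = 1) : x = 1 := by
  have h3 : orderOf x ∣ 2 := orderOf_dvd_of_pow_eq_one (by rw [pow_two]; exact h2)
  rcases (Nat.dvd_prime Nat.prime_two).mp h3 with h4 | h4
  · exact orderOf_eq_one_iff.mp h4
  · rw [h4] at h; exact absurd h (by decide)

theorem of_core [Finite G] (S : Sylow 2 G) {t s : G} {O A : Subgroup G} (hOodd : Odd (Nat.card O))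
    (hAS : A ≤ S) (hAc : IsCyclic A) (htA : t ∈ A) (ht1 : t ≠ 1) (ht2 : t * t = 1)
    (hAO : ∀ a ∈ A, ∀ o ∈ O, a * o = o * a) (hsS : s ∈ (S : Subgroup G)) (hsA : s ∉ A) (hs2 : s * s = 1)
    (hsA' : ∀ x ∈ A, s * x * s⁻¹ = x⁻¹) (hsO : ∀ x ∈ O, s * x * s⁻¹ = x⁻¹)
    (hcov : ∀ g ∈ (S : Subgroup G), g ∈ A ∨ g * s ∈ A)
    (hC : ∀ g, g * t = t * g → ∃ o ∈ O, ∃ x ∈ (S : Subgroup G), g = o * x)
    (hc : ∀ Y : Subgroup G, Y ≤ O → Y ≠ ⊥ → normalizer (Y : Set G) ≤ centralizer ({t} : Set G))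
    (hone : ∀ u : G, u ≠ 1 → u * u = 1 → ∃ g, g * t * g⁻¹ = u) :
    ∃ K : Subgroup G, Setup G K t s (Nat.card O * Nat.card A) := by
  classical
  haveI : Fact (Nat.Prime 2) := ⟨Nat.prime_two⟩
  haveI := hAc
  have hAcomm : ∀ x ∈ A, ∀ y ∈ A, x * y = y * x := by
    intro x hx y hy
    have := (IsCyclic.commGroup (α := A)).mul_comm ⟨x, hx⟩ ⟨y, hy⟩
    exact congrArg Subtype.val this
  have hOcomm : ∀ x ∈ O, ∀ y ∈ O, x * y = y * x := by
    intro x hx y hy
    have h1 := hsO _ (mul_mem hx hy)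
    have h2 : s * (x * y) * s⁻¹ = (s * x * s⁻¹) * (s * y * s⁻¹) := by group
    rw [h2, hsO x hx, hsO y hy, ← mul_inv_rev] at h1
    exact (inv_injective h1).symm
  -- `S` and `O` meet trivially
  have h2pow : ∀ x ∈ (S : Subgroup G), ∃ j : ℕ, orderOf x = 2 ^ j := by
    intro x hx
    obtain ⟨j, hj⟩ := S.isPGroup' ⟨x, hx⟩
    have h1 : x ^ 2 ^ j = 1 := congrArg Subtype.val hj
    obtain ⟨i, -, hi⟩ := (Nat.dvd_prime_pow Nat.prime_two).mp (orderOf_dvd_of_pow_eq_one h1)
    exact ⟨i, hi⟩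
  have hdis : ∀ x ∈ (S : Subgroup G), x ∈ O → x = 1 := by
    intro x hx hxO
    obtain ⟨j, hj⟩ := h2pow x hx
    have h1 := odd_order_of_mem hOodd hxO
    rw [hj] at h1
    rcases Nat.eq_zero_or_pos j with rfl | hj0
    · exact orderOf_eq_one_iff.mp (by rw [hj, pow_zero])
    · exfalso
      have : Even (2 ^ j) := (Nat.even_pow.mpr ⟨even_two, by omega⟩)
      exact (Nat.not_odd_iff_even.mpr this) h1
  let K : Subgroup G :=
    { carrier := {g | ∃ o ∈ O, ∃ a ∈ A, g = o * a}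
      one_mem' := ⟨1, one_mem _, 1, one_mem _, (one_mul 1).symm⟩
      mul_mem' := by
        rintro _ _ ⟨o, ho, a, ha, rfl⟩ ⟨o', ho', a', ha', rfl⟩
        refine ⟨o * o', mul_mem ho ho', a * a', mul_mem ha ha', ?_⟩
        calc o * a * (o' * a') = o * (a * o') * a' := by group
          _ = o * o' * (a * a') := by rw [hAO a ha o' ho']; group
      inv_mem' := by
        rintro _ ⟨o, ho, a, ha, rfl⟩
        refine ⟨o⁻¹, inv_mem ho, a⁻¹, inv_mem ha, ?_⟩
        rw [mul_inv_rev, hAO _ (inv_mem ha) _ (inv_mem ho)] }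
  have hK : ∀ g, g ∈ K ↔ ∃ o ∈ O, ∃ a ∈ A, g = o * a := fun g => Iff.rfl
  refine ⟨K, ?_⟩
  constructor
  · rw [← Nat.card_prod]
    symm
    apply Nat.card_congr (Equiv.ofBijective (fun x : O × A => (⟨(x.1 : G) * x.2, x.1, x.1.2, x.2, x.2.2, rfl⟩ : K)) ?_)
    constructor
    · rintro ⟨o, a⟩ ⟨o', a'⟩ h
      have h1 : (o : G) * a = o' * a' := congrArg Subtype.val h
      have h2 : (o' : G)⁻¹ * o = a' * (a : G)⁻¹ := by
        rw [inv_mul_eq_iff_eq_mul, ← mul_assoc, eq_mul_inv_iff_mul_eq]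
        exact h1
      have h3 : (o' : G)⁻¹ * o = 1 := by
        apply hdis
        · rw [h2]; exact mul_mem (hAS a'.2) (inv_mem (hAS a.2))
        · exact mul_mem (inv_mem o'.2) o.2
      have h4 : o = o' := Subtype.ext (inv_mul_eq_one.mp h3).symm
      subst h4
      exact Prod.ext rfl (Subtype.ext (mul_left_cancel h1))
    · rintro ⟨g, o, ho, a, ha, rfl⟩
      exact ⟨(⟨o, ho⟩, ⟨a, ha⟩), rfl⟩
  · rintro _ ⟨o, ho, a, ha, rfl⟩ _ ⟨o', ho', a', ha', rfl⟩
    calc o * a * (o' * a') = o * (a * o') * a' := by group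
      _ = (o * o') * (a * a') := by rw [hAO a ha o' ho']; group
      _ = (o' * o) * (a' * a) := by rw [hOcomm o ho o' ho', hAcomm a ha a' ha']
      _ = o' * (o * a') * a := by group
      _ = o' * a' * (o * a) := by rw [← hAO a' ha' o ho]; group
  · exact ⟨1, one_mem _, t, htA, (one_mul t).symm⟩
  · exact ht1
  · exact ht2
  · rintro _ ⟨o, ho, a, ha, rfl⟩ h2
    have h1 : (o * o) * (a * a) = 1 := by
      rw [← h2]
      calc (o * o) * (a * a) = o * (o * a) * a := by group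
        _ = o * (a * o) * a := by rw [hAO a ha o ho]
        _ = o * a * (o * a) := by group
    have h3 : o * o = 1 := by
      apply hdis
      · rw [eq_inv_of_mul_eq_one_left h1]
        exact inv_mem (mul_mem (hAS ha) (hAS ha))
      · exact mul_mem ho ho
    have h4 : o = 1 := eq_one_of_odd (odd_order_of_mem hOodd ho) h3
    rw [h3, one_mul] at h1
    rw [h4, one_mul]
    exact cyclic_uniq hAc htA ha ht1 ht2 h1
  · rintro ⟨o, ho, a, ha, he⟩
    have h1 : o = s * a⁻¹ := by rw [he]; group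
    have h2 : o = 1 := hdis o (by rw [h1]; exact mul_mem hsS (inv_mem (hAS ha))) ho
    rw [h2, one_mul] at he
    exact hsA (by rw [he]; exact ha)
  · exact hs2
  · rintro _ ⟨o, ho, a, ha, rfl⟩
    have h1 : s * (o * a) * s⁻¹ = (s * o * s⁻¹) * (s * a * s⁻¹) := by group
    rw [h1, hsO o ho, hsA' a ha, mul_inv_rev, hAO _ (inv_mem ha) _ (inv_mem ho)]
  · intro g hg
    obtain ⟨o, ho, x, hx, rfl⟩ := hC g hg
    rcases hcov x hx with h1 | h1
    · exact Or.inl ⟨o, ho, x, h1, rfl⟩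
    · exact Or.inr ⟨o, ho, x * s, h1, by group⟩
  · rintro _ ⟨o, ho, a, ha, rfl⟩ hx1 g hg
    have hcomm : Commute o a := (hAO a ha o ho).symm
    have hgx : Commute g (o * a) := hg
    by_cases ho1 : o = 1
    · rw [ho1, one_mul] at hgx hx1
      obtain ⟨j, hj⟩ := h2pow a (hAS ha)
      have hj0 : j ≠ 0 := by
        rintro rfl
        exact hx1 (orderOf_eq_one_iff.mp (by rw [hj, pow_zero]))
      obtain ⟨i, rfl⟩ := Nat.exists_eq_succ_of_ne_zero hj0
      have h1 : a ^ 2 ^ i = t := by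
        have h2 : orderOf (a ^ 2 ^ i) = 2 := by
          rw [orderOf_pow_of_dvd (by positivity) (by rw [hj]; exact pow_dvd_pow 2 (Nat.le_succ i)), hj, pow_succ,
            Nat.mul_div_cancel_left _ (by positivity)]
        obtain ⟨h3, h4⟩ := mul_self_of_orderOf h2
        exact (cyclic_uniq hAc htA (pow_mem ha _) ht1 ht2 h4).resolve_left h3
      rw [← h1]
      exact (hgx.pow_right _).eq
    · obtain ⟨j, hj⟩ := h2pow a (hAS ha)
      have h1 : (o * a) ^ 2 ^ j = o ^ 2 ^ j := by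
        rw [hcomm.mul_pow, ← hj, pow_orderOf_eq_one, mul_one]
      have h2 : o ^ 2 ^ j ≠ 1 := by
        intro h3
        have h4 := orderOf_dvd_of_pow_eq_one h3
        have h5 := odd_order_of_mem hOodd ho
        have h6 : Nat.Coprime (orderOf o) (2 ^ j) := Nat.Coprime.pow_right j (Nat.coprime_two_right.mpr h5)
        exact ho1 (orderOf_eq_one_iff.mp (Nat.Coprime.eq_one_of_dvd h6 h4))
      have h3 : Commute g (o ^ 2 ^ j) := by rw [← h1]; exact hgx.pow_right _
      have h4 := hc (zpowers (o ^ 2 ^ j)) (by rw [zpowers_le]; exact pow_mem ho _) (by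
        rw [Ne, zpowers_eq_bot]; exact h2)
      have h5 : g ∈ normalizer (zpowers (o ^ 2 ^ j) : Set G) := by
        apply mem_normalizer_fintype
        rintro _ ⟨i, rfl⟩
        have h6 : Commute g ((o ^ 2 ^ j) ^ i) := h3.zpow_right i
        have h7 : g * (o ^ 2 ^ j) ^ i * g⁻¹ = (o ^ 2 ^ j) ^ i := by rw [h6.eq, mul_inv_cancel_right]
        change g * (o ^ 2 ^ j) ^ i * g⁻¹ ∈ _
        rw [h7]
        exact zpow_mem (mem_zpowers _) i
      exact mem_centralizer_singleton_iff.mp (h4 h5)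
  · exact hone

/-- a cyclic subgroup of index two of a dihedral group -/
theorem dihedral_any [Finite G] {D : Subgroup G} {n : ℕ} (hn : 2 ≤ n) (e : D ≃* DihedralGroup n) {A : Subgroup G}
    (hAD : A ≤ D) (hA : IsCyclic A) (hrel : A.relIndex D = 2) {s : G} (hs : s ∈ D) (hsA : s ∉ A) :
    s * s = 1 ∧ (∀ x ∈ A, s * x * s⁻¹ = x⁻¹) ∧ ∀ g ∈ D, g ∈ A ∨ g * s ∈ A := by
  classical
  haveI : NeZero n := ⟨by omega⟩
  obtain ⟨A0, hA0D, hA0c, hA0n, s0, hs0D, hs0A, hs02, hs0inv, hcov⟩ := dihedral_coords (n := n) e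
  have hAcard : Nat.card A = n := by
    have h1 := card_mul_index (A.subgroupOf D)
    have h2 : Nat.card (A.subgroupOf D) = Nat.card A := Nat.card_congr (subgroupOfEquivOfLe hAD).toEquiv
    have h3 : (A.subgroupOf D).index = 2 := hrel
    have h4 : Nat.card D = 2 * n := by rw [Nat.card_congr e.toEquiv, DihedralGroup.nat_card]
    rw [h2, h3, h4] at h1
    omega
  have hcovA : ∀ g ∈ D, g ∈ A ∨ g * s ∈ A := by
    intro g hg
    by_cases hgA : g ∈ A
    · exact Or.inl hgA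
    · right
      have h3 : (A.subgroupOf D).index = 2 := hrel
      have h4 := Subgroup.mul_mem_iff_of_index_two h3 (a := ⟨g, hg⟩) (b := ⟨s, hs⟩)
      rw [mem_subgroupOf, mem_subgroupOf, mem_subgroupOf] at h4
      exact h4.mpr (iff_of_false hgA hsA)
  haveI := hA0c
  have hcomm0 : ∀ x ∈ A0, ∀ y ∈ A0, x * y = y * x := by
    intro x hx y hy
    have := (IsCyclic.commGroup (α := A0)).mul_comm ⟨x, hx⟩ ⟨y, hy⟩
    exact congrArg Subtype.val this
  -- elements outside `A0`
  have hout : ∀ g ∈ D, g ∉ A0 → g * g = 1 ∧ ∀ x ∈ A0, g * x * g⁻¹ = x⁻¹ := by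
    intro g hg hgA
    have h1 := (hcov g hg).resolve_left hgA
    have hinv : ∀ x ∈ A0, g * x * g⁻¹ = x⁻¹ := by
      intro x hx
      have e1 : g * x * g⁻¹ = (g * s0) * (s0⁻¹ * x * s0) * (g * s0)⁻¹ := by group
      have e2 : s0⁻¹ = s0 := inv_eq_of_mul_eq_one_left hs02
      have e3 : s0⁻¹ * x * s0 = x⁻¹ := by
        have := hs0inv x hx
        rw [e2] at this ⊢; exact this
      rw [e1, e3, hcomm0 _ h1 _ (inv_mem hx), mul_inv_cancel_right]
    refine ⟨?_, hinv⟩
    have h2 := hinv _ h1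
    have e2 : s0⁻¹ = s0 := inv_eq_of_mul_eq_one_left hs02
    have e3 : g * (g * s0) * g⁻¹ = (g * g) * (s0 * g⁻¹) := by group
    rw [e3, mul_inv_rev, e2] at h2
    have h3 : g * g * (s0 * g⁻¹) = 1 * (s0 * g⁻¹) := by rw [one_mul]; exact h2
    exact mul_right_cancel h3
  rcases Nat.lt_or_ge 2 n with h3 | h3
  · -- `A = A0`
    have hAA : A = A0 := by
      obtain ⟨y, hy⟩ := hA.exists_ofOrder_eq_natCard
      have hyA0 : (y : G) ∈ A0 := by
        by_contra hc
        have h4 := (hout y (hAD y.2) hc).1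
        have h5 : orderOf (y : G) ∣ 2 := orderOf_dvd_of_pow_eq_one (by rw [pow_two]; exact h4)
        rw [Subgroup.orderOf_coe, hy, hAcard] at h5
        exact absurd (Nat.le_of_dvd (by norm_num) h5) (by omega)
      have h4 : A ≤ A0 := by
        intro x hx
        have h5 : zpowers y = ⊤ := by
          apply Subgroup.eq_top_of_card_eq
          rw [Nat.card_zpowers, hy]
        have h6 : (⟨x, hx⟩ : A) ∈ zpowers y := by rw [h5]; trivial
        obtain ⟨j, hj⟩ := h6
        have h7 : (y : G) ^ j = x := congrArg Subtype.val hj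
        rw [← h7]
        exact zpow_mem hyA0 j
      apply Subgroup.eq_of_le_of_card_ge h4
      rw [hAcard, hA0n]
    rw [hAA] at hsA
    have h4 := hout s hs hsA
    exact ⟨h4.1, by rw [hAA]; exact h4.2, hcovA⟩
  · -- Klein four group
    have hn2 : n = 2 := by omega
    have hsq : ∀ x ∈ D, x * x = 1 := by
      intro x hx
      by_cases hxA : x ∈ A0
      · have h4 : (⟨x, hxA⟩ : A0) ^ Nat.card A0 = 1 := pow_card_eq_one'
        rw [hA0n, hn2] at h4
        have h5 : x ^ 2 = 1 := congrArg Subtype.val h4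
        rw [← pow_two]; exact h5
      · exact (hout x hx hxA).1
    refine ⟨hsq s hs, ?_, hcovA⟩
    intro x hx
    have h4 := hsq x (hAD hx)
    have h5 : x⁻¹ = x := inv_eq_of_mul_eq_one_left h4
    have h6 := hsq (s * x) (mul_mem hs (hAD hx))
    have h7 : s⁻¹ = s := inv_eq_of_mul_eq_one_left (hsq s hs)
    have h8 : s * x * s⁻¹ = s * x * (s * x) * x⁻¹ := by rw [h7]; group
    rw [h8, h6, one_mul]

end Cfsg.Agent.H9.BSW
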