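import Cfsg.Agent.H9.Ord360C

set_option autoImplicit false
set_option linter.unusedSectionVars false
set_option linter.style.haveILetI false
set_option linter.unusedVariables false
set_option linter.unusedSimpArgs false
set_option maxHeartbeats 1000000

/-! Groups in which commuting is transitive on non-identity elements, of even order. -/

open Cfsg Subgroup

namespace Cfsg.Agent.H9.CT

universe u

open BSW BSW.HallTI

variable {G : Type u} [Group G]

/-- commuting is transitive on non-identity elements -/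
def IsCT (G : Type u) [Group G] : Prop :=
  ∀ a b c : G, a ≠ 1 → b ≠ 1 → c ≠ 1 → Commute a b → Commute b c → Commute a c

theorem cent_comm (h : IsCT G) {x : G} (hx : x ≠ 1) : ∀ a ∈ centralizer ({x} : Set G), ∀ b ∈ centralizer ({x} : Set G),
    a * b = b * a := by
  intro a ha b hb
  rw [mem_centralizer_singleton_iff] at ha hb
  by_cases ha1 : a = 1
  · rw [ha1]; simp
  by_cases hb1 : b = 1
  · rw [hb1]; simp
  exact (h a x b ha1 hx hb1 ha hb.symm).eq

theorem cent_le (h : IsCT G) {x z : G} (hx : x ≠ 1) (hz : z ≠ 1) (hxz : z * x = x * z) {g : G} (hg : g * z = z * g) :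
    g * x = x * g := by
  by_cases hg1 : g = 1
  · rw [hg1]; simp
  exact (h g z x hg1 hz hx hg hxz).eq

/-- centralizers are abelian TI Hall subgroups -/
theorem hallTI [Finite G] (h : IsCT G) {x : G} (hx : x ≠ 1) : HallTI (centralizer ({x} : Set G)) := by
  refine ⟨?_, ?_, ?_, cent_comm h hx⟩
  · intro hc
    apply hx
    have : x ∈ centralizer ({x} : Set G) := mem_centralizer_singleton_iff.mpr rfl
    rw [hc] at this
    exact mem_bot.mp this
  · rw [Nat.coprime_iff_gcd_eq_one]
    by_contra hne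
    obtain ⟨p, hp, hpd⟩ := Nat.exists_prime_and_dvd hne
    have h1 : p ∣ Nat.card (centralizer ({x} : Set G)) := hpd.trans (Nat.gcd_dvd_left _ _)
    have h2 : p ∣ (centralizer ({x} : Set G)).index := hpd.trans (Nat.gcd_dvd_right _ _)
    haveI := Fact.mk hp
    obtain ⟨y, hy⟩ := exists_prime_orderOf_dvd_card' p h1
    have hyo : orderOf (y : G) = p := by rw [Subgroup.orderOf_coe]; exact hy
    have hy1 : (y : G) ≠ 1 := by
      intro e; rw [e, orderOf_one] at hyo; exact hp.one_lt.ne hyo
    have hyx := mem_centralizer_singleton_iff.mp y.2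
    have hpg : IsPGroup p (zpowers (y : G)) := by
      apply IsPGroup.of_card (n := 1)
      rw [Nat.card_zpowers, hyo, pow_one]
    obtain ⟨P, hP⟩ := hpg.exists_le_sylow
    have hyP : (y : G) ∈ (P : Subgroup G) := hP (mem_zpowers _)
    haveI : Nontrivial P := ⟨⟨1, ⟨y, hyP⟩, fun e => hy1 (congrArg Subtype.val e).symm⟩⟩
    haveI := P.isPGroup'.center_nontrivial
    obtain ⟨z, hz1⟩ := _root_.exists_ne (1 : center (P : Subgroup G))
    have hz1' : ((z : (P : Subgroup G)) : G) ≠ 1 := fun e => hz1 (Subtype.ext (Subtype.ext e))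
    have hzc : ∀ g ∈ (P : Subgroup G), g * z = z * g := by
      intro g hg
      exact congrArg Subtype.val (mem_center_iff.mp z.2 ⟨g, hg⟩)
    have hle : (P : Subgroup G) ≤ centralizer ({x} : Set G) := by
      intro g hg
      rw [mem_centralizer_singleton_iff]
      have h3 : g * (y : G) = y * g := cent_le h hy1 hz1' (hzc y hyP).symm (hzc g hg)
      exact cent_le h hx hy1 hyx h3
    exact P.not_dvd_index (h2.trans (index_dvd_of_le hle))
  · intro z hz hz1 g hg
    rw [mem_centralizer_singleton_iff] at hz ⊢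
    exact cent_le h hx hz1 hz hg

/-- the situation in an even order CT group -/
structure Ev (G : Type u) [Group G] (u : G) : Prop where
  ct : IsCT G
  u1 : u ≠ 1
  u2 : u * u = 1
  ne : ∃ v : G, v ≠ 1 ∧ v * v = 1 ∧ u * v ≠ v * u
  nn : normalizer (centralizer ({u} : Set G) : Set G) ≠ centralizer ({u} : Set G)

namespace Ev

variable [Finite G] {u : G} (h : Ev G u)
include h

theorem conj_of_not_comm {v w : G} (hv1 : v ≠ 1) (hv2 : v * v = 1) (hw1 : w ≠ 1) (hw2 : w * w = 1)
    (hne : v * w ≠ w * v) : ∃ g : G, g * v * g⁻¹ = w := by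
  have hvinv : v⁻¹ = v := inv_eq_of_mul_eq_one_left hv2
  have hwinv : w⁻¹ = w := inv_eq_of_mul_eq_one_left hw2
  -- the order of `v w` is odd
  have hinv : v * (v * w) * v⁻¹ = (v * w)⁻¹ := by
    rw [mul_inv_rev, hvinv, hwinv]
    calc v * (v * w) * v = (v * v) * (w * v) := by group
      _ = w * v := by rw [hv2, one_mul]
  have hpow : ∀ j : ℕ, v * (v * w) ^ j * v⁻¹ = ((v * w) ^ j)⁻¹ := by
    intro j
    rw [← conj_pow, hinv, inv_pow]
  have hodd : Odd (orderOf (v * w)) := by
    by_contra hc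
    rw [Nat.not_odd_iff_even] at hc
    obtain ⟨j, hj⟩ := hc
    have hpos := orderOf_pos (v * w)
    set z := (v * w) ^ j with hz
    have hz1 : z ≠ 1 := by
      intro e
      have := orderOf_dvd_of_pow_eq_one e
      have := Nat.le_of_dvd (by omega) this
      omega
    have hz2 : z * z = 1 := by
      rw [hz, ← pow_add, ← hj, pow_orderOf_eq_one]
    have hzv : v * z = z * v := by
      have h1 := hpow j
      rw [← hz, inv_eq_of_mul_eq_one_left hz2] at h1
      exact mul_inv_eq_iff_eq_mul.mp h1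
    have hzw : z * w = w * z := by
      have h1 : Commute z (v * w) := (Commute.refl (v * w)).pow_left j
      have h2 : w = v * (v * w) := by rw [← mul_assoc, hv2, one_mul]
      have h3 : Commute z v := hzv.symm
      rw [h2]
      exact (h3.mul_right h1).eq
    exact hne (h.ct v z w hv1 hz1 hw1 hzv hzw).eq
  obtain ⟨j, hj⟩ := hodd
  -- conjugating by a power
  refine ⟨((v * w) ^ (j + 1))⁻¹, ?_⟩
  have h1 := hpow (j + 1)
  have h3 : ((v * w) ^ (j + 1))⁻¹ * v * ((v * w) ^ (j + 1))⁻¹⁻¹ = v * ((v * w) ^ (j + 1) * (v * w) ^ (j + 1)) := by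
    rw [inv_inv]
    have h4 : ((v * w) ^ (j + 1))⁻¹ * v = v * (v * w) ^ (j + 1) := by
      have h5 := h1
      rw [hvinv] at h5
      have h6 : (v * (v * w) ^ (j + 1) * v) * v = ((v * w) ^ (j + 1))⁻¹ * v := by rw [h5]
      rw [← h6, mul_assoc, hv2, mul_one]
    rw [h4, mul_assoc]
  rw [h3, ← pow_add]
  have h4 : (v * w) ^ (j + 1 + (j + 1)) = v * w := by
    have : j + 1 + (j + 1) = orderOf (v * w) + 1 := by omega
    rw [this, pow_succ, pow_orderOf_eq_one, one_mul]
  rw [h4, ← mul_assoc, hv2, one_mul]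

/-- one class of involutions -/
theorem one_class {w : G} (hw1 : w ≠ 1) (hw2 : w * w = 1) : ∃ g : G, g * u * g⁻¹ = w := by
  by_cases hc : u * w = w * u
  · obtain ⟨v, hv1, hv2, huv⟩ := h.ne
    obtain ⟨g, hg⟩ := h.conj_of_not_comm h.u1 h.u2 hv1 hv2 huv
    have hvw : v * w ≠ w * v := by
      intro hvw
      apply huv
      exact (h.ct u w v h.u1 hw1 hv1 hc hvw.symm).eq
    obtain ⟨x, hx⟩ := h.conj_of_not_comm hv1 hv2 hw1 hw2 hvw
    refine ⟨x * g, ?_⟩
    have : x * g * u * (x * g)⁻¹ = x * (g * u * g⁻¹) * x⁻¹ := by group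
    rw [this, hg, hx]
  · exact h.conj_of_not_comm h.u1 h.u2 hw1 hw2 hc

theorem hA : HallTI (centralizer ({u} : Set G)) := hallTI h.ct h.u1

theorem uA : u ∈ centralizer ({u} : Set G) := mem_centralizer_singleton_iff.mpr rfl

theorem two_dvd : 2 ∣ Nat.card (centralizer ({u} : Set G)) := by
  have h1 := orderOf_dvd_of_mem h.uA
  rwa [orderOf_two h.u1 h.u2] at h1

theorem index_odd : ¬ 2 ∣ (centralizer ({u} : Set G)).index := by
  intro h2
  exact absurd (Nat.eq_one_of_dvd_coprimes h.hA.cop h.two_dvd h2) (by norm_num)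

/-- involutions in the normalizer lie in `A` -/
theorem inv_mem_A {v : G} (hv1 : v ≠ 1) (hv2 : v * v = 1) (hv : v ∈ normalizer (centralizer ({u} : Set G) : Set G)) :
    v ∈ centralizer ({u} : Set G) := by
  apply h.hA.hall hv
  rw [orderOf_two hv1 hv2]
  exact (Nat.Prime.coprime_iff_not_dvd Nat.prime_two).mpr h.index_odd

/-- the number of involutions in `A` -/
theorem card_inv : {v : G | v ∈ centralizer ({u} : Set G) ∧ v ≠ 1 ∧ v * v = 1}.ncard =
    (centralizer ({u} : Set G)).relIndex (normalizer (centralizer ({u} : Set G) : Set G)) := by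
  classical
  set A := centralizer ({u} : Set G) with hAdef
  set N := normalizer (A : Set G) with hN
  rw [← Nat.card_coe_set_eq]
  change _ = Nat.card (N ⧸ A.subgroupOf N)
  symm
  have hmem : ∀ n : N, (n : G) * u * (n : G)⁻¹ ∈ A := fun n => (mem_normalizer_iff.mp n.2 u).mp h.uA
  let f : N ⧸ A.subgroupOf N → {v : G | v ∈ A ∧ v ≠ 1 ∧ v * v = 1} := fun c =>
    ⟨(c.out : G) * u * (c.out : G)⁻¹, hmem _, BSW.conj_ne_one h.u1, by
      have : (c.out : G) * u * (c.out : G)⁻¹ * ((c.out : G) * u * (c.out : G)⁻¹) = (c.out : G) * (u * u) * (c.out : G)⁻¹ := by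
        group
      rw [this, h.u2]; group⟩
  apply Nat.card_congr (Equiv.ofBijective f ?_)
  constructor
  · intro c c' hcc
    have h2 : (c.out : G) * u * (c.out : G)⁻¹ = (c'.out : G) * u * (c'.out : G)⁻¹ := congrArg Subtype.val hcc
    have h3 : ((c'.out⁻¹ * c.out : N) : G) ∈ A := by
      rw [Subgroup.coe_mul, Subgroup.coe_inv]
      apply mem_centralizer_singleton_iff.mpr
      have h4 : (c'.out : G)⁻¹ * c.out * u = (c'.out : G)⁻¹ * ((c.out : G) * u * (c.out : G)⁻¹) * c.out := by group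
      rw [h4, h2]; group
    have h4 := (QuotientGroup.eq (s := A.subgroupOf N)).mpr (mem_subgroupOf.mpr h3)
    rw [← QuotientGroup.out_eq' c, ← QuotientGroup.out_eq' c']
    exact h4.symm
  · rintro ⟨v, hv, hv1, hv2⟩
    obtain ⟨g, hg⟩ := h.one_class hv1 hv2
    have hgN : g ∈ N := h.hA.ti h.uA h.u1 (by rw [hg]; exact hv)
    refine ⟨QuotientGroup.mk ⟨g, hgN⟩, ?_⟩
    apply Subtype.ext
    change (((QuotientGroup.mk (⟨g, hgN⟩ : N) : N ⧸ A.subgroupOf N).out : G)) * u * _ = v
    obtain ⟨m, hm⟩ := QuotientGroup.mk_out_eq_mul (A.subgroupOf N) (⟨g, hgN⟩ : N)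
    rw [hm]
    have hmz : ((m : N) : G) * u = u * ((m : N) : G) :=
      mem_centralizer_singleton_iff.mp (mem_subgroupOf.mp m.2)
    change (g * ((m : N) : G)) * u * (g * ((m : N) : G))⁻¹ = v
    have h3 : (g * ((m : N) : G)) * u * (g * ((m : N) : G))⁻¹ =
      g * (((m : N) : G) * u * ((m : N) : G)⁻¹) * g⁻¹ := by group
    rw [h3, hmz, mul_inv_cancel_right, hg]

/-- the number of all involutions -/
theorem card_all : {v : G | v ≠ 1 ∧ v * v = 1}.ncard =
    (centralizer ({u} : Set G)).relIndex (normalizer (centralizer ({u} : Set G) : Set G)) *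
      (normalizer (centralizer ({u} : Set G) : Set G)).index := by
  have h1 : {v : G | v ≠ 1 ∧ v * v = 1} = H21.conjSet ({u} : Set G) := by
    ext v
    constructor
    · rintro ⟨hv1, hv2⟩
      obtain ⟨g, hg⟩ := h.one_class hv1 hv2
      exact ⟨g, u, rfl, hg.symm⟩
    · rintro ⟨g, z, hz, rfl⟩
      rw [Set.mem_singleton_iff] at hz; subst hz
      refine ⟨BSW.conj_ne_one h.u1, ?_⟩
      have : g * z * g⁻¹ * (g * z * g⁻¹) = g * (z * z) * g⁻¹ := by group
      rw [this, h.u2]; group
  rw [h1, H21.card_conjSet _ (centralizer ({u} : Set G)), Set.ncard_singleton, one_mul,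
    relIndex_mul_index le_normalizer]
  · rintro g z hz hg
    rw [Set.mem_singleton_iff] at hz hg
    subst hz
    rw [mem_centralizer_singleton_iff]
    exact mul_inv_eq_iff_eq_mul.mp hg
  · rintro g hg z hz
    rw [Set.mem_singleton_iff] at hz ⊢
    subst hz
    exact mul_inv_eq_iff_eq_mul.mpr (mem_centralizer_singleton_iff.mp hg)

end Ev

end Cfsg.Agent.H9.CT
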