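import Cfsg.Agent.H9.CTC
import Cfsg.Agent.H20.ZPsl7

set_option autoImplicit false
set_option linter.unusedSectionVars false
set_option linter.style.haveILetI false
set_option linter.unusedVariables false
set_option linter.unusedSimpArgs false
set_option maxHeartbeats 1000000

/-! CT groups of even order: identification. -/

open Cfsg Subgroup

namespace Cfsg.Agent.H9.CT

universe u

open BSW BSW.HallTI MulAction

variable {G : Type u} [Group G] [Finite G] {u : G}

set_option quotPrecheck false
local notation "𝐀" => (centralizer ({u} : Set G))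
local notation "𝐍" => (normalizer ((centralizer ({u} : Set G) : Subgroup G) : Set G))
local notation "𝐟" => ((centralizer ({u} : Set G)).relIndex (normalizer ((centralizer ({u} : Set G) : Subgroup G) : Set G)))

namespace Ev

section

variable (h : Ev G u)
include h

theorem index_ne_one : 𝐍.index ≠ 1 := by
  intro hc
  rw [index_eq_one] at hc
  obtain ⟨v, hv1, hv2, hne⟩ := h.ne
  have h1 : v ∈ 𝐍 := by rw [hc]; exact mem_top v
  have h2 := h.inv_mem_A hv1 hv2 h1
  exact hne (mem_centralizer_singleton_iff.mp h2).symm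

theorem index_eq : 𝐍.index = Nat.card 𝐀 + 1 := by
  classical
  letI : Fintype G := Fintype.ofFinite G
  letI : Fintype (G ⧸ 𝐍) := Fintype.ofFinite _
  have hf := h.one_lt_f
  have hdvd := h.hA.index_dvd
  have hi0 : 𝐍.index ≠ 0 := index_ne_zero_of_finite
  have hi1 := h.index_ne_one
  have hA0 := h.hA.one_lt
  have hle : (𝐍.index - 1) * (𝐟 - 1) ≤ Nat.card 𝐀 * (𝐟 - 1) := by
    have h1 : (Finset.univ.filter (fun y : G ⧸ 𝐍 => y ≠ pt 𝐀)).card = 𝐍.index - 1 := by
      rw [Finset.filter_ne' Finset.univ (pt 𝐀), Finset.card_erase_of_mem (Finset.mem_univ _), Finset.card_univ,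
        ← Nat.card_eq_fintype_card]
      rfl
    have h2 : ∀ y ∈ Finset.univ.filter (fun y : G ⧸ 𝐍 => y ≠ pt 𝐀),
        (Finset.univ.filter (fun d : G => d ≠ 1 ∧ d • pt 𝐀 = pt 𝐀 ∧ d • y = y)).card = 𝐟 - 1 := by
      intro y hy
      have hy' := (Finset.mem_filter.mp hy).2
      rw [← (h.count y hy').2]
      have h3 : Finset.univ.filter (fun d : G => d ≠ 1 ∧ d • pt 𝐀 = pt 𝐀 ∧ d • y = y) =
          (Finset.univ.filter (fun d : G => d ∈ stabilizer G (pt 𝐀) ⊓ stabilizer G y)).erase 1 := by
        ext d
        simp only [Finset.mem_filter, Finset.mem_univ, true_and, Finset.mem_erase, mem_inf, mem_stabilizer_iff]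
      rw [h3, Finset.card_erase_of_mem (by simp)]
      congr 1
      rw [← Fintype.card_subtype, ← Nat.card_eq_fintype_card]
    have h3 : ∑ y ∈ Finset.univ.filter (fun y : G ⧸ 𝐍 => y ≠ pt 𝐀),
        (Finset.univ.filter (fun d : G => d ≠ 1 ∧ d • pt 𝐀 = pt 𝐀 ∧ d • y = y)).card = (𝐍.index - 1) * (𝐟 - 1) := by
      rw [Finset.sum_congr rfl h2, Finset.sum_const, h1, smul_eq_mul]
    rw [← h3, ← Finset.card_biUnion]
    · have h4 : Nat.card 𝐀 * (𝐟 - 1) = (Finset.univ.filter (fun d : G => d ∈ 𝐍 ∧ d ∉ 𝐀)).card := by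
        have h5 : Nat.card 𝐍 = Nat.card 𝐀 * 𝐟 := by
          rw [← card_mul_index (𝐀.subgroupOf 𝐍)]
          congr 1
          exact Nat.card_congr (subgroupOfEquivOfLe le_normalizer).toEquiv
        have h6 : Finset.univ.filter (fun d : G => d ∈ 𝐍 ∧ d ∉ 𝐀) =
            Finset.univ.filter (fun d : G => d ∈ 𝐍) \ Finset.univ.filter (fun d : G => d ∈ 𝐀) := by
          ext d; simp
        have h7 : Finset.univ.filter (fun d : G => d ∈ 𝐀) ⊆ Finset.univ.filter (fun d : G => d ∈ 𝐍) := by
          intro d hd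
          simp only [Finset.mem_filter, Finset.mem_univ, true_and] at hd ⊢
          exact le_normalizer hd
        rw [h6, Finset.card_sdiff_of_subset h7, ← Fintype.card_subtype, ← Fintype.card_subtype,
          ← Nat.card_eq_fintype_card, ← Nat.card_eq_fintype_card]
        change _ = Nat.card 𝐍 - Nat.card 𝐀
        rw [h5, Nat.mul_sub, mul_one]
      rw [h4]
      apply Finset.card_le_card
      intro d hd
      simp only [Finset.mem_biUnion, Finset.mem_filter, Finset.mem_univ, true_and] at hd ⊢
      obtain ⟨y, hy, hd1, hdp, hdy⟩ := hd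
      exact ⟨smul_pt_eq.mp hdp, h.not_mem_A hy hd1 hdy⟩
    · intro y hy z hz hyz
      have hy' := (Finset.mem_filter.mp hy).2
      have hz' := (Finset.mem_filter.mp hz).2
      change Disjoint _ _
      rw [Finset.disjoint_left]
      intro d hd hd'
      simp only [Finset.mem_filter, Finset.mem_univ, true_and] at hd hd'
      rcases h.fix_two hy' hd.1 hd.2.1 hd.2.2 hd'.2.2 with e | e
      · exact hz' e
      · exact hyz e.symm
  have h1 : 𝐍.index - 1 ≤ Nat.card 𝐀 := Nat.le_of_mul_le_mul_right hle (by omega)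
  have h2 := Nat.le_of_dvd (by omega) hdvd
  omega

theorem zass [IsSimpleGroup G] : IsZassenhausGroup G (G ⧸ 𝐍) := by
  classical
  have h6 := h.index_eq
  have hf := h.one_lt_f
  have hq := h.hA.one_lt
  have hfle := h.hA.relIndex_le
  refine ⟨?_, h.hA.two_trans rfl h6, ?_, ?_, ?_⟩
  · constructor
    intro g g' hgg
    have hfix : ∀ x : G ⧸ 𝐍, (g'⁻¹ * g) • x = x := by
      intro x
      rw [mul_smul, hgg x, inv_smul_smul]
    have h7 : 2 < Nat.card (G ⧸ 𝐍) := by
      rw [← Subgroup.index, h6]; omega
    letI : Fintype (G ⧸ 𝐍) := Fintype.ofFinite _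
    rw [Nat.card_eq_fintype_card, Fintype.two_lt_card_iff] at h7
    obtain ⟨a, b, c, hab, hac, hbc⟩ := h7
    have h8 := h.hA.three_fix rfl h6 hab hbc hac (hfix a) (hfix b) (hfix c)
    exact (inv_mul_eq_one.mp h8).symm
  · intro g a b c hab hbc hac ha hb hc
    exact h.hA.three_fix rfl h6 hab hbc hac ha hb hc
  · have h7 : 1 < Nat.card (G ⧸ 𝐍) := by
      rw [← Subgroup.index, h6]; omega
    haveI := Finite.one_lt_card_iff_nontrivial.mp h7
    obtain ⟨b, hb⟩ := _root_.exists_ne (pt 𝐀)
    have h8 := (h.count b hb).2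
    have h9 : 1 < Nat.card ↥(MulAction.stabilizer G (pt 𝐀) ⊓ MulAction.stabilizer G b) := by
      rw [h8]; omega
    haveI := Finite.one_lt_card_iff_nontrivial.mp h9
    obtain ⟨z, hz⟩ := _root_.exists_ne (1 : ↥(MulAction.stabilizer G (pt 𝐀) ⊓ MulAction.stabilizer G b))
    exact ⟨z, fun e => hz (Subtype.ext e), pt 𝐀, b, Ne.symm hb, z.2.1, z.2.2⟩
  · refine Ord360.no_regular_simple (q := Nat.card 𝐀) (by omega) ?_ (by rw [← Subgroup.index]; exact h6)
    have h1 := h.hA.card_eq
    rw [h6] at h1
    rw [h1]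
    have h2 : 1 * (1 * (Nat.card 𝐀 + 1)) < Nat.card 𝐀 * (𝐟 * (Nat.card 𝐀 + 1)) := by
      apply Nat.mul_lt_mul_of_lt_of_le hq
      · exact Nat.mul_le_mul_right _ (by omega)
      · exact Nat.mul_pos (by omega) (by omega)
    omega

theorem psl [IsSimpleGroup G] : ∃ (F : Type) (_ : Field F) (_ : Fintype F) (f : ℕ), 2 ≤ f ∧
    Fintype.card F = 2 ^ f ∧ Nonempty (G ≃* Matrix.ProjectiveSpecialLinearGroup (Fin 2) F) := by
  classical
  have hZ := h.zass
  have h6 := h.index_eq
  have hΩ : Nat.card (G ⧸ 𝐍) = Nat.card 𝐀 + 1 := by rw [← h6]; rfl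
  have hf := h.one_lt_f
  have hfle := h.hA.relIndex_le
  rcases H20.Zass.simple_classification hZ with ⟨F, iF, iFin, h1, h2⟩ | ⟨a, -, x, y, hxy⟩
  · rw [hΩ] at h1
    have hF : Fintype.card F = Nat.card 𝐀 := by omega
    have hd := h.two_dvd
    rw [← hF] at hd
    obtain ⟨p, hp, n, hpn, hcard⟩ := FiniteField.card' F
    have hp2 : p = 2 := by
      rw [hcard] at hd
      exact ((Nat.prime_dvd_prime_iff_eq Nat.prime_two hpn).mp (Nat.prime_two.dvd_of_dvd_pow hd)).symm
    subst hp2
    refine ⟨F, iF, iFin, n, ?_, hcard, h2⟩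
    by_contra hlt
    have hn : (n : ℕ) ≤ 1 := by omega
    have : Fintype.card F ≤ 2 ^ 1 := by rw [hcard]; exact Nat.pow_le_pow_right (by norm_num) hn
    omega
  · exfalso
    apply hxy
    obtain ⟨g, rfl⟩ := exists_pt a
    have hK : 𝐀.map (MulAut.conj g).toMonoidHom = H20.Zass.K hZ (g • pt 𝐀) := by
      apply H20.Zass.eq_K hZ
      · rintro z ⟨w, hw, rfl⟩
        change (g * w * g⁻¹) • (g • pt 𝐀) = g • pt 𝐀
        rw [mul_smul, mul_smul, inv_smul_smul, smul_pt_eq.mpr (le_normalizer hw)]
      · rintro z ⟨w, hw, rfl⟩ hz1 c hc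
        change (g * w * g⁻¹) • c = c at hc
        have hw1 : w ≠ 1 := by
          rintro rfl
          apply hz1
          rw [map_one]
        by_contra hne
        apply hw1
        apply h.hA.semireg hw (x := g⁻¹ • c)
        · intro e
          apply hne
          rw [← e, smul_inv_smul]
        · rw [mul_smul, mul_smul] at hc
          rw [eq_inv_smul_iff, hc]
      · rw [hΩ]
        congr 1
        exact Nat.card_congr (𝐀.equivMapOfInjective _ (MulAut.conj g).injective).symm.toEquiv
    have hx : (x : G) ∈ 𝐀.map (MulAut.conj g).toMonoidHom := by rw [hK]; exact x.2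
    have hy : (y : G) ∈ 𝐀.map (MulAut.conj g).toMonoidHom := by rw [hK]; exact y.2
    obtain ⟨x', hx', hxe⟩ := hx
    obtain ⟨y', hy', hye⟩ := hy
    apply Subtype.ext
    change (x : G) * y = y * x
    rw [← hxe, ← hye, ← map_mul, ← map_mul, h.hA.comm x' hx' y' hy']

end

end Ev

/-- even order CT simple groups: the setup -/
theorem exists_ev [IsSimpleGroup G] (hG : ¬ IsMulCommutative G) (hct : IsCT G) (h2 : 2 ∣ Nat.card G) :
    ∃ u : G, Ev G u := by
  classical
  haveI := Fact.mk Nat.prime_two
  obtain ⟨u, hu⟩ := exists_prime_orderOf_dvd_card' (G := G) 2 h2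
  have hu1 : u ≠ 1 := by
    intro e; rw [e, orderOf_one] at hu; omega
  have hu2 : u * u = 1 := by rw [← pow_two, ← hu]; exact pow_orderOf_eq_one _
  have hA := hallTI hct hu1
  have huA : u ∈ centralizer ({u} : Set G) := mem_centralizer_singleton_iff.mpr rfl
  have hAtop : centralizer ({u} : Set G) ≠ ⊤ := by
    intro e
    apply hG
    have hz : (center G : Subgroup G) ≠ ⊥ := by
      intro hc
      apply hu1
      have : u ∈ center G := by
        rw [mem_center_iff]
        intro g
        have : g ∈ centralizer ({u} : Set G) := by rw [e]; exact mem_top g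
        exact mem_centralizer_singleton_iff.mp this
      rw [hc] at this
      exact mem_bot.mp this
    rcases (inferInstance : (center G).Normal).eq_bot_or_eq_top with h | h
    · exact absurd h hz
    · exact ⟨⟨fun a b => by
        have : b ∈ center G := by rw [h]; exact mem_top b
        exact mem_center_iff.mp this a⟩⟩
  refine ⟨u, hct, hu1, hu2, ?_, ?_⟩
  · -- not all involutions commute with u
    by_contra hcon
    push Not at hcon
    -- the subgroup generated by the involutions is normal
    have hN : normalClosure ({u} : Set G) ≤ centralizer ({u} : Set G) := by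
      have hsub : Group.conjugatesOfSet ({u} : Set G) ⊆ centralizer ({u} : Set G) := by
        intro x hx
        rw [Group.mem_conjugatesOfSet_iff] at hx
        obtain ⟨a, ha, hax⟩ := hx
        rw [Set.mem_singleton_iff] at ha
        subst ha
        obtain ⟨c, rfl⟩ := isConj_iff.mp hax
        have h1 : c * a * c⁻¹ * (c * a * c⁻¹) = 1 := by
          have : c * a * c⁻¹ * (c * a * c⁻¹) = c * (a * a) * c⁻¹ := by group
          rw [this, hu2]; group
        have := hcon _ (BSW.conj_ne_one hu1) h1
        exact mem_centralizer_singleton_iff.mpr this.symm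
      exact (closure_le _).mpr hsub
    rcases (normalClosure_normal (s := ({u} : Set G))).eq_bot_or_eq_top with h | h
    · have h1 : u ∈ normalClosure ({u} : Set G) := subset_normalClosure rfl
      rw [h] at h1
      exact hu1 (mem_bot.mp h1)
    · rw [h, top_le_iff] at hN
      exact hAtop hN
  · -- Burnside transfer
    intro hNA
    obtain ⟨S⟩ : Nonempty (Sylow 2 (centralizer ({u} : Set G))) := inferInstance
    have hidx : ¬ 2 ∣ (centralizer ({u} : Set G)).index := by
      intro h3
      have h4 : 2 ∣ Nat.card (centralizer ({u} : Set G)) := by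
        have := orderOf_dvd_of_mem huA
        rwa [hu] at this
      exact absurd (Nat.eq_one_of_dvd_coprimes hA.cop h4 h3) (by norm_num)
    -- a Sylow 2-subgroup of G in A
    obtain ⟨P, hP⟩ : ∃ P : Sylow 2 G, (P : Subgroup G) ≤ centralizer ({u} : Set G) := by
      have hpg : IsPGroup 2 (zpowers u) := by
        apply IsPGroup.of_card (n := 1)
        rw [Nat.card_zpowers, hu, pow_one]
      obtain ⟨P, hP⟩ := hpg.exists_le_sylow
      have huP : u ∈ (P : Subgroup G) := hP (mem_zpowers u)
      refine ⟨P, ?_⟩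
      haveI : Nontrivial P := ⟨⟨1, ⟨u, huP⟩, fun e => hu1 (congrArg Subtype.val e).symm⟩⟩
      haveI := P.isPGroup'.center_nontrivial
      obtain ⟨z, hz1⟩ := _root_.exists_ne (1 : center (P : Subgroup G))
      have hz1' : ((z : (P : Subgroup G)) : G) ≠ 1 := fun e => hz1 (Subtype.ext (Subtype.ext e))
      have hzc : ∀ g ∈ (P : Subgroup G), g * z = z * g := by
        intro g hg
        exact congrArg Subtype.val (mem_center_iff.mp z.2 ⟨g, hg⟩)
      intro g hg
      rw [mem_centralizer_singleton_iff]
      exact cent_le hct hu1 hz1' (hzc u huP).symm (hzc g hg)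
    have hP1 : (P : Subgroup G) ≠ ⊥ := by
      intro e
      apply P.not_dvd_index
      rw [e, index_bot]; exact h2
    obtain ⟨s, hs, hs1⟩ := (bot_or_exists_ne_one (P : Subgroup G)).resolve_left hP1
    have hNC : normalizer ((P : Subgroup G) : Set G) ≤ centralizer ((P : Subgroup G) : Set G) := by
      intro g hg
      have h3 : g ∈ normalizer (centralizer ({u} : Set G) : Set G) :=
        hA.ti (hP hs) hs1 (hP ((mem_normalizer_iff.mp hg s).mp hs))
      rw [hNA] at h3
      rw [mem_centralizer_iff]
      intro x hx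
      exact hA.comm x (hP hx) g h3
    have hcompl := MonoidHom.ker_transferSylow_isComplement' P hNC
    obtain ⟨K, hKn, hK⟩ : ∃ K : Subgroup G, K.Normal ∧ IsComplement' K (P : Subgroup G) :=
      ⟨_, MonoidHom.normal_ker _, hcompl⟩
    rcases hKn.eq_bot_or_eq_top with e | e
    · rw [e, isComplement'_bot_left] at hK
      apply hAtop
      rw [hK, top_le_iff] at hP
      exact hP
    · rw [e, isComplement'_top_left] at hK
      exact hP1 hK

end Cfsg.Agent.H9.CT
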