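import Cfsg.Agent.H9.CTD
import Mathlib.LinearAlgebra.Matrix.ProjectiveSpecialLinearGroup

set_option autoImplicit false
set_option linter.unusedSectionVars false
set_option linter.style.haveILetI false
set_option linter.unusedVariables false
set_option linter.unusedSimpArgs false
set_option maxHeartbeats 1000000

/-! `PSL(2,2^f)` is a CT group. -/

open Cfsg Subgroup

namespace Cfsg.Agent.H9.CT

theorem cross {F : Type*} [Field F] {v1 v2 v3 x1 x2 x3 y1 y2 y3 : F} (hv : v1 ≠ 0 ∨ v2 ≠ 0 ∨ v3 ≠ 0)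
    (hx12 : x1 * v2 = x2 * v1) (hx13 : x1 * v3 = x3 * v1) (hx23 : x2 * v3 = x3 * v2)
    (hy12 : y1 * v2 = y2 * v1) (hy13 : y1 * v3 = y3 * v1) (hy23 : y2 * v3 = y3 * v2) :
    x1 * y2 = x2 * y1 ∧ x1 * y3 = x3 * y1 ∧ x2 * y3 = x3 * y2 := by
  rcases hv with h | h | h
  · refine ⟨mul_right_cancel₀ h ?_, mul_right_cancel₀ h ?_, mul_right_cancel₀ (mul_ne_zero h h) ?_⟩
    · linear_combination (-x1) * hy12 + y1 * hx12
    · linear_combination (-x1) * hy13 + y1 * hx13
    · linear_combination (-(y3 * v1)) * hx12 + (y2 * v1) * hx13 + (x1 * v3) * hy12 - (x1 * v2) * hy13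
  · refine ⟨mul_right_cancel₀ h ?_, mul_right_cancel₀ (mul_ne_zero h h) ?_, mul_right_cancel₀ h ?_⟩
    · linear_combination x2 * (-hy12) + y2 * hx12
    · linear_combination (y3 * v2) * hx12 - (y1 * v2) * (-hx23) + (-x2 * v3) * hy12 - (x2 * v1) * hy23
    · linear_combination (-x2) * hy23 + y2 * hx23
  · refine ⟨mul_right_cancel₀ (mul_ne_zero h h) ?_, mul_right_cancel₀ h ?_, mul_right_cancel₀ h ?_⟩
    · linear_combination (y2 * v3) * hx13 - (y1 * v3) * hx23 + (-(x3 * v2)) * hy13 + (x3 * v1) * hy23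
    · linear_combination (y3) * hx13 - (x3) * hy13
    · linear_combination (y3) * hx23 - (x3) * hy23

theorem commute_of_commute {F : Type*} [Field F] {A B C : Matrix (Fin 2) (Fin 2) F}
    (hA : A 0 0 - A 1 1 ≠ 0 ∨ A 0 1 ≠ 0 ∨ A 1 0 ≠ 0) (hB : B * A = A * B) (hC : C * A = A * C) : B * C = C * B := by
  have b00 := congrFun (congrFun hB 0) 0
  have b01 := congrFun (congrFun hB 0) 1
  have b10 := congrFun (congrFun hB 1) 0
  have c00 := congrFun (congrFun hC 0) 0
  have c01 := congrFun (congrFun hC 0) 1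
  have c10 := congrFun (congrFun hC 1) 0
  simp only [Matrix.mul_apply, Fin.sum_univ_two] at b00 b01 b10 c00 c01 c10
  obtain ⟨h1, h2, h3⟩ := cross (x1 := B 0 0 - B 1 1) (x2 := B 0 1) (x3 := B 1 0) (y1 := C 0 0 - C 1 1) (y2 := C 0 1)
    (y3 := C 1 0) hA (by linear_combination b01) (by linear_combination -b10) (by linear_combination b00)
      (by linear_combination c01) (by linear_combination -c10) (by linear_combination c00)
  ext i j
  fin_cases i <;> fin_cases j <;> simp only [Matrix.mul_apply, Fin.sum_univ_two, Fin.zero_eta, Fin.mk_one,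
    Fin.isValue]
  · linear_combination h3
  · linear_combination h1
  · linear_combination -h2
  · linear_combination -h3

theorem psl_ct {F : Type*} [Field F] [Fintype F] {f : ℕ} (hF : Fintype.card F = 2 ^ f) (hf : 2 ≤ f) :
    IsCT (Matrix.ProjectiveSpecialLinearGroup (Fin 2) F) := by
  classical
  haveI : CharP F 2 := by
    obtain ⟨p, hp, n, hpn, hcard⟩ := FiniteField.card' F
    have hp2 : p = 2 := by
      have hd : 2 ∣ p ^ (n : ℕ) := by
        rw [← hcard, hF]
        exact dvd_pow_self 2 (by omega)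
      exact ((Nat.prime_dvd_prime_iff_eq Nat.prime_two hpn).mp (Nat.prime_two.dvd_of_dvd_pow hd)).symm
    subst hp2
    exact hp
  have hscal : ∀ A : Matrix.SpecialLinearGroup (Fin 2) F, (A 0 0 - A 1 1 = 0 ∧ A 0 1 = 0 ∧ A 1 0 = 0) → A = 1 := by
    rintro A ⟨h1, h2, h3⟩
    have hdet := A.det_coe
    rw [Matrix.det_fin_two] at hdet
    change A 0 0 * A 1 1 - A 0 1 * A 1 0 = 1 at hdet
    rw [h2, zero_mul, sub_zero, ← sub_eq_zero.mp h1] at hdet
    have h4 : A 0 0 = 1 := by
      have h5 : (A 0 0 - 1) * (A 0 0 - 1) = 0 := by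
        have h6 : (2 : F) = 0 := CharTwo.two_eq_zero
        linear_combination hdet + (1 - A 0 0) * h6
      exact sub_eq_zero.mp (mul_self_eq_zero.mp h5)
    ext i j
    fin_cases i <;> fin_cases j
    · simpa using h4
    · simpa using h2
    · simpa using h3
    · change A 1 1 = _
      rw [← sub_eq_zero.mp h1, h4]
      simp
  have hcen : center (Matrix.SpecialLinearGroup (Fin 2) F) = ⊥ := by
    rw [eq_bot_iff]
    intro A hA
    rw [mem_bot]
    obtain ⟨r, hr, hrA⟩ := Matrix.SpecialLinearGroup.mem_center_iff.mp hA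
    apply hscal
    have h1 : ∀ i j, A i j = (Matrix.scalar (Fin 2) r) i j := fun i j => by rw [hrA]
    refine ⟨?_, ?_, ?_⟩
    · simp [h1]
    · simp [h1]
    · simp [h1]
  have hinj : ∀ A B : Matrix.SpecialLinearGroup (Fin 2) F,
      (QuotientGroup.mk A : Matrix.ProjectiveSpecialLinearGroup (Fin 2) F) = QuotientGroup.mk B → A = B := by
    intro A B hAB
    have h1 := QuotientGroup.eq.mp hAB
    rw [hcen, mem_bot] at h1
    exact inv_mul_eq_one.mp h1
  intro a b c ha hb hc hab hbc
  obtain ⟨A, rfl⟩ := QuotientGroup.mk_surjective a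
  obtain ⟨B, rfl⟩ := QuotientGroup.mk_surjective b
  obtain ⟨C, rfl⟩ := QuotientGroup.mk_surjective c
  have h1 : A * B = B * A := hinj _ _ hab
  have h2 : B * C = C * B := hinj _ _ hbc
  have hB1 : B ≠ 1 := by
    rintro rfl
    exact hb rfl
  have hB2 : B 0 0 - B 1 1 ≠ 0 ∨ B 0 1 ≠ 0 ∨ B 1 0 ≠ 0 := by
    by_contra hcon
    push Not at hcon
    exact hB1 (hscal B hcon)
  have h3 : (A : Matrix (Fin 2) (Fin 2) F) * C = C * A := by
    apply commute_of_commute hB2
    · have := congrArg (fun X : Matrix.SpecialLinearGroup (Fin 2) F => (X : Matrix (Fin 2) (Fin 2) F)) h1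
      simpa using this
    · have := congrArg (fun X : Matrix.SpecialLinearGroup (Fin 2) F => (X : Matrix (Fin 2) (Fin 2) F)) h2
      simpa using this.symm
  have h4 : A * C = C * A := by
    apply Subtype.ext
    simpa using h3
  change (QuotientGroup.mk A : Matrix.ProjectiveSpecialLinearGroup (Fin 2) F) * QuotientGroup.mk C =
    QuotientGroup.mk C * QuotientGroup.mk A
  rw [← QuotientGroup.mk_mul, ← QuotientGroup.mk_mul, h4]

end Cfsg.Agent.H9.CT
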