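import Cfsg.Agent.H9.T1
import Cfsg.Agent.H9.Syl
import Cfsg.Agent.H3.Isometry
import Cfsg.Agent.H3.TI
import Cfsg.Agent.H3.Perm
import Cfsg.Agent.H3.Integral
import Cfsg.Agent.H3.Basic2

set_option autoImplicit false
set_option linter.unusedSectionVars false
set_option linter.style.haveILetI false
set_option linter.unusedVariables false
set_option linter.unusedSimpArgs false

/-! Exceptional characters for a self-centralizing Sylow subgroup of prime order: Gram matrix. -/

open Cfsg
open scoped ComplexConjugate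

namespace Cfsg.Agent.H9.Exc

open Subgroup

universe u

variable {G : Type u} [Group G] [Fintype G] {p : ℕ} [Fact p.Prime] (P : Subgroup G)

/-- `1 - μ` -/
noncomputable def ph (μ : P →* ℂˣ) : P → ℂ := fun y => 1 - (μ y : ℂ)

/-- conjugate linear character -/
noncomputable def cj (μ : P →* ℂˣ) (n : normalizer (P : Set G)) : P →* ℂˣ :=
  μ.comp ((P.normalizerMonoidHom n : MulAut P) : P →* P)

theorem cj_apply (μ : P →* ℂˣ) (n : normalizer (P : Set G)) (y : P) :
    cj P μ n y = μ ⟨(n : G) * y * (n : G)⁻¹, (mem_normalizer_iff.mp n.2 y).mp y.2⟩ := rfl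

theorem cj_one (μ : P →* ℂˣ) : cj P μ 1 = μ := by
  ext y
  rw [cj_apply]
  congr 2
  apply Subtype.ext
  simp

theorem cj_mul (μ : P →* ℂˣ) (m n : normalizer (P : Set G)) : cj P μ (m * n) = cj P (cj P μ m) n := by
  ext y
  rw [cj_apply, cj_apply, cj_apply]
  congr 2
  apply Subtype.ext
  simp [mul_assoc]

theorem cj_eq_one_iff (μ : P →* ℂˣ) (n : normalizer (P : Set G)) : cj P μ n = 1 ↔ μ = 1 := by
  constructor
  · intro h
    have h1 : cj P (cj P μ n) n⁻¹ = cj P 1 n⁻¹ := by rw [h]
    rw [← cj_mul, mul_inv_cancel, cj_one] at h1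
    rw [h1]; rfl
  · rintro rfl; rfl

variable {P}

theorem inj_of_ne_one (hP : Nat.card P = p) {μ : P →* ℂˣ} (hμ : μ ≠ 1) : Function.Injective μ := by
  haveI : Finite P := Nat.finite_of_card_ne_zero (by rw [hP]; exact (Fact.out : p.Prime).ne_zero)
  rw [← MonoidHom.ker_eq_bot_iff]
  rcases (Nat.dvd_prime (Fact.out : p.Prime)).mp (hP ▸ card_subgroup_dvd_card μ.ker) with h | h
  · exact card_eq_one.mp h
  · exfalso
    apply hμ
    have h1 : μ.ker = ⊤ := by
      apply eq_top_of_card_eq
      rw [h, hP]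
    ext y
    have : y ∈ μ.ker := by rw [h1]; trivial
    rw [MonoidHom.mem_ker.mp this]; rfl

theorem cj_eq_self_iff (hP : Nat.card P = p) {μ : P →* ℂˣ} (hμ : μ ≠ 1) (n : normalizer (P : Set G)) :
    cj P μ n = μ ↔ (n : G) ∈ centralizer (P : Set G) := by
  have hinj := inj_of_ne_one hP hμ
  rw [mem_centralizer_iff]
  constructor
  · intro h y hy
    have h1 := congrArg (fun f : P →* ℂˣ => f ⟨y, hy⟩) h
    simp only [cj_apply] at h1
    have h2 := congrArg Subtype.val (hinj h1)
    simp only at h2
    exact (mul_inv_eq_iff_eq_mul.mp h2).symm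
  · intro h
    ext y
    rw [cj_apply]
    congr 2
    apply Subtype.ext
    change (n : G) * y * (n : G)⁻¹ = y
    rw [← h y y.2, mul_inv_cancel_right]

theorem ti (hP : Nat.card P = p) {g : G} (hg : g ∉ normalizer (P : Set G)) {x : G} (hx : x ∈ P)
    (hgx : g * x * g⁻¹ ∈ P) : x = 1 := by
  by_contra hne
  apply hg
  have h1 : zpowers x = P := Simple.zpowers_eq_of_card hP hx hne
  have h2 : zpowers (g * x * g⁻¹) = P := by
    apply Simple.zpowers_eq_of_card hP hgx
    intro h
    apply hne
    rw [mul_inv_eq_one] at h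
    have : g * x = g * 1 := by rw [h, mul_one]
    exact mul_left_cancel this
  rw [mem_normalizer_iff]
  intro y
  constructor
  · intro hy
    rw [← h1] at hy
    obtain ⟨k, rfl⟩ := mem_zpowers_iff.mp hy
    rw [← conj_zpow]
    exact zpow_mem hgx k
  · intro hy
    rw [← h2] at hy
    obtain ⟨k, hk⟩ := mem_zpowers_iff.mp hy
    rw [conj_zpow] at hk
    have : x ^ k = y := by
      have := mul_right_cancel hk
      exact mul_left_cancel this
    rw [← this]
    exact zpow_mem hx k

theorem isMulComm_of_card (hP : Nat.card P = p) : IsMulCommutative P := by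
  haveI := isCyclic_of_prime_card hP
  letI := IsCyclic.commGroup (α := P)
  rw [isMulCommutative_iff]
  intro a b
  exact mul_comm a b

theorem lin_inner [Fintype P] (μ ν : P →* ℂˣ) :
    classInner (fun y : P => (μ y : ℂ)) (fun y : P => (ν y : ℂ)) = if μ = ν then 1 else 0 := by
  classical
  rw [H3.classInner_irr (H3.isIrr_of_hom μ) (H3.isIrr_of_hom ν)]
  by_cases h : μ = ν
  · rw [if_pos h, if_pos (by rw [h])]
  · rw [if_neg h, if_neg (fun h' => h (H3.hom_coe_injective h'))]

theorem ph_inner [Fintype P] {μ ν : P →* ℂˣ} (hμ : μ ≠ 1) (hν : ν ≠ 1) [Decidable (μ = ν)] :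
    classInner (ph P μ) (ph P ν) = 1 + if μ = ν then 1 else 0 := by
  classical
  have h0 : ∀ κ : P →* ℂˣ, ph P κ = (fun y : P => ((1 : P →* ℂˣ) y : ℂ)) - (fun y : P => (κ y : ℂ)) := by
    intro κ; ext y; simp [ph]
  rw [h0, h0, H3.classInner_sub_left, H3.classInner_sub_right, H3.classInner_sub_right, lin_inner, lin_inner,
    lin_inner, lin_inner]
  rw [if_pos rfl, if_neg (Ne.symm hν), if_neg hμ]
  by_cases h : μ = ν
  · rw [if_pos h, if_pos h]; ring
  · rw [if_neg h, if_neg h]; ring

theorem ph_one (μ : P →* ℂˣ) : ph P μ 1 = 0 := by simp [ph]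

theorem ph_isGen [Finite P] (μ : P →* ℂˣ) : IsGeneralizedCharacter P (ph P μ) := by
  have h0 : ph P μ = (fun y : P => 1) - (fun y : P => (μ y : ℂ)) := by
    ext y; simp [ph]
  rw [h0]
  exact ⟨_, _, H3.isChar_one, H3.irr_isChar (H3.isIrr_of_hom μ), rfl⟩

/-- the Gram matrix -/
theorem gram (hP : Nat.card P = p) {μ ν : P →* ℂˣ} (hμ : μ ≠ 1) (hν : ν ≠ 1) :
    (p : ℂ) * classInner (indFun P (ph P μ)) (indFun P (ph P ν)) =
      Nat.card (normalizer (P : Set G)) + Nat.card {n : normalizer (P : Set G) // cj P ν n = μ} := by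
  classical
  letI : Fintype P := Fintype.ofFinite P
  letI : Fintype (normalizer (P : Set G)) := Fintype.ofFinite _
  have hpp : p.Prime := Fact.out
  have hp0 : (p : ℂ) ≠ 0 := by exact_mod_cast hpp.ne_zero
  rw [H3.frobenius_reciprocity P _ (H3.indFun_classFun P _)]
  have key : ∀ x : P, ph P μ x * conj (indFun P (ph P ν) x) =
      (p : ℂ)⁻¹ * ∑ n : normalizer (P : Set G), ph P μ x * conj (ph P (cj P ν n) x) := by
    intro x
    by_cases hx : x = 1
    · subst hx
      rw [ph_one]; simp
    · rw [indFun, hP, map_mul, map_inv₀, Complex.conj_natCast, map_sum]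
      rw [← Finset.mul_sum]
      have h1 : ∑ g : G, conj (extendByZero P (ph P ν) (g⁻¹ * x * g)) =
          ∑ n : normalizer (P : Set G), conj (ph P (cj P ν n) x) := by
        have h2 : ∑ g : G, conj (extendByZero P (ph P ν) (g⁻¹ * x * g)) =
            ∑ g : G, conj (extendByZero P (ph P ν) (g * x * g⁻¹)) := by
          refine Fintype.sum_equiv (Equiv.inv G) _ _ fun g => ?_
          simp
        rw [h2]
        symm
        have h3 : ∑ n : normalizer (P : Set G), conj (ph P (cj P ν n) x) =
            ∑ n : normalizer (P : Set G), conj (extendByZero P (ph P ν) ((n : G) * x * (n : G)⁻¹)) := by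
          apply Finset.sum_congr rfl
          intro n _
          have h4 : (n : G) * x * (n : G)⁻¹ ∈ P := (mem_normalizer_iff.mp n.2 x).mp x.2
          rw [H3.extendByZero_mem P _ h4]
          rfl
        rw [h3]
        have h5 := H3.sum_extendByZero_mul (normalizer (P : Set G)) (fun _ => (1 : ℂ))
          (fun g => conj (extendByZero P (ph P ν) (g * x * g⁻¹)))
        simp only [one_mul] at h5
        rw [← h5]
        apply Finset.sum_congr rfl
        intro g _
        by_cases hg : g ∈ normalizer (P : Set G)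
        · rw [H3.extendByZero_mem _ _ hg, one_mul]
        · rw [H3.extendByZero_not_mem _ _ hg, zero_mul]
          have h6 : g * x * g⁻¹ ∉ P := fun h => hx (Subtype.ext (ti hP hg x.2 h))
          rw [H3.extendByZero_not_mem P _ h6, map_zero]
      rw [h1]; ring
  have h7 : classInner (ph P μ) (fun h : P => indFun P (ph P ν) h) =
      (p : ℂ)⁻¹ * ∑ n : normalizer (P : Set G), classInner (ph P μ) (ph P (cj P ν n)) := by
    simp only [classInner]
    rw [Finset.sum_congr rfl fun x _ => key x, ← Finset.mul_sum, Finset.sum_comm, ← Finset.mul_sum]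
    ring
  rw [h7, ← mul_assoc, mul_inv_cancel₀ hp0, one_mul]
  have h8 : ∀ n : normalizer (P : Set G), classInner (ph P μ) (ph P (cj P ν n)) =
      1 + if cj P ν n = μ then 1 else 0 := by
    intro n
    rw [ph_inner hμ (fun h => hν ((cj_eq_one_iff P ν n).mp h))]
    congr 1
    simp only [eq_comm]
  rw [Finset.sum_congr rfl fun n _ => h8 n, Finset.sum_add_distrib, Finset.sum_const, Finset.card_univ,
    nsmul_eq_mul, mul_one, Finset.sum_boole]
  congr 1
  · rw [Nat.card_eq_fintype_card]
  · rw [Nat.card_eq_fintype_card, Fintype.card_subtype (fun n : normalizer (P : Set G) => cj P ν n = μ)]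

/-- the action of the normalizer on the nontrivial linear characters -/
@[reducible] noncomputable def actX (P : Subgroup G) : MulAction (normalizer (P : Set G)) {μ : P →* ℂˣ // μ ≠ 1} where
  smul n μ := ⟨cj P μ.1 n⁻¹, fun h => μ.2 ((cj_eq_one_iff P _ _).mp h)⟩
  one_smul μ := Subtype.ext (by
    change cj P μ.1 1⁻¹ = μ.1
    rw [inv_one, cj_one])
  mul_smul m n μ := Subtype.ext (by
    change cj P μ.1 (m * n)⁻¹ = cj P (cj P μ.1 n⁻¹) m⁻¹
    rw [mul_inv_rev, cj_mul])

/-- orbits of nontrivial linear characters: representatives with their Gram matrix -/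
theorem exists_reps (hP : Nat.card P = p) (hC : centralizer (P : Set G) = P) {e : ℕ}
    (hN : Nat.card (normalizer (P : Set G)) = p * e) :
    ∃ (t : ℕ) (lam : Fin t → (P →* ℂˣ)), t * e = p - 1 ∧ (∀ i, lam i ≠ 1) ∧
      (∀ i j, (∃ n, cj P (lam i) n = lam j) → i = j) ∧
      (∀ μ : P →* ℂˣ, μ ≠ 1 → ∃ i n, cj P (lam i) n = μ) ∧
      ∀ i j, classInner (indFun P (ph P (lam i))) (indFun P (ph P (lam j))) = e + if i = j then 1 else 0 := by
  classical
  have hpp : p.Prime := Fact.out
  have hp0 : (p : ℂ) ≠ 0 := by exact_mod_cast hpp.ne_zero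
  haveI : Finite P := inferInstance
  letI := actX P
  have hsmul : ∀ (n : normalizer (P : Set G)) (μ : {μ : P →* ℂˣ // μ ≠ 1}), (n • μ).1 = cj P μ.1 n⁻¹ := fun _ _ => rfl
  haveI : Finite (P →* ℂˣ) := by
    have : Finite (IrrCharacter P) := inferInstance
    exact Finite.of_injective (fun μ : P →* ℂˣ => (⟨fun y => (μ y : ℂ), H3.isIrr_of_hom μ⟩ : IrrCharacter P))
      (fun a b h => H3.hom_coe_injective (congrArg Subtype.val h))
  have hcardX : Nat.card {μ : P →* ℂˣ // μ ≠ 1} = p - 1 := by
    have h1 : Nat.card (P →* ℂˣ) = p := by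
      rw [H3.card_hom_units]
      have h2 : commutator P = ⊥ := by
        haveI := isMulComm_of_card hP
        rw [commutator_eq_bot_iff_center_eq_top, eq_top_iff]
        intro x _
        rw [mem_center_iff]
        intro y
        exact isMulCommutative_iff.mp this y x
      rw [h2, index_bot, hP]
    have h3 : Nat.card (P →* ℂˣ) = Nat.card {μ : P →* ℂˣ // μ = 1} + Nat.card {μ : P →* ℂˣ // μ ≠ 1} := by
      rw [← Nat.card_sum]
      exact Nat.card_congr (Equiv.sumCompl (fun μ : P →* ℂˣ => μ = 1)).symm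
    have h4 : Nat.card {μ : P →* ℂˣ // μ = 1} = 1 := by
      haveI : Unique {μ : P →* ℂˣ // μ = 1} := ⟨⟨⟨1, rfl⟩⟩, fun b => Subtype.ext b.2⟩
      exact Nat.card_unique
    omega
  let Ω := MulAction.orbitRel.Quotient (normalizer (P : Set G)) {μ : P →* ℂˣ // μ ≠ 1}
  haveI : Finite Ω := Quotient.finite _
  have hstab : ∀ μ : {μ : P →* ℂˣ // μ ≠ 1}, MulAction.stabilizer (normalizer (P : Set G)) μ = P.subgroupOf _ := by
    intro μ
    ext n
    rw [MulAction.mem_stabilizer_iff, mem_subgroupOf]
    have h1 : n • μ = μ ↔ cj P μ.1 n⁻¹ = μ.1 := by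
      constructor
      · intro h; rw [← hsmul, h]
      · intro h; exact Subtype.ext h
    rw [h1, cj_eq_self_iff hP μ.2, hC]
    simp
  have hidx : (P.subgroupOf (normalizer (P : Set G))).index = e := by
    have h1 := card_mul_index (P.subgroupOf (normalizer (P : Set G)))
    rw [Nat.card_congr (subgroupOfEquivOfLe (le_normalizer : P ≤ normalizer (P : Set G))).toEquiv, hP, hN] at h1
    exact Nat.eq_of_mul_eq_mul_left hpp.pos h1
  have ht : Nat.card Ω * e = p - 1 := by
    rw [← hcardX, Nat.card_congr (MulAction.selfEquivSigmaOrbitsQuotientStabilizer (normalizer (P : Set G))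
      {μ : P →* ℂˣ // μ ≠ 1})]
    letI : Fintype Ω := Fintype.ofFinite Ω
    rw [Nat.card_sigma]
    have h2 : ∀ ω : Ω, Nat.card ((normalizer (P : Set G)) ⧸ MulAction.stabilizer (normalizer (P : Set G)) (Quotient.out ω)) = e := by
      intro ω
      rw [hstab]
      exact hidx
    rw [Finset.sum_congr rfl fun ω _ => h2 ω, Finset.sum_const, Finset.card_univ, smul_eq_mul, Nat.card_eq_fintype_card]
  have E : Fin (Nat.card Ω) ≃ Ω := (Finite.equivFin Ω).symm
  let lam : Fin (Nat.card Ω) → (P →* ℂˣ) := fun i => (Quotient.out (E i)).1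
  have hlam : ∀ i, lam i ≠ 1 := fun i => (Quotient.out (E i)).2
  have hdist : ∀ i j, (∃ n, cj P (lam i) n = lam j) → i = j := by
    rintro i j ⟨n, hn⟩
    apply E.injective
    have h1 : n⁻¹ • Quotient.out (E i) = Quotient.out (E j) := by
      apply Subtype.ext
      rw [hsmul, inv_inv]; exact hn
    have h2 : (Quotient.mk'' (Quotient.out (E j)) : Ω) = Quotient.mk'' (Quotient.out (E i)) := by
      rw [Quotient.eq'', MulAction.orbitRel_apply, ← h1]
      exact MulAction.mem_orbit _ _
    rw [Quotient.out_eq', Quotient.out_eq'] at h2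
    exact h2.symm
  refine ⟨Nat.card Ω, lam, ht, hlam, hdist, ?_, ?_⟩
  · intro μ hμ
    obtain ⟨i, hi⟩ := E.surjective (Quotient.mk'' ⟨μ, hμ⟩)
    have h1 : (Quotient.mk'' (⟨μ, hμ⟩ : {μ : P →* ℂˣ // μ ≠ 1}) : Ω) = Quotient.mk'' (Quotient.out (E i)) := by
      rw [Quotient.out_eq', hi]
    rw [Quotient.eq'', MulAction.orbitRel_apply] at h1
    obtain ⟨n, hn⟩ := h1
    refine ⟨i, n⁻¹, ?_⟩
    have := congrArg Subtype.val hn
    exact this
  · intro i j
    have h1 := gram hP (hlam i) (hlam j)
    rw [hN] at h1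
    have h2 : Nat.card {n : normalizer (P : Set G) // cj P (lam j) n = lam i} = if i = j then p else 0 := by
      by_cases hij : i = j
      · subst hij
        rw [if_pos rfl]
        have h3 : Nat.card {n : normalizer (P : Set G) // cj P (lam i) n = lam i} = Nat.card (P.subgroupOf (normalizer (P : Set G))) := by
          apply Nat.card_congr
          apply Equiv.subtypeEquivRight
          intro n
          rw [cj_eq_self_iff hP (hlam i), hC, mem_subgroupOf]
        rw [h3, Nat.card_congr (subgroupOfEquivOfLe (le_normalizer : P ≤ normalizer (P : Set G))).toEquiv, hP]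
      · rw [if_neg hij]
        haveI : IsEmpty {n : normalizer (P : Set G) // cj P (lam j) n = lam i} :=
          ⟨fun n => hij (hdist j i ⟨n.1, n.2⟩).symm⟩
        exact Nat.card_of_isEmpty
    rw [h2] at h1
    apply mul_left_cancel₀ hp0
    rw [h1]
    by_cases hij : i = j
    · rw [if_pos hij, if_pos hij]; push_cast; ring
    · rw [if_neg hij, if_neg hij]; push_cast; ring

end Cfsg.Agent.H9.Exc
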