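import Cfsg.Agent.H9.ExcA

set_option autoImplicit false
set_option linter.unusedSectionVars false
set_option linter.style.haveILetI false
set_option linter.unusedVariables false
set_option linter.unusedSimpArgs false

/-! Exceptional characters for a self-centralizing Sylow subgroup of prime order: degree equation. -/

open Cfsg
open scoped ComplexConjugate

namespace Cfsg.Agent.H9.Exc

open Subgroup

universe u

variable {G : Type u} [Group G] [Fintype G] {p : ℕ} [Fact p.Prime] {P : Subgroup G}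

theorem ph_cj_inner [Fintype P] {χ : G → ℂ} (hχ : IsClassFunction G χ) (μ : P →* ℂˣ) (n : normalizer (P : Set G)) :
    classInner (fun y : P => χ y) (ph P (cj P μ n)) = classInner (fun y : P => χ y) (ph P μ) := by
  simp only [classInner]
  congr 1
  have hn := n.2
  refine Fintype.sum_equiv (P.normalizerMonoidHom n : P ≃* P).toEquiv _ _ fun y => ?_
  have h1 : χ ((P.normalizerMonoidHom n : P ≃* P) y : P) = χ y := hχ y n
  change χ y * conj (ph P (cj P μ n) y) = χ ((P.normalizerMonoidHom n : P ≃* P) y : P) * conj (ph P μ ((P.normalizerMonoidHom n : P ≃* P) y))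
  rw [h1]
  rfl

theorem finite_hom [Finite P] : Finite (P →* ℂˣ) := by
  have : Finite (IrrCharacter P) := inferInstance
  exact Finite.of_injective (fun μ : P →* ℂˣ => (⟨fun y => (μ y : ℂ), H3.isIrr_of_hom μ⟩ : IrrCharacter P))
    (fun a b h => H3.hom_coe_injective (congrArg Subtype.val h))

theorem card_hom (hP : Nat.card P = p) : Nat.card (P →* ℂˣ) = p := by
  rw [H3.card_hom_units]
  have h2 : commutator P = ⊥ := by
    haveI := isMulComm_of_card hP
    rw [commutator_eq_bot_iff_center_eq_top, eq_top_iff]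
    intro x _
    rw [mem_center_iff]
    intro y
    exact isMulCommutative_iff.mp this y x
  rw [h2, index_bot, hP]

open scoped Classical in
/-- the sum of all `1 - μ` -/
theorem sum_ph (hP : Nat.card P = p) [Fintype (P →* ℂˣ)] (y : P) :
    ∑ μ : P →* ℂˣ, ph P μ y = if y = 1 then 0 else (p : ℂ) := by
  classical
  have hpp : p.Prime := Fact.out
  by_cases hy : y = 1
  · subst hy
    rw [if_pos rfl]
    exact Finset.sum_eq_zero fun μ _ => ph_one μ
  · rw [if_neg hy]
    have h1 : ∑ μ : P →* ℂˣ, (μ y : ℂ) = 0 := by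
      obtain ⟨ν, hν⟩ : ∃ ν : P →* ℂˣ, ν ≠ 1 := by
        by_contra hcon
        push Not at hcon
        have h2 : Nat.card (P →* ℂˣ) = 1 := by
          haveI : Unique (P →* ℂˣ) := ⟨⟨1⟩, hcon⟩
          exact Nat.card_unique
        rw [card_hom hP] at h2
        exact hpp.one_lt.ne' h2
      have h3 : (ν y : ℂ) ≠ 1 := by
        intro h
        apply hy
        apply inj_of_ne_one hP hν
        rw [map_one]
        exact Units.ext h
      have h4 : (ν y : ℂ) * ∑ μ : P →* ℂˣ, (μ y : ℂ) = ∑ μ : P →* ℂˣ, (μ y : ℂ) := by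
        rw [Finset.mul_sum]
        refine Fintype.sum_equiv (Equiv.mulLeft ν) _ _ fun μ => ?_
        simp
      have h5 : ((ν y : ℂ) - 1) * ∑ μ : P →* ℂˣ, (μ y : ℂ) = 0 := by rw [sub_mul, h4, one_mul, sub_self]
      rcases mul_eq_zero.mp h5 with h6 | h6
      · exact absurd (sub_eq_zero.mp h6) h3
      · exact h6
    simp only [ph]
    rw [Finset.sum_sub_distrib, h1, sub_zero, Finset.sum_const, Finset.card_univ, ← Nat.card_eq_fintype_card,
      card_hom hP, nsmul_eq_mul, mul_one]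

/-- the congruence for the degree of a nonexceptional character -/
theorem degree_congr (hP : Nat.card P = p) [Fintype P] {χ : G → ℂ} (hχ : IsCharacter G χ) {c : ℤ} {d : ℕ}
    (hd : χ 1 = d) (hc : ∀ μ : P →* ℂˣ, μ ≠ 1 → classInner (fun y : P => χ y) (ph P μ) = c) :
    (d : ℤ) ≡ c [ZMOD p] := by
  classical
  have hpp : p.Prime := Fact.out
  have hp0 : (p : ℂ) ≠ 0 := by exact_mod_cast hpp.ne_zero
  haveI := finite_hom (P := P)
  letI : Fintype (P →* ℂˣ) := Fintype.ofFinite _
  -- sum of inner products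
  have h1 : ∑ μ : P →* ℂˣ, classInner (fun y : P => χ y) (ph P μ) = ((p : ℂ) - 1) * c := by
    rw [← Finset.sum_erase_add _ _ (Finset.mem_univ (1 : P →* ℂˣ))]
    have h2 : ∀ μ ∈ (Finset.univ : Finset (P →* ℂˣ)).erase 1, classInner (fun y : P => χ y) (ph P μ) = c := by
      intro μ hμ
      exact hc μ (Finset.ne_of_mem_erase hμ)
    rw [Finset.sum_congr rfl h2, Finset.sum_const, Finset.card_erase_of_mem (Finset.mem_univ _), Finset.card_univ,
      ← Nat.card_eq_fintype_card, card_hom hP]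
    have h3 : classInner (fun y : P => χ y) (ph P 1) = 0 := by
      have : ph P 1 = 0 := by ext y; simp [ph]
      rw [this]
      simp [classInner]
    rw [h3, add_zero, nsmul_eq_mul, Nat.cast_sub hpp.one_lt.le]
    push_cast; ring
  have h2 : ∑ μ : P →* ℂˣ, classInner (fun y : P => χ y) (ph P μ) =
      (p : ℂ) * classInner (fun y : P => χ y) (fun _ => 1) - χ 1 := by
    rw [← H3.classInner_sum_right]
    have h3 : (∑ μ : P →* ℂˣ, ph P μ) = fun y => if y = 1 then 0 else (p : ℂ) := by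
      ext y
      rw [Finset.sum_apply, sum_ph hP]
    rw [h3]
    simp only [classInner]
    rw [hP, ← mul_assoc, mul_inv_cancel₀ hp0, one_mul]
    have h4 : ∀ y : P, χ y * conj (if y = 1 then (0 : ℂ) else (p : ℂ)) = (p : ℂ) * (χ y * conj 1) - if y = 1 then (p : ℂ) * χ y else 0 := by
      intro y
      by_cases hy : y = 1
      · rw [if_pos hy, if_pos hy]; simp
      · rw [if_neg hy, if_neg hy]; simp [mul_comm]
    rw [Finset.sum_congr rfl fun y _ => h4 y, Finset.sum_sub_distrib, ← Finset.mul_sum, Finset.sum_ite_eq']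
    rw [if_pos (Finset.mem_univ _)]
    have h5 : (p : ℂ)⁻¹ * ((p : ℂ) * ∑ i : P, χ i * conj (1 : ℂ) - (p : ℂ) * χ ((1 : P) : G)) =
        ∑ i : P, χ i * conj (1 : ℂ) - χ ((1 : P) : G) := by
      rw [← mul_sub, ← mul_assoc, inv_mul_cancel₀ hp0, one_mul]
    rw [h5]
    rfl
  obtain ⟨m, hm⟩ := H3.classInner_char_nat (H3.isChar_restrict P hχ) (H3.isChar_one (G := P))
  have h6 : (d : ℂ) = (p : ℂ) * m - ((p : ℂ) - 1) * c := by
    rw [← hd, ← h1, h2]
    have : classInner (fun y : P => χ y) (fun _ => 1) = m := hm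
    rw [this]; ring
  have h7 : (d : ℤ) = (p : ℤ) * m - ((p : ℤ) - 1) * c := by exact_mod_cast h6
  rw [h7]
  apply Int.ModEq.symm
  rw [Int.modEq_iff_dvd]
  exact ⟨m - c, by ring⟩

/-- **the degree equation** -/
theorem exc (hlin : ∀ μ : G →* ℂˣ, μ = 1) (hP : Nat.card P = p) (hC : centralizer (P : Set G) = P) {e : ℕ}
    (hN : Nat.card (normalizer (P : Set G)) = p * e) (h2e : 2 * e ≤ p - 1) :
    ∃ (t : ℕ) (L : List (ℤ × ℕ)) (ε b : ℤ) (f : ℕ), t * e = p - 1 ∧ (ε = 1 ∨ ε = -1) ∧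
      (∀ x ∈ L, x.1 ≠ 0 ∧ 1 < x.2 ∧ x.2 ∣ Nat.card G ∧ (x.2 : ℤ) ≡ x.1 [ZMOD p]) ∧
      (L.map (fun x => x.1 ^ 2)).sum + (b + ε) ^ 2 + ((t : ℤ) - 1) * b ^ 2 = e ∧
      1 + (L.map (fun x => x.1 * (x.2 : ℤ))).sum + ((t : ℤ) * b + ε) * f = 0 ∧
      1 < f ∧ f ∣ Nat.card G ∧ 1 + (L.map (fun x => x.2 ^ 2)).sum + t * f ^ 2 ≤ Nat.card G := by
  classical
  have hpp : p.Prime := Fact.out
  letI : Fintype P := Fintype.ofFinite P
  letI : Fintype (IrrCharacter G) := Fintype.ofFinite _
  obtain ⟨t, lam, hte, hlam, hdist, hcov, hgram⟩ := exists_reps hP hC hN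
  have hp2 := hpp.two_le
  have ht2 : 2 ≤ t := by
    by_contra hcon
    have : t = 0 ∨ t = 1 := by omega
    rcases this with rfl | rfl <;> omega
  set v : Fin t → (G → ℂ) := fun i => indFun P (ph P (lam i)) with hv
  have hvgen : ∀ i, IsGeneralizedCharacter G (v i) := fun i => H3.isGen_ind P (ph_isGen _)
  have hv1 : ∀ i, v i 1 = 0 := fun i => by
    rw [hv]; simp only; rw [H3.indFun_one_apply, ph_one, mul_zero]
  let i0 : Fin t := ⟨0, by omega⟩
  -- the isometry lemma
  obtain ⟨εc, hε, μ, hμirr, hμinj, hμ⟩ := H3.isometry_lemma i0 (fun i => v i - v i0) (sub_self _)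
    (fun i => H3.isGen_sub (hvgen i) (hvgen i0))
    (fun i => by simp [hv1])
    (fun i hi => by
      rw [H3.classInner_sub_left, H3.classInner_sub_right, H3.classInner_sub_right, hgram, hgram, hgram, hgram,
        if_pos rfl, if_pos rfl, if_neg hi, if_neg (Ne.symm hi)]
      ring)
    (fun i j hi hj hij => by
      rw [H3.classInner_sub_left, H3.classInner_sub_right, H3.classInner_sub_right, hgram, hgram, hgram, hgram,
        if_neg hij, if_pos rfl, if_neg hi, if_neg (Ne.symm hj)]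
      ring)
  obtain ⟨ε, hε', hεc⟩ : ∃ ε : ℤ, (ε = 1 ∨ ε = -1) ∧ εc = ε := by
    rcases hε with h | h
    · exact ⟨1, Or.inl rfl, by rw [h]; simp⟩
    · exact ⟨-1, Or.inr rfl, by rw [h]; simp⟩
  subst hεc
  let M : Fin t → IrrCharacter G := fun i => ⟨μ i, hμirr i⟩
  have hMinj : Function.Injective M := fun i j h => hμinj (congrArg Subtype.val h)
  -- coefficients
  choose a ha using fun (i : Fin t) (χ : IrrCharacter G) => H3.classInner_gen_int (hvgen i) (H3.isGen_of_irr χ.2)
  have hirr : ∀ χ ψ : IrrCharacter G, classInner (χ : G → ℂ) (ψ : G → ℂ) = if χ = ψ then 1 else 0 :=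
    fun χ ψ => H3.classInner_irr' χ ψ
  have hdiff : ∀ i (χ : IrrCharacter G), (a i χ : ℂ) - a i0 χ = ε * ((if M i = χ then 1 else 0) - (if M i0 = χ then 1 else 0)) := by
    intro i χ
    rw [← ha, ← ha, ← H3.classInner_sub_left]
    have := hμ i
    rw [this, H3.classInner_smul_left, H3.classInner_sub_left]
    rw [← hirr (M i) χ, ← hirr (M i0) χ]
  have hdiff' : ∀ i (χ : IrrCharacter G), a i χ - a i0 χ = ε * ((if M i = χ then 1 else 0) - (if M i0 = χ then 1 else 0)) := by
    intro i χ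
    have := hdiff i χ
    split_ifs at this ⊢ <;> exact_mod_cast this
  -- value of the coefficients on exceptional characters
  set b : ℤ := a i0 (M i0) - ε with hb
  have hbj : ∀ j, j ≠ i0 → a i0 (M j) = b := by
    intro j hj
    have h1 : classInner (v i0) (v j - v i0) = -1 := by
      rw [H3.classInner_sub_right, hgram, hgram, if_pos rfl, if_neg (Ne.symm hj)]; ring
    have h2 := hμ j
    rw [h2, H3.classInner_smul_right, H3.classInner_sub_right] at h1
    have h3 : classInner (v i0) (μ j) = a i0 (M j) := ha i0 (M j)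
    have h4 : classInner (v i0) (μ i0) = a i0 (M i0) := ha i0 (M i0)
    rw [h3, h4] at h1
    have h5 : (ε : ℤ) * (a i0 (M j) - a i0 (M i0)) = -1 := by
      have : (conj (ε : ℂ)) = (ε : ℂ) := map_intCast _ ε
      rw [this] at h1
      exact_mod_cast h1
    rcases hε' with h | h
    · rw [hb, h]; rw [h] at h5; linarith
    · rw [hb, h]; rw [h] at h5; linarith
  -- the trivial character
  let I : IrrCharacter G := ⟨fun _ => 1, H3.isIrr_one⟩
  have haI : ∀ i, a i I = 1 := by
    intro i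
    have h1 : classInner (v i) (I : G → ℂ) = 1 := by
      rw [hv]; simp only
      rw [H3.frobenius_reciprocity P _ (H3.irr_classFun I.2)]
      have h2 : (fun h : P => (I : G → ℂ) h) = fun y : P => (((1 : P →* ℂˣ) y : ℂˣ) : ℂ) := by ext y; simp [I]
      have h3 : ph P (lam i) = (fun y : P => (((1 : P →* ℂˣ) y : ℂˣ) : ℂ)) - (fun y : P => ((lam i) y : ℂ)) := by
        ext y; simp [ph]
      rw [h2, h3, H3.classInner_sub_left, lin_inner, lin_inner, if_pos rfl, if_neg (hlam i), sub_zero]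
    have h2 := ha i I
    rw [h1] at h2
    exact_mod_cast h2.symm
  have hMI : ∀ j, M j ≠ I := by
    intro j hj
    by_cases hj0 : j = i0
    · -- use another index
      let i1 : Fin t := ⟨1, by omega⟩
      have hne : i1 ≠ i0 := by intro h; simp [i1, i0] at h
      have h1 := hdiff' i1 I
      rw [haI, haI, ← hj, if_neg (show ¬ M i1 = M j from fun h => hne ((hMinj h).trans hj0)),
        if_pos (show M i0 = M j by rw [hj0])] at h1
      rcases hε' with h | h <;> rw [h] at h1 <;> norm_num at h1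
    · have h1 := hdiff' j I
      rw [haI, haI, ← hj, if_pos rfl, if_neg (fun h => hj0 (hMinj h).symm)] at h1
      rcases hε' with h | h <;> rw [h] at h1 <;> norm_num at h1
  -- degrees
  choose deg hdeg0 hdeg using fun χ : IrrCharacter G => H3.irr_one_eq_nat χ.2
  have hdegI : deg I = 1 := by
    have := hdeg I
    have h2 : (I : G → ℂ) 1 = 1 := rfl
    rw [h2] at this
    exact_mod_cast this.symm
  have hdeg1 : ∀ χ : IrrCharacter G, χ ≠ I → 1 < deg χ := by
    intro χ hχ
    by_contra hcon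
    have h1 : deg χ = 1 := by have := hdeg0 χ; omega
    obtain ⟨κ, hκ⟩ := H3.exists_hom_of_char_one (H3.irr_isChar χ.2) (by rw [hdeg, h1]; simp)
    apply hχ
    apply Subtype.ext
    rw [hκ, hlin κ]
    rfl
  set f : ℕ := deg (M i0) with hf
  have hfj : ∀ j, deg (M j) = f := by
    intro j
    have h1 := congrArg (fun F : G → ℂ => F 1) (hμ j)
    simp only [Pi.sub_apply, hv1, sub_self, Pi.smul_apply, smul_eq_mul] at h1
    have h2 : μ j 1 - μ i0 1 = 0 := by
      rcases mul_eq_zero.mp h1.symm with h | h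
      · exfalso
        rcases hε' with h' | h' <;> rw [h'] at h <;> norm_num at h
      · exact h
    have h3 : μ j 1 = deg (M j) := hdeg (M j)
    have h4 : μ i0 1 = deg (M i0) := hdeg (M i0)
    rw [h3, h4] at h2
    have : (deg (M j) : ℂ) = deg (M i0) := sub_eq_zero.mp h2
    exact_mod_cast this
  -- the three sums
  have hsum1 : ∑ χ : IrrCharacter G, (a i0 χ) ^ 2 = (e : ℤ) + 1 := by
    have h1 := H3.classInner_eq_sum (φ := v i0) (ψ := v i0) (H3.isGen_classFun (hvgen i0))
    rw [hgram, if_pos rfl] at h1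
    have h2 : ∀ χ : IrrCharacter G, classInner (v i0) (χ : G → ℂ) * conj (classInner (v i0) (χ : G → ℂ)) = ((a i0 χ) ^ 2 : ℤ) := by
      intro χ
      rw [ha, map_intCast]; push_cast; ring
    rw [Finset.sum_congr rfl fun χ _ => h2 χ] at h1
    exact_mod_cast h1.symm
  have hsum2 : ∑ χ : IrrCharacter G, a i0 χ * (deg χ : ℤ) = 0 := by
    have h1 := H3.classFun_expand_apply (H3.isGen_classFun (hvgen i0)) (1 : G)
    rw [hv1] at h1
    have h2 : ∀ χ : IrrCharacter G, classInner (v i0) (χ : G → ℂ) * (χ : G → ℂ) 1 = (a i0 χ * (deg χ : ℤ) : ℤ) := by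
      intro χ
      rw [ha, hdeg]; push_cast; ring
    rw [Finset.sum_congr rfl fun χ _ => h2 χ] at h1
    exact_mod_cast h1.symm
  have hsum3 : ∑ χ : IrrCharacter G, (deg χ) ^ 2 = Nat.card G := by
    have h1 := H3.sum_degree_sq (G := G)
    have h2 : ∀ χ : IrrCharacter G, (χ : G → ℂ) 1 ^ 2 = (((deg χ) ^ 2 : ℕ) : ℂ) := by
      intro χ; rw [hdeg]; push_cast; ring
    rw [Finset.sum_congr rfl fun χ _ => h2 χ] at h1
    exact_mod_cast h1
  -- splitting
  let E : Finset (IrrCharacter G) := Finset.univ.image M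
  let S : Finset (IrrCharacter G) := (Finset.univ \ E).erase I
  have hIE : I ∉ E := by
    intro h
    obtain ⟨j, -, hj⟩ := Finset.mem_image.mp h
    exact hMI j hj
  have hsplit : ∀ {A : Type} [AddCommMonoid A] (F : IrrCharacter G → A),
      ∑ χ : IrrCharacter G, F χ = ∑ χ ∈ S, F χ + F I + ∑ j : Fin t, F (M j) := by
    intro A _ F
    rw [← Finset.sum_sdiff (Finset.subset_univ E), ← Finset.sum_erase_add (Finset.univ \ E) F
      (Finset.mem_sdiff.mpr ⟨Finset.mem_univ I, hIE⟩), Finset.sum_image (fun i _ j _ h => hMinj h)]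
  have hSprop : ∀ χ ∈ S, χ ≠ I ∧ ∀ j, M j ≠ χ := by
    intro χ hχ
    obtain ⟨h1, h2⟩ := Finset.mem_erase.mp hχ
    refine ⟨h1, fun j hj => ?_⟩
    exact (Finset.mem_sdiff.mp h2).2 (Finset.mem_image.mpr ⟨j, Finset.mem_univ j, hj⟩)
  let S' := S.filter (fun χ => a i0 χ ≠ 0)
  have hS1 : ∑ χ ∈ S, (a i0 χ) ^ 2 = ∑ χ ∈ S', (a i0 χ) ^ 2 := by
    symm
    apply Finset.sum_filter_of_ne
    intro χ _ h h0
    exact h (by rw [h0]; norm_num)
  have hS2 : ∑ χ ∈ S, a i0 χ * (deg χ : ℤ) = ∑ χ ∈ S', a i0 χ * (deg χ : ℤ) := by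
    symm
    apply Finset.sum_filter_of_ne
    intro χ _ h h0
    exact h (by rw [h0]; norm_num)
  have hS3 : ∑ χ ∈ S', (deg χ) ^ 2 ≤ ∑ χ ∈ S, (deg χ) ^ 2 :=
    Finset.sum_le_sum_of_subset (Finset.filter_subset _ _)
  have hlist : ∀ {A : Type} [AddCommMonoid A] (F : IrrCharacter G → A), (S'.toList.map F).sum = ∑ χ ∈ S', F χ :=
    fun F => Finset.sum_map_toList S' F
  have hMsum : ∀ {A : Type} [AddCommGroup A] (F : IrrCharacter G → A) (x y : A), F (M i0) = x → (∀ j, j ≠ i0 → F (M j) = y) →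
      ∑ j : Fin t, F (M j) = x + (t - 1) • y := by
    intro A _ F x y h1 h2
    rw [← Finset.add_sum_erase _ _ (Finset.mem_univ i0), h1]
    have : ∀ j ∈ (Finset.univ : Finset (Fin t)).erase i0, F (M j) = y := fun j hj => h2 j (Finset.ne_of_mem_erase hj)
    rw [Finset.sum_congr rfl this, Finset.sum_const, Finset.card_erase_of_mem (Finset.mem_univ _), Finset.card_univ, Fintype.card_fin]
  refine ⟨t, S'.toList.map (fun χ => (a i0 χ, deg χ)), ε, b, f, hte, hε', ?_, ?_, ?_, hdeg1 _ (hMI i0), ?_, ?_⟩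
  · intro x hx
    obtain ⟨χ, hχ, rfl⟩ := List.mem_map.mp hx
    rw [Finset.mem_toList, Finset.mem_filter] at hχ
    obtain ⟨hχS, hχ0⟩ := hχ
    obtain ⟨hχI, hχM⟩ := hSprop χ hχS
    refine ⟨hχ0, hdeg1 χ hχI, H3.irr_degree_dvd_card χ.2 (hdeg χ), ?_⟩
    apply degree_congr hP (H3.irr_isChar χ.2) (hdeg χ)
    intro ν hν
    obtain ⟨i, n, rfl⟩ := hcov ν hν
    rw [ph_cj_inner (H3.irr_classFun χ.2)]
    have h1 : classInner (χ : G → ℂ) (v i) = classInner (fun y : P => (χ : G → ℂ) y) (ph P (lam i)) :=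
      H3.frobenius_reciprocity' P _ (H3.irr_classFun χ.2)
    rw [← h1, H3.classInner_gen_symm (H3.isGen_of_irr χ.2) (hvgen i), ha]
    have h2 := hdiff' i χ
    rw [if_neg (hχM i), if_neg (hχM i0), sub_self, mul_zero] at h2
    exact_mod_cast sub_eq_zero.mp h2
  · rw [List.map_map]
    have h1 := hsum1
    rw [hsplit, hS1, haI, hMsum (fun χ => (a i0 χ) ^ 2) ((b + ε) ^ 2) (b ^ 2) (by rw [hb]; ring) (fun j hj => by rw [hbj j hj])] at h1
    have h2 := hlist (fun χ => (a i0 χ) ^ 2)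
    have h3 : (S'.toList.map ((fun x : ℤ × ℕ => x.1 ^ 2) ∘ fun χ => (a i0 χ, deg χ))).sum = ∑ χ ∈ S', (a i0 χ) ^ 2 := h2
    rw [h3]
    rw [nsmul_eq_mul, Nat.cast_sub (by omega)] at h1
    push_cast at h1
    linarith
  · rw [List.map_map]
    have h1 := hsum2
    rw [hsplit, hS2, haI, hdegI, hMsum (fun χ => a i0 χ * (deg χ : ℤ)) ((b + ε) * f) (b * f) (by rw [hb, hf]; ring)
      (fun j hj => by rw [hbj j hj, hfj])] at h1
    have h2 := hlist (fun χ => a i0 χ * (deg χ : ℤ))
    have h3 : (S'.toList.map ((fun x : ℤ × ℕ => x.1 * (x.2 : ℤ)) ∘ fun χ => (a i0 χ, deg χ))).sum = ∑ χ ∈ S', a i0 χ * (deg χ : ℤ) := h2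
    rw [h3]
    rw [nsmul_eq_mul, Nat.cast_sub (by omega)] at h1
    push_cast at h1
    linarith
  · exact H3.irr_degree_dvd_card (M i0).2 (hdeg (M i0))
  · rw [List.map_map]
    have h1 := hsum3
    rw [hsplit, hdegI] at h1
    have h4 : ∑ j : Fin t, (deg (M j)) ^ 2 = t * f ^ 2 := by
      rw [Finset.sum_congr rfl fun j _ => by rw [hfj j], Finset.sum_const, Finset.card_univ, Fintype.card_fin, smul_eq_mul]
    rw [h4] at h1
    have h2 := hlist (fun χ => (deg χ) ^ 2)
    have h3 : (S'.toList.map ((fun x : ℤ × ℕ => x.2 ^ 2) ∘ fun χ => (a i0 χ, deg χ))).sum = ∑ χ ∈ S', (deg χ) ^ 2 := h2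
    rw [h3]
    omega

end Cfsg.Agent.H9.Exc
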