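import Cfsg.Agent.H9.ExcB
import Cfsg.Agent.H9.Simple
import Cfsg.Agent.H1.Basic

set_option autoImplicit false
set_option linter.unusedSectionVars false
set_option linter.style.haveILetI false
set_option linter.unusedVariables false
set_option linter.unusedSimpArgs false

/-! A Boolean check for the degree equation. -/

open Cfsg

namespace Cfsg.Agent.H9.Exc

open Subgroup

/-- possible pairs (coefficient, degree) -/
def cands (n p e B : ℕ) : List (ℤ × ℕ) :=
  (List.range B).filterMap fun d =>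
    if 1 < d ∧ n % d = 0 then
      (if d % p ≠ 0 ∧ (d % p) * (d % p) ≤ e then some (((d % p : ℕ) : ℤ), d)
        else if (p - d % p) * (p - d % p) ≤ e then some (-((p - d % p : ℕ) : ℤ), d) else none)
    else none

/-- the final condition -/
def fin (n t e : ℕ) (R S : ℤ) (Q : ℕ) : Bool :=
  (List.range (2 * e + 1)).any fun i => [(1 : ℤ), -1].any fun ε =>
    let b : ℤ := (i : ℤ) - e
    decide ((b + ε) * (b + ε) + ((t : ℤ) - 1) * (b * b) = R) &&
    (decide ((t : ℤ) * b + ε = 0) ||
      (let f := S.natAbs / ((t : ℤ) * b + ε).natAbs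
       decide (S + ((t : ℤ) * b + ε) * f = 0) && decide (1 < f) && decide (n % f = 0) && decide (Q + t * (f * f) ≤ n)))

/-- search -/
def go (n t e : ℕ) (C : List (ℤ × ℕ)) : ℕ → ℤ → ℤ → ℕ → Bool
  | 0, R, S, Q => fin n t e R S Q
  | k + 1, R, S, Q => fin n t e R S Q || C.any fun x =>
      decide (x.1 * x.1 ≤ R) && (decide (Q + x.2 * x.2 ≤ n) &&
        go n t e C k (R - x.1 * x.1) (S + x.1 * x.2) (Q + x.2 * x.2))

theorem go_of_fin {n t e : ℕ} {C : List (ℤ × ℕ)} {k : ℕ} {R S : ℤ} {Q : ℕ} (h : fin n t e R S Q = true) :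
    go n t e C k R S Q = true := by
  cases k with
  | zero => exact h
  | succ k => rw [go, h, Bool.true_or]

theorem go_complete {n t e : ℕ} {C : List (ℤ × ℕ)} (L : List (ℤ × ℕ)) (hL : ∀ x ∈ L, x ∈ C) :
    ∀ (k : ℕ) (R S : ℤ) (Q : ℕ), L.length ≤ k →
      (L.map (fun x => x.1 ^ 2)).sum ≤ R → Q + (L.map (fun x => x.2 ^ 2)).sum ≤ n →
      fin n t e (R - (L.map (fun x => x.1 ^ 2)).sum) (S + (L.map (fun x => x.1 * (x.2 : ℤ))).sum)
        (Q + (L.map (fun x => x.2 ^ 2)).sum) = true → go n t e C k R S Q = true := by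
  induction L with
  | nil =>
    intro k R S Q _ _ _ h
    apply go_of_fin
    simpa using h
  | cons x L ih =>
    intro k R S Q hk hR hQ h
    cases k with
    | zero => simp at hk
    | succ k =>
      rw [go, Bool.or_eq_true]
      right
      rw [List.any_eq_true]
      have hpos : 0 ≤ (L.map (fun x => x.1 ^ 2)).sum := by
        apply List.sum_nonneg
        intro y hy
        obtain ⟨z, _, rfl⟩ := List.mem_map.mp hy
        positivity
      rw [List.map_cons, List.sum_cons] at hR hQ
      refine ⟨x, hL x (by simp), ?_⟩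
      rw [Bool.and_eq_true, Bool.and_eq_true, decide_eq_true_iff, decide_eq_true_iff]
      refine ⟨by nlinarith, by nlinarith [Nat.zero_le (L.map (fun x => x.2 ^ 2)).sum], ?_⟩
      apply ih (fun y hy => hL y (List.mem_cons_of_mem _ hy))
      · simp at hk; omega
      · have : x.1 * x.1 = x.1 ^ 2 := by ring
        rw [this]; linarith
      · have : x.2 * x.2 = x.2 ^ 2 := by ring
        rw [this]; omega
      · rw [List.map_cons, List.sum_cons, List.map_cons, List.sum_cons, List.map_cons, List.sum_cons] at h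
        have e1 : R - x.1 * x.1 - (L.map (fun x => x.1 ^ 2)).sum = R - (x.1 ^ 2 + (L.map (fun x => x.1 ^ 2)).sum) := by ring
        have e2 : S + x.1 * (x.2 : ℤ) + (L.map (fun x => x.1 * (x.2 : ℤ))).sum =
          S + (x.1 * (x.2 : ℤ) + (L.map (fun x => x.1 * (x.2 : ℤ))).sum) := by ring
        have e3 : Q + x.2 * x.2 + (L.map (fun x => x.2 ^ 2)).sum = Q + (x.2 ^ 2 + (L.map (fun x => x.2 ^ 2)).sum) := by ring
        rw [e1, e2, e3]
        exact h

/-- the whole check -/
def kill (n p e B : ℕ) : Bool :=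
  decide (n < B * B) && !(go n ((p - 1) / e) e (cands n p e B) e e 1 1)

theorem mem_cands {n p e B c d : ℕ} (hp : 0 < p) (hd : 1 < d) (hdB : d < B) (hdn : d ∣ n) {x : ℤ} (hx0 : x ≠ 0)
    (hx : x ^ 2 ≤ e) (he : 2 * e < p) (hxd : (d : ℤ) ≡ x [ZMOD p]) : (x, d) ∈ cands n p e B := by
  unfold cands
  rw [List.mem_filterMap]
  refine ⟨d, List.mem_range.mpr hdB, ?_⟩
  rw [if_pos ⟨hd, Nat.mod_eq_zero_of_dvd hdn⟩]
  -- |x| ≤ e
  have hxe : x ≤ e ∧ -(e : ℤ) ≤ x := by
    constructor
    · nlinarith [abs_nonneg x]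
    · nlinarith
  have hmod : ((d % p : ℕ) : ℤ) = x % p := by
    rw [Int.natCast_mod]
    exact hxd
  rcases lt_or_gt_of_ne hx0 with hneg | hpos
  · -- negative
    have h1 : x % p = x + p := by
      rw [← Int.add_emod_right]
      exact Int.emod_eq_of_lt (by omega) (by omega)
    rw [h1] at hmod
    have h2 : ((p - d % p : ℕ) : ℤ) = -x := by
      have : d % p < p := Nat.mod_lt _ hp
      rw [Nat.cast_sub this.le, hmod]; ring
    have h3 : ¬ (d % p ≠ 0 ∧ (d % p) * (d % p) ≤ e) := by
      rintro ⟨_, h4⟩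
      have h5 : ((d % p : ℕ) : ℤ) * ((d % p : ℕ) : ℤ) ≤ e := by exact_mod_cast h4
      rw [hmod] at h5
      have h6 : (e : ℤ) < x + p := by omega
      nlinarith
    have h4 : (p - d % p) * (p - d % p) ≤ e := by
      have : ((p - d % p : ℕ) : ℤ) * ((p - d % p : ℕ) : ℤ) ≤ e := by rw [h2]; nlinarith
      exact_mod_cast this
    rw [if_neg h3, if_pos h4, h2, neg_neg]
  · have h1 : x % p = x := Int.emod_eq_of_lt hpos.le (by omega)
    rw [h1] at hmod
    have h3 : d % p ≠ 0 ∧ (d % p) * (d % p) ≤ e := by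
      refine ⟨?_, ?_⟩
      · intro h0
        rw [h0] at hmod
        simp at hmod
        omega
      · have : ((d % p : ℕ) : ℤ) * ((d % p : ℕ) : ℤ) ≤ e := by rw [hmod]; nlinarith
        exact_mod_cast this
    rw [if_pos h3, hmod]

theorem fin_intro {n t e : ℕ} {R S : ℤ} {Q : ℕ} {ε b : ℤ} {f : ℕ} (hε : ε = 1 ∨ ε = -1) (hb : -(e : ℤ) ≤ b ∧ b ≤ e)
    (h1 : (b + ε) ^ 2 + ((t : ℤ) - 1) * b ^ 2 = R) (h2 : S + ((t : ℤ) * b + ε) * f = 0) (h3 : 1 < f) (h4 : f ∣ n)
    (h5 : Q + t * f ^ 2 ≤ n) : fin n t e R S Q = true := by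
  unfold fin
  rw [List.any_eq_true]
  refine ⟨(b + e).toNat, List.mem_range.mpr (by omega), ?_⟩
  have hb' : (((b + e).toNat : ℕ) : ℤ) - e = b := by
    rw [Int.toNat_of_nonneg (by omega)]; ring
  rw [List.any_eq_true]
  refine ⟨ε, ?_, ?_⟩
  · rcases hε with rfl | rfl <;> simp
  simp only [hb']
  rw [Bool.and_eq_true, decide_eq_true_iff]
  refine ⟨by rw [← h1]; ring, ?_⟩
  by_cases hK : (t : ℤ) * b + ε = 0
  · rw [decide_eq_true hK, Bool.true_or]
  · have hf : S.natAbs / ((t : ℤ) * b + ε).natAbs = f := by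
      have h6 : S = -(((t : ℤ) * b + ε) * f) := by linarith
      rw [h6, Int.natAbs_neg, Int.natAbs_mul, Int.natAbs_natCast, Nat.mul_div_cancel_left _ (Int.natAbs_pos.mpr hK)]
    rw [hf, Bool.or_eq_true, Bool.and_eq_true, Bool.and_eq_true, Bool.and_eq_true, decide_eq_true_iff, decide_eq_true_iff,
      decide_eq_true_iff, decide_eq_true_iff, decide_eq_true_iff]
    right
    refine ⟨⟨⟨h2, h3⟩, Nat.mod_eq_zero_of_dvd h4⟩, ?_⟩
    have : f * f = f ^ 2 := by ring
    rw [this]; exact h5

variable {G : Type*} [Group G] [Finite G] {p : ℕ} [Fact p.Prime] {P : Subgroup G}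

theorem kill_sound (hlin : ∀ μ : G →* ℂˣ, μ = 1) (hP : Nat.card P = p) (hC : centralizer (P : Set G) = P) {e : ℕ}
    (hN : Nat.card (normalizer (P : Set G)) = p * e) (h2e : 2 * e ≤ p - 1) {B : ℕ} (hk : kill (Nat.card G) p e B = true) :
    False := by
  classical
  have hpp : p.Prime := Fact.out
  have hp2 := hpp.two_le
  letI : Fintype G := Fintype.ofFinite G
  obtain ⟨t, L, ε, b, f, hte, hε, hL, h1, h2, h3, h4, h5⟩ := exc hlin hP hC hN h2e
  unfold kill at hk
  rw [Bool.and_eq_true, decide_eq_true_iff, Bool.not_eq_true', ← Bool.not_eq_true] at hk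
  obtain ⟨hB, hgo⟩ := hk
  have he0 : 0 < e := by
    rcases Nat.eq_zero_or_pos e with h | h
    · subst h
      rw [mul_zero] at hN
      exact absurd hN Nat.card_pos.ne'
    · exact h
  have ht : (p - 1) / e = t := by rw [← hte, Nat.mul_div_cancel _ he0]
  have ht2 : 2 ≤ t := by
    by_contra hcon
    have : t = 0 ∨ t = 1 := by omega
    rcases this with rfl | rfl <;> omega
  apply hgo
  rw [ht]
  have hnn : 0 ≤ (L.map (fun x => x.1 ^ 2)).sum := by
    apply List.sum_nonneg
    intro y hy
    obtain ⟨z, _, rfl⟩ := List.mem_map.mp hy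
    positivity
  have hb2 : 0 ≤ (b + ε) ^ 2 := by positivity
  have hb3 : 0 ≤ ((t : ℤ) - 1) * b ^ 2 := by
    apply mul_nonneg
    · have : (2 : ℤ) ≤ t := by exact_mod_cast ht2
      linarith
    · positivity
  have hbe : b ^ 2 ≤ e := by
    have : (2 : ℤ) ≤ t := by exact_mod_cast ht2
    nlinarith [sq_nonneg b]
  -- each term
  have hterm : ∀ x ∈ L, x.1 ^ 2 ≤ (L.map (fun x => x.1 ^ 2)).sum := by
    intro x hx
    apply List.single_le_sum
    · intro y hy
      obtain ⟨z, _, rfl⟩ := List.mem_map.mp hy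
      positivity
    · exact List.mem_map.mpr ⟨x, hx, rfl⟩
  have hterm2 : ∀ x ∈ L, x.2 ^ 2 ≤ (L.map (fun x => x.2 ^ 2)).sum := by
    intro x hx
    apply List.single_le_sum
    · intro y hy
      exact Nat.zero_le _
    · exact List.mem_map.mpr ⟨x, hx, rfl⟩
  have hlen : (L.length : ℤ) ≤ (L.map (fun x => x.1 ^ 2)).sum := by
    have key : ∀ L' : List (ℤ × ℕ), (∀ x ∈ L', x.1 ≠ 0) → (L'.length : ℤ) ≤ (L'.map (fun x => x.1 ^ 2)).sum := by
      intro L'
      induction L' with
      | nil => intro _; simp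
      | cons x L' ih =>
        intro h
        rw [List.map_cons, List.sum_cons, List.length_cons]
        have h6 := ih (fun y hy => h y (List.mem_cons_of_mem _ hy))
        have h7 : 1 ≤ x.1 ^ 2 := by
          have h8 := h x (by simp)
          have : 0 < x.1 ^ 2 := by positivity
          linarith
        push_cast
        linarith
    exact key L (fun x hx => (hL x hx).1)
  apply go_complete L
  · intro x hx
    obtain ⟨hx0, hx1, hxn, hxc⟩ := hL x hx
    have hxB : x.2 < B := by
      have h6 := hterm2 x hx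
      by_contra hcon
      push Not at hcon
      have : B * B ≤ x.2 * x.2 := Nat.mul_le_mul hcon hcon
      have h7 : x.2 ^ 2 = x.2 * x.2 := by ring
      omega
    exact mem_cands (c := 0) hpp.pos hx1 hxB hxn hx0 (by have := hterm x hx; linarith) (by omega) hxc
  · have : (L.length : ℤ) ≤ e := by linarith
    exact_mod_cast this
  · linarith
  · omega
  · apply fin_intro (ε := ε) (b := b) (f := f) hε
    · constructor <;> nlinarith
    · linarith
    · exact h2
    · exact h3
    · exact h4
    · exact h5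

theorem hom_trivial [IsSimpleGroup G] (hG : ¬ IsMulCommutative G) (μ : G →* ℂˣ) : μ = 1 := by
  ext g
  rw [Simple.hom_comm_trivial hG (fun a b => mul_comm a b) μ g]
  rfl

/-- version for simple groups -/
theorem simple_kill [IsSimpleGroup G] (hG : ¬ IsMulCommutative G) (S : Sylow p G) {m s q B : ℕ}
    (h : Nat.card G = p * m) (hm : ¬ p ∣ m) (hs : Nat.card (Sylow p G) = s) (hq : s * q = m)
    (he : ∀ e, e ∣ q → e ∣ p - 1 → e ≠ 1 → e = q) (h2 : 2 * q ≤ p - 1)
    (hk : kill (Nat.card G) p q B = true) : False := by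
  have hpp : p.Prime := Fact.out
  have hd : p ∣ Nat.card G := by rw [h]; exact dvd_mul_right _ _
  have hP : Nat.card (S : Subgroup G) = p := by
    have := Syl.card_sylow_of_card S (k := 1) (by rw [pow_one]; exact h) hm
    rwa [pow_one] at this
  have hs0 : 0 < s := by rw [← hs]; exact Nat.card_pos
  have hN : Nat.card (normalizer ((S : Subgroup G) : Set G)) = p * q := by
    have h1 := Syl.card_normalizer_mul S
    rw [hs, h, ← hq] at h1
    apply Nat.eq_of_mul_eq_mul_right hs0
    rw [h1]; ring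
  have hPC : (S : Subgroup G) ≤ centralizer ((S : Subgroup G) : Set G) := Syl.le_centralizer_of_card_prime hP
  have hCN : centralizer ((S : Subgroup G) : Set G) ≤ normalizer ((S : Subgroup G) : Set G) := centralizer_le_normalizer _
  have h1 : (centralizer ((S : Subgroup G) : Set G)).relIndex (normalizer ((S : Subgroup G) : Set G)) ∣ p - 1 :=
    Simple.relIndex_dvd_of_card_eq hP
  have h3 : (centralizer ((S : Subgroup G) : Set G)).relIndex (normalizer ((S : Subgroup G) : Set G)) ≠ 1 := by
    intro h4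
    exact Simple.not_normalizer_le_centralizer hG hd S (relIndex_eq_one.mp h4)
  have h4 := relIndex_mul_relIndex _ _ _ hPC hCN
  have h5 : (S : Subgroup G).relIndex (normalizer ((S : Subgroup G) : Set G)) = q := by
    have h6 := H1.card_mul_relIndex_aux (le_normalizer : (S : Subgroup G) ≤ normalizer ((S : Subgroup G) : Set G))
    rw [hP, hN] at h6
    exact Nat.eq_of_mul_eq_mul_left hpp.pos h6
  have h6 := he _ (by rw [← h5, ← h4]; exact dvd_mul_left _ _) h1 h3
  rw [h5, h6] at h4
  have hq0 : 0 < q := by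
    rcases Nat.eq_zero_or_pos q with h7 | h7
    · rw [h7, mul_zero] at hN
      exact absurd hN Nat.card_pos.ne'
    · exact h7
  have h7 : (S : Subgroup G).relIndex (centralizer ((S : Subgroup G) : Set G)) = 1 := by
    apply Nat.eq_of_mul_eq_mul_right hq0
    rw [h4, one_mul]
  have hC : centralizer ((S : Subgroup G) : Set G) = S := le_antisymm (relIndex_eq_one.mp h7) hPC
  exact kill_sound (hom_trivial hG) hP hC hN h2 hk

theorem k3648 : kill 3648 19 2 61 = true := by decide +kernel
theorem k1004913 : kill 1004913 409 3 1003 = true := by decide +kernel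

end Cfsg.Agent.H9.Exc
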