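import Cfsg.Agent.H9.ExcC

set_option autoImplicit false
set_option linter.unusedSectionVars false
set_option linter.style.haveILetI false
set_option linter.unusedVariables false
set_option linter.unusedSimpArgs false

/-! Exceptional characters when `C(P) = P × V`: the power map and the Gram matrix. -/

open Cfsg
open scoped ComplexConjugate

namespace Cfsg.Agent.H9.Exc

open Subgroup

universe u

/-- the power map onto a central subgroup -/
theorem exists_central_pow {H : Type*} [Group H] [Finite H] (Z : Subgroup H) (hZ : Z ≤ center H) :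
    ∃ f : H →* Z, ∀ h, ((f h : Z) : H) = h ^ Z.index := by
  haveI : IsMulCommutative Z := by
    rw [isMulCommutative_iff]
    intro a b
    exact Subtype.ext (mem_center_iff.mp (hZ b.2) a)
  letI : CommGroup Z := { (inferInstance : Group Z) with mul_comm := isMulCommutative_iff.mp inferInstance }
  have key : ∀ (g : H) (k : ℕ) (g₀ : H), g₀⁻¹ * g ^ k * g₀ ∈ Z → g₀⁻¹ * g ^ k * g₀ = g ^ k := by
    intro g k g₀ h
    have h1 := mem_center_iff.mp (hZ h) g₀
    have h2 : g₀ * (g₀⁻¹ * g ^ k * g₀) = g ^ k * g₀ := by group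
    rw [h2] at h1
    exact (mul_right_cancel h1).symm
  refine ⟨MonoidHom.transfer (MonoidHom.id Z), fun h => ?_⟩
  rw [MonoidHom.transfer_eq_pow (MonoidHom.id Z) h (key h)]
  rfl

variable {G : Type u} [Group G] [Fintype G] {p : ℕ} [Fact p.Prime] {P : Subgroup G}

theorem exists_pw {L : ℕ} (hP : Nat.card P = p) (hL : Nat.card (centralizer (P : Set G)) = p * L) :
    ∃ pw : centralizer (P : Set G) →* P, ∀ c : centralizer (P : Set G), ((pw c : P) : G) = (c : G) ^ L := by
  have hpp : p.Prime := Fact.out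
  have hPC : P ≤ centralizer (P : Set G) := Syl.le_centralizer_of_card_prime hP
  have hZ : P.subgroupOf (centralizer (P : Set G)) ≤ center (centralizer (P : Set G)) := by
    intro x hx
    rw [mem_center_iff]
    intro y
    apply Subtype.ext
    exact (mem_centralizer_iff.mp y.2 x hx).symm
  have hidx : (P.subgroupOf (centralizer (P : Set G))).index = L := by
    have h1 := card_mul_index (P.subgroupOf (centralizer (P : Set G)))
    rw [Nat.card_congr (subgroupOfEquivOfLe hPC).toEquiv, hP, hL] at h1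
    exact Nat.eq_of_mul_eq_mul_left hpp.pos h1
  obtain ⟨f, hf⟩ := exists_central_pow _ hZ
  refine ⟨(subgroupOfEquivOfLe hPC).toMonoidHom.comp f, fun c => ?_⟩
  have h1 := congrArg (fun x : centralizer (P : Set G) => (x : G)) (hf c)
  simp only [hidx] at h1
  exact h1

variable {L : ℕ} {pw : centralizer (P : Set G) →* P}

/-- `1 - μ ∘ pw` -/
noncomputable def phC (pw : centralizer (P : Set G) →* P) (μ : P →* ℂˣ) : centralizer (P : Set G) → ℂ :=
  fun c => 1 - (μ (pw c) : ℂ)

theorem phC_one (μ : P →* ℂˣ) : phC pw μ 1 = 0 := by simp [phC]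

theorem phC_isGen (μ : P →* ℂˣ) : IsGeneralizedCharacter _ (phC pw μ) := by
  have h0 : phC pw μ = (fun y => 1) - (fun y => ((μ.comp pw) y : ℂ)) := by
    ext y; simp [phC]
  rw [h0]
  exact ⟨_, _, H3.isChar_one, H3.irr_isChar (H3.isIrr_of_hom _), rfl⟩

theorem pw_coprime {L : ℕ} (hP : Nat.card P = p) (hpL : Nat.Coprime p L) {x y : G} (hx : x ∈ P) (hy : y ∈ P)
    (h : x ^ L = y ^ L) : x = y := by
  have hx1 : x ^ p = 1 := by
    have := pow_card_eq_one' (x := (⟨x, hx⟩ : P))
    rw [hP] at this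
    exact congrArg Subtype.val this
  have hy1 : y ^ p = 1 := by
    have := pow_card_eq_one' (x := (⟨y, hy⟩ : P))
    rw [hP] at this
    exact congrArg Subtype.val this
  have h2 : x ^ (Nat.gcd p L : ℤ) = y ^ (Nat.gcd p L : ℤ) := by
    rw [Nat.gcd_eq_gcd_ab, zpow_add, zpow_add, zpow_mul, zpow_mul, zpow_mul, zpow_mul, zpow_natCast, zpow_natCast,
      zpow_natCast, zpow_natCast, hx1, hy1, h]
  rw [Nat.coprime_iff_gcd_eq_one.mp hpL] at h2
  simpa using h2

theorem pw_surj (hP : Nat.card P = p) (hpL : Nat.Coprime p L)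
    (hpw : ∀ c : centralizer (P : Set G), ((pw c : P) : G) = (c : G) ^ L) : Function.Surjective pw := by
  have hPC : P ≤ centralizer (P : Set G) := Syl.le_centralizer_of_card_prime hP
  have h1 : Function.Injective (fun x : P => pw ⟨x, hPC x.2⟩) := by
    intro x y h
    apply Subtype.ext
    apply pw_coprime hP hpL x.2 y.2
    have := congrArg (fun z : P => (z : G)) h
    simp only [hpw] at this
    exact this
  have h2 := Finite.surjective_of_injective h1
  intro y
  obtain ⟨x, hx⟩ := h2 y
  exact ⟨_, hx⟩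

theorem phC_inner [Fintype (centralizer (P : Set G))] (hsurj : Function.Surjective pw) {μ ν : P →* ℂˣ} (hμ : μ ≠ 1)
    (hν : ν ≠ 1) [Decidable (μ = ν)] :
    classInner (phC pw μ) (phC pw ν) = 1 + if μ = ν then 1 else 0 := by
  classical
  have hinj : ∀ κ κ' : P →* ℂˣ, κ.comp pw = κ'.comp pw → κ = κ' := by
    intro κ κ' h
    ext y
    obtain ⟨c, rfl⟩ := hsurj y
    have := congrArg (fun f : centralizer (P : Set G) →* ℂˣ => f c) h
    simp only [MonoidHom.comp_apply] at this
    rw [this]
  have h0 : ∀ κ : P →* ℂˣ, phC pw κ = (fun y => (((1 : P →* ℂˣ).comp pw) y : ℂ)) - (fun y => ((κ.comp pw) y : ℂ)) := by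
    intro κ; ext y; simp [phC]
  have h1 : ∀ κ κ' : P →* ℂˣ, classInner (fun y => ((κ.comp pw) y : ℂ)) (fun y => ((κ'.comp pw) y : ℂ)) =
      if κ = κ' then 1 else 0 := by
    intro κ κ'
    rw [H3.classInner_irr (H3.isIrr_of_hom _) (H3.isIrr_of_hom _)]
    by_cases h : κ = κ'
    · rw [if_pos h, if_pos (by rw [h])]
    · rw [if_neg h, if_neg (fun h' => h (hinj _ _ (H3.hom_coe_injective h')))]
  rw [h0, h0, H3.classInner_sub_left, H3.classInner_sub_right, H3.classInner_sub_right, h1, h1, h1, h1]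
  rw [if_pos rfl, if_neg (Ne.symm hν), if_neg hμ]
  by_cases h : μ = ν
  · rw [if_pos h, if_pos h]; ring
  · rw [if_neg h, if_neg h]; ring

theorem conj_mem_centralizer {n : G} (hn : n ∈ normalizer (P : Set G)) {c : G} (hc : c ∈ centralizer (P : Set G)) :
    n * c * n⁻¹ ∈ centralizer (P : Set G) := by
  rw [mem_centralizer_iff] at hc ⊢
  intro y hy
  have h1 : n⁻¹ * y * n ∈ P := by
    have := (mem_normalizer_iff.mp (inv_mem hn) y).mp hy
    simpa using this
  have h2 := hc _ h1
  have h3 : n * (n⁻¹ * y * n * c) * n⁻¹ = n * (c * (n⁻¹ * y * n)) * n⁻¹ := by rw [h2]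
  have h4 : n * (n⁻¹ * y * n * c) * n⁻¹ = y * (n * c * n⁻¹) := by group
  have h5 : n * (c * (n⁻¹ * y * n)) * n⁻¹ = n * c * n⁻¹ * y := by group
  rw [h4, h5] at h3
  exact h3

theorem pw_conj (hpw : ∀ c : centralizer (P : Set G), ((pw c : P) : G) = (c : G) ^ L) (n : normalizer (P : Set G))
    (c : centralizer (P : Set G)) : ((pw ⟨(n : G) * c * (n : G)⁻¹, conj_mem_centralizer n.2 c.2⟩ : P) : G) =
      (n : G) * ((pw c : P) : G) * (n : G)⁻¹ := by
  rw [hpw, hpw, conj_pow]

theorem phC_conj (hpw : ∀ c : centralizer (P : Set G), ((pw c : P) : G) = (c : G) ^ L) (μ : P →* ℂˣ)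
    (n : normalizer (P : Set G)) (c : centralizer (P : Set G)) :
    phC pw μ ⟨(n : G) * c * (n : G)⁻¹, conj_mem_centralizer n.2 c.2⟩ = phC pw (cj P μ n) c := by
  rw [phC, phC, cj_apply]
  have : pw ⟨(n : G) * c * (n : G)⁻¹, conj_mem_centralizer n.2 c.2⟩ =
      ⟨(n : G) * ((pw c : P) : G) * (n : G)⁻¹, (mem_normalizer_iff.mp n.2 _).mp (pw c).2⟩ := Subtype.ext (pw_conj hpw n c)
  rw [this]

/-- conjugating a `p`-singular element of `C(P)` into `C(P)` forces the conjugating element into `N(P)` -/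
theorem tiC (hP : Nat.card P = p) (hpw : ∀ c : centralizer (P : Set G), ((pw c : P) : G) = (c : G) ^ L) {g : G}
    (hg : g ∉ normalizer (P : Set G)) {x : centralizer (P : Set G)} (hgx : g * x * g⁻¹ ∈ centralizer (P : Set G)) :
    pw x = 1 := by
  apply Subtype.ext
  apply ti hP hg (pw x).2
  rw [hpw, ← conj_pow, ← hpw ⟨_, hgx⟩]
  exact (pw _).2

theorem phC_of_pw_eq_one {μ : P →* ℂˣ} {x : centralizer (P : Set G)} (h : pw x = 1) : phC pw μ x = 0 := by
  simp [phC, h]

/-- values of the induced function on `C(P)` -/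
theorem ind_phC (hP : Nat.card P = p) (hpw : ∀ c : centralizer (P : Set G), ((pw c : P) : G) = (c : G) ^ L)
    (ν : P →* ℂˣ) [Fintype (normalizer (P : Set G))] (x : centralizer (P : Set G)) (hx : pw x ≠ 1) :
    (Nat.card (centralizer (P : Set G)) : ℂ) * indFun (centralizer (P : Set G)) (phC pw ν) x =
      ∑ n : normalizer (P : Set G), phC pw (cj P ν n) x := by
  classical
  have hc0 : (Nat.card (centralizer (P : Set G)) : ℂ) ≠ 0 := by exact_mod_cast Nat.card_pos.ne'
  rw [indFun, ← mul_assoc, mul_inv_cancel₀ hc0, one_mul]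
  have h2 : ∑ g : G, extendByZero (centralizer (P : Set G)) (phC pw ν) (g⁻¹ * x * g) =
      ∑ g : G, extendByZero (centralizer (P : Set G)) (phC pw ν) (g * x * g⁻¹) := by
    refine Fintype.sum_equiv (Equiv.inv G) _ _ fun g => ?_
    simp
  rw [h2]
  have h3 : ∀ n : normalizer (P : Set G), phC pw (cj P ν n) x =
      extendByZero (centralizer (P : Set G)) (phC pw ν) ((n : G) * x * (n : G)⁻¹) := by
    intro n
    rw [H3.extendByZero_mem _ _ (conj_mem_centralizer n.2 x.2), phC_conj hpw]
  rw [Finset.sum_congr rfl fun n _ => h3 n]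
  have h5 := H3.sum_extendByZero_mul (normalizer (P : Set G)) (fun _ => (1 : ℂ))
    (fun g => extendByZero (centralizer (P : Set G)) (phC pw ν) (g * x * g⁻¹))
  simp only [one_mul] at h5
  rw [← h5]
  apply Finset.sum_congr rfl
  intro g _
  by_cases hg : g ∈ normalizer (P : Set G)
  · rw [H3.extendByZero_mem _ _ hg, one_mul]
  · rw [H3.extendByZero_not_mem _ _ hg, zero_mul]
    by_cases h6 : g * x * g⁻¹ ∈ centralizer (P : Set G)
    · exact absurd (tiC hP hpw hg h6) hx
    · rw [H3.extendByZero_not_mem _ _ h6]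

/-- the Gram matrix -/
theorem gramC (hP : Nat.card P = p) (hpL : Nat.Coprime p L)
    (hpw : ∀ c : centralizer (P : Set G), ((pw c : P) : G) = (c : G) ^ L) {μ ν : P →* ℂˣ} (hμ : μ ≠ 1) (hν : ν ≠ 1) :
    (Nat.card (centralizer (P : Set G)) : ℂ) *
      classInner (indFun (centralizer (P : Set G)) (phC pw μ)) (indFun (centralizer (P : Set G)) (phC pw ν)) =
      Nat.card (normalizer (P : Set G)) + Nat.card {n : normalizer (P : Set G) // cj P ν n = μ} := by
  classical
  letI : Fintype (centralizer (P : Set G)) := Fintype.ofFinite _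
  letI : Fintype (normalizer (P : Set G)) := Fintype.ofFinite _
  have hc0 : (Nat.card (centralizer (P : Set G)) : ℂ) ≠ 0 := by exact_mod_cast Nat.card_pos.ne'
  have hsurj := pw_surj hP hpL hpw
  rw [H3.frobenius_reciprocity _ _ (H3.indFun_classFun _ _)]
  have key : ∀ x : centralizer (P : Set G), phC pw μ x * conj (indFun (centralizer (P : Set G)) (phC pw ν) x) =
      (Nat.card (centralizer (P : Set G)) : ℂ)⁻¹ * ∑ n : normalizer (P : Set G), phC pw μ x * conj (phC pw (cj P ν n) x) := by
    intro x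
    by_cases hx : pw x = 1
    · rw [phC_of_pw_eq_one hx]; simp
    · have h1 := ind_phC hP hpw ν x hx
      have h2 : indFun (centralizer (P : Set G)) (phC pw ν) x =
          (Nat.card (centralizer (P : Set G)) : ℂ)⁻¹ * ∑ n : normalizer (P : Set G), phC pw (cj P ν n) x := by
        rw [← h1, ← mul_assoc, inv_mul_cancel₀ hc0, one_mul]
      rw [h2, map_mul, map_inv₀, Complex.conj_natCast, map_sum, ← Finset.mul_sum]
      ring
  have h7 : classInner (phC pw μ) (fun h : centralizer (P : Set G) => indFun (centralizer (P : Set G)) (phC pw ν) h) =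
      (Nat.card (centralizer (P : Set G)) : ℂ)⁻¹ * ∑ n : normalizer (P : Set G), classInner (phC pw μ) (phC pw (cj P ν n)) := by
    simp only [classInner]
    rw [Finset.sum_congr rfl fun x _ => key x, ← Finset.mul_sum, Finset.sum_comm, ← Finset.mul_sum]
  rw [h7, ← mul_assoc, mul_inv_cancel₀ hc0, one_mul]
  have h8 : ∀ n : normalizer (P : Set G), classInner (phC pw μ) (phC pw (cj P ν n)) =
      1 + if cj P ν n = μ then 1 else 0 := by
    intro n
    rw [phC_inner hsurj hμ (fun h => hν ((cj_eq_one_iff P ν n).mp h))]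
    congr 1
    simp only [eq_comm]
  rw [Finset.sum_congr rfl fun n _ => h8 n, Finset.sum_add_distrib, Finset.sum_const, Finset.card_univ,
    nsmul_eq_mul, mul_one, Finset.sum_boole]
  congr 1
  · rw [Nat.card_eq_fintype_card]
  · rw [Nat.card_eq_fintype_card, Fintype.card_subtype (fun n : normalizer (P : Set G) => cj P ν n = μ)]

/-- orbits of nontrivial linear characters: representatives with their Gram matrix -/
theorem exists_repsC (hP : Nat.card P = p) (hL : Nat.card (centralizer (P : Set G)) = p * L) (hpL : Nat.Coprime p L)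
    (hpw : ∀ c : centralizer (P : Set G), ((pw c : P) : G) = (c : G) ^ L) {e : ℕ}
    (hN : Nat.card (normalizer (P : Set G)) = (p * L) * e) :
    ∃ (t : ℕ) (lam : Fin t → (P →* ℂˣ)), t * e = p - 1 ∧ (∀ i, lam i ≠ 1) ∧
      (∀ i j, (∃ n, cj P (lam i) n = lam j) → i = j) ∧
      (∀ μ : P →* ℂˣ, μ ≠ 1 → ∃ i n, cj P (lam i) n = μ) ∧
      ∀ i j, classInner (indFun (centralizer (P : Set G)) (phC pw (lam i))) (indFun (centralizer (P : Set G)) (phC pw (lam j)))
        = e + if i = j then 1 else 0 := by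
  classical
  have hpp : p.Prime := Fact.out
  have hL0 : L ≠ 0 := by
    rintro rfl
    rw [mul_zero] at hL
    exact absurd hL Nat.card_pos.ne'
  have hp0 : ((p * L : ℕ) : ℂ) ≠ 0 := by
    exact_mod_cast (mul_ne_zero hpp.ne_zero hL0)
  have hCN : centralizer (P : Set G) ≤ normalizer (P : Set G) := centralizer_le_normalizer _
  haveI : Finite P := inferInstance
  letI := actX P
  have hsmul : ∀ (n : normalizer (P : Set G)) (μ : {μ : P →* ℂˣ // μ ≠ 1}), (n • μ).1 = cj P μ.1 n⁻¹ := fun _ _ => rfl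
  haveI : Finite (P →* ℂˣ) := finite_hom
  have hcardX : Nat.card {μ : P →* ℂˣ // μ ≠ 1} = p - 1 := by
    have h1 : Nat.card (P →* ℂˣ) = p := card_hom hP
    have h3 : Nat.card (P →* ℂˣ) = Nat.card {μ : P →* ℂˣ // μ = 1} + Nat.card {μ : P →* ℂˣ // μ ≠ 1} := by
      rw [← Nat.card_sum]
      exact Nat.card_congr (Equiv.sumCompl (fun μ : P →* ℂˣ => μ = 1)).symm
    have h4 : Nat.card {μ : P →* ℂˣ // μ = 1} = 1 := by
      haveI : Unique {μ : P →* ℂˣ // μ = 1} := ⟨⟨⟨1, rfl⟩⟩, fun b => Subtype.ext b.2⟩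
      exact Nat.card_unique
    omega
  let Ω := MulAction.orbitRel.Quotient (normalizer (P : Set G)) {μ : P →* ℂˣ // μ ≠ 1}
  haveI : Finite Ω := Quotient.finite _
  have hstab : ∀ μ : {μ : P →* ℂˣ // μ ≠ 1}, MulAction.stabilizer (normalizer (P : Set G)) μ =
      (centralizer (P : Set G)).subgroupOf _ := by
    intro μ
    ext n
    rw [MulAction.mem_stabilizer_iff, mem_subgroupOf]
    have h1 : n • μ = μ ↔ cj P μ.1 n⁻¹ = μ.1 := by
      constructor
      · intro h; rw [← hsmul, h]
      · intro h; exact Subtype.ext h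
    rw [h1, cj_eq_self_iff hP μ.2]
    rw [InvMemClass.coe_inv, inv_mem_iff]
  have hidx : ((centralizer (P : Set G)).subgroupOf (normalizer (P : Set G))).index = e := by
    have h1 := card_mul_index ((centralizer (P : Set G)).subgroupOf (normalizer (P : Set G)))
    rw [Nat.card_congr (subgroupOfEquivOfLe hCN).toEquiv, hL, hN] at h1
    exact Nat.eq_of_mul_eq_mul_left (Nat.mul_pos hpp.pos (Nat.pos_of_ne_zero hL0)) h1
  have ht : Nat.card Ω * e = p - 1 := by
    rw [← hcardX, Nat.card_congr (MulAction.selfEquivSigmaOrbitsQuotientStabilizer (normalizer (P : Set G))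
      {μ : P →* ℂˣ // μ ≠ 1})]
    letI : Fintype Ω := Fintype.ofFinite Ω
    rw [Nat.card_sigma]
    have h2 : ∀ ω : Ω, Nat.card ((normalizer (P : Set G)) ⧸ MulAction.stabilizer (normalizer (P : Set G)) (Quotient.out ω)) = e := by
      intro ω
      rw [hstab]
      exact hidx
    rw [Finset.sum_congr rfl fun ω _ => h2 ω, Finset.sum_const, Finset.card_univ, smul_eq_mul, Nat.card_eq_fintype_card]
  have E : Fin (Nat.card Ω) ≃ Ω := (Finite.equivFin Ω).symm
  let lam : Fin (Nat.card Ω) → (P →* ℂˣ) := fun i => (Quotient.out (E i)).1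
  have hlam : ∀ i, lam i ≠ 1 := fun i => (Quotient.out (E i)).2
  have hdist : ∀ i j, (∃ n, cj P (lam i) n = lam j) → i = j := by
    rintro i j ⟨n, hn⟩
    apply E.injective
    have h1 : n⁻¹ • Quotient.out (E i) = Quotient.out (E j) := by
      apply Subtype.ext
      rw [hsmul, inv_inv]; exact hn
    have h2 : (Quotient.mk'' (Quotient.out (E j)) : Ω) = Quotient.mk'' (Quotient.out (E i)) := by
      rw [Quotient.eq'', MulAction.orbitRel_apply, ← h1]
      exact MulAction.mem_orbit _ _
    rw [Quotient.out_eq', Quotient.out_eq'] at h2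
    exact h2.symm
  refine ⟨Nat.card Ω, lam, ht, hlam, hdist, ?_, ?_⟩
  · intro μ hμ
    obtain ⟨i, hi⟩ := E.surjective (Quotient.mk'' ⟨μ, hμ⟩)
    have h1 : (Quotient.mk'' (⟨μ, hμ⟩ : {μ : P →* ℂˣ // μ ≠ 1}) : Ω) = Quotient.mk'' (Quotient.out (E i)) := by
      rw [Quotient.out_eq', hi]
    rw [Quotient.eq'', MulAction.orbitRel_apply] at h1
    obtain ⟨n, hn⟩ := h1
    refine ⟨i, n⁻¹, ?_⟩
    have := congrArg Subtype.val hn
    exact this
  · intro i j
    have h1 := gramC hP hpL hpw (hlam i) (hlam j)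
    rw [hN, hL] at h1
    have h2 : Nat.card {n : normalizer (P : Set G) // cj P (lam j) n = lam i} = if i = j then p * L else 0 := by
      by_cases hij : i = j
      · subst hij
        rw [if_pos rfl]
        have h3 : Nat.card {n : normalizer (P : Set G) // cj P (lam i) n = lam i} =
            Nat.card ((centralizer (P : Set G)).subgroupOf (normalizer (P : Set G))) := by
          apply Nat.card_congr
          apply Equiv.subtypeEquivRight
          intro n
          rw [cj_eq_self_iff hP (hlam i), mem_subgroupOf]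
        rw [h3, Nat.card_congr (subgroupOfEquivOfLe hCN).toEquiv, hL]
      · rw [if_neg hij]
        haveI : IsEmpty {n : normalizer (P : Set G) // cj P (lam j) n = lam i} :=
          ⟨fun n => hij (hdist j i ⟨n.1, n.2⟩).symm⟩
        exact Nat.card_of_isEmpty
    rw [h2] at h1
    apply mul_left_cancel₀ hp0
    rw [h1]
    by_cases hij : i = j
    · rw [if_pos hij, if_pos hij]; push_cast; ring
    · rw [if_neg hij, if_neg hij]; push_cast; ring

end Cfsg.Agent.H9.Exc
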