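import Cfsg.Agent.H9.ExcD
import Cfsg.Agent.H11.Third2
import Cfsg.Agent.H11.SecondMain2
import Cfsg.Agent.H27.PMod
import Cfsg.Agent.H27.Kernel
import Cfsg.Agent.H3.Clifford
import Cfsg.Agent.H3.Burnside

set_option autoImplicit false
set_option linter.unusedSectionVars false
set_option linter.style.haveILetI false
set_option linter.unusedVariables false
set_option linter.unusedSimpArgs false

/-! Block theoretic input: characters of the principal block are constant on `u V`, the others have
zero sum over `u V`. -/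

open Cfsg
open scoped ComplexConjugate

namespace Cfsg.Agent.H9.Exc

open Subgroup

/-- averaging an irreducible character over a normal subgroup not in its kernel -/
theorem sum_irr_normal {H : Type*} [Group H] [Finite H] (K : Subgroup H) [K.Normal] [Fintype K] {ψ : H → ℂ}
    (hψ : IsIrrCharacter H ψ) (hker : ∃ h ∈ K, ψ h ≠ ψ 1) (g : H) : ∑ v : K, ψ (g * v) = 0 := by
  classical
  letI : Fintype H := Fintype.ofFinite H
  obtain ⟨n, ρ, hρ, rfl⟩ := hψ
  haveI := hρ
  obtain ⟨h, hK, hne⟩ := hker
  have h1 := H3.sum_rep_normal_eq_zero ρ K inferInstance ⟨h, hK, fun h2 => hne (by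
    rw [Representation.char_one]
    exact (H3.rep_char_eq_degree_iff ρ h).mpr h2)⟩
  have h2 : ∀ v : K, ρ.character (g * v) = LinearMap.trace ℂ _ (ρ g * ρ (v : H)) := fun v => by
    rw [← map_mul]; rfl
  rw [Finset.sum_congr rfl fun v _ => h2 v, ← map_sum, ← Finset.mul_sum, h1, mul_zero, map_zero]

/-- the principal block part as an average -/
theorem blockPart_avg {H : Type*} [Group H] [Finite H] (K : Subgroup H) [K.Normal] [Fintype K] {b : Set (IrrCharacter H)}
    (hb : b = {χ : IrrCharacter H | ∀ n ∈ K, (χ : H → ℂ) n = (χ : H → ℂ) 1}) {θ : H → ℂ} (hθ : IsClassFunction H θ)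
    (g : H) : (Nat.card K : ℂ) * blockPart b θ g = ∑ v : K, θ (g * v) := by
  classical
  letI : Fintype H := Fintype.ofFinite H
  letI : Fintype (IrrCharacter H) := Fintype.ofFinite _
  have h1 : ∀ x : H, θ x = ∑ χ : IrrCharacter H, classInner θ χ * (χ : H → ℂ) x := fun x =>
    H3.classFun_expand_apply hθ x
  have h2 : ∀ χ : IrrCharacter H, ∑ v : K, (χ : H → ℂ) (g * v) = if χ ∈ b then (Nat.card K : ℂ) * (χ : H → ℂ) g else 0 := by
    intro χ
    by_cases hχ : χ ∈ b
    · rw [if_pos hχ]
      rw [hb] at hχ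
      have h3 : ∀ v : K, (χ : H → ℂ) (g * v) = (χ : H → ℂ) g := by
        intro v
        have h4 := H27.char_ker_mul (H3.irr_isChar χ.2) (hχ v v.2) g
        have h5 : (χ : H → ℂ) (g * v) = (χ : H → ℂ) (v * g) := H3.classFun_mul_comm (H3.irr_classFun χ.2) _ _
        rw [h5, h4]
      rw [Finset.sum_congr rfl fun v _ => h3 v, Finset.sum_const, Finset.card_univ, nsmul_eq_mul, Nat.card_eq_fintype_card]
    · rw [if_neg hχ]
      apply sum_irr_normal K χ.2
      rw [hb, Set.mem_setOf_eq] at hχ
      push Not at hχ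
      exact hχ
  have h3 : blockPart b θ g = ∑ χ : IrrCharacter H, if χ ∈ b then classInner θ χ * (χ : H → ℂ) g else 0 := by
    unfold blockPart
    simp only [finsum_mem_def]
    rw [finsum_eq_sum_of_fintype]
    apply Finset.sum_congr rfl
    intro χ _
    rw [Set.indicator_apply]
  rw [h3, Finset.mul_sum]
  have h4 : ∀ v : K, θ (g * v) = ∑ χ : IrrCharacter H, classInner θ χ * (χ : H → ℂ) (g * v) := fun v => h1 (g * v)
  rw [Finset.sum_congr rfl fun v _ => h4 v, Finset.sum_comm]
  apply Finset.sum_congr rfl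
  intro χ _
  rw [← Finset.mul_sum, h2]
  by_cases hχ : χ ∈ b
  · rw [if_pos hχ, if_pos hχ]; ring
  · rw [if_neg hχ, if_neg hχ]; simp

variable {G : Type*} [Group G] [Fintype G] {p : ℕ} [Fact p.Prime]

/-- the principal block -/
theorem principal_constC {M : Ideal AlgInt} (hM : IsPModular p M) {u : G} (hu : ∃ k : ℕ, orderOf u = p ^ k)
    {H : Subgroup G} (hH : centralizer ({u} : Set G) = H) {K : Subgroup H} [K.Normal] (hK : ¬ p ∣ Nat.card K)
    {v : H} (hv : v ∈ K) {χ : IrrCharacter G} (hχ : χ ∈ principalBlock M G) :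
    (χ : G → ℂ) (u * v) = (χ : G → ℂ) u := by
  subst hH
  exact H11.principal_const hM hu hK hv hχ

/-- outside the principal block -/
theorem sum_eq_zeroC {M : Ideal AlgInt} (hM : IsPModular p M) {u : G} (hu : ∃ k : ℕ, orderOf u = p ^ k)
    {H : Subgroup G} (hH : centralizer ({u} : Set G) = H) {K : Subgroup H} [K.Normal] [Fintype K] (hK : ¬ p ∣ Nat.card K)
    {k : ℕ} (hk : K.index = p ^ k) {χ : IrrCharacter G} (hχ : χ ∉ principalBlock M G) :
    ∑ v : K, (χ : G → ℂ) (u * ((v : H) : G)) = 0 := by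
  classical
  subst hH
  haveI := hM.2.1.isPrime
  letI : Fintype (centralizer ({u} : Set G)) := Fintype.ofFinite _
  have hb : principalBlock M (centralizer ({u} : Set G)) =
      {χ : IrrCharacter _ | ∀ n ∈ K, (χ : centralizer ({u} : Set G) → ℂ) n = (χ : centralizer ({u} : Set G) → ℂ) 1} :=
    H11.principalBlock_eq_of_complement hM hK hk
  have hbb : IsPBlock M (principalBlock M (centralizer ({u} : Set G))) := ⟨⟨_, H3.isIrr_one⟩, rfl⟩
  have hBB : IsPBlock M (blockOf M (χ : G → ℂ)) := ⟨χ, rfl⟩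
  have hχB : χ ∈ blockOf M (χ : G → ℂ) := H11.mem_blockOf_self χ
  have hnot : ¬ IsInducedBlock M (centralizer ({u} : Set G)) (principalBlock M (centralizer ({u} : Set G)))
      (blockOf M (χ : G → ℂ)) := by
    intro h
    have h1 := (H11.third_main hM h).mpr rfl
    rw [h1] at hχB
    exact hχ hχB
  have h1 := H11.second_main_blockPart hM hu hBB hχB hbb hnot 1 (by
    rw [orderOf_one]; exact fun h => (Fact.out : p.Prime).one_lt.ne' (Nat.dvd_one.mp h))
  have h2 := blockPart_avg K hb (H11.classFun_translate (H3.irr_classFun χ.2) (x := u)) 1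
  rw [h1, mul_zero] at h2
  rw [h2]
  apply Finset.sum_congr rfl
  intro v _
  rw [one_mul]

end Cfsg.Agent.H9.Exc
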