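import Cfsg.Agent.H9.ExcE

set_option autoImplicit false
set_option linter.unusedSectionVars false
set_option linter.style.haveILetI false
set_option linter.unusedVariables false
set_option linter.unusedSimpArgs false

/-! Constituents of the induced functions lie in the principal block; values on `u V`. -/

open Cfsg
open scoped ComplexConjugate

namespace Cfsg.Agent.H9.Exc

open Subgroup

universe u

variable {G : Type u} [Group G] [Fintype G] {p : ℕ} [Fact p.Prime] {P : Subgroup G} {L : ℕ}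
  {pw : centralizer (P : Set G) →* P}

/-- the standing hypotheses -/
structure Setup (G : Type u) [Group G] (p : ℕ) (P : Subgroup G) (L e : ℕ)
    (pw : centralizer (P : Set G) →* P) : Prop where
  hP : Nat.card P = p
  hL : Nat.card (centralizer (P : Set G)) = p * L
  hpL : Nat.Coprime p L
  hpw : ∀ c : centralizer (P : Set G), ((pw c : P) : G) = (c : G) ^ L
  hN : Nat.card (normalizer (P : Set G)) = (p * L) * e

variable {e : ℕ}

theorem Setup.hPC (h : Setup G p P L e pw) : P ≤ centralizer (P : Set G) := Syl.le_centralizer_of_card_prime h.hP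

theorem Setup.surj (h : Setup G p P L e pw) : Function.Surjective pw := pw_surj h.hP h.hpL h.hpw

theorem Setup.L_ne (h : Setup G p P L e pw) : L ≠ 0 := by
  rintro rfl
  have := h.hL
  rw [mul_zero] at this
  exact absurd this Nat.card_pos.ne'

theorem Setup.card_ker (h : Setup G p P L e pw) : Nat.card pw.ker = L := by
  have hpp : p.Prime := Fact.out
  have h1 := card_mul_index pw.ker
  rw [index_ker, MonoidHom.range_eq_top.mpr h.surj, h.hL, card_top, h.hP, mul_comm p] at h1
  exact Nat.eq_of_mul_eq_mul_right hpp.pos h1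

theorem Setup.index_ker (h : Setup G p P L e pw) : pw.ker.index = p ^ 1 := by
  rw [Subgroup.index_ker, MonoidHom.range_eq_top.mpr h.surj, card_top, h.hP, pow_one]

theorem Setup.not_dvd (h : Setup G p P L e pw) : ¬ p ∣ Nat.card pw.ker := by
  rw [h.card_ker]
  exact (Nat.Prime.coprime_iff_not_dvd (Fact.out : p.Prime)).mp h.hpL

theorem Setup.zpowers_eq (h : Setup G p P L e pw) {u : G} (hu : u ∈ P) (hu1 : u ≠ 1) : zpowers u = P :=
  Simple.zpowers_eq_of_card h.hP hu hu1

theorem Setup.centralizer_eq (h : Setup G p P L e pw) {u : G} (hu : u ∈ P) (hu1 : u ≠ 1) :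
    centralizer ({u} : Set G) = centralizer (P : Set G) := by
  rw [← h.zpowers_eq hu hu1, H11.centralizer_zpowers]

theorem Setup.order (h : Setup G p P L e pw) {u : G} (hu : u ∈ P) (hu1 : u ≠ 1) : ∃ k : ℕ, orderOf u = p ^ k := by
  refine ⟨1, ?_⟩
  rw [pow_one, ← Nat.card_zpowers, h.zpowers_eq hu hu1, h.hP]

/-- the product decomposition of `C(P)` -/
theorem Setup.sum_C (h : Setup G p P L e pw) [Fintype (centralizer (P : Set G))] [Fintype P] [Fintype pw.ker]
    (F : centralizer (P : Set G) → ℂ) :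
    ∑ c : centralizer (P : Set G), F c = ∑ u : P, ∑ v : pw.ker, F (⟨u, h.hPC u.2⟩ * (v : centralizer (P : Set G))) := by
  classical
  let g : P × pw.ker → centralizer (P : Set G) := fun x => ⟨x.1, h.hPC x.1.2⟩ * (x.2 : centralizer (P : Set G))
  have hg : Function.Injective g := by
    rintro ⟨u, v⟩ ⟨u', v'⟩ hh
    have h1 := congrArg pw hh
    simp only [g, map_mul] at h1
    rw [MonoidHom.mem_ker.mp v.2, MonoidHom.mem_ker.mp v'.2, mul_one, mul_one] at h1
    have h2 := congrArg (fun z : P => (z : G)) h1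
    simp only [h.hpw] at h2
    have h3 : (u : G) = u' := pw_coprime h.hP h.hpL u.2 u'.2 h2
    have h4 : u = u' := Subtype.ext h3
    subst h4
    have h5 : (v : centralizer (P : Set G)) = v' := mul_left_cancel hh
    rw [Subtype.ext h5]
  have hb : Function.Bijective g := by
    rw [Fintype.bijective_iff_injective_and_card]
    refine ⟨hg, ?_⟩
    rw [Fintype.card_prod, ← Nat.card_eq_fintype_card, ← Nat.card_eq_fintype_card, ← Nat.card_eq_fintype_card,
      h.hP, h.card_ker, h.hL]
  exact (Fintype.sum_bijective g hb (fun x => F (g x)) F (fun x => rfl)).symm.trans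
    (Fintype.sum_prod_type (fun x : P × pw.ker => F (g x)))

/-- constancy -/
theorem Setup.const (h : Setup G p P L e pw) {M : Ideal AlgInt} (hM : IsPModular p M) {χ : IrrCharacter G}
    (hχ : χ ∈ principalBlock M G) {u : G} (hu : u ∈ P) (hu1 : u ≠ 1) (v : pw.ker) :
    (χ : G → ℂ) (u * ((v : centralizer (P : Set G)) : G)) = (χ : G → ℂ) u :=
  principal_constC hM (h.order hu hu1) (h.centralizer_eq hu hu1) h.not_dvd v.2 hχ

theorem Setup.sum_zero (h : Setup G p P L e pw) {M : Ideal AlgInt} (hM : IsPModular p M) {χ : IrrCharacter G}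
    (hχ : χ ∉ principalBlock M G) {u : G} (hu : u ∈ P) (hu1 : u ≠ 1) [Fintype pw.ker] :
    ∑ v : pw.ker, (χ : G → ℂ) (u * ((v : centralizer (P : Set G)) : G)) = 0 :=
  sum_eq_zeroC hM (h.order hu hu1) (h.centralizer_eq hu hu1) h.not_dvd h.index_ker hχ

theorem Setup.pw_mul (h : Setup G p P L e pw) (u : P) (v : pw.ker) :
    pw (⟨u, h.hPC u.2⟩ * (v : centralizer (P : Set G))) = u ^ L := by
  rw [map_mul, MonoidHom.mem_ker.mp v.2, mul_one]
  apply Subtype.ext
  rw [h.hpw]
  rfl

theorem Setup.inner_zero (h : Setup G p P L e pw) {M : Ideal AlgInt} (hM : IsPModular p M) {χ : IrrCharacter G}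
    (hχ : χ ∉ principalBlock M G) (μ : P →* ℂˣ) :
    classInner (χ : G → ℂ) (indFun (centralizer (P : Set G)) (phC pw μ)) = 0 := by
  classical
  letI : Fintype (centralizer (P : Set G)) := Fintype.ofFinite _
  letI : Fintype P := Fintype.ofFinite P
  letI : Fintype pw.ker := Fintype.ofFinite _
  rw [H3.frobenius_reciprocity' _ _ (H3.irr_classFun χ.2), classInner, h.sum_C]
  apply mul_eq_zero_of_right
  apply Finset.sum_eq_zero
  intro u _
  have h1 : ∀ v : pw.ker, (χ : G → ℂ) ((⟨u, h.hPC u.2⟩ * (v : centralizer (P : Set G)) : centralizer (P : Set G)) : G) *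
      conj (phC pw μ (⟨u, h.hPC u.2⟩ * (v : centralizer (P : Set G)))) =
      (χ : G → ℂ) (u * ((v : centralizer (P : Set G)) : G)) * conj (1 - (μ (u ^ L) : ℂ)) := by
    intro v
    rw [phC, h.pw_mul]
    rfl
  rw [Finset.sum_congr rfl fun v _ => h1 v, ← Finset.sum_mul]
  by_cases hu : (u : G) = 1
  · have hu' : u = 1 := Subtype.ext hu
    rw [hu']; simp
  · rw [h.sum_zero hM hχ u.2 hu, zero_mul]

theorem Setup.inner_eq (h : Setup G p P L e pw) {M : Ideal AlgInt} (hM : IsPModular p M) {χ : IrrCharacter G}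
    (hχ : χ ∈ principalBlock M G) (μ : P →* ℂˣ) [Fintype P] :
    (p : ℂ) * classInner (χ : G → ℂ) (indFun (centralizer (P : Set G)) (phC pw μ)) =
      ∑ u : P, (χ : G → ℂ) u * conj (1 - (μ (u ^ L) : ℂ)) := by
  classical
  have hpp : p.Prime := Fact.out
  letI : Fintype (centralizer (P : Set G)) := Fintype.ofFinite _
  letI : Fintype pw.ker := Fintype.ofFinite _
  have hL0 : (L : ℂ) ≠ 0 := by exact_mod_cast h.L_ne
  have hp0 : (p : ℂ) ≠ 0 := by exact_mod_cast hpp.ne_zero
  rw [H3.frobenius_reciprocity' _ _ (H3.irr_classFun χ.2), classInner, h.sum_C, h.hL]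
  have h2 : ∀ u : P, ∑ v : pw.ker, (χ : G → ℂ) ((⟨u, h.hPC u.2⟩ * (v : centralizer (P : Set G)) : centralizer (P : Set G)) : G) *
      conj (phC pw μ (⟨u, h.hPC u.2⟩ * (v : centralizer (P : Set G)))) =
      (L : ℂ) * ((χ : G → ℂ) u * conj (1 - (μ (u ^ L) : ℂ))) := by
    intro u
    have h1 : ∀ v : pw.ker, (χ : G → ℂ) ((⟨u, h.hPC u.2⟩ * (v : centralizer (P : Set G)) : centralizer (P : Set G)) : G) *
        conj (phC pw μ (⟨u, h.hPC u.2⟩ * (v : centralizer (P : Set G)))) =
        (χ : G → ℂ) u * conj (1 - (μ (u ^ L) : ℂ)) := by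
      intro v
      rw [phC, h.pw_mul]
      by_cases hu : (u : G) = 1
      · have hu' : u = 1 := Subtype.ext hu
        rw [hu']; simp
      · have h3 := h.const hM hχ u.2 hu v
        change (χ : G → ℂ) (u * ((v : centralizer (P : Set G)) : G)) * _ = _
        rw [h3]
    rw [Finset.sum_congr rfl fun v _ => h1 v, Finset.sum_const, Finset.card_univ, ← Nat.card_eq_fintype_card, h.card_ker,
      nsmul_eq_mul]
  rw [Finset.sum_congr rfl fun u _ => h2 u, ← Finset.mul_sum]
  push_cast
  field_simp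

open scoped Classical in
theorem sum_hom (hP : Nat.card P = p) [Fintype (P →* ℂˣ)] (y : P) :
    ∑ μ : P →* ℂˣ, (μ y : ℂ) = if y = 1 then (p : ℂ) else 0 := by
  have h1 := sum_ph hP y
  simp only [ph] at h1
  rw [Finset.sum_sub_distrib, Finset.sum_const, Finset.card_univ, ← Nat.card_eq_fintype_card, card_hom hP, nsmul_eq_mul,
    mul_one] at h1
  by_cases hy : y = 1
  · rw [if_pos hy] at h1 ⊢
    linear_combination -h1
  · rw [if_neg hy] at h1 ⊢
    linear_combination -h1

/-- a character of the principal block with constant inner products takes a constant value on `P - 1` -/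
theorem Setup.value (h : Setup G p P L e pw) {M : Ideal AlgInt} (hM : IsPModular p M) {χ : IrrCharacter G}
    (hχ : χ ∈ principalBlock M G) {c : ℤ}
    (hc : ∀ μ : P →* ℂˣ, μ ≠ 1 → classInner (χ : G → ℂ) (indFun (centralizer (P : Set G)) (phC pw μ)) = c)
    {w : G} (hw : w ∈ P) (hw1 : w ≠ 1) : (χ : G → ℂ) w = c := by
  classical
  have hpp : p.Prime := Fact.out
  have hp0 : (p : ℂ) ≠ 0 := by exact_mod_cast hpp.ne_zero
  haveI := finite_hom (P := P)
  letI : Fintype (P →* ℂˣ) := Fintype.ofFinite _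
  letI : Fintype P := Fintype.ofFinite P
  let w' : P := ⟨w, hw⟩
  have hw' : w' ≠ 1 := fun h' => hw1 (congrArg Subtype.val h')
  have hpowne : ∀ x : P, x ^ L = 1 → x = 1 := by
    intro x hx
    apply Subtype.ext
    apply pw_coprime h.hP h.hpL x.2 (one_mem P)
    rw [one_pow]
    exact congrArg Subtype.val hx
  haveI := isMulComm_of_card h.hP
  have hcomm : ∀ a b : P, a * b = b * a := isMulCommutative_iff.mp inferInstance
  -- the sum over μ
  have h1 : ∑ μ : P →* ℂˣ, (μ (w' ^ L) : ℂ) * ((p : ℂ) * classInner (χ : G → ℂ) (indFun (centralizer (P : Set G)) (phC pw μ))) =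
      -((p : ℂ) * c) := by
    have h2 : ∀ μ : P →* ℂˣ, (μ (w' ^ L) : ℂ) * ((p : ℂ) * classInner (χ : G → ℂ) (indFun (centralizer (P : Set G)) (phC pw μ))) =
        (μ (w' ^ L) : ℂ) * ((p : ℂ) * c) - if μ = 1 then (p : ℂ) * c else 0 := by
      intro μ
      by_cases hμ : μ = 1
      · subst hμ
        have h3 : phC pw (1 : P →* ℂˣ) = 0 := by ext y; simp [phC]
        rw [h3, H3.indFun_zero, if_pos rfl]
        simp [classInner]
      · rw [if_neg hμ, hc μ hμ, sub_zero]
    rw [Finset.sum_congr rfl fun μ _ => h2 μ, Finset.sum_sub_distrib, ← Finset.sum_mul, sum_hom h.hP,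
      if_neg (fun h' => hw' (hpowne w' h')), Finset.sum_ite_eq', if_pos (Finset.mem_univ _)]
    ring
  have h2 : ∑ μ : P →* ℂˣ, (μ (w' ^ L) : ℂ) * ((p : ℂ) * classInner (χ : G → ℂ) (indFun (centralizer (P : Set G)) (phC pw μ))) =
      -((p : ℂ) * (χ : G → ℂ) w) := by
    have h3 : ∀ μ : P →* ℂˣ, (μ (w' ^ L) : ℂ) * ((p : ℂ) * classInner (χ : G → ℂ) (indFun (centralizer (P : Set G)) (phC pw μ))) =
        ∑ x : P, ((χ : G → ℂ) x * (μ (w' ^ L) : ℂ) - (χ : G → ℂ) x * (μ ((w' * x⁻¹) ^ L) : ℂ)) := by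
      intro μ
      rw [h.inner_eq hM hχ μ, Finset.mul_sum]
      apply Finset.sum_congr rfl
      intro x _
      have h4 : (μ ((w' * x⁻¹) ^ L) : ℂ) = (μ (w' ^ L) : ℂ) * conj (μ (x ^ L) : ℂ) := by
        have h5 : (w' * x⁻¹) ^ L = w' ^ L * (x ^ L)⁻¹ := by
          rw [(show Commute w' x⁻¹ from hcomm _ _).mul_pow, inv_pow]
        rw [h5, map_mul, map_inv, Units.val_mul]
        congr 1
        have h6 := H3.char_inv (H3.irr_isChar (H3.isIrr_of_hom μ)) (x ^ L)
        rw [← h6, map_inv]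
      rw [h4, map_sub, map_one]; ring
    rw [Finset.sum_congr rfl fun μ _ => h3 μ, Finset.sum_comm]
    have h4 : ∀ x : P, ∑ μ : P →* ℂˣ, ((χ : G → ℂ) x * (μ (w' ^ L) : ℂ) - (χ : G → ℂ) x * (μ ((w' * x⁻¹) ^ L) : ℂ)) =
        if x = w' then -((p : ℂ) * (χ : G → ℂ) w) else 0 := by
      intro x
      rw [Finset.sum_sub_distrib, ← Finset.mul_sum, ← Finset.mul_sum, sum_hom h.hP, sum_hom h.hP,
        if_neg (fun h' => hw' (hpowne w' h'))]
      by_cases hx : x = w'
      · rw [if_pos hx, if_pos (by rw [hx, mul_inv_cancel, one_pow]), hx]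
        ring
      · rw [if_neg hx, if_neg (fun h' => hx (by
          have := hpowne _ h'
          exact (mul_inv_eq_one.mp this).symm))]
        ring
    rw [Finset.sum_congr rfl fun x _ => h4 x, Finset.sum_ite_eq', if_pos (Finset.mem_univ _)]
  rw [h1] at h2
  have h3 : (p : ℂ) * c = (p : ℂ) * (χ : G → ℂ) w := neg_injective h2
  exact (mul_left_cancel₀ hp0 h3).symm

/-- degree congruence from a constant value on `P - 1` -/
theorem degree_of_value (hP : Nat.card P = p) {χ : G → ℂ} (hχ : IsCharacter G χ) {d : ℕ} (hd : χ 1 = d) {c : ℤ}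
    (hv : ∀ w ∈ P, w ≠ 1 → χ w = c) : (d : ℤ) ≡ c [ZMOD p] := by
  classical
  have hpp : p.Prime := Fact.out
  have hp0 : (p : ℂ) ≠ 0 := by exact_mod_cast hpp.ne_zero
  letI : Fintype P := Fintype.ofFinite P
  obtain ⟨m, hm⟩ := H3.classInner_char_nat (H3.isChar_restrict P hχ) (H3.isChar_one (G := P))
  have h1 : (p : ℂ) * m = (d : ℂ) + ((p : ℂ) - 1) * c := by
    rw [← hm, classInner, hP, ← mul_assoc, mul_inv_cancel₀ hp0, one_mul]
    rw [← Finset.add_sum_erase _ _ (Finset.mem_univ (1 : P))]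
    have h2 : ∀ x ∈ (Finset.univ : Finset P).erase 1, χ x * conj (1 : ℂ) = c := by
      intro x hx
      rw [hv x x.2 (fun h' => Finset.ne_of_mem_erase hx (Subtype.ext h')), map_one, mul_one]
    rw [Finset.sum_congr rfl h2, Finset.sum_const, Finset.card_erase_of_mem (Finset.mem_univ _), Finset.card_univ,
      ← Nat.card_eq_fintype_card, hP, nsmul_eq_mul, Nat.cast_sub hpp.one_lt.le]
    have h3 : χ ((1 : P) : G) * conj (1 : ℂ) = d := by rw [map_one, mul_one]; exact hd
    rw [h3]; push_cast; ring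
  have h2 : (p : ℤ) * m = (d : ℤ) + ((p : ℤ) - 1) * c := by exact_mod_cast h1
  apply Int.ModEq.symm
  rw [Int.modEq_iff_dvd]
  exact ⟨m - c, by linear_combination -h2⟩

end Cfsg.Agent.H9.Exc
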