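import Cfsg.Agent.H9.ExcH

set_option autoImplicit false
set_option linter.unusedSectionVars false
set_option linter.style.haveILetI false
set_option linter.unusedVariables false
set_option linter.unusedSimpArgs false

/-! A Boolean check for the degree equation, general centralizer. -/

open Cfsg

namespace Cfsg.Agent.H9.Exc

open Subgroup

/-- possible pairs (coefficient, degree) with degree at least `lo` -/
def candsL (n p e lo B : ℕ) : List (ℤ × ℕ) :=
  (List.range B).filterMap fun d =>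
    if lo ≤ d ∧ n % d = 0 then
      (if d % p ≠ 0 ∧ (d % p) * (d % p) ≤ e then some (((d % p : ℕ) : ℤ), d)
        else if (p - d % p) * (p - d % p) ≤ e then some (-((p - d % p : ℕ) : ℤ), d) else none)
    else none

/-- as `candsL` but both residues are allowed (used for `e = p - 1`) -/
def candsM (n p e lo B : ℕ) : List (ℤ × ℕ) :=
  (List.range B).flatMap fun d =>
    if lo ≤ d ∧ n % d = 0 then
      (List.range (2 * p + 1)).filterMap fun (i : ℕ) =>
        if ((i : ℕ) : ℤ) - (p : ℤ) ≠ 0 ∧ (((i : ℕ) : ℤ) - (p : ℤ)) * (((i : ℕ) : ℤ) - (p : ℤ)) ≤ (e : ℤ) ∧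
          ((d : ℤ) - (((i : ℕ) : ℤ) - (p : ℤ))) % (p : ℤ) = 0 then some (((i : ℕ) : ℤ) - (p : ℤ), d) else none
    else []

/-- the final condition for `t ≥ 2` -/
def finL (n t e lo : ℕ) (R S : ℤ) (Q : ℕ) : Bool :=
  (List.range (2 * e + 1)).any fun i => [(1 : ℤ), -1].any fun ε =>
    let b : ℤ := (i : ℤ) - e
    decide ((b + ε) * (b + ε) + ((t : ℤ) - 1) * (b * b) = R) &&
    (decide ((t : ℤ) * b + ε = 0) ||
      (let f := S.natAbs / ((t : ℤ) * b + ε).natAbs
       decide (S + ((t : ℤ) * b + ε) * f = 0) && decide (lo ≤ f) && decide (n % f = 0) && decide (Q + t * (f * f) ≤ n)))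

/-- the final condition for `t = 1` -/
def finO (R S : ℤ) (Q : ℕ) : Bool := decide (R = 0) && decide (S = 0)

/-- search -/
def goG (F : ℤ → ℤ → ℕ → Bool) (n : ℕ) (C : List (ℤ × ℕ)) : ℕ → ℤ → ℤ → ℕ → Bool
  | 0, R, S, Q => F R S Q
  | k + 1, R, S, Q => F R S Q || C.any fun x =>
      decide (x.1 * x.1 ≤ R) && (decide (Q + x.2 * x.2 ≤ n) &&
        goG F n C k (R - x.1 * x.1) (S + x.1 * x.2) (Q + x.2 * x.2))

theorem goG_of_fin {F : ℤ → ℤ → ℕ → Bool} {n : ℕ} {C : List (ℤ × ℕ)} {k : ℕ} {R S : ℤ} {Q : ℕ} (h : F R S Q = true) :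
    goG F n C k R S Q = true := by
  cases k with
  | zero => exact h
  | succ k => rw [goG, h, Bool.true_or]

theorem goG_complete {F : ℤ → ℤ → ℕ → Bool} {n : ℕ} {C : List (ℤ × ℕ)} (L : List (ℤ × ℕ)) (hL : ∀ x ∈ L, x ∈ C) :
    ∀ (k : ℕ) (R S : ℤ) (Q : ℕ), L.length ≤ k →
      (L.map (fun x => x.1 ^ 2)).sum ≤ R → Q + (L.map (fun x => x.2 ^ 2)).sum ≤ n →
      F (R - (L.map (fun x => x.1 ^ 2)).sum) (S + (L.map (fun x => x.1 * (x.2 : ℤ))).sum)
        (Q + (L.map (fun x => x.2 ^ 2)).sum) = true → goG F n C k R S Q = true := by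
  induction L with
  | nil =>
    intro k R S Q _ _ _ h
    apply goG_of_fin
    simpa using h
  | cons x L ih =>
    intro k R S Q hk hR hQ h
    cases k with
    | zero => simp at hk
    | succ k =>
      rw [goG, Bool.or_eq_true]
      right
      rw [List.any_eq_true]
      have hpos : 0 ≤ (L.map (fun x => x.1 ^ 2)).sum := by
        apply List.sum_nonneg
        intro y hy
        obtain ⟨z, _, rfl⟩ := List.mem_map.mp hy
        positivity
      rw [List.map_cons, List.sum_cons] at hR hQ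
      refine ⟨x, hL x (by simp), ?_⟩
      rw [Bool.and_eq_true, Bool.and_eq_true, decide_eq_true_iff, decide_eq_true_iff]
      refine ⟨by nlinarith, by nlinarith [Nat.zero_le (L.map (fun x => x.2 ^ 2)).sum], ?_⟩
      apply ih (fun y hy => hL y (List.mem_cons_of_mem _ hy))
      · simp at hk; omega
      · have : x.1 * x.1 = x.1 ^ 2 := by ring
        rw [this]; linarith
      · have : x.2 * x.2 = x.2 ^ 2 := by ring
        rw [this]; omega
      · rw [List.map_cons, List.sum_cons, List.map_cons, List.sum_cons, List.map_cons, List.sum_cons] at h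
        have e1 : R - x.1 * x.1 - (L.map (fun x => x.1 ^ 2)).sum = R - (x.1 ^ 2 + (L.map (fun x => x.1 ^ 2)).sum) := by ring
        have e2 : S + x.1 * (x.2 : ℤ) + (L.map (fun x => x.1 * (x.2 : ℤ))).sum =
          S + (x.1 * (x.2 : ℤ) + (L.map (fun x => x.1 * (x.2 : ℤ))).sum) := by ring
        have e3 : Q + x.2 * x.2 + (L.map (fun x => x.2 ^ 2)).sum = Q + (x.2 ^ 2 + (L.map (fun x => x.2 ^ 2)).sum) := by ring
        rw [e1, e2, e3]
        exact h

/-- the whole check for `t ≥ 2` -/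
def killL (n p e lo B : ℕ) : Bool :=
  decide (n < B * B) && !(goG (finL n ((p - 1) / e) e lo) n (candsL n p e lo B) e e 1 1)

/-- the whole check for `t = 1` -/
def killO (n p e lo B : ℕ) : Bool :=
  decide (n < B * B) && !(goG finO n (candsM n p e lo B) e e 1 1)

/-- both cases -/
def killA (n p e L B : ℕ) : Bool :=
  let lo := if L = 1 then 3 else 2 * p
  if e = p - 1 then killO n p e lo B else killL n p e lo B

/-- all possible `e` for `|N| = p Q` -/
def killQ (n p Q B : ℕ) : Bool :=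
  (List.range p).all fun e => decide (e ≤ 1) || decide ((p - 1) % e ≠ 0) || decide (Q % e ≠ 0) || killA n p e (Q / e) B

theorem mem_candsL {n p e lo B d : ℕ} (hp : 0 < p) (hd : lo ≤ d) (hdB : d < B) (hdn : d ∣ n) {x : ℤ} (hx0 : x ≠ 0)
    (hx : x ^ 2 ≤ e) (he : 2 * e < p) (hxd : (d : ℤ) ≡ x [ZMOD p]) : (x, d) ∈ candsL n p e lo B := by
  unfold candsL
  rw [List.mem_filterMap]
  refine ⟨d, List.mem_range.mpr hdB, ?_⟩
  rw [if_pos ⟨hd, Nat.mod_eq_zero_of_dvd hdn⟩]
  have hxe : x ≤ e ∧ -(e : ℤ) ≤ x := by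
    constructor
    · nlinarith [abs_nonneg x]
    · nlinarith
  have hmod : ((d % p : ℕ) : ℤ) = x % p := by
    rw [Int.natCast_mod]
    exact hxd
  rcases lt_or_gt_of_ne hx0 with hneg | hpos
  · have h1 : x % p = x + p := by
      rw [← Int.add_emod_right]
      exact Int.emod_eq_of_lt (by omega) (by omega)
    rw [h1] at hmod
    have h2 : ((p - d % p : ℕ) : ℤ) = -x := by
      have : d % p < p := Nat.mod_lt _ hp
      rw [Nat.cast_sub this.le, hmod]; ring
    have h3 : ¬ (d % p ≠ 0 ∧ (d % p) * (d % p) ≤ e) := by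
      rintro ⟨_, h4⟩
      have h5 : ((d % p : ℕ) : ℤ) * ((d % p : ℕ) : ℤ) ≤ e := by exact_mod_cast h4
      rw [hmod] at h5
      have h6 : (e : ℤ) < x + p := by omega
      nlinarith
    have h4 : (p - d % p) * (p - d % p) ≤ e := by
      have : ((p - d % p : ℕ) : ℤ) * ((p - d % p : ℕ) : ℤ) ≤ e := by rw [h2]; nlinarith
      exact_mod_cast this
    rw [if_neg h3, if_pos h4, h2, neg_neg]
  · have h1 : x % p = x := Int.emod_eq_of_lt hpos.le (by omega)
    rw [h1] at hmod
    have h3 : d % p ≠ 0 ∧ (d % p) * (d % p) ≤ e := by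
      refine ⟨?_, ?_⟩
      · intro h0
        rw [h0] at hmod
        simp at hmod
        omega
      · have : ((d % p : ℕ) : ℤ) * ((d % p : ℕ) : ℤ) ≤ e := by rw [hmod]; nlinarith
        exact_mod_cast this
    rw [if_pos h3, hmod]

theorem mem_candsM {n p e lo B d : ℕ} (hd : lo ≤ d) (hdB : d < B) (hdn : d ∣ n) {x : ℤ} (hx0 : x ≠ 0)
    (hx : x ^ 2 ≤ e) (he : e < p) (hxd : (d : ℤ) ≡ x [ZMOD p]) : (x, d) ∈ candsM n p e lo B := by
  unfold candsM
  rw [List.mem_flatMap]
  refine ⟨d, List.mem_range.mpr hdB, ?_⟩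
  rw [if_pos ⟨hd, Nat.mod_eq_zero_of_dvd hdn⟩, List.mem_filterMap]
  have hxe : x ≤ e ∧ -(e : ℤ) ≤ x := by
    constructor
    · nlinarith [abs_nonneg x]
    · nlinarith
  refine ⟨(x + p).toNat, List.mem_range.mpr (by omega), ?_⟩
  have h1 : (((x + p).toNat : ℕ) : ℤ) - p = x := by
    rw [Int.toNat_of_nonneg (by omega)]; ring
  simp only [h1]
  rw [if_pos]
  refine ⟨hx0, by rw [← pow_two]; exact hx, ?_⟩
  exact Int.emod_eq_zero_of_dvd (Int.ModEq.dvd hxd.symm)

theorem finL_intro {n t e lo : ℕ} {R S : ℤ} {Q : ℕ} {ε b : ℤ} {f : ℕ} (hε : ε = 1 ∨ ε = -1) (hb : -(e : ℤ) ≤ b ∧ b ≤ e)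
    (h1 : (b + ε) ^ 2 + ((t : ℤ) - 1) * b ^ 2 = R) (h2 : S + ((t : ℤ) * b + ε) * f = 0) (h3 : lo ≤ f) (h4 : f ∣ n)
    (h5 : Q + t * f ^ 2 ≤ n) : finL n t e lo R S Q = true := by
  unfold finL
  rw [List.any_eq_true]
  refine ⟨(b + e).toNat, List.mem_range.mpr (by omega), ?_⟩
  have hb' : (((b + e).toNat : ℕ) : ℤ) - e = b := by
    rw [Int.toNat_of_nonneg (by omega)]; ring
  rw [List.any_eq_true]
  refine ⟨ε, ?_, ?_⟩
  · rcases hε with rfl | rfl <;> simp
  simp only [hb']
  rw [Bool.and_eq_true, decide_eq_true_iff]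
  refine ⟨by rw [← h1]; ring, ?_⟩
  by_cases hK : (t : ℤ) * b + ε = 0
  · rw [decide_eq_true hK, Bool.true_or]
  · have hf : S.natAbs / ((t : ℤ) * b + ε).natAbs = f := by
      have h6 : S = -(((t : ℤ) * b + ε) * f) := by linarith
      rw [h6, Int.natAbs_neg, Int.natAbs_mul, Int.natAbs_natCast, Nat.mul_div_cancel_left _ (Int.natAbs_pos.mpr hK)]
    rw [hf, Bool.or_eq_true, Bool.and_eq_true, Bool.and_eq_true, Bool.and_eq_true, decide_eq_true_iff, decide_eq_true_iff,
      decide_eq_true_iff, decide_eq_true_iff, decide_eq_true_iff]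
    right
    refine ⟨⟨⟨h2, h3⟩, Nat.mod_eq_zero_of_dvd h4⟩, ?_⟩
    have : f * f = f ^ 2 := by ring
    rw [this]; exact h5

/-- irreducible characters of degree two do not exist -/
theorem deg_ne_two {G : Type*} [Group G] [Finite G] [IsSimpleGroup G] (hG : ¬ IsMulCommutative G) {χ : G → ℂ}
    (hχ : IsIrrCharacter G χ) : χ 1 ≠ 2 := by
  classical
  intro h2
  letI : Fintype G := Fintype.ofFinite G
  have hne : χ ≠ fun _ => 1 := by
    intro h
    rw [h] at h2
    norm_num at h2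
  have hdvd : 2 ∣ Nat.card G := H3.irr_degree_dvd_card hχ (n := 2) (by rw [h2]; norm_num)
  obtain ⟨z, hz⟩ := exists_prime_orderOf_dvd_card' 2 hdvd
  have hz1 : z ≠ 1 := by
    intro h
    rw [h, orderOf_one] at hz
    omega
  have hχ' := hχ
  obtain ⟨n, ρ, hρ, rfl⟩ := hχ'
  obtain ⟨ι, hι, b, ω, hω, hb⟩ := H3.exists_eigenbasis ρ z
  have hn : n = 2 := by
    rw [Representation.char_one] at h2
    have : Module.finrank ℂ (Fin n → ℂ) = 2 := by exact_mod_cast h2
    simpa using this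
  have hcard : Fintype.card ι = 2 := by
    rw [← Module.finrank_eq_card_basis b, Module.finrank_fin_fun, hn]
  have hdet : LinearMap.det (ρ z) = ∏ i, ω i := by
    rw [← LinearMap.det_toMatrix b]
    have h1 : LinearMap.toMatrix b b (ρ z) = Matrix.diagonal ω := by
      ext i j
      rw [LinearMap.toMatrix_apply, Matrix.diagonal_apply]
      have h3 := hb 1 j
      rw [zpow_one, zpow_one] at h3
      rw [h3]
      by_cases hij : i = j
      · subst hij; simp
      · rw [if_neg hij]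
        simp [Finsupp.single_apply, Ne.symm hij]
    rw [h1, Matrix.det_diagonal]
  rw [det_rep (hom_trivial hG)] at hdet
  obtain ⟨e⟩ : Nonempty (ι ≃ Fin 2) := ⟨Fintype.equivFinOfCardEq hcard⟩
  have hprod : ∏ i, ω i = ω (e.symm 0) * ω (e.symm 1) := by
    rw [← Equiv.prod_comp e.symm, Fin.prod_univ_two]
  have hval : ∀ i, ω i = 1 ∨ ω i = -1 := by
    intro i
    have := hω i
    rw [hz] at this
    exact mul_self_eq_one_iff.mp ((pow_two _).symm.trans this)
  rw [hprod] at hdet
  have hcases : (∀ i, ω i = 1) ∨ (∀ i, ω i = -1) := by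
    have hall : ∀ i, i = e.symm 0 ∨ i = e.symm 1 := by
      intro i
      have h5 : ∀ k : Fin 2, k = 0 ∨ k = 1 := by decide
      rcases h5 (e i) with h | h
      · left; rw [← h, Equiv.symm_apply_apply]
      · right; rw [← h, Equiv.symm_apply_apply]
    rcases hval (e.symm 0) with h0 | h0 <;> rcases hval (e.symm 1) with h1 | h1
    · left; intro i; rcases hall i with rfl | rfl <;> assumption
    · rw [h0, h1] at hdet; norm_num at hdet
    · rw [h0, h1] at hdet; norm_num at hdet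
    · right; intro i; rcases hall i with rfl | rfl <;> assumption
  have hsc : ∀ w : Fin n → ℂ, ρ z w = (ω (e.symm 0)) • w := by
    intro w
    have h1 : ρ z = (ω (e.symm 0)) • (LinearMap.id : (Fin n → ℂ) →ₗ[ℂ] (Fin n → ℂ)) := by
      apply b.ext
      intro i
      have h3 := hb 1 i
      rw [zpow_one, zpow_one] at h3
      rw [h3]
      have : ω i = ω (e.symm 0) := by
        rcases hcases with h | h <;> rw [h, h]
      rw [this]; rfl
    rw [h1]; rfl
  have hcen : z ∈ center G := by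
    rw [mem_center_iff]
    intro g
    have h1 : ρ.character (g * z * g⁻¹ * z⁻¹) = ρ.character 1 := by
      have hz' : ρ z = (ω (e.symm 0)) • (1 : Module.End ℂ (Fin n → ℂ)) := LinearMap.ext hsc
      have hcomm : ρ g * ρ z = ρ z * ρ g := by
        rw [hz', mul_smul_comm, smul_mul_assoc, mul_one, one_mul]
      have : ρ (g * z * g⁻¹ * z⁻¹) = 1 := by
        rw [map_mul, map_mul, map_mul, hcomm, mul_assoc (ρ z), ← map_mul ρ g, mul_inv_cancel, map_one, mul_one,
          ← map_mul, mul_inv_cancel, map_one]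
      change LinearMap.trace ℂ _ (ρ (g * z * g⁻¹ * z⁻¹)) = LinearMap.trace ℂ _ (ρ 1)
      rw [this, map_one ρ]
    have h2 := ker_trivial hχ hne h1
    rw [mul_inv_eq_one, mul_inv_eq_iff_eq_mul] at h2
    exact h2
  rw [Simple.center_eq_bot hG, mem_bot] at hcen
  exact hz1 hcen

end Cfsg.Agent.H9.Exc
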