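import Cfsg.Agent.H9.ExcI

set_option autoImplicit false
set_option linter.unusedSectionVars false
set_option linter.style.haveILetI false
set_option linter.unusedVariables false
set_option linter.unusedSimpArgs false

/-! Soundness of the Boolean checks (general centralizer). -/

open Cfsg

namespace Cfsg.Agent.H9.Exc

open Subgroup

universe u

variable {G : Type u} [Group G] [Fintype G] {p : ℕ} [Fact p.Prime] {P : Subgroup G} {L e : ℕ}
  {pw : centralizer (P : Set G) →* P}

/-- lower bound for degrees -/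
def lo (p L : ℕ) : ℕ := if L = 1 then 3 else 2 * p

theorem Setup.lo_le [IsSimpleGroup G] (hG : ¬ IsMulCommutative G) (h : Setup G p P L e pw) {χ : G → ℂ}
    (hχ : IsIrrCharacter G χ) (hne : χ ≠ fun _ => 1) (hc : IsConst P L χ) {d : ℕ} (hd : χ 1 = d) : lo p L ≤ d := by
  classical
  have hpp : p.Prime := Fact.out
  unfold lo
  split_ifs with hL1
  · -- degrees 0, 1, 2 impossible
    obtain ⟨d', hd0, hd'⟩ := H3.irr_one_eq_nat hχ
    have hdd : d = d' := by rw [hd] at hd'; exact_mod_cast hd'
    subst hdd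
    by_contra hcon
    push Not at hcon
    interval_cases d
    · obtain ⟨μ, hμ⟩ := H3.exists_hom_of_char_one (H3.irr_isChar hχ) (by rw [hd]; norm_num)
      apply hne
      rw [hμ, hom_trivial hG μ]
      rfl
    · exact deg_ne_two hG hχ (by rw [hd]; norm_num)
  · have hLpos : 0 < L := Nat.pos_of_ne_zero h.L_ne
    have hcard := h.card_ker
    haveI : Nontrivial pw.ker := by
      rw [← Finite.one_lt_card_iff_nontrivial, hcard]
      omega
    obtain ⟨v, hv1⟩ := exists_ne (1 : pw.ker)
    have hPbot : P ≠ ⊥ := by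
      intro hb
      have := h.hP
      rw [hb, card_bot] at this
      exact hpp.one_lt.ne this
    obtain ⟨u, hu, hu1⟩ := (Subgroup.bot_or_exists_ne_one P).resolve_left hPbot
    have huo : orderOf u = p := by
      rw [← Nat.card_zpowers, h.zpowers_eq hu hu1, h.hP]
    have hvo : orderOf ((v : centralizer (P : Set G)) : G) ∣ L := by
      have h1 := orderOf_dvd_natCard v
      rw [hcard] at h1
      rwa [← orderOf_submonoid, ← orderOf_submonoid] at h1
    have hvC : ((v : centralizer (P : Set G)) : G) ∈ centralizer (P : Set G) := (v : centralizer (P : Set G)).2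
    have hcomm : Commute u ((v : centralizer (P : Set G)) : G) := (mem_centralizer_iff.mp hvC) u hu
    apply two_mul_le (hom_trivial hG) huo (v := ((v : centralizer (P : Set G)) : G)) _ _ hcomm hχ hne hd
    · intro a k ha
      have hua1 : u ^ a ≠ 1 := by
        intro h1
        exact ha (by rw [← huo]; exact orderOf_dvd_of_pow_eq_one h1)
      apply hc (u ^ a) (pow_mem hu a) hua1 _ (pow_mem hvC k)
      rw [← pow_mul, mul_comm, pow_mul]
      have : ((v : centralizer (P : Set G)) : G) ^ L = 1 := orderOf_dvd_iff_pow_eq_one.mp hvo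
      rw [this, one_pow]
    · intro h1
      apply hv1
      apply Subtype.ext
      apply Subtype.ext
      exact h1
    · exact Nat.Coprime.coprime_dvd_right hvo h.hpL

theorem kill_sum_aux (F : Finset (IrrCharacter G)) (c : IrrCharacter G → ℤ) (deg : IrrCharacter G → ℕ) :
    ((F.toList.map fun χ => (c χ, deg χ)).map (fun x => x.1 ^ 2)).sum = ∑ χ ∈ F, (c χ) ^ 2 ∧
    ((F.toList.map fun χ => (c χ, deg χ)).map (fun x => x.1 * (x.2 : ℤ))).sum = ∑ χ ∈ F, (c χ) * (deg χ : ℤ) ∧
    ((F.toList.map fun χ => (c χ, deg χ)).map (fun x => x.2 ^ 2)).sum = ∑ χ ∈ F, (deg χ) ^ 2 := by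
  refine ⟨?_, ?_, ?_⟩
  · rw [List.map_map, ← Finset.sum_map_toList]; rfl
  · rw [List.map_map, ← Finset.sum_map_toList]; rfl
  · rw [List.map_map, ← Finset.sum_map_toList]; rfl

theorem sq_le_sum (L : List (ℤ × ℕ)) : ∀ x ∈ L, x.1 ^ 2 ≤ (L.map (fun x => x.1 ^ 2)).sum := by
  intro x hx
  apply List.single_le_sum
  · intro y hy
    obtain ⟨z, _, rfl⟩ := List.mem_map.mp hy
    positivity
  · exact List.mem_map.mpr ⟨x, hx, rfl⟩

theorem sq_le_sum' (L : List (ℤ × ℕ)) : ∀ x ∈ L, x.2 ^ 2 ≤ (L.map (fun x => x.2 ^ 2)).sum := by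
  intro x hx
  apply List.single_le_sum
  · intro y hy
    exact Nat.zero_le _
  · exact List.mem_map.mpr ⟨x, hx, rfl⟩

theorem length_le_sum : ∀ L' : List (ℤ × ℕ), (∀ x ∈ L', x.1 ≠ 0) → (L'.length : ℤ) ≤ (L'.map (fun x => x.1 ^ 2)).sum := by
  intro L'
  induction L' with
  | nil => intro _; simp
  | cons x L' ih =>
    intro h
    rw [List.map_cons, List.sum_cons, List.length_cons]
    have h6 := ih (fun y hy => h y (List.mem_cons_of_mem _ hy))
    have h7 : 1 ≤ x.1 ^ 2 := by
      have h8 := h x (by simp)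
      have : 0 < x.1 ^ 2 := by positivity
      linarith
    push_cast
    linarith

theorem Setup.e_pos (h : Setup G p P L e pw) : 0 < e := by
  rcases Nat.eq_zero_or_pos e with h1 | h1
  · have := h.hN
    rw [h1, mul_zero] at this
    exact absurd this Nat.card_pos.ne'
  · exact h1

theorem Setup.killL_sound [IsSimpleGroup G] (hG : ¬ IsMulCommutative G) (h : Setup G p P L e pw) (h2e : 2 * e ≤ p - 1)
    {B : ℕ} (hk : killL (Nat.card G) p e (lo p L) B = true) : False := by
  classical
  have hpp : p.Prime := Fact.out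
  have hp2 := hpp.two_le
  obtain ⟨t, S, c, M, deg, ε, b, f, ht2, hte, hε, hMinj, hdeg, hM, hS, hsum, hrel, hcard⟩ := h.data h2e
  unfold killL at hk
  rw [Bool.and_eq_true, decide_eq_true_iff, Bool.not_eq_true', ← Bool.not_eq_true] at hk
  obtain ⟨hB, hgo⟩ := hk
  have he0 := h.e_pos
  have ht : (p - 1) / e = t := by rw [← hte, Nat.mul_div_cancel _ he0]
  apply hgo
  rw [ht]
  obtain ⟨hA1, hA2, hA3⟩ := kill_sum_aux S c deg
  let Ls : List (ℤ × ℕ) := S.toList.map fun χ => (c χ, deg χ)
  have hnn : 0 ≤ ∑ χ ∈ S, (c χ) ^ 2 := Finset.sum_nonneg fun χ _ => sq_nonneg _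
  have hb2 : 0 ≤ (b + ε) ^ 2 := by positivity
  have ht2' : (2 : ℤ) ≤ t := by exact_mod_cast ht2
  have hb3 : 0 ≤ ((t : ℤ) - 1) * b ^ 2 := by
    apply mul_nonneg
    · linarith
    · positivity
  have hbe : b ^ 2 ≤ e := by nlinarith [sq_nonneg b]
  have i0 : Fin t := ⟨0, by omega⟩
  apply goG_complete Ls
  · intro x hx
    have hx' := hx
    obtain ⟨χ, hχ, rfl⟩ := List.mem_map.mp hx'
    rw [Finset.mem_toList] at hχ
    obtain ⟨hne, hc0, hconst, hval⟩ := hS χ hχ
    have hxB : deg χ < B := by
      have h6 := sq_le_sum' Ls _ hx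
      rw [hA3] at h6
      by_contra hcon
      push Not at hcon
      have : B * B ≤ deg χ * deg χ := Nat.mul_le_mul hcon hcon
      have h7 : deg χ ^ 2 = deg χ * deg χ := by ring
      simp only at h6
      omega
    have h8 := sq_le_sum Ls _ hx
    rw [hA1] at h8
    apply mem_candsL hpp.pos (h.lo_le hG χ.2 hne hconst (hdeg χ)) hxB (H3.irr_degree_dvd_card χ.2 (hdeg χ)) hc0
      (by simp only at h8; linarith) (by omega)
    exact degree_of_value h.hP (H3.irr_isChar χ.2) (hdeg χ) hval
  · have h9 : (Ls.length : ℤ) ≤ e := by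
      have := length_le_sum Ls (by
        intro x hx
        obtain ⟨χ, hχ, rfl⟩ := List.mem_map.mp hx
        rw [Finset.mem_toList] at hχ
        exact (hS χ hχ).2.1)
      rw [hA1] at this
      linarith
    exact_mod_cast h9
  · rw [hA1]; linarith
  · rw [hA3]; omega
  · rw [hA1, hA2, hA3]
    obtain ⟨-, hMne, hMf, hMc⟩ := hM i0
    have h1g : ¬ p ∣ orderOf (1 : G) := by
      rw [orderOf_one]
      exact hpp.one_lt.ne' ∘ Nat.dvd_one.mp
    have hr := (hrel 1 h1g).2 i0
    rw [hdeg, hMf] at hr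
    apply finL_intro (ε := ε) (b := b) (f := f) hε
    · constructor <;> nlinarith
    · linarith
    · have h10 : ((1 + ∑ χ ∈ S, c χ * (deg χ : ℤ) + ((t : ℤ) * b + ε) * f : ℤ) : ℂ) = 0 := by
        rw [← hr]
        push_cast
        congr 2
        apply Finset.sum_congr rfl
        intro χ _
        rw [hdeg]
      exact_mod_cast h10
    · exact h.lo_le hG (M i0).2 hMne hMc (by rw [hdeg, hMf])
    · exact H3.irr_degree_dvd_card (M i0).2 (by rw [hdeg, hMf])
    · exact hcard

theorem Setup.killO_sound [IsSimpleGroup G] (hG : ¬ IsMulCommutative G) (h : Setup G p P L e pw) (h2e : e = p - 1)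
    {B : ℕ} (hk : killO (Nat.card G) p e (lo p L) B = true) : False := by
  classical
  have hpp : p.Prime := Fact.out
  have hp2 := hpp.two_le
  obtain ⟨S, c, deg, hdeg, hS, hsum, hrel, hcard⟩ := h.data1 h2e
  unfold killO at hk
  rw [Bool.and_eq_true, decide_eq_true_iff, Bool.not_eq_true', ← Bool.not_eq_true] at hk
  obtain ⟨hB, hgo⟩ := hk
  apply hgo
  obtain ⟨hA1, hA2, hA3⟩ := kill_sum_aux S c deg
  let Ls : List (ℤ × ℕ) := S.toList.map fun χ => (c χ, deg χ)
  apply goG_complete Ls
  · intro x hx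
    have hx' := hx
    obtain ⟨χ, hχ, rfl⟩ := List.mem_map.mp hx'
    rw [Finset.mem_toList] at hχ
    obtain ⟨hne, hc0, hconst, hval⟩ := hS χ hχ
    have hxB : deg χ < B := by
      have h6 := sq_le_sum' Ls _ hx
      rw [hA3] at h6
      by_contra hcon
      push Not at hcon
      have : B * B ≤ deg χ * deg χ := Nat.mul_le_mul hcon hcon
      have h7 : deg χ ^ 2 = deg χ * deg χ := by ring
      simp only at h6
      omega
    have h8 := sq_le_sum Ls _ hx
    rw [hA1] at h8
    apply mem_candsM (h.lo_le hG χ.2 hne hconst (hdeg χ)) hxB (H3.irr_degree_dvd_card χ.2 (hdeg χ)) hc0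
      (by simp only at h8; linarith) (by omega)
    exact degree_of_value h.hP (H3.irr_isChar χ.2) (hdeg χ) hval
  · have h9 : (Ls.length : ℤ) ≤ e := by
      have := length_le_sum Ls (by
        intro x hx
        obtain ⟨χ, hχ, rfl⟩ := List.mem_map.mp hx
        rw [Finset.mem_toList] at hχ
        exact (hS χ hχ).2.1)
      rw [hA1] at this
      linarith
    exact_mod_cast h9
  · rw [hA1]; linarith
  · rw [hA3]; omega
  · rw [hA1, hA2, hA3]
    have h1g : ¬ p ∣ orderOf (1 : G) := by
      rw [orderOf_one]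
      exact hpp.one_lt.ne' ∘ Nat.dvd_one.mp
    have hr := hrel 1 h1g
    have h10 : ((1 + ∑ χ ∈ S, c χ * (deg χ : ℤ) : ℤ) : ℂ) = 0 := by
      rw [← hr]
      push_cast
      congr 1
      apply Finset.sum_congr rfl
      intro χ _
      rw [hdeg]
    have h11 : (1 + ∑ χ ∈ S, c χ * (deg χ : ℤ) : ℤ) = 0 := by exact_mod_cast h10
    unfold finO
    rw [Bool.and_eq_true, decide_eq_true_iff, decide_eq_true_iff]
    exact ⟨by rw [hsum]; ring, h11⟩

theorem Setup.killA_sound [IsSimpleGroup G] (hG : ¬ IsMulCommutative G) (h : Setup G p P L e pw) (he : e ∣ p - 1)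
    {B : ℕ} (hk : killA (Nat.card G) p e L B = true) : False := by
  have hpp : p.Prime := Fact.out
  have hp2 := hpp.two_le
  unfold killA at hk
  have hlo : (if L = 1 then 3 else 2 * p) = lo p L := rfl
  simp only [hlo] at hk
  split_ifs at hk with h1
  · exact h.killO_sound hG h1 hk
  · apply h.killL_sound hG _ hk
    obtain ⟨k, hk'⟩ := he
    rcases k with _ | _ | k
    · omega
    · omega
    · rw [hk', mul_comm 2]
      exact Nat.mul_le_mul_left _ (by omega)

/-- the setup attached to a Sylow subgroup of prime order -/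
theorem exists_setup [IsSimpleGroup G] (hG : ¬ IsMulCommutative G) (S : Sylow p G) {m s Q : ℕ}
    (h : Nat.card G = p * m) (hm : ¬ p ∣ m) (hs : Nat.card (Sylow p G) = s) (hq : s * Q = m) :
    ∃ (e L : ℕ) (pw : centralizer ((S : Subgroup G) : Set G) →* (S : Subgroup G)), e ∣ p - 1 ∧ e ≠ 1 ∧ L * e = Q ∧
      Setup G p (S : Subgroup G) L e pw := by
  have hpp : p.Prime := Fact.out
  have hd : p ∣ Nat.card G := by rw [h]; exact dvd_mul_right _ _
  have hP : Nat.card (S : Subgroup G) = p := by
    have := Syl.card_sylow_of_card S (k := 1) (by rw [pow_one]; exact h) hm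
    rwa [pow_one] at this
  have hs0 : 0 < s := by rw [← hs]; exact Nat.card_pos
  have hN : Nat.card (normalizer ((S : Subgroup G) : Set G)) = p * Q := by
    have h1 := Syl.card_normalizer_mul S
    rw [hs, h, ← hq] at h1
    apply Nat.eq_of_mul_eq_mul_right hs0
    rw [h1]; ring
  have hPC : (S : Subgroup G) ≤ centralizer ((S : Subgroup G) : Set G) := Syl.le_centralizer_of_card_prime hP
  have hCN : centralizer ((S : Subgroup G) : Set G) ≤ normalizer ((S : Subgroup G) : Set G) := centralizer_le_normalizer _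
  have h1 : (centralizer ((S : Subgroup G) : Set G)).relIndex (normalizer ((S : Subgroup G) : Set G)) ∣ p - 1 :=
    Simple.relIndex_dvd_of_card_eq hP
  have h3 : (centralizer ((S : Subgroup G) : Set G)).relIndex (normalizer ((S : Subgroup G) : Set G)) ≠ 1 := by
    intro h4
    exact Simple.not_normalizer_le_centralizer hG hd S (relIndex_eq_one.mp h4)
  have h5 := H1.card_mul_relIndex_aux hCN
  have h6 := H1.card_mul_relIndex_aux hPC
  have hL : Nat.card (centralizer ((S : Subgroup G) : Set G)) =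
      p * (S : Subgroup G).relIndex (centralizer ((S : Subgroup G) : Set G)) := by
    rw [hP] at h6; exact h6.symm
  obtain ⟨pw, hpw⟩ := exists_pw hP hL
  refine ⟨(centralizer ((S : Subgroup G) : Set G)).relIndex (normalizer ((S : Subgroup G) : Set G)),
    (S : Subgroup G).relIndex (centralizer ((S : Subgroup G) : Set G)), pw, h1, h3, ?_, hP, hL, ?_, hpw, ?_⟩
  · rw [hL, hN, mul_assoc] at h5
    exact Nat.eq_of_mul_eq_mul_left hpp.pos h5
  · rw [hpp.coprime_iff_not_dvd]
    intro h7
    apply hm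
    have h8 : (S : Subgroup G).relIndex (centralizer ((S : Subgroup G) : Set G)) ∣ Q := by
      rw [hL, hN, mul_assoc] at h5
      rw [← Nat.eq_of_mul_eq_mul_left hpp.pos h5]
      exact dvd_mul_right _ _
    rw [← hq]
    exact (h7.trans h8).mul_left s
  · rw [← hL]; exact h5.symm

theorem simple_killQ [IsSimpleGroup G] (hG : ¬ IsMulCommutative G) (S : Sylow p G) {m s Q B : ℕ}
    (h : Nat.card G = p * m) (hm : ¬ p ∣ m) (hs : Nat.card (Sylow p G) = s) (hq : s * Q = m)
    (hk : killQ (Nat.card G) p Q B = true) : False := by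
  have hpp : p.Prime := Fact.out
  have hp2 := hpp.two_le
  obtain ⟨e, L, pw, he, he1, hLe, hset⟩ := exists_setup hG S h hm hs hq
  have he0 := hset.e_pos
  unfold killQ at hk
  rw [List.all_eq_true] at hk
  have hep : e < p := by
    have := Nat.le_of_dvd (by omega) he
    omega
  have h1 := hk e (List.mem_range.mpr hep)
  rw [Bool.or_eq_true, Bool.or_eq_true, Bool.or_eq_true, decide_eq_true_iff, decide_eq_true_iff, decide_eq_true_iff] at h1
  rcases h1 with ((h1 | h1) | h1) | h1
  · omega
  · exact h1 (Nat.mod_eq_zero_of_dvd he)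
  · exact h1 (Nat.mod_eq_zero_of_dvd ⟨L, by rw [← hLe, mul_comm]⟩)
  · have h2 : Q / e = L := by rw [← hLe, Nat.mul_div_cancel _ he0]
    rw [h2] at h1
    exact hset.killA_sound hG he h1

end Cfsg.Agent.H9.Exc
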