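import Cfsg.Agent.H9.ExcJ
import Cfsg.Agent.H9.Sieve2

set_option autoImplicit false
set_option linter.unusedSectionVars false
set_option linter.style.haveILetI false
set_option linter.unusedVariables false
set_option linter.unusedSimpArgs false

/-! The Sylow sieve combined with the exceptional character check. -/

open Cfsg

namespace Cfsg.Agent.H9.Exc

open Subgroup

/-- order `n` is impossible by looking at `p` -/
def exKill (n p B : ℕ) : Bool :=
  decide (n % p = 0) && (decide ((n / p) % p ≠ 0) && (List.range (n / p / p + 1)).all (fun i =>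
    !(Sieve.possC n p 1 (n / p) (1 + i * p)) || killQ n p (n / p / (1 + i * p)) B))

theorem exKill_sound {G : Type*} [Group G] [Finite G] [IsSimpleGroup G] (hG : ¬ IsMulCommutative G) {p : ℕ}
    (hp : p.Prime) {B : ℕ} : exKill (Nat.card G) p B = false := by
  haveI := Fact.mk hp
  letI : Fintype G := Fintype.ofFinite G
  rw [← Bool.not_eq_true]
  intro h
  unfold exKill at h
  rw [Bool.and_eq_true, Bool.and_eq_true, decide_eq_true_iff, decide_eq_true_iff, List.all_eq_true] at h
  obtain ⟨h1, h2, h3⟩ := h
  have hd : p ∣ Nat.card G := Nat.dvd_of_mod_eq_zero h1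
  have hm : ¬ p ∣ Nat.card G / p := fun h => h2 (Nat.mod_eq_zero_of_dvd h)
  have hc : Nat.card G = p ^ 1 * (Nat.card G / p) := by rw [pow_one, Nat.mul_div_cancel' hd]
  obtain ⟨P⟩ : Nonempty (Sylow p G) := inferInstance
  have hposs := Sieve.possC_true hG rfl hc hm (by norm_num)
  have hs0 : 0 < Nat.card (Sylow p G) := Nat.card_pos
  have hmod : Nat.card (Sylow p G) ≡ 1 [MOD p] := card_sylow_modEq_one p G
  obtain ⟨r, hr⟩ := (Nat.modEq_iff_dvd' hs0).mp hmod.symm
  have hsr : Nat.card (Sylow p G) = 1 + r * p := by rw [mul_comm r p, ← hr]; omega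
  have hdvd : Nat.card (Sylow p G) ∣ Nat.card G / p := Syl.card_sylow_dvd_of_card P hc hm
  have hm0 : 0 < Nat.card G / p := Nat.pos_of_ne_zero (fun h => hm (h ▸ dvd_zero p))
  have hle := Nat.le_of_dvd hm0 hdvd
  have h4 := h3 r (List.mem_range.mpr (by
    have : r * p ≤ Nat.card G / p := by omega
    have := (Nat.le_div_iff_mul_le hp.pos).mpr this
    omega))
  rw [← hsr, hposs] at h4
  rw [Bool.not_true, Bool.false_or] at h4
  exact simple_killQ hG P (m := Nat.card G / p) (s := Nat.card (Sylow p G)) (by rw [pow_one] at hc; exact hc) hm rfl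
    (Nat.mul_div_cancel' hdvd) h4

end Cfsg.Agent.H9.Exc
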