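import Cfsg.Agent.H9.ExcK

set_option autoImplicit false
set_option linter.unusedSectionVars false
set_option linter.style.haveILetI false
set_option linter.unusedVariables false
set_option linter.unusedSimpArgs false

/-! The data theorems together with the expansion of the induced virtual character. -/

open Cfsg
open scoped ComplexConjugate

namespace Cfsg.Agent.H9.Exc

open Subgroup

universe u

variable {G : Type u} [Group G] [Fintype G] {p : ℕ} [Fact p.Prime] {P : Subgroup G} {L e : ℕ}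
  {pw : centralizer (P : Set G) →* P}

theorem Setup.dataW [Fintype (IrrCharacter G)] (h : Setup G p P L e pw) (h2e : 2 * e ≤ p - 1) :
    ∃ (t : ℕ) (S : Finset (IrrCharacter G)) (c : IrrCharacter G → ℤ) (M : Fin t → IrrCharacter G)
      (deg : IrrCharacter G → ℕ) (ε b : ℤ) (f : ℕ), 2 ≤ t ∧ t * e = p - 1 ∧ (ε = 1 ∨ ε = -1) ∧ Function.Injective M ∧
      (∀ χ : IrrCharacter G, (χ : G → ℂ) 1 = deg χ) ∧
      (∀ j, M j ∉ S ∧ (M j : G → ℂ) ≠ (fun _ => 1) ∧ deg (M j) = f ∧ IsConst P L (M j : G → ℂ)) ∧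
      (∀ χ ∈ S, (χ : G → ℂ) ≠ (fun _ => 1) ∧ c χ ≠ 0 ∧ IsConst P L (χ : G → ℂ) ∧ ∀ w ∈ P, w ≠ 1 → (χ : G → ℂ) w = c χ) ∧
      (∑ χ ∈ S, (c χ) ^ 2 + (b + ε) ^ 2 + ((t : ℤ) - 1) * b ^ 2 = e) ∧
      (∀ g : G, ¬ p ∣ orderOf g → (∀ i j, (M i : G → ℂ) g = (M j : G → ℂ) g) ∧
        ∀ j, 1 + ∑ χ ∈ S, (c χ : ℂ) * (χ : G → ℂ) g + ((t : ℂ) * b + ε) * (M j : G → ℂ) g = 0) ∧
      1 + ∑ χ ∈ S, (deg χ) ^ 2 + t * f ^ 2 ≤ Nat.card G ∧
      ∃ μ : P →* ℂˣ, μ ≠ 1 ∧ ∀ (F : IrrCharacter G → ℂ) (x : ℂ), (∀ j, F (M j) = x) →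
        ∑ χ : IrrCharacter G, classInner (indFun (centralizer (P : Set G)) (phC pw μ)) (χ : G → ℂ) * F χ =
          F ⟨fun _ => 1, H3.isIrr_one⟩ + ∑ χ ∈ S, (c χ : ℂ) * F χ + ((t : ℂ) * b + ε) * x := by
  classical
  have hpp : p.Prime := Fact.out
  letI : Fintype P := Fintype.ofFinite P
  obtain ⟨Mod, hMod⟩ := H27.exists_isPModular hpp
  obtain ⟨t, lam, hte, hlam, hdist, hcov, hgram⟩ := exists_repsC h.hP h.hL h.hpL h.hpw h.hN
  have hp2 := hpp.two_le
  have ht2 : 2 ≤ t := by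
    by_contra hcon
    have : t = 0 ∨ t = 1 := by omega
    rcases this with rfl | rfl <;> omega
  set v : Fin t → (G → ℂ) := fun i => indFun (centralizer (P : Set G)) (phC pw (lam i)) with hv
  have hvgen : ∀ i, IsGeneralizedCharacter G (v i) := fun i => H3.isGen_ind _ (phC_isGen _)
  have hvreg : ∀ i (g : G), ¬ p ∣ orderOf g → v i g = 0 := fun i g hg => h.ind_regular _ hg
  have h1reg : ¬ p ∣ orderOf (1 : G) := by
    rw [orderOf_one]; exact fun h => hpp.one_lt.ne' (Nat.dvd_one.mp h)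
  have hv1 : ∀ i, v i 1 = 0 := fun i => hvreg i 1 h1reg
  let i0 : Fin t := ⟨0, by omega⟩
  -- the isometry lemma
  obtain ⟨εc, hε, μ, hμirr, hμinj, hμ⟩ := H3.isometry_lemma i0 (fun i => v i - v i0) (sub_self _)
    (fun i => H3.isGen_sub (hvgen i) (hvgen i0))
    (fun i => by simp [hv1])
    (fun i hi => by
      rw [H3.classInner_sub_left, H3.classInner_sub_right, H3.classInner_sub_right, hgram, hgram, hgram, hgram,
        if_pos rfl, if_pos rfl, if_neg hi, if_neg (Ne.symm hi)]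
      ring)
    (fun i j hi hj hij => by
      rw [H3.classInner_sub_left, H3.classInner_sub_right, H3.classInner_sub_right, hgram, hgram, hgram, hgram,
        if_neg hij, if_pos rfl, if_neg hi, if_neg (Ne.symm hj)]
      ring)
  obtain ⟨ε, hε', hεc⟩ : ∃ ε : ℤ, (ε = 1 ∨ ε = -1) ∧ εc = ε := by
    rcases hε with h | h
    · exact ⟨1, Or.inl rfl, by rw [h]; simp⟩
    · exact ⟨-1, Or.inr rfl, by rw [h]; simp⟩
  subst hεc
  let M : Fin t → IrrCharacter G := fun i => ⟨μ i, hμirr i⟩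
  have hMinj : Function.Injective M := fun i j h => hμinj (congrArg Subtype.val h)
  -- coefficients
  choose a ha using fun (i : Fin t) (χ : IrrCharacter G) => H3.classInner_gen_int (hvgen i) (H3.isGen_of_irr χ.2)
  have hirr : ∀ χ ψ : IrrCharacter G, classInner (χ : G → ℂ) (ψ : G → ℂ) = if χ = ψ then 1 else 0 :=
    fun χ ψ => H3.classInner_irr' χ ψ
  have hdiff : ∀ i (χ : IrrCharacter G), (a i χ : ℂ) - a i0 χ = ε * ((if M i = χ then 1 else 0) - (if M i0 = χ then 1 else 0)) := by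
    intro i χ
    rw [← ha, ← ha, ← H3.classInner_sub_left]
    have := hμ i
    rw [this, H3.classInner_smul_left, H3.classInner_sub_left]
    rw [← hirr (M i) χ, ← hirr (M i0) χ]
  have hdiff' : ∀ i (χ : IrrCharacter G), a i χ - a i0 χ = ε * ((if M i = χ then 1 else 0) - (if M i0 = χ then 1 else 0)) := by
    intro i χ
    have := hdiff i χ
    split_ifs at this ⊢ <;> exact_mod_cast this
  -- value of the coefficients on exceptional characters
  set b : ℤ := a i0 (M i0) - ε with hb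
  have hbj : ∀ j, j ≠ i0 → a i0 (M j) = b := by
    intro j hj
    have h1 : classInner (v i0) (v j - v i0) = -1 := by
      rw [H3.classInner_sub_right, hgram, hgram, if_pos rfl, if_neg (Ne.symm hj)]; ring
    have h2 := hμ j
    rw [h2, H3.classInner_smul_right, H3.classInner_sub_right] at h1
    have h3 : classInner (v i0) (μ j) = a i0 (M j) := ha i0 (M j)
    have h4 : classInner (v i0) (μ i0) = a i0 (M i0) := ha i0 (M i0)
    rw [h3, h4] at h1
    have h5 : (ε : ℤ) * (a i0 (M j) - a i0 (M i0)) = -1 := by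
      have : (conj (ε : ℂ)) = (ε : ℂ) := map_intCast _ ε
      rw [this] at h1
      exact_mod_cast h1
    rcases hε' with h | h
    · rw [hb, h]; rw [h] at h5; linarith
    · rw [hb, h]; rw [h] at h5; linarith
  -- the trivial character
  let I : IrrCharacter G := ⟨fun _ => 1, H3.isIrr_one⟩
  have haI : ∀ i, a i I = 1 := by
    intro i
    letI : Fintype (centralizer (P : Set G)) := Fintype.ofFinite _
    have h1 : classInner (v i) (I : G → ℂ) = 1 := by
      rw [hv]; simp only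
      rw [H3.frobenius_reciprocity _ _ (H3.irr_classFun I.2)]
      have h2 : (fun x : centralizer (P : Set G) => (I : G → ℂ) x) = fun y => ((((1 : P →* ℂˣ).comp pw) y : ℂˣ) : ℂ) := by
        ext y; simp [I]
      have h3 : phC pw (lam i) = (fun y => ((((1 : P →* ℂˣ).comp pw) y : ℂˣ) : ℂ)) - (fun y => ((((lam i).comp pw) y : ℂˣ) : ℂ)) := by
        ext y; simp [phC]
      rw [h2, h3, H3.classInner_sub_left, H3.classInner_irr (H3.isIrr_of_hom _) (H3.isIrr_of_hom _),
        H3.classInner_irr (H3.isIrr_of_hom _) (H3.isIrr_of_hom _), if_pos rfl, if_neg, sub_zero]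
      intro h4
      have h5 := H3.hom_coe_injective h4
      apply hlam i
      ext y
      obtain ⟨z, rfl⟩ := h.surj y
      have h6 := congrArg (fun F : centralizer (P : Set G) →* ℂˣ => F z) h5
      simp only [MonoidHom.comp_apply] at h6
      rw [h6]
    have h2 := ha i I
    rw [h1] at h2
    exact_mod_cast h2.symm
  have hMI : ∀ j, M j ≠ I := by
    intro j hj
    by_cases hj0 : j = i0
    · let i1 : Fin t := ⟨1, by omega⟩
      have hne : i1 ≠ i0 := by intro h; simp [i1, i0] at h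
      have h1 := hdiff' i1 I
      rw [haI, haI, ← hj, if_neg (show ¬ M i1 = M j from fun h => hne ((hMinj h).trans hj0)),
        if_pos (show M i0 = M j by rw [hj0])] at h1
      rcases hε' with h | h <;> rw [h] at h1 <;> norm_num at h1
    · have h1 := hdiff' j I
      rw [haI, haI, ← hj, if_pos rfl, if_neg (fun h => hj0 (hMinj h).symm)] at h1
      rcases hε' with h | h <;> rw [h] at h1 <;> norm_num at h1
  -- degrees
  choose deg hdeg0 hdeg using fun χ : IrrCharacter G => H3.irr_one_eq_nat χ.2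
  have hMreg : ∀ g : G, ¬ p ∣ orderOf g → ∀ i j, (M i : G → ℂ) g = (M j : G → ℂ) g := by
    intro g hg
    have key : ∀ j, (M j : G → ℂ) g = (M i0 : G → ℂ) g := by
      intro j
      have h1 := congrArg (fun F : G → ℂ => F g) (hμ j)
      simp only [Pi.sub_apply, Pi.smul_apply, smul_eq_mul, hvreg _ g hg, sub_self] at h1
      have h2 : μ j g - μ i0 g = 0 := by
        rcases mul_eq_zero.mp h1.symm with h | h
        · exfalso
          rcases hε' with h' | h' <;> rw [h'] at h <;> norm_num at h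
        · exact h
      exact sub_eq_zero.mp h2
    intro i j
    rw [key i, key j]
  set f : ℕ := deg (M i0) with hf
  have hfj : ∀ j, deg (M j) = f := by
    intro j
    have h1 := hMreg 1 h1reg j i0
    rw [hdeg, hdeg] at h1
    exact_mod_cast h1
  -- the three sums
  have hsum1 : ∑ χ : IrrCharacter G, (a i0 χ) ^ 2 = (e : ℤ) + 1 := by
    have h1 := H3.classInner_eq_sum (φ := v i0) (ψ := v i0) (H3.isGen_classFun (hvgen i0))
    rw [hgram, if_pos rfl] at h1
    have h2 : ∀ χ : IrrCharacter G, classInner (v i0) (χ : G → ℂ) * conj (classInner (v i0) (χ : G → ℂ)) = ((a i0 χ) ^ 2 : ℤ) := by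
      intro χ
      rw [ha, map_intCast]; push_cast; ring
    rw [Finset.sum_congr rfl fun χ _ => h2 χ] at h1
    exact_mod_cast h1.symm
  have hsum2 : ∀ g : G, ¬ p ∣ orderOf g → ∑ χ : IrrCharacter G, (a i0 χ : ℂ) * (χ : G → ℂ) g = 0 := by
    intro g hg
    have h1 := H3.classFun_expand_apply (H3.isGen_classFun (hvgen i0)) g
    rw [hvreg i0 g hg] at h1
    rw [h1]
    exact Finset.sum_congr rfl fun χ _ => by rw [ha]
  have hsum3 : ∑ χ : IrrCharacter G, (deg χ) ^ 2 = Nat.card G := by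
    have h1 := H3.sum_degree_sq (G := G)
    have h2 : ∀ χ : IrrCharacter G, (χ : G → ℂ) 1 ^ 2 = (((deg χ) ^ 2 : ℕ) : ℂ) := by
      intro χ; rw [hdeg]; push_cast; ring
    rw [Finset.sum_congr rfl fun χ _ => h2 χ] at h1
    exact_mod_cast h1
  -- splitting
  let E : Finset (IrrCharacter G) := Finset.univ.image M
  let S : Finset (IrrCharacter G) := (Finset.univ \ E).erase I
  have hIE : I ∉ E := by
    intro h
    obtain ⟨j, -, hj⟩ := Finset.mem_image.mp h
    exact hMI j hj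
  have hsplit : ∀ {A : Type} [AddCommMonoid A] (F : IrrCharacter G → A),
      ∑ χ : IrrCharacter G, F χ = ∑ χ ∈ S, F χ + F I + ∑ j : Fin t, F (M j) := by
    intro A _ F
    rw [← Finset.sum_sdiff (Finset.subset_univ E), ← Finset.sum_erase_add (Finset.univ \ E) F
      (Finset.mem_sdiff.mpr ⟨Finset.mem_univ I, hIE⟩), Finset.sum_image (fun i _ j _ h => hMinj h)]
  have hSprop : ∀ χ ∈ S, χ ≠ I ∧ ∀ j, M j ≠ χ := by
    intro χ hχ
    obtain ⟨h1, h2⟩ := Finset.mem_erase.mp hχ
    refine ⟨h1, fun j hj => ?_⟩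
    exact (Finset.mem_sdiff.mp h2).2 (Finset.mem_image.mpr ⟨j, Finset.mem_univ j, hj⟩)
  let S' := S.filter (fun χ => a i0 χ ≠ 0)
  have hS1 : ∑ χ ∈ S, (a i0 χ) ^ 2 = ∑ χ ∈ S', (a i0 χ) ^ 2 := by
    symm
    apply Finset.sum_filter_of_ne
    intro χ _ h h0
    exact h (by rw [h0]; norm_num)
  have hS2 : ∀ g, ∑ χ ∈ S, (a i0 χ : ℂ) * (χ : G → ℂ) g = ∑ χ ∈ S', (a i0 χ : ℂ) * (χ : G → ℂ) g := by
    intro g
    symm
    apply Finset.sum_filter_of_ne
    intro χ _ h h0
    exact h (by rw [h0]; simp)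
  have hS3 : ∑ χ ∈ S', (deg χ) ^ 2 ≤ ∑ χ ∈ S, (deg χ) ^ 2 :=
    Finset.sum_le_sum_of_subset (Finset.filter_subset _ _)
  have hMsum : ∀ {A : Type} [AddCommGroup A] (F : IrrCharacter G → A) (x y : A), F (M i0) = x → (∀ j, j ≠ i0 → F (M j) = y) →
      ∑ j : Fin t, F (M j) = x + (t - 1) • y := by
    intro A _ F x y h1 h2
    rw [← Finset.add_sum_erase _ _ (Finset.mem_univ i0), h1]
    have : ∀ j ∈ (Finset.univ : Finset (Fin t)).erase i0, F (M j) = y := fun j hj => h2 j (Finset.ne_of_mem_erase hj)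
    rw [Finset.sum_congr rfl this, Finset.sum_const, Finset.card_erase_of_mem (Finset.mem_univ _), Finset.card_univ, Fintype.card_fin]
  -- membership in the principal block
  have hmem : ∀ (χ : IrrCharacter G) (i : Fin t), a i χ ≠ 0 → χ ∈ principalBlock Mod G := by
    intro χ i hne
    by_contra hcon
    apply hne
    have h1 := h.inner_zero hMod hcon (lam i)
    have h2 : classInner (v i) (χ : G → ℂ) = 0 := by
      rw [H3.classInner_gen_symm (hvgen i) (H3.isGen_of_irr χ.2)]; exact h1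
    rw [ha] at h2
    exact_mod_cast h2
  have hMmem : ∀ j, M j ∈ principalBlock Mod G := by
    intro j
    by_cases hj : j = i0
    · -- either a i0 (M i0) ≠ 0 or another one
      subst hj
      by_cases h0 : a i0 (M i0) = 0
      · let i1 : Fin t := ⟨1, by omega⟩
        have hne : i1 ≠ i0 := by intro h; simp [i1, i0] at h
        apply hmem _ i1
        have h1 := hdiff' i1 (M i0)
        rw [h0, if_neg (fun h => hne (hMinj h)), if_pos rfl] at h1
        intro h2
        rw [h2] at h1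
        rcases hε' with h | h <;> rw [h] at h1 <;> norm_num at h1
      · exact hmem _ i0 h0
    · by_cases h0 : a i0 (M j) = 0
      · apply hmem _ j
        have h1 := hdiff' j (M j)
        rw [h0, if_pos rfl, if_neg (fun h => hj (hMinj h).symm)] at h1
        intro h2
        rw [h2] at h1
        rcases hε' with h | h <;> rw [h] at h1 <;> norm_num at h1
      · exact hmem _ i0 h0
  have hS2' : ∀ F : IrrCharacter G → ℂ, ∑ χ ∈ S, (a i0 χ : ℂ) * F χ = ∑ χ ∈ S', (a i0 χ : ℂ) * F χ := by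
    intro F
    symm
    apply Finset.sum_filter_of_ne
    intro χ _ h h0
    exact h (by rw [h0]; simp)
  refine ⟨t, S', fun χ => a i0 χ, M, deg, ε, b, f, ht2, hte, hε', hMinj, hdeg, ?_, ?_, ?_, ?_, ?_,
    lam i0, hlam i0, ?_⟩
  · intro j
    refine ⟨fun hj => ?_, fun hj => hMI j (Subtype.ext hj), hfj j, h.isConst hMod (hMmem j)⟩
    exact (hSprop _ (Finset.mem_filter.mp hj).1).2 j rfl
  · intro χ hχ
    obtain ⟨hχS, hχ0⟩ := Finset.mem_filter.mp hχ
    obtain ⟨hχI, hχM⟩ := hSprop χ hχS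
    have hχB := hmem χ i0 hχ0
    refine ⟨fun hh => hχI (Subtype.ext hh), hχ0, h.isConst hMod hχB, ?_⟩
    intro w hw hw1
    apply h.value hMod hχB _ hw hw1
    intro ν hν
    obtain ⟨i, n, rfl⟩ := hcov ν hν
    rw [ind_cj h (H3.irr_classFun χ.2)]
    have h1 : classInner (χ : G → ℂ) (v i) = a i χ := by
      rw [H3.classInner_gen_symm (H3.isGen_of_irr χ.2) (hvgen i), ha]
    have h2 := hdiff' i χ
    rw [if_neg (hχM i), if_neg (hχM i0), sub_self, mul_zero] at h2
    rw [h1]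
    exact_mod_cast sub_eq_zero.mp h2
  · have h1 := hsum1
    rw [hsplit, hS1, haI, hMsum (fun χ => (a i0 χ) ^ 2) ((b + ε) ^ 2) (b ^ 2) (by rw [hb]; ring) (fun j hj => by rw [hbj j hj])] at h1
    rw [nsmul_eq_mul, Nat.cast_sub (by omega)] at h1
    push_cast at h1
    linarith
  · intro g hg
    refine ⟨hMreg g hg, fun j => ?_⟩
    have h1 := hsum2 g hg
    rw [hsplit, hS2, haI, hMsum (fun χ => (a i0 χ : ℂ) * (χ : G → ℂ) g) (((b + ε : ℤ) : ℂ) * (M i0 : G → ℂ) g)
      ((b : ℂ) * (M i0 : G → ℂ) g) (by rw [hb]; simp)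
      (fun j hj => by rw [hbj j hj, hMreg g hg j i0])] at h1
    rw [nsmul_eq_mul, Nat.cast_sub (by omega)] at h1
    rw [hMreg g hg j i0]
    have hI : (I : G → ℂ) g = 1 := rfl
    rw [hI] at h1
    push_cast at h1 ⊢
    linear_combination h1
  · have h1 := hsum3
    rw [hsplit] at h1
    have hdegI : deg I = 1 := by
      have := hdeg I
      have h2 : (I : G → ℂ) 1 = 1 := rfl
      rw [h2] at this
      exact_mod_cast this.symm
    have h4 : ∑ j : Fin t, (deg (M j)) ^ 2 = t * f ^ 2 := by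
      rw [Finset.sum_congr rfl fun j _ => by rw [hfj j], Finset.sum_const, Finset.card_univ, Fintype.card_fin, smul_eq_mul]
    rw [h4, hdegI] at h1
    omega
  · intro F x hF
    have e1 : ∑ χ : IrrCharacter G, classInner (indFun (centralizer (P : Set G)) (phC pw (lam i0))) (χ : G → ℂ) * F χ =
        ∑ χ : IrrCharacter G, (a i0 χ : ℂ) * F χ := by
      apply Finset.sum_congr rfl
      intro χ _
      rw [← ha i0 χ]
    rw [e1, hsplit, hS2', hMsum (fun χ => (a i0 χ : ℂ) * F χ) (((b + ε : ℤ) : ℂ) * x)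
      ((b : ℂ) * x) (by rw [hF, hb]; simp) (fun j hj => by rw [hbj j hj, hF]), haI]
    rw [nsmul_eq_mul, Nat.cast_sub (by omega)]
    push_cast
    ring

/-- data for `t = 1` -/
theorem Setup.data1W [Fintype (IrrCharacter G)] (h : Setup G p P L e pw) (he : e = p - 1) :
    ∃ (S : Finset (IrrCharacter G)) (c : IrrCharacter G → ℤ) (deg : IrrCharacter G → ℕ),
      (∀ χ : IrrCharacter G, (χ : G → ℂ) 1 = deg χ) ∧
      (∀ χ ∈ S, (χ : G → ℂ) ≠ (fun _ => 1) ∧ c χ ≠ 0 ∧ IsConst P L (χ : G → ℂ) ∧ ∀ w ∈ P, w ≠ 1 → (χ : G → ℂ) w = c χ) ∧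
      (∑ χ ∈ S, (c χ) ^ 2 = e) ∧
      (∀ g : G, ¬ p ∣ orderOf g → 1 + ∑ χ ∈ S, (c χ : ℂ) * (χ : G → ℂ) g = 0) ∧
      1 + ∑ χ ∈ S, (deg χ) ^ 2 ≤ Nat.card G ∧
      ∃ μ : P →* ℂˣ, μ ≠ 1 ∧ ∀ (F : IrrCharacter G → ℂ),
        ∑ χ : IrrCharacter G, classInner (indFun (centralizer (P : Set G)) (phC pw μ)) (χ : G → ℂ) * F χ =
          F ⟨fun _ => 1, H3.isIrr_one⟩ + ∑ χ ∈ S, (c χ : ℂ) * F χ := by
  classical
  have hpp : p.Prime := Fact.out
  letI : Fintype P := Fintype.ofFinite P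
  obtain ⟨Mod, hMod⟩ := H27.exists_isPModular hpp
  obtain ⟨t, lam, hte, hlam, hdist, hcov, hgram⟩ := exists_repsC h.hP h.hL h.hpL h.hpw h.hN
  have hp2 := hpp.two_le
  have ht1 : t = 1 := by
    rw [he] at hte
    exact Nat.eq_of_mul_eq_mul_right (show 0 < p - 1 by omega) (by rw [hte, one_mul])
  subst ht1
  set v : G → ℂ := indFun (centralizer (P : Set G)) (phC pw (lam 0)) with hv
  have hvgen : IsGeneralizedCharacter G v := H3.isGen_ind _ (phC_isGen _)
  have hvreg : ∀ (g : G), ¬ p ∣ orderOf g → v g = 0 := fun g hg => h.ind_regular _ hg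
  choose a ha using fun (χ : IrrCharacter G) => H3.classInner_gen_int hvgen (H3.isGen_of_irr χ.2)
  let I : IrrCharacter G := ⟨fun _ => 1, H3.isIrr_one⟩
  have haI : a I = 1 := by
    letI : Fintype (centralizer (P : Set G)) := Fintype.ofFinite _
    have h1 : classInner v (I : G → ℂ) = 1 := by
      rw [hv]
      rw [H3.frobenius_reciprocity _ _ (H3.irr_classFun I.2)]
      have h2 : (fun x : centralizer (P : Set G) => (I : G → ℂ) x) = fun y => ((((1 : P →* ℂˣ).comp pw) y : ℂˣ) : ℂ) := by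
        ext y; simp [I]
      have h3 : phC pw (lam 0) = (fun y => ((((1 : P →* ℂˣ).comp pw) y : ℂˣ) : ℂ)) - (fun y => ((((lam 0).comp pw) y : ℂˣ) : ℂ)) := by
        ext y; simp [phC]
      rw [h2, h3, H3.classInner_sub_left, H3.classInner_irr (H3.isIrr_of_hom _) (H3.isIrr_of_hom _),
        H3.classInner_irr (H3.isIrr_of_hom _) (H3.isIrr_of_hom _), if_pos rfl, if_neg, sub_zero]
      intro h4
      have h5 := H3.hom_coe_injective h4
      apply hlam 0
      ext y
      obtain ⟨z, rfl⟩ := h.surj y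
      have h6 := congrArg (fun F : centralizer (P : Set G) →* ℂˣ => F z) h5
      simp only [MonoidHom.comp_apply] at h6
      rw [h6]
    have h2 := ha I
    rw [h1] at h2
    exact_mod_cast h2.symm
  choose deg hdeg0 hdeg using fun χ : IrrCharacter G => H3.irr_one_eq_nat χ.2
  have hsum1 : ∑ χ : IrrCharacter G, (a χ) ^ 2 = (e : ℤ) + 1 := by
    have h1 := H3.classInner_eq_sum (φ := v) (ψ := v) (H3.isGen_classFun hvgen)
    rw [hv, hgram, if_pos rfl] at h1
    have h2 : ∀ χ : IrrCharacter G, classInner v (χ : G → ℂ) * conj (classInner v (χ : G → ℂ)) = ((a χ) ^ 2 : ℤ) := by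
      intro χ
      rw [ha, map_intCast]; push_cast; ring
    rw [Finset.sum_congr rfl fun χ _ => h2 χ] at h1
    exact_mod_cast h1.symm
  have hsum2 : ∀ g : G, ¬ p ∣ orderOf g → ∑ χ : IrrCharacter G, (a χ : ℂ) * (χ : G → ℂ) g = 0 := by
    intro g hg
    have h1 := H3.classFun_expand_apply (H3.isGen_classFun hvgen) g
    rw [hvreg g hg] at h1
    rw [h1]
    exact Finset.sum_congr rfl fun χ _ => by rw [ha]
  have hsum3 : ∑ χ : IrrCharacter G, (deg χ) ^ 2 = Nat.card G := by
    have h1 := H3.sum_degree_sq (G := G)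
    have h2 : ∀ χ : IrrCharacter G, (χ : G → ℂ) 1 ^ 2 = (((deg χ) ^ 2 : ℕ) : ℂ) := by
      intro χ; rw [hdeg]; push_cast; ring
    rw [Finset.sum_congr rfl fun χ _ => h2 χ] at h1
    exact_mod_cast h1
  let S : Finset (IrrCharacter G) := Finset.univ.erase I
  have hsplit : ∀ {A : Type} [AddCommMonoid A] (F : IrrCharacter G → A), ∑ χ : IrrCharacter G, F χ = ∑ χ ∈ S, F χ + F I := by
    intro A _ F
    rw [← Finset.sum_erase_add _ _ (Finset.mem_univ I)]
  let S' := S.filter (fun χ => a χ ≠ 0)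
  have hS1 : ∑ χ ∈ S, (a χ) ^ 2 = ∑ χ ∈ S', (a χ) ^ 2 := by
    symm
    apply Finset.sum_filter_of_ne
    intro χ _ h h0
    exact h (by rw [h0]; norm_num)
  have hS2 : ∀ g, ∑ χ ∈ S, (a χ : ℂ) * (χ : G → ℂ) g = ∑ χ ∈ S', (a χ : ℂ) * (χ : G → ℂ) g := by
    intro g
    symm
    apply Finset.sum_filter_of_ne
    intro χ _ h h0
    exact h (by rw [h0]; simp)
  have hS3 : ∑ χ ∈ S', (deg χ) ^ 2 ≤ ∑ χ ∈ S, (deg χ) ^ 2 :=
    Finset.sum_le_sum_of_subset (Finset.filter_subset _ _)
  have hmem : ∀ (χ : IrrCharacter G), a χ ≠ 0 → χ ∈ principalBlock Mod G := by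
    intro χ hne
    by_contra hcon
    apply hne
    have h1 := h.inner_zero hMod hcon (lam 0)
    have h2 : classInner v (χ : G → ℂ) = 0 := by
      rw [H3.classInner_gen_symm hvgen (H3.isGen_of_irr χ.2)]; exact h1
    rw [ha] at h2
    exact_mod_cast h2
  have hS2' : ∀ F : IrrCharacter G → ℂ, ∑ χ ∈ S, (a χ : ℂ) * F χ = ∑ χ ∈ S', (a χ : ℂ) * F χ := by
    intro F
    symm
    apply Finset.sum_filter_of_ne
    intro χ _ h h0
    exact h (by rw [h0]; simp)
  refine ⟨S', a, deg, hdeg, ?_, ?_, ?_, ?_, lam 0, hlam 0, ?_⟩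
  · intro χ hχ
    obtain ⟨hχS, hχ0⟩ := Finset.mem_filter.mp hχ
    have hχB := hmem χ hχ0
    refine ⟨fun hh => Finset.ne_of_mem_erase hχS (Subtype.ext hh), hχ0, h.isConst hMod hχB, ?_⟩
    intro w hw hw1
    apply h.value hMod hχB _ hw hw1
    intro ν hν
    obtain ⟨i, n, rfl⟩ := hcov ν hν
    rw [ind_cj h (H3.irr_classFun χ.2), Subsingleton.elim i 0]
    rw [H3.classInner_gen_symm (H3.isGen_of_irr χ.2) hvgen, ha]
  · have h1 := hsum1
    rw [hsplit, hS1, haI] at h1
    linarith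
  · intro g hg
    have h1 := hsum2 g hg
    rw [hsplit, hS2, haI] at h1
    have hI : (I : G → ℂ) g = 1 := rfl
    rw [hI] at h1
    push_cast at h1
    linear_combination h1
  · have h1 := hsum3
    rw [hsplit] at h1
    have hdegI : deg I = 1 := by
      have := hdeg I
      have h2 : (I : G → ℂ) 1 = 1 := rfl
      rw [h2] at this
      exact_mod_cast this.symm
    rw [hdegI] at h1
    omega
  · intro F
    have e1 : ∑ χ : IrrCharacter G, classInner (indFun (centralizer (P : Set G)) (phC pw (lam 0))) (χ : G → ℂ) * F χ =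
        ∑ χ : IrrCharacter G, (a χ : ℂ) * F χ := by
      apply Finset.sum_congr rfl
      intro χ _
      rw [← ha χ]
    rw [e1, hsplit, hS2', haI]
    push_cast
    ring

end Cfsg.Agent.H9.Exc
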