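import Cfsg.Agent.H9.ExcL
import Cfsg.Agent.H27.CentralChar

set_option autoImplicit false
set_option linter.unusedSectionVars false
set_option linter.style.haveILetI false
set_option linter.unusedVariables false
set_option linter.unusedSimpArgs false

/-! Counting pairs of involutions whose product has its `p`-part in a given class. -/

open Cfsg
open scoped ComplexConjugate

namespace Cfsg.Agent.H9.Exc

open Subgroup

universe u

variable {G : Type u} [Group G] [Fintype G] {p : ℕ} [Fact p.Prime] {P : Subgroup G} {L e : ℕ}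
  {pw : centralizer (P : Set G) →* P}

theorem sum_pairs [Fintype (IrrCharacter G)] (z : G) {f : G → ℂ} (hf : IsClassFunction G f) :
    ∑ x ∈ H27.cl z, ∑ y ∈ H27.cl z, f (x * y) =
      ∑ χ : IrrCharacter G, classInner f (χ : G → ℂ) *
        ((χ : G → ℂ) 1 * (centralChar (χ : G → ℂ) z * centralChar (χ : G → ℂ) z)) := by
  classical
  have h1 : ∀ x y : G, f (x * y) = ∑ χ : IrrCharacter G, classInner f (χ : G → ℂ) * (χ : G → ℂ) (x * y) :=
    fun x y => H3.classFun_expand_apply hf (x * y)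
  simp only [h1]
  rw [Finset.sum_congr rfl fun x _ => Finset.sum_comm, Finset.sum_comm]
  apply Finset.sum_congr rfl
  intro χ _
  rw [H27.centralChar_mul_centralChar χ.2, mul_div_cancel₀ _ (H27.isIrr_one_ne_zero χ.2)]
  simp only [Finset.mul_sum]

theorem sum_cl_conj (z g : G) {M : Type*} [AddCommMonoid M] (F : G → M) :
    ∑ x ∈ H27.cl z, F (g⁻¹ * x * g) = ∑ x ∈ H27.cl z, F x := by
  classical
  apply Finset.sum_nbij' (fun x => g⁻¹ * x * g) (fun x => g * x * g⁻¹)
  · intro x hx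
    rw [H27.mem_cl] at hx ⊢
    exact hx.trans (isConj_iff.mpr ⟨g⁻¹, by rw [inv_inv]⟩)
  · intro x hx
    rw [H27.mem_cl] at hx ⊢
    exact hx.trans (isConj_iff.mpr ⟨g, rfl⟩)
  · intro x _; group
  · intro x _; group
  · intro x _; rfl

theorem sum_pairs_ind (z : G) (H : Subgroup G) (φ : H → ℂ) :
    ∑ x ∈ H27.cl z, ∑ y ∈ H27.cl z, indFun H φ (x * y) =
      (Nat.card H : ℂ)⁻¹ * ((Nat.card G : ℂ) * ∑ x ∈ H27.cl z, ∑ y ∈ H27.cl z, extendByZero H φ (x * y)) := by
  classical
  simp only [indFun, ← Finset.mul_sum]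
  congr 1
  rw [Finset.sum_congr rfl fun x _ => Finset.sum_comm, Finset.sum_comm]
  have h1 : ∀ g : G, ∑ x ∈ H27.cl z, ∑ y ∈ H27.cl z, extendByZero H φ (g⁻¹ * (x * y) * g) =
      ∑ x ∈ H27.cl z, ∑ y ∈ H27.cl z, extendByZero H φ (x * y) := by
    intro g
    have h2 : ∀ x y : G, g⁻¹ * (x * y) * g = (g⁻¹ * x * g) * (g⁻¹ * y * g) := by intro x y; group
    simp only [h2]
    rw [sum_cl_conj z g (fun x' => ∑ y ∈ H27.cl z, extendByZero H φ (x' * (g⁻¹ * y * g)))]
    apply Finset.sum_congr rfl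
    intro x _
    exact sum_cl_conj z g (fun y' => extendByZero H φ (x * y'))
  rw [Finset.sum_congr rfl fun g _ => h1 g, Finset.sum_const, Finset.card_univ, nsmul_eq_mul,
    Nat.card_eq_fintype_card]

/-- elements of the class inverting `P` -/
noncomputable def invSet (P : Subgroup G) (z : G) : Finset G := by
  classical
  exact (H27.cl z).filter (fun x => ∀ q ∈ P, x * q * x⁻¹ = q⁻¹)

theorem mem_invSet {z x : G} : x ∈ invSet P z ↔ IsConj z x ∧ ∀ q ∈ P, x * q * x⁻¹ = q⁻¹ := by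
  classical
  rw [invSet, Finset.mem_filter, H27.mem_cl]

theorem invSet_mul_mem {z x y : G} (hx : x ∈ invSet P z) (hy : y ∈ invSet P z) :
    x * y ∈ centralizer (P : Set G) := by
  rw [mem_centralizer_iff]
  intro q hq
  have h1 := (mem_invSet.mp hy).2 q hq
  have h2 := (mem_invSet.mp hx).2 q⁻¹ (inv_mem hq)
  rw [inv_inv] at h2
  have h3 : (x * y) * q * (x * y)⁻¹ = q := by
    calc (x * y) * q * (x * y)⁻¹ = x * (y * q * y⁻¹) * x⁻¹ := by group
      _ = q := by rw [h1, h2]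
  rw [mul_inv_eq_iff_eq_mul] at h3
  exact h3.symm

theorem invSet_conj {z x q : G} (hx : x ∈ invSet P z) (hq : q ∈ P) : q * x * q⁻¹ ∈ invSet P z := by
  rw [mem_invSet] at hx ⊢
  refine ⟨hx.1.trans (isConj_iff.mpr ⟨q, rfl⟩), ?_⟩
  intro r hr
  have h1 := hx.2 (q⁻¹ * r * q) (mul_mem (mul_mem (inv_mem hq) hr) hq)
  calc q * x * q⁻¹ * r * (q * x * q⁻¹)⁻¹ = q * (x * (q⁻¹ * r * q) * x⁻¹) * q⁻¹ := by group
    _ = r⁻¹ := by rw [h1]; group

theorem Setup.invSet_eq (h : Setup G p P L e pw) {z : G} (hz : z * z = 1) {x y : G} (hx : IsConj z x) (hy : IsConj z y)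
    (hxy : x * y ∈ centralizer (P : Set G)) (hne : pw ⟨x * y, hxy⟩ ≠ 1) : x ∈ invSet P z := by
  rw [mem_invSet]
  refine ⟨hx, ?_⟩
  have hinv : ∀ w : G, IsConj z w → w * w = 1 := by
    intro w hw
    obtain ⟨g, rfl⟩ := isConj_iff.mp hw
    calc g * z * g⁻¹ * (g * z * g⁻¹) = g * (z * z) * g⁻¹ := by group
      _ = 1 := by rw [hz]; group
  have hxx := hinv x hx
  have hyy := hinv y hy
  have hxi : x⁻¹ = x := inv_eq_of_mul_eq_one_left hxx
  have hyi : y⁻¹ = y := inv_eq_of_mul_eq_one_left hyy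
  have h1 : x * (x * y) * x⁻¹ = (x * y)⁻¹ := by
    rw [mul_inv_rev, hxi, hyi, ← mul_assoc, hxx, one_mul]
  have h2 : x * ((x * y) ^ L) * x⁻¹ = ((x * y) ^ L)⁻¹ := by
    rw [← conj_pow, h1, inv_pow]
  have h3 : (x * y) ^ L ∈ P := by
    have := (pw ⟨x * y, hxy⟩).2
    rwa [h.hpw] at this
  have h4 : (x * y) ^ L ≠ 1 := by
    intro h5
    apply hne
    apply Subtype.ext
    rw [h.hpw]
    exact h5
  have h5 := h.zpowers_eq h3 h4
  intro q hq
  rw [← h5, mem_zpowers_iff] at hq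
  obtain ⟨k, rfl⟩ := hq
  rw [← conj_zpow, h2, inv_zpow]

theorem Setup.invSet_sum (h : Setup G p P L e pw) (hp2 : p ≠ 2) {z : G} (hz : z * z = 1) {μ : P →* ℂˣ} (hμ : μ ≠ 1) :
    ∑ x ∈ H27.cl z, ∑ y ∈ H27.cl z, extendByZero (centralizer (P : Set G)) (phC pw μ) (x * y) =
      ((invSet P z).card : ℂ) ^ 2 := by
  classical
  have hpp : p.Prime := Fact.out
  let C := centralizer (P : Set G)
  have hsub : invSet P z ⊆ H27.cl z := by
    intro x hx
    rw [H27.mem_cl]
    exact (mem_invSet.mp hx).1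
  -- membership
  have key : ∀ x ∈ H27.cl z, ∀ y ∈ H27.cl z, extendByZero C (phC pw μ) (x * y) ≠ 0 → x ∈ invSet P z ∧ y ∈ invSet P z := by
    intro x hx y hy hne
    rw [H27.mem_cl] at hx hy
    by_cases hxy : x * y ∈ C
    · rw [H3.extendByZero_mem _ _ hxy] at hne
      have h1 : pw ⟨x * y, hxy⟩ ≠ 1 := fun h2 => hne (phC_of_pw_eq_one h2)
      have hx' := h.invSet_eq hz hx hy hxy h1
      refine ⟨hx', ?_⟩
      rw [mem_invSet]
      refine ⟨hy, fun q hq => ?_⟩
      have h2 := (mem_invSet.mp hx').2 q hq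
      have h3 : (x * y) * q * (x * y)⁻¹ = q := by
        rw [mul_inv_eq_iff_eq_mul]
        exact (mem_centralizer_iff.mp hxy q hq).symm
      have h4 : x⁻¹ * q * x = q⁻¹ := by
        have h5 := (mem_invSet.mp hx').2 q⁻¹ (inv_mem hq)
        rw [inv_inv] at h5
        calc x⁻¹ * q * x = x⁻¹ * (x * q⁻¹ * x⁻¹) * x := by rw [h5]
          _ = q⁻¹ := by group
      calc y * q * y⁻¹ = x⁻¹ * ((x * y) * q * (x * y)⁻¹) * x := by group
        _ = q⁻¹ := by rw [h3, h4]
    · exact absurd (H3.extendByZero_not_mem _ _ hxy) hne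
  have h1 : ∑ x ∈ H27.cl z, ∑ y ∈ H27.cl z, extendByZero C (phC pw μ) (x * y) =
      ∑ x ∈ invSet P z, ∑ y ∈ invSet P z, extendByZero C (phC pw μ) (x * y) := by
    symm
    rw [← Finset.sum_product', ← Finset.sum_product']
    apply Finset.sum_subset (Finset.product_subset_product hsub hsub)
    intro ⟨x, y⟩ h2 h3
    rw [Finset.mem_product] at h2 h3
    by_contra h4
    exact h3 (key x h2.1 y h2.2 h4)
  rw [h1]
  -- a character value to compare
  have hμ2 : ∃ q : P, (μ (pw ⟨q, h.hPC q.2⟩) : ℂ) ^ 2 ≠ 1 := by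
    by_contra hcon
    push Not at hcon
    apply hμ
    ext q
    have hL : Nat.Coprime p (2 * L) := by
      apply Nat.Coprime.mul_right _ h.hpL
      rw [hpp.coprime_iff_not_dvd]
      intro h5
      exact hp2 ((Nat.prime_dvd_prime_iff_eq hpp Nat.prime_two).mp h5)
    -- q is a (2L)-th power
    have h5 : q ^ p = 1 := by
      have := pow_card_eq_one' (x := q)
      rwa [h.hP] at this
    obtain ⟨r, hr⟩ : ∃ r : P, q = r ^ (2 * L) := by
      have h6 := (Nat.coprime_comm.mp hL)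
      obtain ⟨k, -, hk⟩ := Nat.exists_mul_mod_eq_one_of_coprime h6 hpp.one_lt
      refine ⟨q ^ k, ?_⟩
      rw [← pow_mul, mul_comm k, ← Nat.mod_add_div (2 * L * k) p, hk, pow_add, pow_one, pow_mul q p, h5, one_pow, mul_one]
    have h7 := hcon r
    have h8 : (pw ⟨r, h.hPC r.2⟩ : P) = r ^ L := by
      apply Subtype.ext
      rw [h.hpw]
      rfl
    rw [h8] at h7
    rw [hr, pow_mul, map_pow, map_pow, MonoidHom.one_apply, Units.val_one, Units.val_pow_eq_pow_val, ← h7,
      Units.val_pow_eq_pow_val]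
    rw [map_pow]
    rw [Units.val_pow_eq_pow_val]
    ring
  obtain ⟨q, hq⟩ := hμ2
  have h2 : ∀ x ∈ invSet P z, ∑ y ∈ invSet P z, extendByZero C (fun c => (μ (pw c) : ℂ)) (x * y) = 0 := by
    intro x hx
    have h3 : ∑ y ∈ invSet P z, extendByZero C (fun c => (μ (pw c) : ℂ)) (x * y) =
        ∑ y ∈ invSet P z, extendByZero C (fun c => (μ (pw c) : ℂ)) (x * ((q : G) * y * (q : G)⁻¹)) := by
      symm
      apply Finset.sum_nbij' (fun y => (q : G) * y * (q : G)⁻¹) (fun y => (q : G)⁻¹ * y * (q : G))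
      · intro y hy; exact invSet_conj hy q.2
      · intro y hy
        have := invSet_conj hy (inv_mem q.2)
        rwa [inv_inv] at this
      · intro y _; group
      · intro y _; group
      · intro y _; rfl
    have h4 : ∀ y ∈ invSet P z, extendByZero C (fun c => (μ (pw c) : ℂ)) (x * ((q : G) * y * (q : G)⁻¹)) =
        ((μ (pw ⟨q, h.hPC q.2⟩) : ℂ) ^ 2)⁻¹ * extendByZero C (fun c => (μ (pw c) : ℂ)) (x * y) := by
      intro y hy
      have hxy := invSet_mul_mem hx hy
      have hxy' := invSet_mul_mem hx (invSet_conj hy q.2)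
      rw [H3.extendByZero_mem _ _ hxy, H3.extendByZero_mem _ _ hxy']
      have h5 : (⟨x * ((q : G) * y * (q : G)⁻¹), hxy'⟩ : C) = (⟨q, h.hPC q.2⟩⁻¹ * ⟨q, h.hPC q.2⟩⁻¹) * ⟨x * y, hxy⟩ := by
        apply Subtype.ext
        change x * ((q : G) * y * (q : G)⁻¹) = ((q : G)⁻¹ * (q : G)⁻¹) * (x * y)
        have e1 := (mem_invSet.mp hy).2 (q : G) q.2
        have e2 := (mem_invSet.mp hx).2 (q : G) q.2
        have e3 : y * (q : G)⁻¹ = (q : G) * y := by
          have := (mem_invSet.mp hy).2 (q : G)⁻¹ (inv_mem q.2)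
          rw [inv_inv, mul_inv_eq_iff_eq_mul] at this
          exact this
        have e4 : x * (q : G) = (q : G)⁻¹ * x := by
          rw [mul_inv_eq_iff_eq_mul] at e2
          exact e2
        calc x * ((q : G) * y * (q : G)⁻¹) = x * (q : G) * (y * (q : G)⁻¹) := by group
          _ = (q : G)⁻¹ * x * ((q : G) * y) := by rw [e3, e4]
          _ = (q : G)⁻¹ * (x * (q : G)) * y := by group
          _ = ((q : G)⁻¹ * (q : G)⁻¹) * (x * y) := by rw [e4]; group
      simp only [h5, map_mul, map_inv, Units.val_mul, Units.val_inv_eq_inv_val]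
      rw [pow_two, mul_inv]
    rw [Finset.sum_congr rfl h4, ← Finset.mul_sum] at h3
    have h6 : (1 - ((μ (pw ⟨q, h.hPC q.2⟩) : ℂ) ^ 2)⁻¹) *
        ∑ y ∈ invSet P z, extendByZero C (fun c => (μ (pw c) : ℂ)) (x * y) = 0 := by
      linear_combination h3
    rcases mul_eq_zero.mp h6 with h7 | h7
    · exfalso
      apply hq
      have h8 : ((μ (pw ⟨q, h.hPC q.2⟩) : ℂ) ^ 2)⁻¹ = 1 := (sub_eq_zero.mp h7).symm
      rwa [inv_eq_one] at h8
    · exact h7
  have h3 : ∀ x ∈ invSet P z, ∑ y ∈ invSet P z, extendByZero C (phC pw μ) (x * y) = ((invSet P z).card : ℂ) := by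
    intro x hx
    have h4 : ∀ y ∈ invSet P z, extendByZero C (phC pw μ) (x * y) =
        1 - extendByZero C (fun c => (μ (pw c) : ℂ)) (x * y) := by
      intro y hy
      have hxy := invSet_mul_mem hx hy
      rw [H3.extendByZero_mem _ _ hxy, H3.extendByZero_mem _ _ hxy]
      rfl
    rw [Finset.sum_congr rfl h4, Finset.sum_sub_distrib, h2 x hx, sub_zero, Finset.sum_const, nsmul_eq_mul, mul_one]
  rw [Finset.sum_congr rfl h3, Finset.sum_const, nsmul_eq_mul]
  ring

theorem Setup.card_invSet_le (h : Setup G p P L e pw) (z : G) : (invSet P z).card ≤ p * L := by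
  classical
  rcases (invSet P z).eq_empty_or_nonempty with h1 | ⟨x, hx⟩
  · rw [h1]; simp
  · rw [← h.hL]
    rw [← Fintype.card_coe, ← Nat.card_eq_fintype_card]
    apply Nat.card_le_card_of_injective (fun y : {y // y ∈ invSet P z} =>
      (⟨x * y.1, invSet_mul_mem hx y.2⟩ : centralizer (P : Set G)))
    intro y y' hyy
    apply Subtype.ext
    exact mul_left_cancel (congrArg Subtype.val hyy)

theorem Setup.dvd_card_invSet (h : Setup G p P L e pw) (hp2 : p ≠ 2) (z : G) : p ∣ (invSet P z).card := by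
  classical
  have hpp : p.Prime := Fact.out
  letI : MulAction P {y // y ∈ invSet P z} :=
    { smul := fun q y => ⟨(q : G) * y.1 * (q : G)⁻¹, invSet_conj y.2 q.2⟩
      one_smul := fun y => Subtype.ext (by
        change ((1 : P) : G) * y.1 * ((1 : P) : G)⁻¹ = y.1
        simp)
      mul_smul := fun q r y => Subtype.ext (by
        change ((q * r : P) : G) * y.1 * ((q * r : P) : G)⁻¹ = (q : G) * ((r : G) * y.1 * (r : G)⁻¹) * (q : G)⁻¹
        rw [Subgroup.coe_mul]; group) }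
  have hPp : IsPGroup p P := IsPGroup.of_card (n := 1) (by rw [h.hP, pow_one])
  have h1 := hPp.card_modEq_card_fixedPoints {y // y ∈ invSet P z}
  haveI : IsEmpty (MulAction.fixedPoints P {y // y ∈ invSet P z}) := by
    constructor
    rintro ⟨y, hy⟩
    have hPbot : P ≠ ⊥ := by
      intro hb
      have := h.hP
      rw [hb, card_bot] at this
      exact hpp.one_lt.ne this
    obtain ⟨u, hu, hu1⟩ := (Subgroup.bot_or_exists_ne_one P).resolve_left hPbot
    have h2 : u * y.1 * u⁻¹ = y.1 := congrArg Subtype.val (hy ⟨u, hu⟩)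
    have h3 := (mem_invSet.mp y.2).2 u hu
    have h4 : u * u = 1 := by
      have h5 : y.1 * u * y.1⁻¹ = u := by
        calc y.1 * u * y.1⁻¹ = (u * y.1 * u⁻¹) * u * y.1⁻¹ := by rw [h2]
          _ = u := by group
      rw [h3] at h5
      calc u * u = u⁻¹ * u := by rw [h5]
        _ = 1 := by group
    have h5 : orderOf u ∣ 2 := orderOf_dvd_of_pow_eq_one (by rw [pow_two]; exact h4)
    have h6 : orderOf u = p := by rw [← Nat.card_zpowers, h.zpowers_eq hu hu1, h.hP]
    rw [h6] at h5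
    exact hp2 ((Nat.prime_dvd_prime_iff_eq hpp Nat.prime_two).mp h5)
  rw [Nat.card_of_isEmpty (α := MulAction.fixedPoints P {y // y ∈ invSet P z}), Nat.card_eq_fintype_card,
    Fintype.card_coe] at h1
  exact (Nat.modEq_zero_iff_dvd).mp h1

/-- the counting formula -/
theorem Setup.wformula [Fintype (IrrCharacter G)] (h : Setup G p P L e pw) (hp2 : p ≠ 2) {z : G} (hz : z * z = 1)
    {μ : P →* ℂˣ} (hμ : μ ≠ 1) :
    ∃ k : ℕ, k ≤ L ∧ ((p : ℂ) * L * Nat.card G) *
      (∑ χ : IrrCharacter G, classInner (indFun (centralizer (P : Set G)) (phC pw μ)) (χ : G → ℂ) *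
        ((χ : G → ℂ) z ^ 2 / (χ : G → ℂ) 1)) =
      ((Nat.card (centralizer ({z} : Set G)) : ℂ) * (p * k)) ^ 2 := by
  classical
  have hpp : p.Prime := Fact.out
  obtain ⟨k, hk⟩ := h.dvd_card_invSet hp2 z
  have hkL : k ≤ L := by
    have := h.card_invSet_le z
    rw [hk] at this
    exact Nat.le_of_mul_le_mul_left this hpp.pos
  refine ⟨k, hkL, ?_⟩
  have h1 := sum_pairs z (H3.indFun_classFun (centralizer (P : Set G)) (phC pw μ))
  rw [sum_pairs_ind, h.invSet_sum hp2 hz hμ, hk, h.hL] at h1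
  have h2 := H27.card_cl_mul_card_centralizer z
  have hK : (Nat.card (centralizer ({z} : Set G)) : ℂ) ≠ 0 := by exact_mod_cast Nat.card_pos.ne'
  have hG : (Nat.card G : ℂ) ≠ 0 := by exact_mod_cast Nat.card_pos.ne'
  have hp0 : (p : ℂ) ≠ 0 := by exact_mod_cast hpp.ne_zero
  have hL0 : (L : ℂ) ≠ 0 := by exact_mod_cast h.L_ne
  have h3 : ((H27.cl z).card : ℂ) * (Nat.card (centralizer ({z} : Set G)) : ℂ) = Nat.card G := by exact_mod_cast h2
  have hc0 : ((H27.cl z).card : ℂ) ≠ 0 := by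
    intro h4
    rw [h4, zero_mul] at h3
    exact hG h3.symm
  have h4 : ∀ χ : IrrCharacter G, classInner (indFun (centralizer (P : Set G)) (phC pw μ)) (χ : G → ℂ) *
      ((χ : G → ℂ) 1 * (centralChar (χ : G → ℂ) z * centralChar (χ : G → ℂ) z)) =
      ((H27.cl z).card : ℂ) ^ 2 * (classInner (indFun (centralizer (P : Set G)) (phC pw μ)) (χ : G → ℂ) *
        ((χ : G → ℂ) z ^ 2 / (χ : G → ℂ) 1)) := by
    intro χ
    rw [H27.centralChar_eq]
    have := H27.isIrr_one_ne_zero χ.2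
    field_simp
  rw [Finset.sum_congr rfl fun χ _ => h4 χ, ← Finset.mul_sum] at h1
  generalize (∑ χ : IrrCharacter G, classInner (indFun (centralizer (P : Set G)) (phC pw μ)) (χ : G → ℂ) *
        ((χ : G → ℂ) z ^ 2 / (χ : G → ℂ) 1)) = W at h1 ⊢
  push_cast at h1
  have h5 : (Nat.card G : ℂ) * ((p : ℂ) * k) ^ 2 = (p * L) * (((H27.cl z).card : ℂ) ^ 2 * W) := by
    rw [← h1]
    field_simp
  rw [← h3] at h5 ⊢
  have h6 : ((H27.cl z).card : ℂ) * ((Nat.card (centralizer ({z} : Set G)) : ℂ) * ((p : ℂ) * k) ^ 2) =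
      ((H27.cl z).card : ℂ) * ((p * L) * (((H27.cl z).card : ℂ) * W)) := by linear_combination h5
  have h7 := mul_left_cancel₀ hc0 h6
  linear_combination (-(Nat.card (centralizer ({z} : Set G)) : ℂ)) * h7

end Cfsg.Agent.H9.Exc
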