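import Cfsg.Agent.H9.ExcM

set_option autoImplicit false
set_option linter.unusedSectionVars false
set_option linter.style.haveILetI false
set_option linter.unusedVariables false
set_option linter.unusedSimpArgs false

/-! Values of characters of simple groups at involutions. -/

open Cfsg
open scoped ComplexConjugate

namespace Cfsg.Agent.H9.Exc

open Subgroup

universe u

variable {G : Type u} [Group G] [Fintype G]

/-- simultaneous eigenvalues of two commuting elements -/
theorem exists_two_eig {u v : G} (huv : Commute u v) {χ : G → ℂ} (hχ : IsIrrCharacter G χ) :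
    ∃ (ι : Type) (_ : Fintype ι) (α ω : ι → ℂ), (∀ i, α i ^ orderOf u = 1) ∧ (∀ i, ω i ^ orderOf v = 1) ∧
      (∀ a k : ℕ, χ (u ^ a * v ^ k) = ∑ i, α i ^ a * ω i ^ k) := by
  classical
  obtain ⟨n, ρ, hρ, rfl⟩ := hχ
  let A := zpowers u × zpowers v
  let F : A →* G :=
    { toFun := fun x => (x.1 : G) * (x.2 : G)
      map_one' := by simp
      map_mul' := by
        rintro ⟨⟨_, i, rfl⟩, ⟨_, j, rfl⟩⟩ ⟨⟨_, i', rfl⟩, ⟨_, j', rfl⟩⟩
        change (u ^ i * u ^ i') * (v ^ j * v ^ j') = (u ^ i * v ^ j) * (u ^ i' * v ^ j')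
        have : v ^ j * u ^ i' = u ^ i' * v ^ j := (huv.zpow_zpow i' j).eq.symm
        calc (u ^ i * u ^ i') * (v ^ j * v ^ j') = u ^ i * (u ^ i' * v ^ j) * v ^ j' := by group
          _ = u ^ i * (v ^ j * u ^ i') * v ^ j' := by rw [this]
          _ = _ := by group }
  haveI : IsMulCommutative A := by
    rw [isMulCommutative_iff]
    rintro ⟨⟨_, i, rfl⟩, ⟨_, j, rfl⟩⟩ ⟨⟨_, i', rfl⟩, ⟨_, j', rfl⟩⟩
    apply Prod.ext
    · apply Subtype.ext
      exact ((Commute.refl u).zpow_zpow i i').eq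
    · apply Subtype.ext
      exact ((Commute.refl v).zpow_zpow j j').eq
  haveI : NeZero (Nat.card A : ℂ) := ⟨by exact_mod_cast Nat.card_pos.ne'⟩
  obtain ⟨ι, hι, b, μ, hμ⟩ := H3.exists_simul_eigenbasis (k := ℂ) (A := A) (V := Fin n → ℂ) (ρ.comp F)
  let U : A := (⟨u, mem_zpowers u⟩, 1)
  let W : A := (1, ⟨v, mem_zpowers v⟩)
  let α : ι → ℂ := fun i => μ i U
  let ω : ι → ℂ := fun i => μ i W
  have hUp : U ^ orderOf u = 1 := by
    apply Prod.ext
    · apply Subtype.ext
      exact pow_orderOf_eq_one u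
    · change (1 : zpowers v) ^ orderOf u = 1
      rw [one_pow]
  have hWq : W ^ orderOf v = 1 := by
    apply Prod.ext
    · change (1 : zpowers u) ^ orderOf v = 1
      rw [one_pow]
    · apply Subtype.ext
      exact pow_orderOf_eq_one v
  have hα : ∀ i, α i ^ orderOf u = 1 := by
    intro i
    have := congrArg (fun x => ((μ i x : ℂˣ) : ℂ)) hUp
    simpa [α] using this
  have hω : ∀ i, ω i ^ orderOf v = 1 := by
    intro i
    have := congrArg (fun x => ((μ i x : ℂˣ) : ℂ)) hWq
    simpa [ω] using this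
  have hFUW : ∀ a k : ℕ, F (U ^ a * W ^ k) = u ^ a * v ^ k := by
    intro a k
    rw [map_mul, map_pow, map_pow]
    have h1 : F U = u := by change u * 1 = u; rw [mul_one]
    have h2 : F W = v := by change 1 * v = v; rw [one_mul]
    rw [h1, h2]
  have hchar : ∀ a k : ℕ, ρ.character (u ^ a * v ^ k) = ∑ i, α i ^ a * ω i ^ k := by
    intro a k
    rw [← hFUW, Representation.character]
    rw [LinearMap.trace_eq_matrix_trace ℂ b, Matrix.trace]
    apply Finset.sum_congr rfl
    intro i _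
    rw [Matrix.diag_apply, LinearMap.toMatrix_apply]
    have h3 := hμ (U ^ a * W ^ k) i
    have h4 : (ρ.comp F) (U ^ a * W ^ k) (b i) = ρ (F (U ^ a * W ^ k)) (b i) := rfl
    rw [h4] at h3
    rw [h3]
    simp [α, ω]
  exact ⟨ι, hι, α, ω, hα, hω, hchar⟩

theorem sum_pm {ι : Type*} [Fintype ι] (ω : ι → ℂ) (h : ∀ i, ω i = 1 ∨ ω i = -1)
    [DecidablePred fun i => ω i = -1] :
    ∑ i, ω i = (Fintype.card ι : ℂ) - 2 * ((Finset.univ.filter fun i => ω i = -1).card : ℂ) ∧
      ∏ i, ω i = (-1) ^ (Finset.univ.filter fun i => ω i = -1).card := by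
  classical
  constructor
  · have h1 : ∀ i, ω i = 1 - 2 * (if ω i = -1 then 1 else 0) := by
      intro i
      rcases h i with h1 | h1
      · rw [if_neg (by rw [h1]; norm_num), h1]; ring
      · rw [if_pos h1, h1]; ring
    rw [Finset.sum_congr rfl fun i _ => h1 i, Finset.sum_sub_distrib, ← Finset.mul_sum, Finset.sum_boole]
    simp
  · rw [← Finset.prod_const, Finset.prod_filter]
    apply Finset.prod_congr rfl
    intro i _
    rcases h i with h1 | h1
    · rw [if_neg (by rw [h1]; norm_num), h1]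
    · rw [if_pos h1, h1]

/-- values at involutions -/
theorem inv_value [IsSimpleGroup G] (hG : ¬ IsMulCommutative G) {z : G} (hz : orderOf z = 2) {χ : G → ℂ}
    (hχ : IsIrrCharacter G χ) (hne : χ ≠ fun _ => 1) {d : ℕ} (hd : χ 1 = d) :
    ∃ y : ℤ, χ z = y ∧ (4 : ℤ) ∣ d - y ∧ y < d ∧ -(d : ℤ) < y := by
  classical
  have hz1 : z ≠ 1 := by
    intro h
    rw [h, orderOf_one] at hz
    omega
  have hχ' := hχ
  obtain ⟨n, ρ, hρ, rfl⟩ := hχ'
  obtain ⟨ι, hι, b, ω, hω, hb⟩ := H3.exists_eigenbasis ρ z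
  have hn : n = d := by
    rw [Representation.char_one] at hd
    have : Module.finrank ℂ (Fin n → ℂ) = d := by exact_mod_cast hd
    simpa using this
  have hcard : Fintype.card ι = d := by
    rw [← Module.finrank_eq_card_basis b, Module.finrank_fin_fun, hn]
  have hb1 : ∀ i, ρ z (b i) = ω i • b i := by
    intro i
    have h3 := hb 1 i
    rw [zpow_one, zpow_one] at h3
    exact h3
  have hmat : LinearMap.toMatrix b b (ρ z) = Matrix.diagonal ω := by
    ext i j
    rw [LinearMap.toMatrix_apply, Matrix.diagonal_apply, hb1]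
    by_cases hij : i = j
    · subst hij; simp
    · rw [if_neg hij]
      simp [Finsupp.single_apply, Ne.symm hij]
  have hdet : LinearMap.det (ρ z) = ∏ i, ω i := by
    rw [← LinearMap.det_toMatrix b, hmat, Matrix.det_diagonal]
  have htr : ρ.character z = ∑ i, ω i := by
    rw [Representation.character, LinearMap.trace_eq_matrix_trace ℂ b, hmat, Matrix.trace_diagonal]
  rw [det_rep (hom_trivial hG)] at hdet
  have hval : ∀ i, ω i = 1 ∨ ω i = -1 := by
    intro i
    have := hω i
    rw [hz] at this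
    exact mul_self_eq_one_iff.mp ((pow_two _).symm.trans this)
  obtain ⟨hs, hp⟩ := sum_pm ω hval
  generalize ha : (Finset.univ.filter fun i => ω i = -1).card = a at hs hp
  rw [hp] at hdet
  have heven : Even a := by
    rcases Nat.even_or_odd a with h | h
    · exact h
    · rw [h.neg_one_pow] at hdet
      norm_num at hdet
  obtain ⟨k, hk⟩ := heven
  have hle : a ≤ d := by
    rw [← ha, ← hcard]
    exact Finset.card_le_univ _
  have ha0 : a ≠ 0 := by
    intro h
    apply hz1
    apply ker_trivial hχ hne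
    rw [htr, hs, h, hd, hcard]
    simp
  have had : a ≠ d := by
    intro h
    have hall : ∀ i, ω i = -1 := by
      intro i
      have h1 : (Finset.univ.filter fun i => ω i = -1) = Finset.univ := by
        apply Finset.eq_univ_of_card
        rw [ha, h, hcard]
      have h2 : i ∈ (Finset.univ.filter fun i => ω i = -1) := by rw [h1]; exact Finset.mem_univ i
      exact (Finset.mem_filter.mp h2).2
    have hcen : z ∈ center G := by
      rw [mem_center_iff]
      intro g
      have hz' : ρ z = (-1 : ℂ) • (1 : Module.End ℂ (Fin n → ℂ)) := by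
        apply b.ext
        intro i
        rw [hb1, hall]
        rfl
      have hcomm : ρ g * ρ z = ρ z * ρ g := by
        rw [hz', mul_smul_comm, smul_mul_assoc, mul_one, one_mul]
      have h1 : ρ.character (g * z * g⁻¹ * z⁻¹) = ρ.character 1 := by
        have : ρ (g * z * g⁻¹ * z⁻¹) = 1 := by
          rw [map_mul, map_mul, map_mul, hcomm, mul_assoc (ρ z), ← map_mul ρ g, mul_inv_cancel, map_one, mul_one,
            ← map_mul, mul_inv_cancel, map_one]
        change LinearMap.trace ℂ _ (ρ (g * z * g⁻¹ * z⁻¹)) = LinearMap.trace ℂ _ (ρ 1)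
        rw [this, map_one ρ]
      have h2 := ker_trivial hχ hne h1
      rw [mul_inv_eq_one, mul_inv_eq_iff_eq_mul] at h2
      exact h2
    rw [Simple.center_eq_bot hG, mem_bot] at hcen
    exact hz1 hcen
  refine ⟨(d : ℤ) - 2 * a, ?_, ?_, ?_, ?_⟩
  · rw [htr, hs, hcard]; push_cast; ring
  · rw [hk]; push_cast; exact ⟨k, by ring⟩
  · omega
  · omega

/-- divisibility for involutions centralizing an element of order `p` -/
theorem inv_value_V {p : ℕ} [Fact p.Prime] {z u : G} (hz : orderOf z = 2) (hu : orderOf u = p) (huz : Commute u z)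
    {χ : G → ℂ} (hχ : IsIrrCharacter G χ) {d : ℕ} (hd : χ 1 = d) {y : ℤ} (hy : χ z = y)
    (hconst : ∀ a : ℕ, ¬ p ∣ a → χ (u ^ a * z) = χ (u ^ a)) : (2 * p : ℤ) ∣ d - y := by
  classical
  have hpp : p.Prime := Fact.out
  obtain ⟨ι, hι, α, ω, hα, hω, hchar⟩ := exists_two_eig huz hχ
  have hval : ∀ i, ω i = 1 ∨ ω i = -1 := by
    intro i
    have := hω i
    rw [hz] at this
    exact mul_self_eq_one_iff.mp ((pow_two _).symm.trans this)
  have hcard : (Fintype.card ι : ℂ) = d := by
    have h1 := hchar 0 0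
    simp only [pow_zero, mul_one, Finset.sum_const, Finset.card_univ, nsmul_eq_mul] at h1
    rw [hd] at h1
    exact h1.symm
  have hzs : χ z = ∑ i, ω i := by
    have h1 := hchar 0 1
    simpa using h1
  have hz2 : z ^ 2 = 1 := by rw [← hz, pow_orderOf_eq_one]
  have hps : ∀ a k : ℕ, ¬ p ∣ a → ∑ i, α i ^ a * ω i ^ k = ∑ i, α i ^ a := by
    intro a k ha
    have h0 := hchar a 0
    simp only [pow_zero, mul_one] at h0
    rw [← hchar, ← h0]
    rcases Nat.even_or_odd k with ⟨j, hj⟩ | ⟨j, hj⟩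
    · rw [hj, ← two_mul, pow_mul, hz2, one_pow, mul_one]
    · rw [hj, pow_add, pow_mul, hz2, one_pow, one_mul, pow_one]
      exact hconst a ha
  have h2 := dvd_multiplicity hpp (show 0 < 2 by norm_num) α ω (by rw [← hu]; exact hα) (by
    intro i
    have := hω i
    rwa [hz] at this) hps (z := -1) (by norm_num) (by norm_num)
  obtain ⟨hs, -⟩ := sum_pm ω hval
  rw [← hzs, hy, hcard] at hs
  obtain ⟨m, hm⟩ := h2
  refine ⟨m, ?_⟩
  rw [hm] at hs
  have h3 : (y : ℂ) = ((d : ℤ) - 2 * ((p * m : ℕ) : ℤ) : ℤ) := by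
    rw [hs]; push_cast; ring
  have h4 : y = (d : ℤ) - 2 * ((p * m : ℕ) : ℤ) := by exact_mod_cast h3
  rw [h4]; push_cast; ring

theorem card_cl_eq_div (z : G) : (H27.cl z).card = Nat.card G / Nat.card (centralizer ({z} : Set G)) := by
  rw [← H27.card_cl_mul_card_centralizer z, Nat.mul_div_cancel _ Nat.card_pos]

theorem int_of_integral {a b : ℤ} (hb : b ≠ 0) (h : IsIntegral ℤ ((a : ℂ) / (b : ℂ))) : b ∣ a := by
  have h1 : ((a : ℂ) / (b : ℂ)) = algebraMap ℚ ℂ ((a : ℚ) / b) := by simp
  rw [h1] at h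
  have h2 : IsIntegral ℤ ((a : ℚ) / b) := (isIntegral_algebraMap_iff (algebraMap ℚ ℂ).injective).mp h
  obtain ⟨c, hc⟩ := IsIntegrallyClosed.isIntegral_iff.mp h2
  refine ⟨c, ?_⟩
  have hb' : (b : ℚ) ≠ 0 := by exact_mod_cast hb
  have h3 : (c : ℚ) = (a : ℚ) / b := by simpa using hc
  rw [eq_div_iff hb'] at h3
  have : c * b = a := by exact_mod_cast h3
  rw [← this, mul_comm]

/-- integrality of the central character -/
theorem inv_int {z : G} {χ : G → ℂ} (hχ : IsIrrCharacter G χ) {d : ℕ} (hd : χ 1 = d) {y : ℤ} (hy : χ z = y) :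
    (d : ℤ) ∣ ((Nat.card G / Nat.card (centralizer ({z} : Set G)) : ℕ) : ℤ) * y := by
  have h1 := H27.centralChar_isIntegral hχ z
  rw [H27.centralChar_eq, hy, hd, card_cl_eq_div] at h1
  have hd0 : (d : ℤ) ≠ 0 := by
    intro h
    have : χ 1 = 0 := by
      rw [hd]
      have : d = 0 := by exact_mod_cast h
      rw [this]; simp
    exact H27.isIrr_one_ne_zero hχ this
  apply int_of_integral hd0
  push_cast at h1 ⊢
  exact h1

/-- column orthogonality inequality -/
theorem sq_sum_le (z : G) (F : Finset (IrrCharacter G)) (y : IrrCharacter G → ℤ)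
    (hy : ∀ χ ∈ F, (χ : G → ℂ) z = y χ) : ∑ χ ∈ F, (y χ) ^ 2 ≤ (Nat.card (centralizer ({z} : Set G)) : ℤ) := by
  classical
  letI : Fintype (IrrCharacter G) := Fintype.ofFinite _
  have h1 := H3.column_orth z z
  rw [if_pos (IsConj.refl z)] at h1
  have h2 : ∀ χ : IrrCharacter G, (χ : G → ℂ) z * conj ((χ : G → ℂ) z) = ((Complex.normSq ((χ : G → ℂ) z) : ℝ) : ℂ) :=
    fun χ => Complex.mul_conj _
  rw [Finset.sum_congr rfl fun χ _ => h2 χ] at h1
  have h3 : ∑ χ : IrrCharacter G, Complex.normSq ((χ : G → ℂ) z) = (Nat.card (centralizer ({z} : Set G)) : ℝ) := by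
    exact_mod_cast h1
  have h4 : ∑ χ ∈ F, Complex.normSq ((χ : G → ℂ) z) ≤ ∑ χ : IrrCharacter G, Complex.normSq ((χ : G → ℂ) z) :=
    Finset.sum_le_sum_of_subset_of_nonneg (Finset.subset_univ F) fun χ _ _ => Complex.normSq_nonneg _
  rw [h3] at h4
  have h5 : ∑ χ ∈ F, Complex.normSq ((χ : G → ℂ) z) = ((∑ χ ∈ F, (y χ) ^ 2 : ℤ) : ℝ) := by
    push_cast
    apply Finset.sum_congr rfl
    intro χ hχ
    rw [hy χ hχ, Complex.normSq_intCast]
    ring
  rw [h5] at h4
  exact_mod_cast h4

end Cfsg.Agent.H9.Exc
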