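import Cfsg.Agent.H9.ExcN

set_option autoImplicit false
set_option linter.unusedSectionVars false
set_option linter.style.haveILetI false
set_option linter.unusedVariables false
set_option linter.unusedSimpArgs false

/-! Boolean check with the values at an involution. -/

open Cfsg

namespace Cfsg.Agent.H9.Exc

open Subgroup

/-- possible values at an involution -/
def yc (n K0 st d : ℕ) : List ℤ := (List.range (2 * d)).filterMap fun (i : ℕ) =>
  if ((d : ℤ) - ((i : ℤ) - d)) % st = 0 ∧ (((n / K0 : ℕ) : ℤ) * ((i : ℤ) - d)) % (d : ℤ) = 0 then some ((i : ℤ) - d) else none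

theorem mem_yc {n K0 st d : ℕ} {y : ℤ} (h1 : y < d) (h2 : -(d : ℤ) < y) (h3 : (st : ℤ) ∣ d - y)
    (h4 : (d : ℤ) ∣ ((n / K0 : ℕ) : ℤ) * y) : y ∈ yc n K0 st d := by
  unfold yc
  rw [List.mem_filterMap]
  refine ⟨(y + d).toNat, List.mem_range.mpr (by omega), ?_⟩
  have h5 : (((y + d).toNat : ℕ) : ℤ) - d = y := by
    rw [Int.toNat_of_nonneg (by omega)]; ring
  rw [h5, if_pos ⟨Int.emod_eq_zero_of_dvd h3, Int.emod_eq_zero_of_dvd h4⟩]

/-- search over the values -/
def goY (F : ℤ → ℤ → ℤ → Bool) (n K0 st : ℕ) : List (ℤ × ℕ) → ℤ → ℤ → ℤ → Bool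
  | [], SY, QY, W => F SY QY W
  | x :: l, SY, QY, W => (yc n K0 st x.2).any fun y => decide (QY + y * y ≤ K0) &&
      goY F n K0 st l (SY + x.1 * y) (QY + y * y) (W + x.1 * (y * y) * ((n / x.2 : ℕ) : ℤ))

theorem goY_complete {F : ℤ → ℤ → ℤ → Bool} {n K0 st : ℕ} (T : List ((ℤ × ℕ) × ℤ))
    (hT : ∀ x ∈ T, x.2 ∈ yc n K0 st x.1.2) : ∀ (SY QY W : ℤ), QY + (T.map fun x => x.2 ^ 2).sum ≤ K0 →
      F (SY + (T.map fun x => x.1.1 * x.2).sum) (QY + (T.map fun x => x.2 ^ 2).sum)
        (W + (T.map fun x => x.1.1 * x.2 ^ 2 * ((n / x.1.2 : ℕ) : ℤ)).sum) = true →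
      goY F n K0 st (T.map Prod.fst) SY QY W = true := by
  induction T with
  | nil =>
    intro SY QY W h1 h2
    simpa [goY] using h2
  | cons x T ih =>
    intro SY QY W h1 h2
    rw [List.map_cons, goY, List.any_eq_true]
    rw [List.map_cons, List.sum_cons] at h1 h2
    rw [List.map_cons, List.sum_cons, List.map_cons, List.sum_cons] at h2
    have hpos : 0 ≤ (T.map (fun x => x.2 ^ 2)).sum := by
      apply List.sum_nonneg
      intro y hy
      obtain ⟨z, _, rfl⟩ := List.mem_map.mp hy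
      positivity
    refine ⟨x.2, hT x (by simp), ?_⟩
    rw [Bool.and_eq_true, decide_eq_true_iff]
    refine ⟨by nlinarith, ?_⟩
    apply ih (fun y hy => hT y (List.mem_cons_of_mem _ hy))
    · have : x.2 * x.2 = x.2 ^ 2 := by ring
      rw [this]; linarith
    · have e1 : SY + x.1.1 * x.2 + (T.map fun x => x.1.1 * x.2).sum = SY + (x.1.1 * x.2 + (T.map fun x => x.1.1 * x.2).sum) := by ring
      have e2 : QY + x.2 * x.2 + (T.map fun x => x.2 ^ 2).sum = QY + (x.2 ^ 2 + (T.map fun x => x.2 ^ 2).sum) := by ring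
      have e3 : W + x.1.1 * (x.2 * x.2) * ((n / x.1.2 : ℕ) : ℤ) + (T.map fun x => x.1.1 * x.2 ^ 2 * ((n / x.1.2 : ℕ) : ℤ)).sum =
        W + (x.1.1 * x.2 ^ 2 * ((n / x.1.2 : ℕ) : ℤ) + (T.map fun x => x.1.1 * x.2 ^ 2 * ((n / x.1.2 : ℕ) : ℤ)).sum) := by ring
      rw [e1, e2, e3]
      exact h2

/-- search over degrees, remembering the list -/
def goH (F : List (ℤ × ℕ) → Bool) (n : ℕ) (C : List (ℤ × ℕ)) : ℕ → ℤ → ℕ → List (ℤ × ℕ) → Bool
  | 0, R, Q, acc => F acc
  | k + 1, R, Q, acc => F acc || C.any fun x =>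
      decide (x.1 * x.1 ≤ R) && (decide (Q + x.2 * x.2 ≤ n) &&
        goH F n C k (R - x.1 * x.1) (Q + x.2 * x.2) (x :: acc))

theorem goH_of_fin {F : List (ℤ × ℕ) → Bool} {n : ℕ} {C : List (ℤ × ℕ)} {k : ℕ} {R : ℤ} {Q : ℕ} {acc : List (ℤ × ℕ)}
    (h : F acc = true) : goH F n C k R Q acc = true := by
  cases k with
  | zero => exact h
  | succ k => rw [goH, h, Bool.true_or]

theorem goH_complete {F : List (ℤ × ℕ) → Bool} {n : ℕ} {C : List (ℤ × ℕ)} (L : List (ℤ × ℕ)) (hL : ∀ x ∈ L, x ∈ C) :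
    ∀ (k : ℕ) (R : ℤ) (Q : ℕ) (acc : List (ℤ × ℕ)), L.length ≤ k →
      (L.map (fun x => x.1 ^ 2)).sum ≤ R → Q + (L.map (fun x => x.2 ^ 2)).sum ≤ n →
      F (L.reverse ++ acc) = true → goH F n C k R Q acc = true := by
  induction L with
  | nil =>
    intro k R Q acc _ _ _ h
    apply goH_of_fin
    simpa using h
  | cons x L ih =>
    intro k R Q acc hk hR hQ h
    cases k with
    | zero => simp at hk
    | succ k =>
      rw [goH, Bool.or_eq_true]
      right
      rw [List.any_eq_true]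
      have hpos : 0 ≤ (L.map (fun x => x.1 ^ 2)).sum := by
        apply List.sum_nonneg
        intro y hy
        obtain ⟨z, _, rfl⟩ := List.mem_map.mp hy
        positivity
      rw [List.map_cons, List.sum_cons] at hR hQ
      refine ⟨x, hL x (by simp), ?_⟩
      rw [Bool.and_eq_true, Bool.and_eq_true, decide_eq_true_iff, decide_eq_true_iff]
      refine ⟨by nlinarith, by nlinarith [Nat.zero_le (L.map (fun x => x.2 ^ 2)).sum], ?_⟩
      apply ih (fun y hy => hL y (List.mem_cons_of_mem _ hy))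
      · simp at hk; omega
      · have : x.1 * x.1 = x.1 ^ 2 := by ring
        rw [this]; linarith
      · have : x.2 * x.2 = x.2 ^ 2 := by ring
        rw [this]; omega
      · rw [List.reverse_cons, List.append_assoc] at h
        exact h

/-- the counting formula -/
def sqC (p L K0 : ℕ) (W : ℤ) : Bool :=
  (List.range (L + 1)).any fun k => decide (((p * L : ℕ) : ℤ) * W = ((K0 * (p * k) : ℕ) : ℤ) * ((K0 * (p * k) : ℕ) : ℤ))

/-- final conditions, `t = 1` -/
def finOY (n p e L K0 st : ℕ) (acc : List (ℤ × ℕ)) : Bool :=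
  decide ((acc.map fun x => x.1 * x.1).sum = (e : ℤ)) && (decide (1 + (acc.map fun x => x.1 * (x.2 : ℤ)).sum = 0) &&
    goY (fun SY _ W => decide (SY = 0) && sqC p L K0 W) n K0 st acc 1 1 n)

/-- final conditions on the exceptional characters -/
def F2L (n t p L K0 st : ℕ) (K : ℤ) (f : ℕ) (SY QY W : ℤ) : Bool :=
  let w := (-SY) / K
  decide (SY + K * w = 0) && (decide (((f : ℤ) - w) % st = 0) && (decide (QY + t * (w * w) ≤ K0) &&
    sqC p L K0 (W + K * (w * w) * ((n / f : ℕ) : ℤ))))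

/-- final conditions, `t ≥ 2` -/
def finLY (n t p e L K0 st : ℕ) (acc : List (ℤ × ℕ)) : Bool :=
  let R : ℤ := (e : ℤ) - (acc.map fun x => x.1 * x.1).sum
  let S : ℤ := 1 + (acc.map fun x => x.1 * (x.2 : ℤ)).sum
  let Q : ℕ := 1 + (acc.map fun x => x.2 * x.2).sum
  (List.range (2 * e + 1)).any fun i => [(1 : ℤ), -1].any fun ε =>
    let b : ℤ := (i : ℤ) - e
    decide ((b + ε) * (b + ε) + ((t : ℤ) - 1) * (b * b) = R) &&
    (decide ((t : ℤ) * b + ε = 0) ||
      (let f := S.natAbs / ((t : ℤ) * b + ε).natAbs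
       decide (S + ((t : ℤ) * b + ε) * f = 0) && (decide (lo p L ≤ f) && (decide (n % f = 0) && (decide (Q + t * (f * f) ≤ n) &&
        goY (F2L n t p L K0 st ((t : ℤ) * b + ε) f) n K0 st acc 1 1 n)))))

/-- the check for one involution class -/
def killY (n p e L K0 st B : ℕ) : Bool :=
  decide (n < B * B) && !(if e = p - 1 then goH (finOY n p e L K0 st) n (candsM n p e (lo p L) B) e e 1 []
    else goH (finLY n ((p - 1) / e) p e L K0 st) n (candsL n p e (lo p L) B) e e 1 [])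

/-- 2-central involutions -/
def killI (n p e L two B : ℕ) : Bool :=
  (List.range (n / 2 + 1)).all fun K0 => !(decide (K0 ≠ 0 ∧ n % K0 = 0 ∧ K0 % two = 0 ∧ (L % 2 = 0 ∨ K0 % p ≠ 0))) ||
    killY n p e L K0 4 B

/-- involutions centralizing `P` -/
def killV (n p e L B : ℕ) : Bool := decide (L % 2 = 0) &&
  (List.range (n / 2 + 1)).all fun K0 => !(decide (K0 ≠ 0 ∧ n % K0 = 0 ∧ K0 % (2 * p) = 0)) ||
    killY n p e L K0 (4 * p) B

def killA2 (n p e L two B : ℕ) : Bool := killA n p e L B || (killI n p e L two B || killV n p e L B)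

def killQ2 (n p Q two B : ℕ) : Bool :=
  (List.range p).all fun e => decide (e ≤ 1) || decide ((p - 1) % e ≠ 0) || decide (Q % e ≠ 0) || killA2 n p e (Q / e) two B

def exKill2 (n p two B : ℕ) : Bool :=
  decide (n % p = 0) && (decide ((n / p) % p ≠ 0) && (List.range (n / p / p + 1)).all (fun i =>
    !(Sieve.possC n p 1 (n / p) (1 + i * p)) || killQ2 n p (n / p / (1 + i * p)) two B))

end Cfsg.Agent.H9.Exc
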