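import Cfsg.Agent.H9.BSWL
import Cfsg.Agent.H9.Ord168A
import Cfsg.Agent.H9.Sieve2

set_option autoImplicit false
set_option linter.unusedSectionVars false
set_option linter.style.haveILetI false
set_option linter.unusedVariables false
set_option linter.unusedSimpArgs false
set_option maxHeartbeats 1000000

/-! Simple groups of order 360. -/

open Cfsg Subgroup

namespace Cfsg.Agent.H9.Ord360

universe u

/-- sign of an involution -/
theorem sign_involution {α : Type*} [Fintype α] [DecidableEq α] {σ : Equiv.Perm α} (h1 : σ ≠ 1) (h2 : σ * σ = 1) :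
    ∃ n : ℕ, σ.support.card = 2 * (n + 1) ∧ Equiv.Perm.sign σ = (-1) ^ (n + 1) := by
  have ho : orderOf σ = 2 := orderOf_eq_prime (by rw [pow_two]; exact h2) h1
  obtain ⟨n, hn⟩ := Equiv.Perm.cycleType_prime_order (σ := σ) (by rw [ho]; exact Nat.prime_two)
  rw [ho] at hn
  refine ⟨n, ?_, ?_⟩
  · rw [← Equiv.Perm.sum_cycleType, hn, Multiset.sum_replicate, smul_eq_mul]; ring
  · rw [Equiv.Perm.sign_of_cycleType, hn, Multiset.sum_replicate, Multiset.card_replicate, smul_eq_mul, pow_add,
      mul_comm (n + 1) 2, pow_mul]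
    norm_num

section
variable {G : Type u} [Group G] [Finite G] [IsSimpleGroup G] (h : Nat.card G = 360)
include h

theorem nc : ¬ IsMulCommutative G := Simple.not_comm_of_not_prime (by rw [h]; norm_num)

theorem n5 : Nat.card (Sylow 5 G) = 36 := by
  haveI : Fact (Nat.Prime 5) := ⟨by norm_num⟩
  obtain ⟨P⟩ : Nonempty (Sylow 5 G) := inferInstance
  have h1 := Sieve.possC_true (nc h) (p := 5) (k := 1) (m := 72) h (by norm_num) (by norm_num) (by norm_num)
  have h2 := Syl.card_sylow_dvd_of_card P (k := 1) (m := 72) (by rw [h]; norm_num) (by norm_num)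
  have h3 : Nat.card (Sylow 5 G) ≤ 72 := Nat.le_of_dvd (by norm_num) h2
  have h4 := card_sylow_modEq_one 5 G
  generalize Nat.card (Sylow 5 G) = s at *
  interval_cases s <;> first | rfl | (exfalso; revert h4; decide) | (exfalso; revert h2; decide) | (exfalso; revert h1; decide +kernel)

theorem n3 : Nat.card (Sylow 3 G) = 10 := by
  haveI : Fact (Nat.Prime 3) := ⟨by norm_num⟩
  obtain ⟨P⟩ : Nonempty (Sylow 3 G) := inferInstance
  have h1 := Sieve.possC_true (nc h) (p := 3) (k := 2) (m := 40) h (by norm_num) (by norm_num) (by norm_num)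
  have h2 := Syl.card_sylow_dvd_of_card P (k := 2) (m := 40) (by rw [h]; norm_num) (by norm_num)
  have h3 : Nat.card (Sylow 3 G) ≤ 40 := Nat.le_of_dvd (by norm_num) h2
  have h4 := card_sylow_modEq_one 3 G
  generalize Nat.card (Sylow 3 G) = s at *
  interval_cases s <;> first | rfl | (exfalso; revert h4; decide) | (exfalso; revert h2; decide) | (exfalso; revert h1; decide +kernel)

theorem cardN5 (P : Sylow 5 G) : Nat.card (normalizer ((P : Subgroup G) : Set G)) = 10 := by
  haveI : Fact (Nat.Prime 5) := ⟨by norm_num⟩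
  have h1 := Syl.card_normalizer_mul P
  rw [n5 h, h] at h1
  omega

theorem cardN3 (P : Sylow 3 G) : Nat.card (normalizer ((P : Subgroup G) : Set G)) = 36 := by
  haveI : Fact (Nat.Prime 3) := ⟨by norm_num⟩
  have h1 := Syl.card_normalizer_mul P
  rw [n3 h, h] at h1
  omega

theorem cardP3 (P : Sylow 3 G) : Nat.card (P : Subgroup G) = 9 := by
  haveI : Fact (Nat.Prime 3) := ⟨by norm_num⟩
  rw [Syl.card_sylow_of_card P (k := 2) (m := 40) (by rw [h]; norm_num) (by norm_num)]
  norm_num

theorem comm3 (P : Sylow 3 G) : ∀ a ∈ (P : Subgroup G), ∀ b ∈ (P : Subgroup G), a * b = b * a := by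
  haveI : Fact (Nat.Prime 3) := ⟨by norm_num⟩
  intro a ha b hb
  have h1 := IsPGroup.commutative_of_card_eq_prime_sq (p := 3) (G := (P : Subgroup G)) (by rw [cardP3 h P]; norm_num)
    ⟨a, ha⟩ ⟨b, hb⟩
  exact congrArg Subtype.val h1

/-- no elements of order 15 -/
theorem no15 {x y : G} (hx : orderOf x ∣ 9) (hx1 : x ≠ 1) (hy : orderOf y = 5) : x * y ≠ y * x := by
  haveI : Fact (Nat.Prime 5) := ⟨by norm_num⟩
  intro hc
  obtain ⟨P, hP⟩ := O168.exists_sylow_eq_zpowers (p := 5) (m := 72) (by rw [h]; norm_num) (by norm_num) hy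
  have h1 : x ∈ normalizer ((P : Subgroup G) : Set G) := by
    apply mem_normalizer_fintype
    rw [hP]
    rintro _ ⟨j, rfl⟩
    have h6 : Commute x (y ^ j) := (show Commute x y from hc).zpow_right j
    change x * y ^ j * x⁻¹ ∈ zpowers y
    rw [h6.eq, mul_inv_cancel_right]
    exact zpow_mem (mem_zpowers _) j
  have h2 := BSW.orderOf_dvd_of_mem h1
  rw [cardN5 h P] at h2
  have h3 : orderOf x ∣ Nat.gcd 9 10 := Nat.dvd_gcd hx h2
  norm_num at h3
  exact hx1 h3

end

end Cfsg.Agent.H9.Ord360
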