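import Cfsg.Agent.H9.Ord360A

set_option autoImplicit false
set_option linter.unusedSectionVars false
set_option linter.style.haveILetI false
set_option linter.unusedVariables false
set_option linter.unusedSimpArgs false
set_option maxHeartbeats 1000000

/-! Simple groups of order 360: centralizers of elements of order three. -/

open Cfsg Subgroup

namespace Cfsg.Agent.H9.Ord360

universe u

variable {G : Type u} [Group G] [Finite G] [IsSimpleGroup G] (h : Nat.card G = 360)
include h

/-- index of a proper subgroup -/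
theorem index_ge {H : Subgroup G} (hH : H ≠ ⊤) : 6 ≤ H.index := by
  have h1 := Simple.two_mul_card_dvd_factorial (nc h) hH
  rw [h] at h1
  by_contra hc
  have h2 : H.index ≠ 0 := index_ne_zero_of_finite
  generalize H.index = i at *
  interval_cases i <;> revert h1 <;> decide

theorem centralizer_ne_top {x : G} (hx : x ≠ 1) : centralizer ({x} : Set G) ≠ ⊤ := by
  intro hc
  have h1 : zpowers x ≤ center G := by
    rw [zpowers_le, mem_center_iff]
    intro g
    have : g ∈ centralizer ({x} : Set G) := by rw [hc]; trivial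
    exact mem_centralizer_singleton_iff.mp this
  rcases (inferInstance : (center G).Normal).eq_bot_or_eq_top with h2 | h2
  · rw [h2, le_bot_iff, zpowers_eq_bot] at h1
    exact hx h1
  · apply nc h
    rw [isMulCommutative_iff]
    intro a b
    have : b ∈ center G := by rw [h2]; trivial
    exact mem_center_iff.mp this a

theorem card_dvd9 {P : Sylow 3 G} {x : G} (hx : x ∈ (P : Subgroup G)) : orderOf x ∣ 9 := by
  have := BSW.orderOf_dvd_of_mem hx
  rwa [cardP3 h P] at this

theorem le_cent {P : Sylow 3 G} {x : G} (hx : x ∈ (P : Subgroup G)) : (P : Subgroup G) ≤ centralizer ({x} : Set G) := by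
  intro a ha
  rw [mem_centralizer_singleton_iff]
  exact comm3 h P a ha x hx

/-- the centralizer normalizes the Sylow subgroup -/
theorem cent_le_norm {P : Sylow 3 G} {x : G} (hx : x ∈ (P : Subgroup G)) (hx1 : x ≠ 1) :
    centralizer ({x} : Set G) ≤ normalizer ((P : Subgroup G) : Set G) ∧
      (Nat.card (centralizer ({x} : Set G)) = 9 ∨ 2 ∣ Nat.card (centralizer ({x} : Set G))) := by
  classical
  haveI : Fact (Nat.Prime 3) := ⟨by norm_num⟩
  haveI : Fact (Nat.Prime 5) := ⟨by norm_num⟩
  haveI : Fact (Nat.Prime 2) := ⟨by norm_num⟩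
  set D := centralizer ({x} : Set G) with hD
  have hPD : (P : Subgroup G) ≤ D := le_cent h hx
  have hDtop := centralizer_ne_top h hx1
  have h1 := index_ge h hDtop
  have h2 := card_mul_index D
  rw [h] at h2
  have h3 : 9 ∣ Nat.card D := by
    rw [← cardP3 h P]; exact card_dvd_of_le hPD
  have h5 : ¬ 5 ∣ Nat.card D := by
    intro h5
    obtain ⟨y, hy⟩ := exists_prime_orderOf_dvd_card' (G := D) 5 h5
    have hy' : orderOf (y : G) = 5 := by rw [Subgroup.orderOf_coe]; exact hy
    exact no15 h (card_dvd9 h hx) hx1 hy' (mem_centralizer_singleton_iff.mp y.2).symm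
  obtain ⟨d, hd⟩ := h3
  have hd4 : d = 1 ∨ d = 2 ∨ d = 4 := by
    have h6 : d * D.index = 40 := by
      rw [hd] at h2
      have : 9 * (d * D.index) = 9 * 40 := by rw [← mul_assoc, h2]
      exact Nat.eq_of_mul_eq_mul_left (by norm_num) this
    have h7 : d ∣ 40 := ⟨_, h6.symm⟩
    have h8 : d ≤ 6 := by
      by_contra hc
      have : 7 * 6 ≤ d * D.index := Nat.mul_le_mul (by omega) h1
      omega
    have h9 : d ≠ 5 := by
      rintro rfl
      exact h5 ⟨9, by rw [hd]⟩
    interval_cases d <;> first | omega | (exfalso; revert h7; decide)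
  refine ⟨?_, ?_⟩
  swap
  · rcases hd4 with rfl | rfl | rfl
    · left; rw [hd]
    · right; rw [hd]; norm_num
    · right; rw [hd]; norm_num
  -- Sylow 3-subgroups of `D`
  set P' : Sylow 3 D := P.subtype hPD with hP'
  have hP'card : Nat.card (P' : Subgroup D) = 9 := by
    rw [hP', Sylow.coe_subtype, ← cardP3 h P]
    exact Nat.card_congr (subgroupOfEquivOfLe hPD).toEquiv
  have hs1 : Nat.card (Sylow 3 D) ∣ d := by
    have h6 : Nat.card D = 3 ^ 2 * d := by rw [hd]; norm_num
    exact Syl.card_sylow_dvd_of_card P' h6 (by rcases hd4 with rfl | rfl | rfl <;> norm_num)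
  have hs2 := card_sylow_modEq_one 3 D
  have hs3 : Nat.card (Sylow 3 D) = 1 ∨ (Nat.card (Sylow 3 D) = 4 ∧ d = 4) := by
    have hle : Nat.card (Sylow 3 D) ≤ d := Nat.le_of_dvd (by omega) hs1
    have hpos : 0 < Nat.card (Sylow 3 D) := Nat.card_pos
    rcases hd4 with rfl | rfl | rfl
    · left; exact le_antisymm hle hpos
    · left
      generalize Nat.card (Sylow 3 D) = s at *
      interval_cases s <;> first | rfl | (exfalso; revert hs2; decide)
    · generalize Nat.card (Sylow 3 D) = s at *
      interval_cases s <;> first | (left; rfl) | (right; exact ⟨rfl, rfl⟩) | (exfalso; revert hs2; decide)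
  rcases hs3 with hs3 | ⟨hs3, rfl⟩
  · have h6 := Syl.normal_of_card_sylow_eq_one hs3 P'
    intro g hg
    apply mem_normalizer_fintype
    intro a ha
    have h7 : (⟨a, hPD ha⟩ : D) ∈ (P' : Subgroup D) := by
      rw [hP', Sylow.coe_subtype]; exact mem_subgroupOf.mpr ha
    have h8 := h6.conj_mem _ h7 ⟨g, hg⟩
    rw [hP', Sylow.coe_subtype] at h8
    exact mem_subgroupOf.mp h8
  · exfalso
    -- normal complement of order four
    have h6 : Nat.card (normalizer ((P' : Subgroup D) : Set D)) = 9 := by
      have h7 := Syl.card_normalizer_mul P'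
      rw [hs3, hd] at h7
      omega
    have h7 : normalizer ((P' : Subgroup D) : Set D) = P' := by
      symm
      apply Subgroup.eq_of_le_of_card_ge le_normalizer
      rw [h6]
      exact hP'card.ge
    have h8 : normalizer ((P' : Subgroup D) : Set D) ≤ centralizer ((P' : Subgroup D) : Set D) := by
      rw [h7]
      intro a ha
      rw [mem_centralizer_iff]
      intro b hb
      apply Subtype.ext
      have ha' : (a : G) ∈ (P : Subgroup G) := by
        rw [hP', Sylow.coe_subtype] at ha; exact mem_subgroupOf.mp ha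
      have hb' : (b : G) ∈ (P : Subgroup G) := by
        have hb2 : b ∈ (P' : Subgroup D) := hb
        rw [hP', Sylow.coe_subtype] at hb2; exact mem_subgroupOf.mp hb2
      exact comm3 h P b hb' a ha'
    obtain ⟨T, hTn, h9⟩ : ∃ T : Subgroup D, T.Normal ∧ Nat.card T = 4 := by
      refine ⟨(MonoidHom.transferSylow P' h8).ker, inferInstance, ?_⟩
      have h10 := (MonoidHom.ker_transferSylow_isComplement' P' h8).card_mul
      rw [hP'card, hd] at h10
      omega
    obtain ⟨T', hT'⟩ : ∃ T' : Subgroup G, T' = T.map D.subtype := ⟨_, rfl⟩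
    have hT'c : Nat.card T' = 4 := by
      rw [hT', card_map_of_injective D.subtype_injective]; exact h9
    have hDN : D ≤ normalizer (T' : Set G) := by
      intro g hg
      apply mem_normalizer_fintype
      intro b hb
      rw [hT'] at hb ⊢
      obtain ⟨a, ha, hab⟩ := hb
      have h10 := hTn.conj_mem a ha ⟨g, hg⟩
      rw [← hab]
      exact mem_map_of_mem D.subtype h10
    have hTp : IsPGroup 2 T' := IsPGroup.of_card (n := 2) (by rw [hT'c]; norm_num)
    obtain ⟨S, hS⟩ := hTp.exists_le_sylow
    have hScard : Nat.card (S : Subgroup G) = 8 := by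
      rw [Syl.card_sylow_of_card S (k := 3) (m := 45) (by rw [h]; norm_num) (by norm_num)]
      norm_num
    have hSN : (S : Subgroup G) ≤ normalizer (T' : Set G) := by
      have hidx : (T'.subgroupOf (S : Subgroup G)).index = 2 := by
        have h10 := card_mul_index (T'.subgroupOf (S : Subgroup G))
        have h11 : Nat.card (T'.subgroupOf (S : Subgroup G)) = 4 := by
          rw [← hT'c]; exact Nat.card_congr (subgroupOfEquivOfLe hS).toEquiv
        rw [h11, hScard] at h10
        omega
      have hn : (T'.subgroupOf (S : Subgroup G)).Normal := Subgroup.normal_of_index_eq_two hidx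
      intro g hg
      apply mem_normalizer_fintype
      intro a ha
      have h12 := hn.conj_mem ⟨a, hS ha⟩ (mem_subgroupOf.mpr ha) ⟨g, hg⟩
      exact mem_subgroupOf.mp h12
    have h10 : 72 ∣ Nat.card (normalizer (T' : Set G)) := by
      have e1 : 9 ∣ Nat.card (normalizer (T' : Set G)) := by
        rw [← cardP3 h P]; exact card_dvd_of_le (hPD.trans hDN)
      have e2 : 8 ∣ Nat.card (normalizer (T' : Set G)) := by
        rw [← hScard]; exact card_dvd_of_le hSN
      exact Nat.Coprime.mul_dvd_of_dvd_of_dvd (by norm_num : Nat.Coprime 9 8) e1 e2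
    have hNtop : normalizer (T' : Set G) ≠ ⊤ := by
      intro hc
      have hN : T'.Normal := normalizer_eq_top_iff.mp hc
      rcases hN.eq_bot_or_eq_top with h11 | h11
      · rw [h11, card_bot] at hT'c; omega
      · rw [h11, card_top, h] at hT'c; omega
    have h11 := index_ge h hNtop
    have h12 := card_mul_index (normalizer (T' : Set G))
    rw [h] at h12
    obtain ⟨c, hc⟩ := h10
    rw [hc] at h12
    have : c ≠ 0 := by rintro rfl; omega
    have : 72 * 1 * 6 ≤ 72 * c * (normalizer (T' : Set G)).index :=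
      Nat.mul_le_mul (Nat.mul_le_mul_left 72 (by omega)) h11
    omega

/-- the Sylow 3-subgroups are TI -/
theorem ti3 {P Q : Sylow 3 G} {x : G} (hx : x ∈ (P : Subgroup G)) (hx' : x ∈ (Q : Subgroup G)) (hx1 : x ≠ 1) : Q = P := by
  haveI : Fact (Nat.Prime 3) := ⟨by norm_num⟩
  have h1 : (Q : Subgroup G) ≤ normalizer ((P : Subgroup G) : Set G) :=
    (le_cent h hx').trans (cent_le_norm h hx hx1).1
  have h2 := Q.isPGroup'.inf_normalizer_sylow P
  have h3 : (Q : Subgroup G) ≤ P := by
    have h4 : (Q : Subgroup G) ⊓ normalizer ((P : Subgroup G) : Set G) = Q := inf_eq_left.mpr h1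
    rw [← h4]
    exact h2.le.trans inf_le_right
  apply Sylow.ext
  apply Subgroup.eq_of_le_of_card_ge h3
  rw [cardP3 h P, cardP3 h Q]

/-- no elements of order six -/
theorem no6 {P : Sylow 3 G} {x : G} (hx : x ∈ (P : Subgroup G)) (hx3 : orderOf x = 3) :
    ¬ 2 ∣ Nat.card (centralizer ({x} : Set G)) := by
  classical
  haveI : Fact (Nat.Prime 3) := ⟨by norm_num⟩
  haveI : Fact (Nat.Prime 2) := ⟨by norm_num⟩
  letI : Fintype (Sylow 3 G) := Fintype.ofFinite _
  have hx1 : x ≠ 1 := by
    rintro rfl; rw [orderOf_one] at hx3; omega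
  intro h2
  obtain ⟨u, hu⟩ := exists_prime_orderOf_dvd_card' (G := centralizer ({x} : Set G)) 2 h2
  have hu2 : orderOf (u : G) = 2 := by rw [Subgroup.orderOf_coe]; exact hu
  have hux : (u : G) * x = x * u := mem_centralizer_singleton_iff.mp u.2
  have huu : (u : G) * u = 1 := by rw [← pow_two, ← hu2]; exact pow_orderOf_eq_one _
  have hu1 : (u : G) ≠ 1 := by
    intro e; rw [e, orderOf_one] at hu2; omega
  set σ : Equiv.Perm (Sylow 3 G) := MulAction.toPermHom G (Sylow 3 G) u with hσ
  have hinj := Simple.perm_injective (nc h) (Simple.exists_smul_ne (nc h) (p := 3) (G := G) (by rw [h]; norm_num))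
  have hσ1 : σ ≠ 1 := by
    intro e
    apply hu1
    apply hinj
    rw [map_one]; exact e
  have hσ2 : σ * σ = 1 := by rw [hσ, ← map_mul, huu, map_one]
  obtain ⟨n, hn, hs⟩ := sign_involution hσ1 hσ2
  have hs1 : Equiv.Perm.sign σ = 1 := Simple.sign_eq_one (nc h) _
  rw [hs1] at hs
  have hle : σ.support.card ≤ 10 := by
    have h1 := Finset.card_le_univ σ.support
    have h3 : Fintype.card (Sylow 3 G) = 10 := by rw [← Nat.card_eq_fintype_card]; exact n3 h
    omega
  -- the number of fixed points is `1` mod `3`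
  let F := {Q : Sylow 3 G // (u : G) • Q = Q}
  have hF : Nat.card F + σ.support.card = 10 := by
    have h1 : σ.support.card = Nat.card {Q : Sylow 3 G // ¬ ((u : G) • Q = Q)} := by
      rw [Nat.card_eq_fintype_card, Fintype.card_subtype]
      congr 1
    rw [h1, ← Nat.card_sum, ← n3 h]
    exact Nat.card_congr (Equiv.sumCompl (fun Q : Sylow 3 G => (u : G) • Q = Q))
  have hcomm : ∀ z ∈ zpowers x, (u : G) * z = z * u := by
    rintro _ ⟨j, rfl⟩
    exact ((show Commute (u : G) x from hux).zpow_right j).eq
  letI act : MulAction (zpowers x) F :=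
    { smul := fun z Q => ⟨(z : G) • Q.1, by rw [← mul_smul, hcomm z z.2, mul_smul, Q.2]⟩
      one_smul := fun Q => Subtype.ext (one_smul G Q.1)
      mul_smul := fun a b Q => Subtype.ext (mul_smul (a : G) (b : G) Q.1) }
  have hpg : IsPGroup 3 (zpowers x) := IsPGroup.of_card (n := 1) (by rw [Nat.card_zpowers, hx3, pow_one])
  have hmod := hpg.card_modEq_card_fixedPoints F
  have huP : (u : G) • P = P := by
    rw [Sylow.smul_eq_iff_mem_normalizer]
    exact (cent_le_norm h hx hx1).1 u.2
  have hfix : Nat.card (MulAction.fixedPoints (zpowers x) F) = 1 := by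
    haveI : Unique (MulAction.fixedPoints (zpowers x) F) := by
      refine ⟨⟨⟨⟨P, huP⟩, ?_⟩⟩, ?_⟩
      · intro z
        apply Subtype.ext
        change (z : G) • P = P
        rw [Sylow.smul_eq_iff_mem_normalizer]
        have : zpowers x ≤ (P : Subgroup G) := by rw [zpowers_le]; exact hx
        exact le_normalizer (this z.2)
      · rintro ⟨⟨Q, hQ⟩, hQf⟩
        apply Subtype.ext
        apply Subtype.ext
        change Q = P
        have h1 := congrArg Subtype.val (hQf ⟨x, mem_zpowers x⟩)
        have h3 : x • Q = Q := h1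
        rw [Sylow.smul_eq_iff_mem_normalizer] at h3
        -- `x` is a 3-element normalizing `Q`
        have h4 : x ∈ (Q : Subgroup G) := by
          have h5 := hpg.inf_normalizer_sylow Q
          have h6 : x ∈ zpowers x ⊓ normalizer ((Q : Subgroup G) : Set G) := ⟨mem_zpowers x, h3⟩
          have h7 : x ∈ zpowers x ⊓ (Q : Subgroup G) := by rw [← h5]; exact h6
          exact h7.2
        exact ti3 h hx h4 hx1
    exact Nat.card_unique
  rw [hfix] at hmod
  -- support of size `2 (n + 1)`, `n + 1` even
  have hn1 : n = 0 ∨ n = 1 ∨ n = 2 ∨ n = 3 ∨ n = 4 := by omega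
  have hmod' : Nat.card F % 3 = 1 := hmod
  rcases hn1 with rfl | rfl | rfl | rfl | rfl
  · revert hs; decide
  · omega
  · revert hs; decide
  · omega
  · revert hs; decide

theorem hallTI (P : Sylow 3 G) : BSW.HallTI (P : Subgroup G) := by
  haveI : Fact (Nat.Prime 3) := ⟨by norm_num⟩
  -- elements of order three
  have key3 : ∀ x ∈ (P : Subgroup G), orderOf x = 3 → centralizer ({x} : Set G) = P := by
    intro x hx hx3
    have hx1 : x ≠ 1 := by
      rintro rfl; rw [orderOf_one] at hx3; omega
    have h1 := (cent_le_norm h hx hx1).2.resolve_right (no6 h hx hx3)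
    symm
    apply Subgroup.eq_of_le_of_card_ge (le_cent h hx)
    rw [h1, cardP3 h P]
  refine ⟨?_, ?_, ?_, comm3 h P⟩
  · intro hc
    have h1 := cardP3 h P
    have h2 : Nat.card (P : Subgroup G) = Nat.card (⊥ : Subgroup G) := by rw [hc]
    rw [card_bot] at h2
    omega
  · have h1 := card_mul_index (P : Subgroup G)
    rw [cardP3 h P, h] at h1
    have h2 : (P : Subgroup G).index = 40 := by omega
    rw [cardP3 h P, h2]; norm_num
  · intro z hz hz1 g hg
    have hd := card_dvd9 h hz
    have hz3 : orderOf z = 3 ∨ orderOf z = 9 := by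
      have h9 : (9 : ℕ) = 3 ^ 2 := by norm_num
      rw [h9] at hd
      obtain ⟨i, hi, hi2⟩ := (Nat.dvd_prime_pow (by norm_num : Nat.Prime 3)).mp hd
      interval_cases i
      · exact absurd (orderOf_eq_one_iff.mp (by rw [hi2, pow_zero])) hz1
      · left; rw [hi2]; norm_num
      · right; rw [hi2]; norm_num
    rcases hz3 with h3 | h9
    · rw [← key3 z hz h3, mem_centralizer_singleton_iff]; exact hg
    · have h3 : orderOf (z ^ 3) = 3 := by
        rw [orderOf_pow_of_dvd (by norm_num) (by rw [h9]; norm_num), h9]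
      rw [← key3 (z ^ 3) (pow_mem hz 3) h3, mem_centralizer_singleton_iff]
      exact ((show Commute g z from hg).pow_right 3).eq

end Cfsg.Agent.H9.Ord360
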