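import Cfsg.Agent.H9.Ord360B
import Cfsg.Agent.H9.BSWQ

set_option autoImplicit false
set_option linter.unusedSectionVars false
set_option linter.style.haveILetI false
set_option linter.unusedVariables false
set_option linter.unusedSimpArgs false
set_option maxHeartbeats 1000000

/-! Simple groups with an abelian Hall TI subgroup of order `q` and order `q (q² - 1) / 2`. -/

open Cfsg Subgroup

namespace Cfsg.Agent.H9.Ord360

universe u

open BSW BSW.HallTI

variable {G : Type u} [Group G] [Finite G] [IsSimpleGroup G]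

theorem no_regular_simple {Ω : Type u} [MulAction G Ω] {q : ℕ} (hq : 2 ≤ q) (hG : q + 1 < Nat.card G) (hΩ : Nat.card Ω = q + 1) :
    ∀ N : Subgroup G, N.Normal → MulAction.IsPretransitive N Ω → ∃ a : Ω, MulAction.stabilizer N a ≠ ⊥ := by
  classical
  intro N hN htr
  by_contra hcon
  push Not at hcon
  have hne : Nonempty Ω := by
    by_contra hc
    rw [not_nonempty_iff] at hc
    rw [Nat.card_of_isEmpty] at hΩ
    omega
  obtain ⟨a⟩ := hne
  have hcard : Nat.card N = q + 1 := by
    rw [← hΩ]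
    apply Nat.card_congr (Equiv.ofBijective (fun n : N => n • a) ?_)
    constructor
    · intro n n' hnn
      have h7 : n'⁻¹ * n ∈ MulAction.stabilizer N a := by
        rw [MulAction.mem_stabilizer_iff, mul_smul]
        have : n • a = n' • a := hnn
        rw [this, inv_smul_smul]
      rw [hcon, mem_bot] at h7
      exact (inv_mul_eq_one.mp h7).symm
    · intro x
      exact MulAction.exists_smul_eq N a x
  rcases hN.eq_bot_or_eq_top with h | h
  · rw [h, card_bot] at hcard; omega
  · rw [h, card_top] at hcard; omega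

theorem zass_simple {A : Subgroup G} (hA : HallTI A) {q f : ℕ} (hq : Nat.card A = q)
    (hG : 2 * Nat.card G + q = q * (q * q)) (hqf : q = 2 * f + 1) (hf : 2 ≤ f) :
    IsZassenhausGroup G (G ⧸ normalizer (A : Set G)) ∧ (normalizer (A : Set G)).index = q + 1 ∧
      A.relIndex (normalizer (A : Set G)) = f := by
  classical
  have h1 := hA.card_eq
  rw [hq] at h1
  have h2 : 2 * (A.relIndex (normalizer (A : Set G)) * (normalizer (A : Set G)).index) + 1 = q * q := by
    apply Nat.eq_of_mul_eq_mul_left (show 0 < q by omega)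
    rw [← hG, h1]; ring
  have h3 := hA.relIndex_le
  have h4 := hA.index_dvd
  rw [hq] at h3 h4
  obtain ⟨h5, h6⟩ := arith1 (by omega) (Nat.pos_of_ne_zero index_ne_zero_of_finite) h4 h3 h2
  have hfe : A.relIndex (normalizer (A : Set G)) = f := by omega
  refine ⟨⟨?_, hA.two_trans hq h6, ?_, ?_, ?_⟩, h6, hfe⟩
  · constructor
    intro g g' hgg
    have hfix : ∀ x : G ⧸ normalizer (A : Set G), (g'⁻¹ * g) • x = x := by
      intro x
      rw [mul_smul, hgg x, inv_smul_smul]
    have h7 : 2 < Nat.card (G ⧸ normalizer (A : Set G)) := by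
      rw [← Subgroup.index, h6]; omega
    letI : Fintype (G ⧸ normalizer (A : Set G)) := Fintype.ofFinite _
    rw [Nat.card_eq_fintype_card, Fintype.two_lt_card_iff] at h7
    obtain ⟨a, b, c, hab, hac, hbc⟩ := h7
    have h8 := hA.three_fix hq h6 hab hbc hac (hfix a) (hfix b) (hfix c)
    exact (inv_mul_eq_one.mp h8).symm
  · intro g a b c hab hbc hac ha hb hc
    exact hA.three_fix hq h6 hab hbc hac ha hb hc
  · have h7 : 1 < Nat.card (G ⧸ normalizer (A : Set G)) := by
      rw [← Subgroup.index, h6]; omega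
    haveI := Finite.one_lt_card_iff_nontrivial.mp h7
    obtain ⟨b, hb⟩ := _root_.exists_ne (pt A)
    have h8 := hA.card_stab hq h6 hfe (Ne.symm hb)
    have h9 : 1 < Nat.card ↥(MulAction.stabilizer G (pt A) ⊓ MulAction.stabilizer G b) := by
      rw [h8]; omega
    haveI := Finite.one_lt_card_iff_nontrivial.mp h9
    obtain ⟨z, hz⟩ := _root_.exists_ne (1 : ↥(MulAction.stabilizer G (pt A) ⊓ MulAction.stabilizer G b))
    exact ⟨z, fun e => hz (Subtype.ext e), pt A, b, Ne.symm hb, z.2.1, z.2.2⟩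
  · refine no_regular_simple (q := q) (by omega) ?_ (by rw [← Subgroup.index]; exact h6)
    have : 5 ≤ q := by omega
    nlinarith

/-- recognition of `PSL(2,q)` with `q ≡ 1 mod 4` -/
theorem psl_simple {A : Subgroup G} (hA : HallTI A) {q f : ℕ} (hq : Nat.card A = q)
    (hG : 2 * Nat.card G + q = q * (q * q)) (hqf : q = 2 * f + 1) (hf : 2 ≤ f) (he : Even f) :
    ∃ (F : Type) (_ : Field F) (_ : Fintype F), ringChar F ≠ 2 ∧ Fintype.card F = q ∧
      Nonempty (G ≃* Matrix.ProjectiveSpecialLinearGroup (Fin 2) F) := by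
  obtain ⟨hZ, hi, hfr⟩ := zass_simple hA hq hG hqf hf
  have hcard : Nat.card (G ⧸ normalizer (A : Set G)) = q + 1 := by rw [← Subgroup.index]; exact hi
  have h7 : 1 < Nat.card (G ⧸ normalizer (A : Set G)) := by rw [hcard]; omega
  haveI := Finite.one_lt_card_iff_nontrivial.mp h7
  obtain ⟨b, hb⟩ := _root_.exists_ne (pt A)
  have hst := hA.card_stab hq hi hfr (Ne.symm hb)
  obtain ⟨F, iF, iFin, h1, h2, h3⟩ := H20.Zass.psl_of_even hZ (Ne.symm hb)
    (by rw [hst]; exact he) (by rw [hst, hcard]; omega)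
  exact ⟨F, iF, iFin, h1, by omega, h3⟩

theorem order360 (h : Nat.card G = 360) : ∃ (F : Type) (_ : Field F) (_ : Fintype F), Fintype.card F = 9 ∧
      Nonempty (G ≃* Matrix.ProjectiveSpecialLinearGroup (Fin 2) F) := by
  obtain ⟨P⟩ : Nonempty (Sylow 3 G) := inferInstance
  obtain ⟨F, iF, iFin, h1, h2, h3⟩ := psl_simple (hallTI h P) (q := 9) (f := 4) (cardP3 h P) (by rw [h]) rfl
    (by norm_num) (by decide)
  exact ⟨F, iF, iFin, h2, h3⟩

theorem iso360 (h : Nat.card G = 360) : Nonempty (G ≃* alternatingGroup (Fin 6)) := by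
  obtain ⟨F, iF, iFin, hF, ⟨e⟩⟩ := order360 h
  obtain ⟨F', iF', iFin', hF', ⟨e'⟩⟩ := BSW.Alt6.psl
  obtain ⟨e2⟩ := BSW.psl_iso_of_card (F := F) (F' := F') (by rw [hF, hF'])
  exact ⟨(e.trans e2).trans e'.symm⟩

end Cfsg.Agent.H9.Ord360
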