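import Cfsg.Agent.H9.SylowCoord
import Cfsg.Agent.H9.SimpleNum
import Cfsg.Agent.H9.Syl
import Cfsg.Agent.H4.ProjLine
import Cfsg.Agent.H5.Small

set_option autoImplicit false
set_option linter.unusedSectionVars false
set_option linter.style.haveILetI false
set_option linter.unusedVariables false
set_option linter.unusedSimpArgs false

/-! Simple groups with `p + 1` Sylow `p`-subgroups of order `p` as permutation groups of the
projective line over `ZMod p`. -/

namespace Cfsg.Agent.H9.PSLModel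

open Subgroup MulAction OnePoint

variable {G : Type*} [Group G] [Finite G] [IsSimpleGroup G] (hG : ¬ IsMulCommutative G) {p : ℕ} [Fact p.Prime]
include hG

theorem exists_model (P : Sylow p G) (hP : Nat.card (P : Subgroup G) = p) (hn : Nat.card (Sylow p G) = 1 + 1 * p) :
    ∃ (ρ : G →* Equiv.Perm (OnePoint (ZMod p))) (m : normalizer ((P : Subgroup G) : Set G) →* ZMod p)
      (c : normalizer ((P : Subgroup G) : Set G) → ZMod p), Function.Injective ρ ∧
      (∀ g, ρ g ∞ = ∞ ↔ g ∈ normalizer ((P : Subgroup G) : Set G)) ∧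
      (∀ (h : normalizer ((P : Subgroup G) : Set G)) (z : ZMod p),
        ρ h (z : OnePoint (ZMod p)) = ((m h * z + c h : ZMod p) : OnePoint (ZMod p))) ∧
      (∀ h, m h = 1 ↔ (h : G) ∈ centralizer ((P : Subgroup G) : Set G)) ∧
      ∀ x : OnePoint (ZMod p), ∃ g, ρ g ∞ = x := by
  classical
  obtain ⟨e, φ, m, c, he, hm⟩ := SylowCoord.exists_coord P hP hn
  let e' : {Q : Sylow p G // Q ≠ P} ≃ ZMod p := e.trans (Equiv.uniqueProd (ZMod p) (Fin 1))
  let E : Sylow p G ≃ OnePoint (ZMod p) := (Equiv.optionSubtypeNe P).symm.trans (Equiv.optionCongr e')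
  have hEP : E P = ∞ := by
    change Option.map _ ((Equiv.optionSubtypeNe P).symm P) = none
    rw [Equiv.optionSubtypeNe_symm_self]; rfl
  have hEQ : ∀ (Q : Sylow p G) (h : Q ≠ P), E Q = ((e' ⟨Q, h⟩ : ZMod p) : OnePoint (ZMod p)) := by
    intro Q h
    change Option.map _ ((Equiv.optionSubtypeNe P).symm Q) = _
    rw [Equiv.optionSubtypeNe_symm_of_ne h]; rfl
  let ρ : G →* Equiv.Perm (OnePoint (ZMod p)) := E.permCongrHom.toMonoidHom.comp (toPermHom G (Sylow p G))
  have hρ : ∀ g x, ρ g x = E (g • E.symm x) := fun g x => rfl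
  have hρE : ∀ g Q, ρ g (E Q) = E (g • Q) := fun g Q => by rw [hρ, Equiv.symm_apply_apply]
  have hdvd : p ∣ Nat.card G := by
    have h1 := (P : Subgroup G).card_subgroup_dvd_card
    rwa [hP] at h1
  refine ⟨ρ, m, fun h => c h 0, ?_, ?_, ?_, hm, ?_⟩
  · have h1 : Function.Injective (toPermHom G (Sylow p G)) :=
      Simple.perm_injective hG (Simple.exists_smul_ne hG hdvd)
    exact E.permCongrHom.injective.comp h1
  · intro g
    rw [← hEP, hρE]
    constructor
    · intro h
      exact Sylow.smul_eq_iff_mem_normalizer.mp (E.injective h)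
    · intro h
      rw [Sylow.smul_eq_iff_mem_normalizer.mpr h]
  · intro h z
    have hx : ∃ Q : {Q : Sylow p G // Q ≠ P}, e' Q = z := ⟨e'.symm z, e'.apply_symm_apply z⟩
    obtain ⟨⟨Q, hQ⟩, rfl⟩ := hx
    rw [← hEQ Q hQ, hρE, hEQ _ (SylowCoord.smul_ne h.2 hQ)]
    have h1 := he h ⟨Q, hQ⟩
    have h2 : e' ⟨(h : G) • Q, SylowCoord.smul_ne h.2 hQ⟩ = (e ⟨(h : G) • Q, SylowCoord.smul_ne h.2 hQ⟩).2 := rfl
    rw [h2, h1]
    have h3 : (e ⟨Q, hQ⟩).1 = 0 := Subsingleton.elim _ _
    simp only [h3]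
    rfl
  · intro x
    obtain ⟨Q, rfl⟩ := E.surjective x
    obtain ⟨g, hg⟩ := MulAction.exists_smul_eq G P Q
    exact ⟨g, by rw [← hEP, hρE, hg]⟩

end Cfsg.Agent.H9.PSLModel
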