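import Cfsg.Agent.H9.PSLModel
import Cfsg.Agent.H9.Parity

set_option autoImplicit false
set_option linter.unusedSectionVars false
set_option linter.style.haveILetI false
set_option linter.unusedVariables false
set_option linter.unusedSimpArgs false

/-! Simple groups of order `p (p^2-1) / 2` with `p + 1` Sylow `p`-subgroups. -/

namespace Cfsg.Agent.H9.PSLModel

open Subgroup MulAction OnePoint

/-- the data of a Zassenhaus type action on the projective line over `ZMod p` -/
structure Model (G : Type*) [Group G] (p : ℕ) (ρ : G →* Equiv.Perm (OnePoint (ZMod p))) : Prop where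
  inj : Function.Injective ρ
  aff : ∀ h, ρ h ∞ = ∞ → ∃ a b : ZMod p, a ≠ 0 ∧ IsSquare a ∧
    ∀ z : ZMod p, ρ h (z : OnePoint (ZMod p)) = ((a * z + b : ZMod p) : OnePoint (ZMod p))
  ex : ∀ a b : ZMod p, a ≠ 0 → IsSquare a → ∃ h, ρ h ∞ = ∞ ∧
    ∀ z : ZMod p, ρ h (z : OnePoint (ZMod p)) = ((a * z + b : ZMod p) : OnePoint (ZMod p))
  swap : ∃ t, ρ t ∞ = ((0 : ZMod p) : OnePoint (ZMod p)) ∧ ρ t ((0 : ZMod p) : OnePoint (ZMod p)) = ∞

variable {G : Type*} [Group G] [Finite G] [IsSimpleGroup G] (hG : ¬ IsMulCommutative G) {p : ℕ} [Fact p.Prime]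
include hG

theorem exists_model' (P : Sylow p G) (hP : Nat.card (P : Subgroup G) = p) (hn : Nat.card (Sylow p G) = p + 1)
    (hp2 : p ≠ 2) (hN : 2 * Nat.card (normalizer ((P : Subgroup G) : Set G)) = p * (p - 1)) :
    ∃ ρ : G →* Equiv.Perm (OnePoint (ZMod p)), Model G p ρ ∧
      (∀ g, ρ g ∞ = ∞ ↔ g ∈ normalizer ((P : Subgroup G) : Set G)) ∧
      (centralizer ((P : Subgroup G) : Set G)) = P := by
  classical
  have hpp : p.Prime := Fact.out
  haveI : NeZero p := ⟨hpp.ne_zero⟩
  have h3p : 3 ≤ p := by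
    have := hpp.two_le
    omega
  obtain ⟨ρ, m, c, hinj, hinf, hact, hm, htr⟩ := exists_model hG P hP (by rw [hn]; ring)
  have hCN : (centralizer ((P : Subgroup G) : Set G)) ≤ (normalizer ((P : Subgroup G) : Set G)) := centralizer_le_normalizer _
  have hPC : (P : Subgroup G) ≤ (centralizer ((P : Subgroup G) : Set G)) := Syl.le_centralizer_of_card_prime hP
  -- |(centralizer ((P : Subgroup G) : Set G))| = p
  have hCc : Nat.card (centralizer ((P : Subgroup G) : Set G)) = p := by
    apply le_antisymm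
    · let f : (centralizer ((P : Subgroup G) : Set G)) → ZMod p := fun x => c ⟨x.1, hCN x.2⟩
      have hf : Function.Injective f := by
        intro x y hxy
        apply Subtype.ext
        apply hinj
        ext w
        cases w with
        | infty => rw [(hinf x.1).mpr (hCN x.2), (hinf y.1).mpr (hCN y.2)]
        | coe z =>
          have h1 := hact ⟨x.1, hCN x.2⟩ z
          have h2 := hact ⟨y.1, hCN y.2⟩ z
          have h3 : m ⟨x.1, hCN x.2⟩ = 1 := (hm _).mpr x.2
          have h4 : m ⟨y.1, hCN y.2⟩ = 1 := (hm _).mpr y.2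
          have h5 : c ⟨x.1, hCN x.2⟩ = c ⟨y.1, hCN y.2⟩ := hxy
          rw [h3, h5] at h1
          rw [h4] at h2
          exact h1.trans h2.symm
      have := Nat.card_le_card_of_injective f hf
      rwa [Nat.card_zmod] at this
    · have := card_le_of_le hPC
      rwa [hP] at this
  have hCP : (centralizer ((P : Subgroup G) : Set G)) = P := by
    symm
    apply eq_of_le_of_card_ge hPC
    rw [hCc, hP]
  -- translations
  have htransl : ∀ b : ZMod p, ∃ u ∈ (normalizer ((P : Subgroup G) : Set G)), ρ u ∞ = ∞ ∧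
      ∀ z : ZMod p, ρ u (z : OnePoint (ZMod p)) = ((1 * z + b : ZMod p) : OnePoint (ZMod p)) := by
    let f : (centralizer ((P : Subgroup G) : Set G)) → ZMod p := fun x => c ⟨x.1, hCN x.2⟩
    have hf : Function.Injective f := by
      intro x y hxy
      apply Subtype.ext
      apply hinj
      ext w
      cases w with
      | infty => rw [(hinf x.1).mpr (hCN x.2), (hinf y.1).mpr (hCN y.2)]
      | coe z =>
        have h1 := hact ⟨x.1, hCN x.2⟩ z
        have h2 := hact ⟨y.1, hCN y.2⟩ z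
        have h3 : m ⟨x.1, hCN x.2⟩ = 1 := (hm _).mpr x.2
        have h4 : m ⟨y.1, hCN y.2⟩ = 1 := (hm _).mpr y.2
        have h5 : c ⟨x.1, hCN x.2⟩ = c ⟨y.1, hCN y.2⟩ := hxy
        rw [h3, h5] at h1
        rw [h4] at h2
        exact h1.trans h2.symm
    have hb : Function.Bijective f := by
      rw [Nat.bijective_iff_injective_and_card]
      exact ⟨hf, by rw [Nat.card_zmod]; exact hCc⟩
    intro b
    obtain ⟨x, hx⟩ := hb.2 b
    refine ⟨x.1, hCN x.2, (hinf x.1).mpr (hCN x.2), fun z => ?_⟩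
    have h1 := hact ⟨x.1, hCN x.2⟩ z
    have h3 : m ⟨x.1, hCN x.2⟩ = 1 := (hm _).mpr x.2
    have h5 : c ⟨x.1, hCN x.2⟩ = b := hx
    rw [h3, h5] at h1
    exact h1
  -- the range of m
  let m' : (normalizer ((P : Subgroup G) : Set G)) →* (ZMod p)ˣ := m.toHomUnits
  have hm' : ∀ h, ((m' h : (ZMod p)ˣ) : ZMod p) = m h := fun h => rfl
  have hker : Nat.card m'.ker = p := by
    have h1 : m'.ker = (centralizer ((P : Subgroup G) : Set G)).subgroupOf (normalizer ((P : Subgroup G) : Set G)) := by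
      ext h
      rw [MonoidHom.mem_ker, mem_subgroupOf, ← hm h, ← hm' h, Units.val_eq_one]
    rw [h1, Nat.card_congr (subgroupOfEquivOfLe hCN).toEquiv, hCc]
  have hrange : 2 * Nat.card m'.range = p - 1 := by
    have h1 := card_mul_index m'.ker
    rw [index_ker, hker] at h1
    have h2 : p * (2 * Nat.card m'.range) = p * (p - 1) := by
      rw [← hN, ← h1]; ring
    exact Nat.eq_of_mul_eq_mul_left hpp.pos h2
  have hidx : m'.range.index = 2 := by
    have h1 := card_mul_index m'.range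
    rw [Nat.card_eq_fintype_card (α := (ZMod p)ˣ), ZMod.card_units, ← hrange, mul_comm 2] at h1
    exact Nat.eq_of_mul_eq_mul_left Nat.card_pos h1
  have hsq : ∀ a : ZMod p, a ≠ 0 → IsSquare a → ∃ h : (normalizer ((P : Subgroup G) : Set G)), m h = a := by
    rintro a ha ⟨d, rfl⟩
    have hd : d ≠ 0 := by rintro rfl; simp at ha
    have h1 := sq_mem_of_index_two hidx (Units.mk0 d hd)
    obtain ⟨h, hh⟩ := h1
    refine ⟨h, ?_⟩
    rw [← hm', hh]
    simp [pow_two]
  have hsq' : ∀ h : (normalizer ((P : Subgroup G) : Set G)), IsSquare (m h) := by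
    intro h
    have h1 : (m' h) ^ (Nat.card m'.range) = 1 := by
      have h2 : (⟨m' h, ⟨h, rfl⟩⟩ : m'.range) ^ Nat.card m'.range = 1 := pow_card_eq_one'
      exact congrArg Subtype.val h2
    have h2 : Nat.card m'.range = p / 2 := by
      have := hpp.eq_two_or_odd
      omega
    rw [h2] at h1
    have h3 := (ZMod.euler_criterion_units p (m' h)).mpr h1
    obtain ⟨y, hy⟩ := h3
    refine ⟨(y : ZMod p), ?_⟩
    rw [← hm', ← hy]; simp [pow_two]
  have hm0 : ∀ h : (normalizer ((P : Subgroup G) : Set G)), m h ≠ 0 := fun h => (m' h).ne_zero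
  refine ⟨ρ, ⟨hinj, ?_, ?_, ?_⟩, hinf, hCP⟩
  · intro h hh
    have hhN := (hinf h).mp hh
    exact ⟨m ⟨h, hhN⟩, c ⟨h, hhN⟩, hm0 _, hsq' _, fun z => hact ⟨h, hhN⟩ z⟩
  · intro a b ha hsa
    obtain ⟨h, hh⟩ := hsq a ha hsa
    obtain ⟨u, huN, hu1, hu2⟩ := htransl (b - c h)
    refine ⟨u * h, ?_, ?_⟩
    · rw [map_mul, Equiv.Perm.mul_apply, (hinf h).mpr h.2, hu1]
    · intro z
      rw [map_mul, Equiv.Perm.mul_apply, hact, hu2, hh]
      congr 1; ring
  · -- an element swapping
    obtain ⟨g, hg⟩ := htr ((0 : ZMod p) : OnePoint (ZMod p))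
    -- ρ g⁻¹ 0 = ∞
    have hg0 : ρ g⁻¹ ((0 : ZMod p) : OnePoint (ZMod p)) = ∞ := by
      rw [map_inv, Equiv.Perm.inv_eq_iff_eq, hg]
    have hgi : ρ g⁻¹ ∞ ≠ ∞ := by
      intro h
      have h1 := (ρ g⁻¹).injective (h.trans hg0.symm)
      exact infty_ne_coe _ h1
    obtain ⟨b, hb⟩ := ne_infty_iff_exists.mp hgi
    obtain ⟨u, huN, hu1, hu2⟩ := htransl (-b)
    refine ⟨u * g⁻¹, ?_, ?_⟩
    · rw [map_mul, Equiv.Perm.mul_apply, ← hb, hu2]
      congr 1; ring
    · rw [map_mul, Equiv.Perm.mul_apply, hg0, hu1]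

end Cfsg.Agent.H9.PSLModel
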