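import Cfsg.Agent.H9.PSLModel2

set_option autoImplicit false
set_option linter.unusedSectionVars false
set_option linter.style.haveILetI false
set_option linter.unusedVariables false
set_option linter.unusedSimpArgs false

/-! The closure relation and the final identification with `PSL(2,p)`. -/

namespace Cfsg.Agent.H9.PSLModel

open Subgroup MulAction OnePoint

variable {G : Type*} [Group G] {p : ℕ} [Fact p.Prime] {ρ : G →* Equiv.Perm (OnePoint (ZMod p))}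

/-- an element fixing both `∞` and `0` is multiplication by a square -/
theorem Model.mul_of_fix (M : Model G p ρ) {h : G} (h1 : ρ h ∞ = ∞)
    (h2 : ρ h ((0 : ZMod p) : OnePoint (ZMod p)) = ((0 : ZMod p) : OnePoint (ZMod p))) :
    ∃ a : ZMod p, a ≠ 0 ∧ IsSquare a ∧ ∀ z : ZMod p, ρ h (z : OnePoint (ZMod p)) = ((a * z : ZMod p) : OnePoint (ZMod p)) := by
  obtain ⟨a, b, ha, hs, hab⟩ := M.aff h h1
  refine ⟨a, ha, hs, fun z => ?_⟩
  have hb : b = 0 := by
    have := hab 0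
    rw [h2, mul_zero, zero_add] at this
    exact (OnePoint.coe_injective this).symm
  rw [hab, hb, add_zero]

/-- the relation satisfied by the swapping element -/
theorem Model.exists_fun (M : Model G p ρ) (hp2 : p ≠ 2) :
    ∃ (t s : G) (f : ZMod p → ZMod p) (k : ℕ) (g0 : ZMod p),
      ρ t ∞ = ((0 : ZMod p) : OnePoint (ZMod p)) ∧ ρ t ((0 : ZMod p) : OnePoint (ZMod p)) = ∞ ∧
      (∀ z : ZMod p, z ≠ 0 → f z ≠ 0 ∧ ρ t (z : OnePoint (ZMod p)) = ((f z : ZMod p) : OnePoint (ZMod p))) ∧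
      (ρ s ∞ = ∞ ∧ ∀ z : ZMod p, ρ s (z : OnePoint (ZMod p)) = ((g0 ^ 2 * z : ZMod p) : OnePoint (ZMod p))) ∧
      orderOf g0 = p - 1 ∧ g0 ≠ 0 ∧ k < (p - 1) / 2 ∧ t * s * t⁻¹ = s ^ k ∧
      (∀ z : ZMod p, z ≠ 0 → f (g0 ^ 2 * z) = (g0 ^ 2) ^ k * f z) ∧
      ∃ z0 a : ZMod p, z0 ≠ 0 ∧ f z0 = -1 ∧ IsSquare a ∧ a ≠ 0 ∧ - f 1 = a * f (-z0) ∧
        ∀ z : ZMod p, z ≠ 0 → z ≠ z0 → f (f z + 1) - f 1 = a * f (z - z0) := by
  classical
  have hpp : p.Prime := Fact.out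
  haveI : NeZero p := ⟨hpp.ne_zero⟩
  have h3p : 3 ≤ p := by
    have := hpp.two_le
    omega
  have hodd : p % 2 = 1 := by
    rcases hpp.eq_two_or_odd with h | h
    · exact absurd h hp2
    · exact h
  obtain ⟨t, ht1, ht2⟩ := M.swap
  have htf : ∀ z : ZMod p, z ≠ 0 → ∃ w : ZMod p, w ≠ 0 ∧ ρ t (z : OnePoint (ZMod p)) = ((w : ZMod p) : OnePoint (ZMod p)) := by
    intro z hz
    have h1 : ρ t (z : OnePoint (ZMod p)) ≠ ∞ := by
      intro h
      apply hz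
      have := (ρ t).injective (h.trans ht2.symm)
      exact OnePoint.coe_injective this
    obtain ⟨w, hw⟩ := ne_infty_iff_exists.mp h1
    refine ⟨w, ?_, hw.symm⟩
    rintro rfl
    have := (ρ t).injective (hw.symm.trans ht1.symm)
    exact coe_ne_infty _ this
  have htf' : ∀ z : ZMod p, ∃ w : ZMod p, z ≠ 0 → w ≠ 0 ∧ ρ t (z : OnePoint (ZMod p)) = ((w : ZMod p) : OnePoint (ZMod p)) := by
    intro z
    by_cases hz : z = 0
    · exact ⟨0, fun h => absurd hz h⟩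
    · obtain ⟨w, hw⟩ := htf z hz
      exact ⟨w, fun _ => hw⟩
  choose f hf using htf'
  obtain ⟨g, hg⟩ := IsCyclic.exists_generator (α := (ZMod p)ˣ)
  have hgo : orderOf g = p - 1 := by
    rw [orderOf_eq_card_of_forall_mem_zpowers hg, Nat.card_eq_fintype_card, ZMod.card_units]
  have hg0 : ((g : (ZMod p)ˣ) : ZMod p) ≠ 0 := g.ne_zero
  obtain ⟨s, hs1, hs2⟩ := M.ex (((g : (ZMod p)ˣ) : ZMod p) ^ 2) 0 (pow_ne_zero 2 hg0) ⟨(g : ZMod p), by ring⟩
  have hs2' : ∀ z : ZMod p, ρ s (z : OnePoint (ZMod p)) = ((((g : (ZMod p)ˣ) : ZMod p) ^ 2 * z : ZMod p) : OnePoint (ZMod p)) := by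
    intro z; rw [hs2, add_zero]
  have ht1' : ρ t⁻¹ ((0 : ZMod p) : OnePoint (ZMod p)) = ∞ := by
    rw [map_inv, Equiv.Perm.inv_eq_iff_eq, ht1]
  have ht2' : ρ t⁻¹ ∞ = ((0 : ZMod p) : OnePoint (ZMod p)) := by
    rw [map_inv, Equiv.Perm.inv_eq_iff_eq, ht2]
  -- conjugation
  have hcon1 : ρ (t * s * t⁻¹) ∞ = ∞ := by
    rw [map_mul, map_mul, Equiv.Perm.mul_apply, Equiv.Perm.mul_apply, ht2', hs2', mul_zero, ht2]
  have hcon2 : ρ (t * s * t⁻¹) ((0 : ZMod p) : OnePoint (ZMod p)) = ((0 : ZMod p) : OnePoint (ZMod p)) := by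
    rw [map_mul, map_mul, Equiv.Perm.mul_apply, Equiv.Perm.mul_apply, ht1', hs1, ht1]
  obtain ⟨a, ha, hsa, hacon⟩ := M.mul_of_fix hcon1 hcon2
  obtain ⟨d, rfl⟩ := hsa
  have hd : d ≠ 0 := by rintro rfl; simp at ha
  obtain ⟨i, hi⟩ := (mem_powers_iff_mem_zpowers.mpr (hg (Units.mk0 d hd)))
  have hi' : ((g : (ZMod p)ˣ) : ZMod p) ^ i = d := by
    have := congrArg (fun u : (ZMod p)ˣ => (u : ZMod p)) hi
    simpa using this
  have hpm : 2 * ((p - 1) / 2) = p - 1 := by omega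
  have hgp : ((g : (ZMod p)ˣ) : ZMod p) ^ (p - 1) = 1 := ZMod.pow_card_sub_one_eq_one hg0
  -- powers of s
  have hspow : ∀ (j : ℕ), ρ (s ^ j) ∞ = ∞ ∧ ∀ (z : ZMod p), ρ (s ^ j) (z : OnePoint (ZMod p)) =
      (((((g : (ZMod p)ˣ) : ZMod p) ^ 2) ^ j * z : ZMod p) : OnePoint (ZMod p)) := by
    intro j
    induction j with
    | zero => simp
    | succ j ih =>
      refine ⟨?_, fun z => ?_⟩
      · rw [pow_succ, map_mul, Equiv.Perm.mul_apply, hs1, ih.1]
      · rw [pow_succ, map_mul, Equiv.Perm.mul_apply, hs2', ih.2]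
        congr 1; ring
  have hext : ∀ x y : G, ρ x ∞ = ρ y ∞ → (∀ z : ZMod p, ρ x (z : OnePoint (ZMod p)) = ρ y (z : OnePoint (ZMod p))) → x = y := by
    intro x y h1 h2
    apply M.inj
    ext w
    cases w with
    | infty => exact h1
    | coe z => exact h2 z
  have hk : t * s * t⁻¹ = s ^ (i % ((p - 1) / 2)) := by
    apply hext
    · rw [hcon1, (hspow _).1]
    · intro z
      rw [hacon, (hspow _).2]
      congr 2
      rw [← hi', ← pow_add, ← two_mul, pow_mul]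
      have h1 : (((g : (ZMod p)ˣ) : ZMod p) ^ 2) ^ ((p - 1) / 2) = 1 := by
        rw [← pow_mul, hpm, hgp]
      conv_lhs => rw [← Nat.div_add_mod i ((p - 1) / 2), pow_add, pow_mul, h1, one_pow, one_mul]
  have hfe : ∀ z : ZMod p, z ≠ 0 → f (((g : (ZMod p)ˣ) : ZMod p) ^ 2 * z) =
      (((g : (ZMod p)ˣ) : ZMod p) ^ 2) ^ (i % ((p - 1) / 2)) * f z := by
    intro z hz
    apply OnePoint.coe_injective
    have h1 : ((g : (ZMod p)ˣ) : ZMod p) ^ 2 * z ≠ 0 := mul_ne_zero (pow_ne_zero 2 hg0) hz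
    rw [← (hf _ h1).2, ← hs2', ← (hspow _).2, ← (hf z hz).2, ← hk, ← Equiv.Perm.mul_apply, ← map_mul,
      ← Equiv.Perm.mul_apply, ← map_mul]
    congr 2; group
  -- closure
  have hz0 : ∃ z0 : ZMod p, z0 ≠ 0 ∧ f z0 = -1 := by
    have h1 : ρ t⁻¹ ((-1 : ZMod p) : OnePoint (ZMod p)) ≠ ∞ := by
      intro h
      have := (ρ t⁻¹).injective (h.trans ht1'.symm)
      have h2 : (-1 : ZMod p) = 0 := OnePoint.coe_injective this
      simp at h2
    obtain ⟨z0, hz0⟩ := ne_infty_iff_exists.mp h1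
    have hz0' : z0 ≠ 0 := by
      rintro rfl
      have := (ρ t⁻¹).injective (hz0.symm.trans ht2'.symm)
      exact coe_ne_infty _ this
    refine ⟨z0, hz0', ?_⟩
    apply OnePoint.coe_injective
    rw [← (hf z0 hz0').2, hz0, ← Equiv.Perm.mul_apply, ← map_mul, mul_inv_cancel, map_one, Equiv.Perm.one_apply]
  obtain ⟨z0, hz0, hfz0⟩ := hz0
  obtain ⟨u1, hu1, hu1'⟩ := M.ex 1 1 one_ne_zero ⟨1, by ring⟩
  obtain ⟨uz, huz, huz'⟩ := M.ex 1 z0 one_ne_zero ⟨1, by ring⟩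
  obtain ⟨uf, huf, huf'⟩ := M.ex 1 (- f 1) one_ne_zero ⟨1, by ring⟩
  have h10 : (1 : ZMod p) ≠ 0 := one_ne_zero
  -- w = uf t u1 t uz
  have hw1 : ρ (uf * t * u1 * t * uz) ∞ = ((0 : ZMod p) : OnePoint (ZMod p)) := by
    simp only [map_mul, Equiv.Perm.mul_apply]
    rw [huz, ht1, hu1', mul_zero, zero_add, (hf 1 h10).2, huf']
    congr 1; ring
  have hw2 : ρ (uf * t * u1 * t * uz) ((0 : ZMod p) : OnePoint (ZMod p)) = ∞ := by
    simp only [map_mul, Equiv.Perm.mul_apply]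
    rw [huz', mul_zero, zero_add, (hf z0 hz0).2, hfz0, hu1']
    have : (1 * (-1) + 1 : ZMod p) = 0 := by ring
    rw [this, ht2, huf]
  have hv1 : ρ (uf * t * u1 * t * uz * t⁻¹) ∞ = ∞ := by
    rw [map_mul, Equiv.Perm.mul_apply, ht2', hw2]
  have hv2 : ρ (uf * t * u1 * t * uz * t⁻¹) ((0 : ZMod p) : OnePoint (ZMod p)) = ((0 : ZMod p) : OnePoint (ZMod p)) := by
    rw [map_mul, Equiv.Perm.mul_apply, ht1', hw1]
  obtain ⟨a, ha, hsa, hav⟩ := M.mul_of_fix hv1 hv2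
  have hrel : ∀ z : ZMod p, z ≠ 0 → ρ (uf * t * u1 * t * uz) (z : OnePoint (ZMod p)) = ((a * f z : ZMod p) : OnePoint (ZMod p)) := by
    intro z hz
    have h1 : uf * t * u1 * t * uz = (uf * t * u1 * t * uz * t⁻¹) * t := by group
    rw [h1, map_mul, Equiv.Perm.mul_apply, (hf z hz).2, hav]
  refine ⟨t, s, f, i % ((p - 1) / 2), (g : ZMod p), ht1, ht2, hf, ⟨hs1, hs2'⟩, ?_, hg0, Nat.mod_lt _ (by omega), hk, hfe,
    z0, a, hz0, hfz0, hsa, ha, ?_, ?_⟩
  · rw [← hgo, orderOf_units]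
  · have h1 := hrel (-z0) (neg_ne_zero.mpr hz0)
    apply OnePoint.coe_injective
    rw [← h1]
    simp only [map_mul, Equiv.Perm.mul_apply]
    rw [huz']
    have : (1 * (-z0) + z0 : ZMod p) = 0 := by ring
    rw [this, ht2, hu1, ht1, huf', mul_zero, zero_add]
  · intro z hz hzz
    have h1 := hrel (z - z0) (sub_ne_zero.mpr hzz)
    apply OnePoint.coe_injective
    rw [← h1]
    simp only [map_mul, Equiv.Perm.mul_apply]
    rw [huz']
    have h2 : (1 * (z - z0) + z0 : ZMod p) = z := by ring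
    have h3 : (1 * f z + 1 : ZMod p) = f z + 1 := by ring
    have h4 : f z + 1 ≠ 0 := by
      intro h5
      apply hzz
      have h6 : f z = f z0 := by rw [hfz0]; linear_combination h5
      apply OnePoint.coe_injective
      apply (ρ t).injective
      rw [(hf z hz).2, (hf z0 hz0).2, h6]
    rw [h2, (hf z hz).2, hu1', h3, (hf _ h4).2, huf']
    congr 1; ring

/-- if the swapping element is `z ↦ c / z` with `-c` a square then the image lies in `PSL(2,p)` -/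
theorem Model.range_le (M : Model G p ρ) {t : G} (ht1 : ρ t ∞ = ((0 : ZMod p) : OnePoint (ZMod p)))
    (ht2 : ρ t ((0 : ZMod p) : OnePoint (ZMod p)) = ∞) {d : ZMod p} (hd : d ≠ 0)
    (hf : ∀ z : ZMod p, z ≠ 0 → ρ t (z : OnePoint (ZMod p)) = ((-(d * d) * z⁻¹ : ZMod p) : OnePoint (ZMod p))) (g : G) :
    ρ g ∈ (H4.slPerm (ZMod p)).range := by
  classical
  have haff : ∀ h, ρ h ∞ = ∞ → ρ h ∈ (H4.slPerm (ZMod p)).range := by
    intro h hh
    obtain ⟨a, b, ha, ⟨e, rfl⟩, hab⟩ := M.aff h hh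
    have he : e ≠ 0 := by rintro rfl; simp at ha
    refine ⟨H4.mkSL e (b * e⁻¹) 0 e⁻¹ (by rw [mul_inv_cancel₀ he]; ring), ?_⟩
    ext x
    cases x with
    | infty => rw [H4.slPerm_mkSL_infty, if_pos rfl, hh]
    | coe z =>
      have hne : e⁻¹ ≠ 0 := inv_ne_zero he
      rw [H4.slPerm_mkSL_some, hab, zero_mul, zero_add, if_neg hne]
      congr 1
      field_simp
  have ht : ρ t ∈ (H4.slPerm (ZMod p)).range := by
    refine ⟨H4.mkSL 0 (-d) d⁻¹ 0 (by rw [neg_mul, mul_inv_cancel₀ hd]; ring), ?_⟩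
    have hne : d⁻¹ ≠ 0 := inv_ne_zero hd
    ext x
    cases x with
    | infty => rw [H4.slPerm_mkSL_infty, if_neg hne, ht1, zero_div]
    | coe z =>
      rw [H4.slPerm_mkSL_some]
      by_cases hz : z = 0
      · rw [hz, ht2]; simp
      · rw [hf z hz, add_zero, if_neg (mul_ne_zero hne hz)]
        congr 1
        field_simp
        ring
  by_cases hg : ρ g ∞ = ∞
  · exact haff g hg
  · obtain ⟨b, hb⟩ := ne_infty_iff_exists.mp hg
    obtain ⟨u, hu1, hu2⟩ := M.ex 1 (-b) one_ne_zero ⟨1, by ring⟩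
    have h1 : ρ (t⁻¹ * (u * g)) ∞ = ∞ := by
      rw [map_mul, Equiv.Perm.mul_apply, map_mul, Equiv.Perm.mul_apply, ← hb, hu2, map_inv, Equiv.Perm.inv_eq_iff_eq, ht1]
      congr 1; ring
    have h2 : ρ g = (ρ u)⁻¹ * (ρ t * ρ (t⁻¹ * (u * g))) := by
      rw [map_mul, map_mul, map_inv]; group
    rw [h2]
    exact mul_mem (inv_mem (haff u hu1)) (mul_mem ht (haff _ h1))

theorem Model.equiv (M : Model G p ρ) (hp2 : p ≠ 2) (hcard : 2 * Nat.card G = p * (p ^ 2 - 1))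
    (hr : ∀ g, ρ g ∈ (H4.slPerm (ZMod p)).range) :
    Nonempty (G ≃* Matrix.ProjectiveSpecialLinearGroup (Fin 2) (ZMod p)) := by
  classical
  have hpp : p.Prime := Fact.out
  have h1 := H5.card_PSL2 (F := ZMod p) (ZMod.card p)
  have hg : Nat.gcd 2 (p - 1) = 2 := by
    apply Nat.gcd_eq_left
    rcases hpp.eq_two_or_odd with h | h
    · exact absurd h hp2
    · omega
  rw [hg] at h1
  have h2 : Nat.card G = Nat.card (Matrix.ProjectiveSpecialLinearGroup (Fin 2) (ZMod p)) := by omega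
  let E := H4.pslEquivRange (ZMod p)
  haveI : Finite (Matrix.ProjectiveSpecialLinearGroup (Fin 2) (ZMod p)) := by
    apply Nat.finite_of_card_ne_zero
    rw [← h2]
    intro h0
    rw [h0] at hcard
    have h3 := hpp.two_le
    have h4 : 0 < p * (p ^ 2 - 1) := by
      apply Nat.mul_pos (by omega)
      have : 2 ^ 2 ≤ p ^ 2 := Nat.pow_le_pow_left h3 2
      omega
    omega
  let f : G →* Matrix.ProjectiveSpecialLinearGroup (Fin 2) (ZMod p) :=
    E.symm.toMonoidHom.comp (ρ.codRestrict _ hr)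
  have hf : Function.Injective f := by
    apply E.symm.injective.comp
    intro x y hxy
    exact M.inj (congrArg Subtype.val hxy)
  have hb : Function.Bijective f := by
    rw [Nat.bijective_iff_injective_and_card]
    exact ⟨hf, h2⟩
  exact ⟨MulEquiv.ofBijective f hb⟩

end Cfsg.Agent.H9.PSLModel
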