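import Cfsg.Agent.H9.PSLModel3

set_option autoImplicit false
set_option linter.unusedSectionVars false
set_option linter.style.haveILetI false
set_option linter.unusedVariables false
set_option linter.unusedSimpArgs false

/-! The finite check that the closure relation forces `z ↦ c / z`. -/

namespace Cfsg.Agent.H9.PSLModel

open Subgroup MulAction OnePoint

/-- candidate functions -/
def fN (p k c1 c2 z : ℕ) : ℕ :=
  cond (Nat.beq (z ^ ((p - 1) / 2) % p) 1) ((c1 * z ^ k) % p) ((c2 * z ^ k) % p)

/-- good parameters -/
def goodN (p k c1 c2 : ℕ) : Bool :=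
  Nat.beq (k + 1) ((p - 1) / 2) && Nat.beq ((c1 + c2) % p) 0 && Nat.beq ((p - c1) ^ ((p - 1) / 2) % p) 1

/-- the closure relation -/
def relN (p k c1 c2 z0 : ℕ) : Bool :=
  Nat.beq (((p - fN p k c1 c2 1) * fN p k c1 c2 (p - z0)) ^ ((p - 1) / 2) % p) 1 &&
  (List.range p).all (fun z => Nat.beq z 0 || Nat.beq z z0 ||
    Nat.beq ((fN p k c1 c2 (p - z0) * (fN p k c1 c2 (fN p k c1 c2 z + 1) + (p - fN p k c1 c2 1))) % p)
      (((p - fN p k c1 c2 1) * fN p k c1 c2 ((z + (p - z0)) % p)) % p))

/-- the whole check; `b` is an exponent which is not excluded -/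
def checkN (p b : ℕ) : Bool :=
  (List.range ((p - 1) / 2)).all fun k => Nat.beq k b || (List.range p).all fun c1 => Nat.beq c1 0 ||
    (List.range p).all fun c2 => Nat.beq c2 0 || (List.range p).all fun z0 =>
      Nat.beq z0 0 || !(Nat.beq (fN p k c1 c2 z0) (p - 1)) || !(relN p k c1 c2 z0) || goodN p k c1 c2

theorem check7 : checkN 7 1 = true := by decide +kernel
theorem check11 : checkN 11 11 = true := by decide +kernel
theorem check13 : checkN 13 13 = true := by decide +kernel
theorem check17 : checkN 17 17 = true := by decide +kernel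
theorem check19 : checkN 19 19 = true := by decide +kernel
theorem check23 : checkN 23 23 = true := by decide +kernel

end Cfsg.Agent.H9.PSLModel
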