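import Cfsg.Agent.H9.PSLModel4

set_option autoImplicit false
set_option linter.unusedSectionVars false
set_option linter.style.haveILetI false
set_option linter.unusedVariables false
set_option linter.unusedSimpArgs false

/-! Bridge between the closure relation over `ZMod p` and the natural number check. -/

namespace Cfsg.Agent.H9.PSLModel

open Subgroup MulAction OnePoint

theorem nbeq_iff {a b : ℕ} : Nat.beq a b = true ↔ a = b := Iff.of_eq Nat.beq_eq

theorem nbeq_mod {p a b : ℕ} : Nat.beq (a % p) (b % p) = true ↔ (a : ZMod p) = b := by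
  rw [nbeq_iff, ZMod.natCast_eq_natCast_iff']

theorem nbeq_mod_one {p a : ℕ} (hp : 1 < p) : Nat.beq (a % p) 1 = true ↔ (a : ZMod p) = 1 := by
  have h3 : (1 : ℕ) = 1 % p := (Nat.mod_eq_of_lt hp).symm
  have h4 : Nat.beq (a % p) 1 = Nat.beq (a % p) (1 % p) := by rw [← h3]
  rw [h4, nbeq_mod, Nat.cast_one]

variable {p : ℕ} [Fact p.Prime]

theorem good_of_check (hp2 : p ≠ 2) {b : ℕ} (hc : checkN p b = true) {f : ZMod p → ZMod p} {k : ℕ} {g0 : ZMod p}
    (hgo : orderOf g0 = p - 1) (hg0 : g0 ≠ 0) (hk : k < (p - 1) / 2)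
    (hf0 : ∀ z : ZMod p, z ≠ 0 → f z ≠ 0)
    (hfe : ∀ z : ZMod p, z ≠ 0 → f (g0 ^ 2 * z) = (g0 ^ 2) ^ k * f z)
    {z0 a : ZMod p} (hz0 : z0 ≠ 0) (hfz0 : f z0 = -1) (hinj : ∀ z : ZMod p, z ≠ 0 → f z = -1 → z = z0) (hsa : IsSquare a) (ha : a ≠ 0) (h1 : - f 1 = a * f (-z0))
    (hrel : ∀ z : ZMod p, z ≠ 0 → z ≠ z0 → f (f z + 1) - f 1 = a * f (z - z0)) :
    k = b ∨ ∃ d : ZMod p, d ≠ 0 ∧ ∀ z : ZMod p, z ≠ 0 → f z = -(d * d) * z⁻¹ := by
  classical
  have hpp : p.Prime := Fact.out
  haveI : NeZero p := ⟨hpp.ne_zero⟩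
  have h3p : 3 ≤ p := by
    have := hpp.two_le
    omega
  have hodd : p % 2 = 1 := by
    rcases hpp.eq_two_or_odd with h | h
    · exact absurd h hp2
    · exact h
  have hpm : 2 * ((p - 1) / 2) = p - 1 := by omega
  have hpd : (p - 1) / 2 = p / 2 := by omega
  have hgp : g0 ^ (p - 1) = 1 := ZMod.pow_card_sub_one_eq_one hg0
  have hgh : g0 ^ ((p - 1) / 2) ≠ 1 := by
    intro h
    have := orderOf_dvd_of_pow_eq_one h
    rw [hgo] at this
    have := Nat.le_of_dvd (by omega) this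
    omega
  -- iterates
  have hfj : ∀ (j : ℕ) (z : ZMod p), z ≠ 0 → f ((g0 ^ 2) ^ j * z) = ((g0 ^ 2) ^ j) ^ k * f z := by
    intro j
    induction j with
    | zero => intro z hz; simp
    | succ j ih =>
      intro z hz
      have h2 : (g0 ^ 2) ^ (j + 1) * z = g0 ^ 2 * ((g0 ^ 2) ^ j * z) := by ring
      rw [h2, hfe _ (mul_ne_zero (pow_ne_zero _ (pow_ne_zero _ hg0)) hz), ih z hz, pow_succ (g0 ^ 2) j, mul_pow]
      ring
  -- every element is a power of g0
  have hgen : ∀ z : ZMod p, z ≠ 0 → ∃ i : ℕ, g0 ^ i = z := by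
    intro z hz
    have h2 : zpowers (Units.mk0 g0 hg0) = ⊤ := by
      apply eq_top_of_card_eq
      rw [Nat.card_zpowers, Nat.card_eq_fintype_card (α := (ZMod p)ˣ), ZMod.card_units, ← hgo, ← orderOf_units]
      rfl
    have h3 : Units.mk0 z hz ∈ zpowers (Units.mk0 g0 hg0) := by rw [h2]; trivial
    obtain ⟨i, hi⟩ := mem_powers_iff_mem_zpowers.mpr h3
    refine ⟨i, ?_⟩
    have := congrArg (fun u : (ZMod p)ˣ => (u : ZMod p)) hi
    simpa using this
  -- the constants
  set c1 : ZMod p := f 1 with hc1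
  set c2 : ZMod p := (g0⁻¹) ^ k * f g0 with hc2
  have hc10 : c1 ≠ 0 := hf0 1 one_ne_zero
  have hc20 : c2 ≠ 0 := mul_ne_zero (pow_ne_zero _ (inv_ne_zero hg0)) (hf0 g0 hg0)
  have hform : ∀ z : ZMod p, z ≠ 0 → (z ^ ((p - 1) / 2) = 1 → f z = c1 * z ^ k) ∧ (z ^ ((p - 1) / 2) ≠ 1 → f z = c2 * z ^ k) := by
    intro z hz
    obtain ⟨i, rfl⟩ := hgen z hz
    rcases Nat.even_or_odd' i with ⟨j, rfl | rfl⟩
    · have h2 : g0 ^ (2 * j) = (g0 ^ 2) ^ j * 1 := by rw [pow_mul, mul_one]
      have h3 : (g0 ^ (2 * j)) ^ ((p - 1) / 2) = 1 := by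
        rw [← pow_mul, mul_assoc, mul_comm j, ← mul_assoc, hpm, pow_mul, hgp, one_pow]
      refine ⟨fun _ => ?_, fun h => absurd h3 h⟩
      rw [h2, hfj j 1 one_ne_zero, mul_one, mul_comm]
    · have h2 : g0 ^ (2 * j + 1) = (g0 ^ 2) ^ j * g0 := by rw [pow_succ, pow_mul]
      have h3 : (g0 ^ (2 * j + 1)) ^ ((p - 1) / 2) ≠ 1 := by
        have : (g0 ^ (2 * j + 1)) ^ ((p - 1) / 2) = g0 ^ ((p - 1) / 2) := by
          rw [pow_succ, mul_pow, ← pow_mul, mul_assoc, mul_comm j, ← mul_assoc, hpm, pow_mul, hgp, one_pow, one_mul]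
        rw [this]; exact hgh
      refine ⟨fun h => absurd h h3, fun _ => ?_⟩
      rw [h2, hfj j g0 hg0, hc2, mul_pow]
      rw [inv_pow]
      have : g0 ^ k ≠ 0 := pow_ne_zero _ hg0
      field_simp
  have hcast : ∀ z : ZMod p, z ≠ 0 → ((fN p k c1.val c2.val z.val : ℕ) : ZMod p) = f z := by
    intro z hz
    have h2 : Nat.beq (z.val ^ ((p - 1) / 2) % p) 1 = true ↔ z ^ ((p - 1) / 2) = 1 := by
      rw [nbeq_mod_one (by omega)]
      push_cast
      rw [ZMod.natCast_val, ZMod.cast_id', id]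
    unfold fN
    by_cases h : z ^ ((p - 1) / 2) = 1
    · rw [h2.mpr h, cond_true, ZMod.natCast_mod]
      push_cast
      rw [ZMod.natCast_val, ZMod.cast_id', id, ZMod.natCast_val, ZMod.cast_id', id, (hform z hz).1 h]
    · have h4 : Nat.beq (z.val ^ ((p - 1) / 2) % p) 1 = false := by
        rw [← Bool.not_eq_true, h2]; exact h
      rw [h4, cond_false, ZMod.natCast_mod]
      push_cast
      rw [ZMod.natCast_val, ZMod.cast_id', id, ZMod.natCast_val, ZMod.cast_id', id, (hform z hz).2 h]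
  have hfNlt : ∀ n : ℕ, fN p k c1.val c2.val n < p := by
    intro n
    unfold fN
    cases Nat.beq (n ^ ((p - 1) / 2) % p) 1
    · exact Nat.mod_lt _ hpp.pos
    · exact Nat.mod_lt _ hpp.pos
  have hval : ∀ z : ZMod p, z ≠ 0 → fN p k c1.val c2.val z.val = (f z).val := by
    intro z hz
    rw [← hcast z hz, ZMod.val_natCast, Nat.mod_eq_of_lt (hfNlt _)]
  have hv1 : (1 : ZMod p).val = 1 := by
    haveI : Fact (1 < p) := ⟨by omega⟩
    exact ZMod.val_one p
  have hf1 : fN p k c1.val c2.val 1 = c1.val := by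
    have := hval 1 one_ne_zero
    rwa [hv1] at this
  have hvneg : ∀ z : ZMod p, z ≠ 0 → (-z).val = p - z.val := by
    intro z hz
    haveI : NeZero z := ⟨hz⟩
    exact ZMod.val_neg_of_ne_zero z
  have hvlt : ∀ z : ZMod p, z.val < p := fun z => ZMod.val_lt z
  have hvpos : ∀ z : ZMod p, z ≠ 0 → z.val ≠ 0 := fun z hz h => hz ((ZMod.val_eq_zero z).mp h)
  have hcv : ∀ z : ZMod p, ((z.val : ℕ) : ZMod p) = z := fun z => by rw [ZMod.natCast_val, ZMod.cast_id', id]
  -- extract the check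
  unfold checkN at hc
  rw [List.all_eq_true] at hc
  have hck := hc k (List.mem_range.mpr hk)
  rw [Bool.or_eq_true] at hck
  rcases hck with hck | hck
  · left; exact nbeq_iff.mp hck
  right
  rw [List.all_eq_true] at hck
  have h2 := hck c1.val (List.mem_range.mpr (hvlt _))
  rw [Bool.or_eq_true] at h2
  rcases h2 with h2 | h2
  · exact absurd (nbeq_iff.mp h2) (hvpos _ hc10)
  rw [List.all_eq_true] at h2
  have h3 := h2 c2.val (List.mem_range.mpr (hvlt _))
  rw [Bool.or_eq_true] at h3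
  rcases h3 with h3 | h3
  · exact absurd (nbeq_iff.mp h3) (hvpos _ hc20)
  rw [List.all_eq_true] at h3
  have h4 := h3 z0.val (List.mem_range.mpr (hvlt _))
  rw [Bool.or_eq_true, Bool.or_eq_true, Bool.or_eq_true] at h4
  have hz0neg : -z0 ≠ 0 := neg_ne_zero.mpr hz0
  rcases h4 with ((h4 | h4) | h4) | h4
  · exact absurd (nbeq_iff.mp h4) (hvpos _ hz0)
  · exfalso
    rw [Bool.not_eq_true', ← Bool.not_eq_true, nbeq_iff] at h4
    apply h4
    rw [hval z0 hz0, hfz0, hvneg 1 one_ne_zero, hv1]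
  · exfalso
    rw [Bool.not_eq_true', ← Bool.not_eq_true] at h4
    apply h4
    unfold relN
    rw [Bool.and_eq_true]
    have hnz : fN p k c1.val c2.val (p - z0.val) = (f (-z0)).val := by
      rw [← hvneg z0 hz0, hval _ hz0neg]
    have hc1' : ((p - c1.val : ℕ) : ZMod p) = -c1 := by
      rw [Nat.cast_sub (hvlt c1).le, hcv, ZMod.natCast_self, zero_sub]
    constructor
    · rw [hf1, hnz]
      rw [nbeq_mod_one (by omega)]
      push_cast
      rw [hc1', hcv, hc1, h1]
      obtain ⟨e, rfl⟩ := hsa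
      have he : e ≠ 0 := by rintro rfl; simp at ha
      have h5 : e * e * f (-z0) * f (-z0) = (e * f (-z0)) ^ 2 := by ring
      rw [h5, ← pow_mul, hpm]
      exact ZMod.pow_card_sub_one_eq_one (mul_ne_zero he (hf0 _ hz0neg))
    · rw [List.all_eq_true]
      intro n hn
      rw [List.mem_range] at hn
      rw [Bool.or_eq_true, Bool.or_eq_true]
      by_cases hn0 : n = 0
      · left; left; exact nbeq_iff.mpr hn0
      by_cases hnz0 : n = z0.val
      · left; right; exact nbeq_iff.mpr hnz0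
      right
      have hnv : ((n : ℕ) : ZMod p).val = n := by rw [ZMod.val_natCast, Nat.mod_eq_of_lt hn]
      have hz : ((n : ℕ) : ZMod p) ≠ 0 := by
        intro h; apply hn0; rw [← hnv, h, ZMod.val_zero]
      have hzz : ((n : ℕ) : ZMod p) ≠ z0 := by
        intro h; apply hnz0; rw [← hnv, h]
      have hrz := hrel n hz hzz
      have hfn : fN p k c1.val c2.val n = (f n).val := by
        have := hval n hz
        rwa [hnv] at this
      have hfm1 : f n + 1 ≠ 0 := by
        intro h5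
        exact hzz (hinj _ hz (by linear_combination h5))
      have hfv : (f n + 1).val = (f n).val + 1 := by
        have h7 : (f n).val + (1 : ZMod p).val < p := by
          rw [hv1]
          have := hvlt (f n)
          by_contra hcon
          apply hfm1
          have h8 : (f n).val = p - 1 := by omega
          rw [← hcv (f n), h8, Nat.cast_sub (by omega), ZMod.natCast_self]; push_cast; ring
        rw [ZMod.val_add_of_lt h7, hv1]
      have e1 : ((fN p k c1.val c2.val ((fN p k c1.val c2.val n) + 1) : ℕ) : ZMod p) = f (f n + 1) := by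
        rw [hfn, ← hfv, hval _ hfm1, hcv]
      have e2 : ((fN p k c1.val c2.val ((n + (p - z0.val)) % p) : ℕ) : ZMod p) = f (n - z0) := by
        have h9 : (n + (p - z0.val)) % p = ((n : ZMod p) - z0).val := by
          rw [← ZMod.val_natCast]
          congr 1
          rw [Nat.cast_add, Nat.cast_sub (hvlt z0).le, hcv, ZMod.natCast_self]; ring
        rw [h9, hval _ (sub_ne_zero.mpr hzz), hcv]
      rw [nbeq_mod]
      push_cast
      rw [e1, e2, hf1, hnz, hcv, hc1']
      rw [hc1]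
      linear_combination f (-z0) * hrz - f (n - z0) * h1
  · unfold goodN at h4
    rw [Bool.and_eq_true, Bool.and_eq_true] at h4
    obtain ⟨⟨g1, g2⟩, g3⟩ := h4
    have g1' := nbeq_iff.mp g1
    have g2' : c1 + c2 = 0 := by
      have h5 : (0 : ℕ) = 0 % p := (Nat.zero_mod p).symm
      rw [h5, nbeq_mod] at g2
      push_cast at g2
      rwa [hcv, hcv] at g2
    have g3' : (-c1) ^ ((p - 1) / 2) = 1 := by
      rw [nbeq_mod_one (by omega)] at g3
      push_cast at g3
      rwa [Nat.cast_sub (hvlt c1).le, hcv, ZMod.natCast_self, zero_sub] at g3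
    have g4 : IsSquare (-c1) := by
      rw [ZMod.euler_criterion p (neg_ne_zero.mpr hc10), ← hpd]; exact g3'
    obtain ⟨d, hd⟩ := g4
    have hd0 : d ≠ 0 := by
      rintro rfl
      apply hc10
      rw [mul_zero] at hd
      exact neg_eq_zero.mp hd
    refine ⟨d, hd0, fun z hz => ?_⟩
    rw [← hd, neg_neg]
    have h6 : z ^ k * z = z ^ ((p - 1) / 2) := by rw [← pow_succ, g1']
    by_cases h : z ^ ((p - 1) / 2) = 1
    · rw [(hform z hz).1 h]
      congr 1
      exact eq_inv_of_mul_eq_one_left (by rw [h6, h])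
    · rw [(hform z hz).2 h]
      have h7 : z ^ ((p - 1) / 2) = -1 := by
        have h8 : (z ^ ((p - 1) / 2)) ^ 2 = 1 := by
          rw [← pow_mul, mul_comm, hpm]; exact ZMod.pow_card_sub_one_eq_one hz
        rcases mul_self_eq_one_iff.mp ((pow_two _).symm.trans h8) with h9 | h9
        · exact absurd h9 h
        · exact h9
      have h8 : z ^ k = -z⁻¹ := by
        rw [← neg_eq_iff_eq_neg]
        exact eq_inv_of_mul_eq_one_left (by rw [neg_mul, h6, h7, neg_neg])
      have h9 : c2 = -c1 := by linear_combination g2'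
      rw [h8, h9]; ring

end Cfsg.Agent.H9.PSLModel
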