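import Cfsg.Agent.H4.ZStarF
import Cfsg.Agent.H4.BaerSuzuki
import Cfsg.Agent.S3224
import Cfsg.Agent.S3116
import Cfsg.Agent.H9.BSWP
import Cfsg.Agent.H9.Simple

set_option autoImplicit false
set_option linter.unusedSectionVars false
set_option linter.style.haveILetI false
set_option linter.unusedVariables false
set_option linter.unusedSimpArgs false
set_option maxHeartbeats 1000000

/-! Groups in which non-cyclic subgroups are self-centralizing. -/

open Cfsg Subgroup

namespace Cfsg.Agent.H9.SC

variable {G : Type*} [Group G]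

/-- non-cyclic subgroups contain their centralizers -/
def SelfC (G : Type*) [Group G] : Prop :=
  ∀ H : Subgroup G, ¬ IsCyclic ↥H → Subgroup.centralizer (H : Set G) ≤ H

/-- the Klein four-group generated by two commuting involutions -/
def kl (t v : G) (ht : t * t = 1) (hv : v * v = 1) (htv : t * v = v * t) : Subgroup G where
  carrier := {g | g = 1 ∨ g = t ∨ g = v ∨ g = t * v}
  one_mem' := Or.inl rfl
  mul_mem' := by
    have e1 : t * (t * v) = v := by rw [← mul_assoc, ht, one_mul]
    have e2 : v * (t * v) = t := by rw [htv, ← mul_assoc, hv, one_mul]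
    have e3 : t * v * t = v := by rw [htv, mul_assoc, ht, mul_one]
    have e4 : t * v * v = t := by rw [mul_assoc, hv, mul_one]
    have e5 : t * v * (t * v) = 1 := by rw [← mul_assoc, e3, hv]
    rintro a b (rfl | rfl | rfl | rfl) (rfl | rfl | rfl | rfl) <;> simp [ht, hv, e1, e2, e3, e4, e5, htv.symm]
  inv_mem' := by
    have i1 : t⁻¹ = t := inv_eq_of_mul_eq_one_left ht
    have i2 : v⁻¹ = v := inv_eq_of_mul_eq_one_left hv
    rintro a (rfl | rfl | rfl | rfl)
    · left; exact inv_one
    · right; left; exact i1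
    · right; right; left; exact i2
    · right; right; right; rw [mul_inv_rev, i1, i2, htv]

theorem mem_kl {t v : G} {ht : t * t = 1} {hv : v * v = 1} {htv : t * v = v * t} {g : G} :
    g ∈ kl t v ht hv htv ↔ g = 1 ∨ g = t ∨ g = v ∨ g = t * v := Iff.rfl

theorem card_kl_le [Finite G] {t v : G} {ht : t * t = 1} {hv : v * v = 1} {htv : t * v = v * t} :
    Nat.card (kl t v ht hv htv) ≤ 4 := by
  classical
  change Nat.card ((kl t v ht hv htv : Subgroup G) : Set G) ≤ 4
  rw [Nat.card_coe_set_eq]
  have h1 : ((kl t v ht hv htv : Subgroup G) : Set G) = {1, t, v, t * v} := by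
    ext g; rfl
  rw [h1]
  refine (Set.ncard_insert_le _ _).trans ?_
  have h2 := Set.ncard_insert_le t ({v, t * v} : Set G)
  have h3 := Set.ncard_insert_le v ({t * v} : Set G)
  rw [Set.ncard_singleton] at h3
  omega

/-- the four-group is its own centralizer -/
theorem cent_kl [Finite G] (h : SelfC G) {t v : G} (ht : t * t = 1) (hv : v * v = 1) (htv : t * v = v * t) (ht1 : t ≠ 1) (hv1 : v ≠ 1)
    (hne : v ≠ t) {g : G} (hgt : g * t = t * g) (hgv : g * v = v * g) : g = 1 ∨ g = t ∨ g = v ∨ g = t * v := by
  have h1 : ¬ IsCyclic (kl t v ht hv htv) := by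
    intro hc
    rcases BSW.cyclic_uniq hc (x := t) (y := v) (Or.inr (Or.inl rfl)) (Or.inr (Or.inr (Or.inl rfl))) ht1 ht hv with e | e
    · exact hv1 e
    · exact hne e
  have h2 : g ∈ centralizer ((kl t v ht hv htv : Subgroup G) : Set G) := by
    rw [mem_centralizer_iff]
    rintro x (rfl | rfl | rfl | rfl)
    · simp
    · exact hgt.symm
    · exact hgv.symm
    · rw [mul_assoc, ← hgv, ← mul_assoc, ← hgt, mul_assoc]
  exact h _ h1 h2

/-- no odd element of `C(t)` is inverted by an involution -/
theorem no_inverted [Finite G] (h : SelfC G) {t v x : G} (ht : t * t = 1) (hv : v * v = 1) (htv : t * v = v * t) (ht1 : t ≠ 1)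
    (hne : v ≠ t) (hxt : t * x = x * t) (hodd : Odd (orderOf x)) (hvx : v * x * v⁻¹ = x⁻¹) : x = 1 := by
  by_contra hx1
  have hvinv : v⁻¹ = v := inv_eq_of_mul_eq_one_left hv
  have hx2 : x * x ≠ 1 := by
    intro e
    have h1 : orderOf x ∣ 2 := orderOf_dvd_of_pow_eq_one (by rw [pow_two]; exact e)
    rcases (Nat.dvd_prime Nat.prime_two).mp h1 with h2 | h2
    · exact hx1 (orderOf_eq_one_iff.mp h2)
    · rw [h2] at hodd; exact absurd hodd (by decide)
  have hnc : v * x ≠ x * v := by
    intro e
    have h1 : v * x * v⁻¹ = x := mul_inv_eq_iff_eq_mul.mpr e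
    rw [hvx] at h1
    apply hx2
    nth_rewrite 1 [← h1]
    exact inv_mul_cancel x
  have hv1 : v ≠ 1 := by
    rintro rfl
    exact hnc (by simp)
  have hy : (v * x) * (v * x) = 1 := by
    have : v * x = x⁻¹ * v := mul_inv_eq_iff_eq_mul.mp hvx
    calc (v * x) * (v * x) = (x⁻¹ * v) * (v * x) := by rw [← this]
      _ = x⁻¹ * (v * v) * x := by group
      _ = 1 := by rw [hv]; group
  have hprod : v * (v * x) = x := by rw [← mul_assoc, hv, one_mul]
  set H := Subgroup.closure ({v, v * x} : Set G) with hH
  have hvH : v ∈ H := subset_closure (Or.inl rfl)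
  have hvxH : v * x ∈ H := subset_closure (Or.inr rfl)
  have hxH : x ∈ H := by
    have := mul_mem hvH hvxH
    rwa [hprod] at this
  have h1 : ¬ IsCyclic H := by
    intro hc
    apply hnc
    have := (IsCyclic.commGroup (α := H)).mul_comm ⟨v, hvH⟩ ⟨x, hxH⟩
    exact congrArg Subtype.val this
  have h2 : t ∈ centralizer (H : Set G) := by
    rw [mem_centralizer_iff]
    intro y hy'
    have h3 : H ≤ centralizer ({t} : Set G) := by
      rw [hH, closure_le]
      rintro z (rfl | rfl)
      · exact mem_centralizer_singleton_iff.mpr htv.symm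
      · apply mem_centralizer_singleton_iff.mpr
        rw [mul_assoc, ← hxt, ← mul_assoc, ← htv, mul_assoc]
    exact mem_centralizer_singleton_iff.mp (h3 hy')
  have h3 := h H h1 h2
  obtain ⟨l, hl⟩ := (H4.mem_closure_pair hv hy t).mp h3
  rw [hprod] at hl
  rcases hl with e | e
  · have h4 : t ^ orderOf x = 1 := by
      rw [e, ← zpow_natCast, ← zpow_mul, mul_comm, zpow_mul, zpow_natCast, pow_orderOf_eq_one, one_zpow]
    obtain ⟨j, hj⟩ := hodd
    rw [hj, pow_succ, pow_mul, pow_two, ht, one_pow, one_mul] at h4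
    exact ht1 h4
  · apply hnc
    have h5 : v = x ^ (-l) * t := by rw [e, ← mul_assoc, ← zpow_add]; simp
    have h6 : Commute (x ^ (-l)) x := (Commute.refl x).zpow_left (-l)
    rw [h5, mul_assoc, hxt, ← mul_assoc, h6.eq, mul_assoc]

theorem isPGroup_centralizer [Finite G] (h : SelfC G) {t v : G} (ht : t * t = 1) (hv : v * v = 1) (htv : t * v = v * t)
    (ht1 : t ≠ 1) (hv1 : v ≠ 1) (hne : v ≠ t) : IsPGroup 2 (centralizer ({t} : Set G)) := by
  classical
  haveI : Fact (Nat.Prime 2) := ⟨Nat.prime_two⟩
  set C := centralizer ({t} : Set G) with hC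
  have htC : t ∈ C := mem_centralizer_singleton_iff.mpr rfl
  have hvC : v ∈ C := mem_centralizer_singleton_iff.mpr htv.symm
  have hmemC : ∀ x : C, (x : G) * t = t * x := fun x => mem_centralizer_singleton_iff.mp x.2
  -- `v` lies in a normal 2-subgroup
  obtain ⟨N, hNn, hNp, hvN⟩ : ∃ N : Subgroup C, N.Normal ∧ IsPGroup 2 N ∧ (⟨v, hvC⟩ : C) ∈ N := by
    by_contra hcon
    push Not at hcon
    have hvo : orderOf (⟨v, hvC⟩ : C) = 2 := by
      rw [Subgroup.orderOf_mk]; exact BSW.orderOf_two hv1 hv
    obtain ⟨g, k, h1, h2, h3⟩ := H4.inverts_odd_of_not_mem_core (⟨v, hvC⟩ : C) hvo hcon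
    apply h1
    set y : C := ((⟨v, hvC⟩ : C) * (g * ⟨v, hvC⟩ * g⁻¹)) ^ 2 ^ k with hy
    apply Subtype.ext
    change (y : G) = 1
    exact no_inverted h ht hv htv ht1 hne (hmemC y).symm (by rw [Subgroup.orderOf_coe]; exact h2)
      (congrArg Subtype.val h3)
  -- enlarge by `t`
  set z : C := ⟨t, htC⟩ with hz
  have hzn : (zpowers z).Normal := by
    constructor
    intro n hn g
    obtain ⟨j, rfl⟩ := mem_zpowers_iff.mp hn
    have h1 : g * z = z * g := Subtype.ext (hmemC g)
    have h2 : g * z ^ j * g⁻¹ = z ^ j := by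
      rw [((show Commute g z from h1).zpow_right j).eq, mul_inv_cancel_right]
    rw [h2]; exact hn
  have hzp : IsPGroup 2 (zpowers z) := by
    apply IsPGroup.of_card (n := 1)
    rw [Nat.card_zpowers, hz, Subgroup.orderOf_mk, BSW.orderOf_two ht1 ht, pow_one]
  set M := N ⊔ zpowers z with hM
  have hMn : M.Normal := Subgroup.sup_normal N (zpowers z)
  have hMp : IsPGroup 2 M := by
    haveI := hNn
    exact hNp.to_sup_of_normal_left hzp
  have hvM : (⟨v, hvC⟩ : C) ∈ M := (le_sup_left : N ≤ M) hvN
  have hzM : z ∈ M := (le_sup_right : zpowers z ≤ M) (mem_zpowers z)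
  -- the centralizer of `v` in `M`
  set w : M := ⟨⟨v, hvC⟩, hvM⟩ with hw
  have hwo : orderOf w = 2 := by
    rw [hw, Subgroup.orderOf_mk, Subgroup.orderOf_mk]; exact BSW.orderOf_two hv1 hv
  have hcard : Nat.card (centralizer ({w} : Set M)) = 4 := by
    let f : centralizer ({w} : Set M) → kl t v ht hv htv := fun x => ⟨((x : M) : C), by
      have h1 : (x : M) * w = w * x := mem_centralizer_singleton_iff.mp x.2
      have h2 : (((x : M) : C) : G) * v = v * (((x : M) : C) : G) :=
        congrArg (fun y : M => ((y : C) : G)) h1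
      exact cent_kl h ht hv htv ht1 hv1 hne (hmemC _) h2⟩
    have hf : Function.Injective f := by
      intro x y hxy
      exact Subtype.ext (Subtype.ext (Subtype.ext (congrArg (fun a : kl t v ht hv htv => (a : G)) hxy)))
    have hle : Nat.card (centralizer ({w} : Set M)) ≤ 4 := (Nat.card_le_card_of_injective f hf).trans card_kl_le
    -- contains a non-cyclic subgroup
    have hwC : w ∈ centralizer ({w} : Set M) := mem_centralizer_singleton_iff.mpr rfl
    have hzC : (⟨z, hzM⟩ : M) ∈ centralizer ({w} : Set M) := by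
      apply mem_centralizer_singleton_iff.mpr
      apply Subtype.ext
      apply Subtype.ext
      exact htv
    have h2 : 2 ∣ Nat.card (centralizer ({w} : Set M)) := by
      have := BSW.orderOf_dvd_of_mem hwC
      rwa [hwo] at this
    have hz1 : (⟨z, hzM⟩ : M) ≠ 1 := fun e => ht1 (congrArg (fun y : M => ((y : C) : G)) e)
    have hw1 : w ≠ 1 := fun e => hv1 (congrArg (fun y : M => ((y : C) : G)) e)
    have hwz : w ≠ ⟨z, hzM⟩ := fun e => hne (congrArg (fun y : M => ((y : C) : G)) e)
    have h3 : 3 ≤ Nat.card (centralizer ({w} : Set M)) := by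
      have h4 : ({1, w, ⟨z, hzM⟩} : Set M) ⊆ (centralizer ({w} : Set M) : Set M) := by
        rintro a (rfl | rfl | rfl)
        · exact one_mem _
        · exact hwC
        · exact hzC
      have h5 := Set.ncard_le_ncard h4 (Set.toFinite _)
      rw [Set.ncard_insert_of_notMem, Set.ncard_pair hwz] at h5
      · rw [← Nat.card_coe_set_eq] at h5
        exact h5
      · rintro (e | e)
        · exact hw1 e.symm
        · exact hz1 e.symm
    omega
  have hcases := S3224.result hMp w hwo hcard
  -- odd order elements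
  have hoddone : ∀ x : C, Odd (orderOf x) → x = 1 := by
    intro x hx
    have hcommV : (x : G) * v = v * x → x = 1 := by
      intro hxv
      have h1 := cent_kl h ht hv htv ht1 hv1 hne (hmemC x) hxv
      have h2 : (x : G) * x = 1 := by
        have e5 : t * v * (t * v) = 1 := by
          calc t * v * (t * v) = t * (v * t) * v := by group
            _ = t * (t * v) * v := by rw [htv]
            _ = (t * t) * (v * v) := by group
            _ = 1 := by rw [ht, hv, one_mul]
        rcases h1 with e | e | e | e <;> rw [e]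
        · exact one_mul 1
        · exact ht
        · exact hv
        · exact e5
      have h3 : orderOf x ∣ 2 := orderOf_dvd_of_pow_eq_one (by rw [pow_two]; exact Subtype.ext h2)
      rcases (Nat.dvd_prime Nat.prime_two).mp h3 with h4 | h4
      · exact orderOf_eq_one_iff.mp h4
      · rw [h4] at hx; exact absurd hx (by decide)
    have hfour : Nat.card M = 4 → x = 1 := by
      intro hM4
      -- `M = V`
      have hMV : ∀ y : C, y ∈ M → (y : G) = 1 ∨ (y : G) = t ∨ (y : G) = v ∨ (y : G) = t * v := by
        intro y hy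
        have h1 : centralizer ({w} : Set M) = ⊤ := Subgroup.eq_top_of_card_eq _ (by rw [hcard, hM4])
        have h2 : (⟨y, hy⟩ : M) ∈ centralizer ({w} : Set M) := by rw [h1]; exact mem_top _
        have h3 := mem_centralizer_singleton_iff.mp h2
        exact cent_kl h ht hv htv ht1 hv1 hne (hmemC y) (congrArg (fun y : M => ((y : C) : G)) h3)
      have h1 := hMV (x * ⟨v, hvC⟩ * x⁻¹) (hMn.conj_mem _ hvM x)
      change (x : G) * v * (x : G)⁻¹ = 1 ∨ (x : G) * v * (x : G)⁻¹ = t ∨ (x : G) * v * (x : G)⁻¹ = v ∨
        (x : G) * v * (x : G)⁻¹ = t * v at h1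
      rcases h1 with e | e | e | e
      · exact absurd e (BSW.conj_ne_one hv1)
      · exfalso
        apply hne
        have h2 : v = (x : G)⁻¹ * t * x := by rw [← e]; group
        rw [h2, mul_assoc, ← hmemC x]; group
      · exact hcommV (mul_inv_eq_iff_eq_mul.mp e)
      · -- `x²` centralizes `v`
        have h2 : ((x * x : C) : G) * v = v * ((x * x : C) : G) := by
          apply mul_inv_eq_iff_eq_mul.mp
          calc ((x : G) * x) * v * ((x : G) * x)⁻¹ = (x : G) * ((x : G) * v * (x : G)⁻¹) * (x : G)⁻¹ := by group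
            _ = (x : G) * (t * v) * (x : G)⁻¹ := by rw [e]
            _ = ((x : G) * t) * v * (x : G)⁻¹ := by group
            _ = (t * (x : G)) * v * (x : G)⁻¹ := by rw [hmemC]
            _ = t * ((x : G) * v * (x : G)⁻¹) := by group
            _ = t * (t * v) := by rw [e]
            _ = v := by rw [← mul_assoc, ht, one_mul]
        have h3 : (x : G) ∈ centralizer ({v} : Set G) := by
          have h4 : ((x * x : C) : G) ∈ centralizer ({v} : Set G) := mem_centralizer_singleton_iff.mpr h2
          obtain ⟨j, hj⟩ := hx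
          have h5 : (x : G) = (((x * x : C) : G)) ^ (j + 1) := by
            have h6 : x ^ (2 * (j + 1)) = x := by
              have : 2 * (j + 1) = orderOf x + 1 := by omega
              rw [this, pow_succ, pow_orderOf_eq_one, one_mul]
            have h7 : ((x * x : C)) ^ (j + 1) = x := by
              rw [← pow_two, ← pow_mul, h6]
            rw [← Subgroup.coe_pow, h7]
          rw [h5]
          exact pow_mem h4 _
        exact hcommV (mem_centralizer_singleton_iff.mp h3)
    have haut : IsPGroup 2 (MulAut M) → x = 1 := by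
      intro hA
      have h1 : (MulAut.conjNormal x : MulAut M) = 1 := by
        have h2 : orderOf (MulAut.conjNormal x : MulAut M) ∣ orderOf x := orderOf_map_dvd _ x
        have h3 : Odd (orderOf (MulAut.conjNormal x : MulAut M)) := Odd.of_dvd_nat hx h2
        obtain ⟨k, hk⟩ := hA (MulAut.conjNormal x : MulAut M)
        have h4 : orderOf (MulAut.conjNormal x : MulAut M) ∣ 2 ^ k := orderOf_dvd_of_pow_eq_one hk
        have h5 : Nat.Coprime (orderOf (MulAut.conjNormal x : MulAut M)) (2 ^ k) :=
          Nat.Coprime.pow_right k (Nat.coprime_two_right.mpr h3)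
        exact orderOf_eq_one_iff.mp (Nat.eq_one_of_dvd_coprimes h5 dvd_rfl h4)
      have h2 : (x : C) * ⟨v, hvC⟩ * x⁻¹ = ⟨v, hvC⟩ := by
        have h3 := congrArg (fun a : MulAut M => ((a w : M) : C)) h1
        simpa using h3
      exact hcommV (mul_inv_eq_iff_eq_mul.mp (congrArg Subtype.val h2))
    rcases hcases with ⟨n, ⟨e⟩⟩ | hq | h4
    · have hcn : Nat.card M = Nat.card (DihedralGroup n) := Nat.card_congr e.toEquiv
      rw [DihedralGroup.nat_card] at hcn
      have hn0 : n ≠ 0 := by
        rintro rfl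
        have : 0 < Nat.card M := Nat.card_pos
        omega
      rcases Nat.lt_or_ge n 4 with hn | hn
      · apply hfour
        obtain ⟨j, hj⟩ := IsPGroup.iff_card.mp hMp
        have h4M : 4 ∣ Nat.card M := by
          rw [← hcard]; exact card_subgroup_dvd_card _
        rw [hj] at hcn h4M
        interval_cases n
        · exact absurd rfl hn0
        · rw [hcn] at h4M; omega
        · rw [hj, hcn]
        · exfalso
          have h5 : 3 ∣ 2 ^ j := by rw [hcn]; norm_num
          have := (Nat.prime_dvd_prime_iff_eq Nat.prime_three Nat.prime_two).mp (Nat.prime_three.dvd_of_dvd_pow h5)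
          omega
      · exact haut (S3116.result hMp (Or.inl ⟨n, hn, ⟨e⟩⟩))
    · exact haut (S3116.result hMp (Or.inr hq))
    · exact hfour h4
  rw [IsPGroup.iff_orderOf]
  intro x
  obtain ⟨k, m, hm, hk⟩ := Nat.exists_eq_two_pow_mul_odd (orderOf_pos x).ne'
  refine ⟨k, ?_⟩
  have h1 : orderOf (x ^ 2 ^ k) = m := by
    rw [orderOf_pow' x (by positivity), hk, Nat.gcd_eq_right (Dvd.intro _ rfl)]
    exact Nat.mul_div_cancel_left m (by positivity)
  have h2 := hoddone (x ^ 2 ^ k) (by rw [h1]; exact hm)
  rw [h2, orderOf_one] at h1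
  rw [hk, ← h1, mul_one]

end Cfsg.Agent.H9.SC
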