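import Cfsg.Agent.H9.SCA
import Cfsg.Agent.H9.BSWM
import Cfsg.Agent.H4.QDFus4
import Cfsg.Agent.H21.NumPow
import Cfsg.Agent.S1230

set_option autoImplicit false
set_option linter.unusedSectionVars false
set_option linter.style.haveILetI false
set_option linter.unusedVariables false
set_option linter.unusedSimpArgs false
set_option maxHeartbeats 1000000

/-! Simple groups in which non-cyclic subgroups are self-centralizing. -/

open Cfsg Subgroup

namespace Cfsg.Agent.H9.SC

universe u

variable {G : Type u} [Group G] [Finite G]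

/-- simple groups with dihedral Sylow 2-subgroups of order at least 8 that are centralizers of involutions -/
theorem psl_of_dihedral_sylow [IsSimpleGroup G] (S : Sylow 2 G) {n : ℕ} (hn : 4 ≤ n) (e : (S : Subgroup G) ≃* DihedralGroup n)
    {t : G} (ht1 : t ≠ 1) (ht2 : t * t = 1) (hC : centralizer ({t} : Set G) = (S : Subgroup G)) :
    ∃ (F : Type) (_ : Field F) (_ : Fintype F), ringChar F ≠ 2 ∧
      (Fintype.card F = 2 * n + 1 ∨ Fintype.card F + 1 = 2 * n) ∧
      Nonempty (G ≃* Matrix.ProjectiveSpecialLinearGroup (Fin 2) F) := by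
  classical
  haveI : Fact (Nat.Prime 2) := ⟨Nat.prime_two⟩
  haveI : NeZero n := ⟨by omega⟩
  have hScard : Nat.card (S : Subgroup G) = 2 * n := by rw [Nat.card_congr e.toEquiv, DihedralGroup.nat_card]
  have htS : t ∈ (S : Subgroup G) := by rw [← hC]; exact mem_centralizer_singleton_iff.mpr rfl
  have htZ : ∀ s ∈ (S : Subgroup G), s * t = t * s := by
    intro s hs
    rw [← hC] at hs
    exact mem_centralizer_singleton_iff.mp hs
  have hno : ∀ M : Subgroup G, M.Normal → M.index ≠ 2 := by
    intro M hM h2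
    rcases hM.eq_bot_or_eq_top with h | h
    · rw [h, Subgroup.index_bot] at h2
      have h3 : Nat.card (S : Subgroup G) ∣ Nat.card G := Subgroup.card_subgroup_dvd_card _
      rw [hScard, h2] at h3
      have := Nat.le_of_dvd (by norm_num) h3
      omega
    · rw [h, Subgroup.index_top] at h2
      omega
  obtain ⟨A0, hA0S, hA0c, hA0n, s0, hs0S, hs0A, hs02, hs0inv, hcov0⟩ :=
    BSW.dihedral_coords (n := n) e
  have hrel0 : A0.relIndex (S : Subgroup G) = 2 := by
    have h1 := Subgroup.card_mul_index (A0.subgroupOf (S : Subgroup G))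
    have h2 : Nat.card (A0.subgroupOf (S : Subgroup G)) = n := by
      rw [← hA0n]; exact Nat.card_congr (Subgroup.subgroupOfEquivOfLe hA0S).toEquiv
    rw [h2, hScard, mul_comm 2] at h1
    exact Nat.eq_of_mul_eq_mul_left (by omega) h1
  have htA : t ∈ A0 := by
    by_contra htA
    haveI := hA0c
    have h1 : t * s0 ∈ A0 := (hcov0 t htS).resolve_left htA
    obtain ⟨x, hx⟩ := hA0c.exists_ofOrder_eq_natCard
    rw [hA0n] at hx
    have hxo : orderOf (x : G) = n := by rw [Subgroup.orderOf_coe]; exact hx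
    have h2 : t * s0 * x = x * (t * s0) := by
      have := (IsCyclic.commGroup (α := A0)).mul_comm ⟨t * s0, h1⟩ x
      exact congrArg Subtype.val this
    have h3 : (x : G) * t = t * x := htZ x (hA0S x.2)
    have h4 : s0 * x * s0⁻¹ = (x : G) := by
      have h5 : s0 * x = x * s0 := by
        have h6 : t * (s0 * x) = t * (x * s0) := by
          rw [← mul_assoc, h2, ← mul_assoc, h3, mul_assoc]
        exact mul_left_cancel h6
      rw [h5, mul_inv_cancel_right]
    rw [hs0inv x x.2] at h4
    have h5 : (x : G) ^ 2 = 1 := by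
      rw [pow_two]; nth_rewrite 1 [← h4]; exact inv_mul_cancel _
    have h6 := orderOf_dvd_of_pow_eq_one h5
    rw [hxo] at h6
    have := Nat.le_of_dvd (by norm_num) h6
    omega
  have huniq : ∀ x ∈ A0, x * x = 1 → x = 1 ∨ x = t := fun x hx hx2 =>
    BSW.cyclic_uniq hA0c htA hx ht1 ht2 hx2
  have hone := BSW.one_class hno S hA0S hrel0 huniq
  obtain ⟨K, hK⟩ := BSW.of_core S (O := ⊥) (by rw [card_bot]; exact odd_one) hA0S hA0c htA ht1 ht2
    (by intro a _ o ho; rw [mem_bot.mp ho]; simp) hs0S hs0A hs02 hs0inv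
    (by intro x hx; rw [mem_bot.mp hx]; simp) hcov0
    (by
      intro g hg
      refine ⟨1, mem_bot.mpr rfl, g, ?_, (one_mul g).symm⟩
      rw [← hC]; exact mem_centralizer_singleton_iff.mpr hg)
    (by
      intro Y hY hY1
      exact absurd (le_bot_iff.mp hY) hY1) hone
  rw [card_bot, one_mul, hA0n] at hK
  exact BSW.bsw hK hn

theorem catalan {q m : ℕ} (hm : 3 ≤ m) (hq : IsPrimePow q) (h : q = 2 ^ m + 1 ∨ q + 1 = 2 ^ m) :
    q = 9 ∨ q.Prime := by
  rw [isPrimePow_nat_iff] at hq
  obtain ⟨p, k, hp, hk, hpk⟩ := hq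
  rcases h with h | h
  · have hp2 : p ≠ 2 := by
      rintro rfl
      have h1 : 2 ∣ 2 ^ k := dvd_pow_self 2 hk.ne'
      have h2 : 2 ∣ 2 ^ m := dvd_pow_self 2 (by omega)
      omega
    rcases H21.pow_eq_two_pow_add_one k m p hp hp2 hk (by rw [hpk, h]) with h1 | ⟨h1, h2⟩
    · right
      rw [← hpk, h1, pow_one]; exact hp
    · left
      rw [← hpk, h1, h2]; norm_num
  · right
    have h1 := H21.two_pow_eq_pow_add_one m k p hp hk (by rw [hpk, h])
    rw [← hpk, h1, pow_one]; exact hp

theorem exists_pair [IsSimpleGroup G] (hna : ¬ IsMulCommutative G) (h2 : 2 ∣ Nat.card G) (S : Sylow 2 G) :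
    ∃ t ∈ (S : Subgroup G), ∃ v ∈ (S : Subgroup G), t ≠ 1 ∧ v ≠ 1 ∧ t * t = 1 ∧ v * v = 1 ∧ v ≠ t ∧
      ∀ s ∈ (S : Subgroup G), s * t = t * s := by
  classical
  haveI : Fact (Nat.Prime 2) := ⟨Nat.prime_two⟩
  have hS1 : (S : Subgroup G) ≠ ⊥ := by
    intro e
    apply S.not_dvd_index
    rw [e, index_bot]; exact h2
  haveI : Nontrivial S := (Subgroup.nontrivial_iff_ne_bot _).mpr hS1
  haveI := S.isPGroup'.center_nontrivial
  have hcp : IsPGroup 2 (center (S : Subgroup G)) := S.isPGroup'.to_subgroup _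
  obtain ⟨z, hz⟩ : ∃ z : center (S : Subgroup G), orderOf z = 2 := by
    apply exists_prime_orderOf_dvd_card'
    obtain ⟨j, hj⟩ := IsPGroup.iff_card.mp hcp
    rw [hj]
    apply dvd_pow_self
    rintro rfl
    rw [pow_zero] at hj
    have := Finite.one_lt_card (α := center (S : Subgroup G))
    omega
  have hzo : orderOf ((z : (S : Subgroup G)) : G) = 2 := by rw [Subgroup.orderOf_coe, Subgroup.orderOf_coe, hz]
  obtain ⟨hz1, hz2⟩ := BSW.mul_self_of_orderOf hzo
  have hzc : ∀ s ∈ (S : Subgroup G), s * z = z * s := by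
    intro s hs
    exact congrArg Subtype.val (mem_center_iff.mp z.2 ⟨s, hs⟩)
  refine ⟨z, (z : (S : Subgroup G)).2, ?_⟩
  by_contra hcon
  push Not at hcon
  -- unique involution
  have huniq : ∀ y ∈ (S : Subgroup G), orderOf y = 2 → y = z := by
    intro y hy hyo
    by_contra hne
    obtain ⟨hy1, hy2⟩ := BSW.mul_self_of_orderOf hyo
    obtain ⟨s, hs, hs2⟩ := hcon y hy hz1 hy1 hz2 hy2 hne
    exact hs2 (hzc s hs)
  have hiso := H4.isolated_of_unique S hzo huniq
  have hO : oddCore G = ⊥ := by
    rcases (inferInstance : (oddCore G).Normal).eq_bot_or_eq_top with e | e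
    · exact e
    · exfalso
      have h3 := H4.oddCore_odd G
      rw [e, card_top] at h3
      rw [Nat.odd_iff] at h3
      omega
  have hcen := H4.zstar_central hO hiso
  apply hna
  rcases (inferInstance : (center G).Normal).eq_bot_or_eq_top with e | e
  · rw [e] at hcen
    exact absurd (mem_bot.mp hcen) hz1
  · exact ⟨⟨fun a b => by
      have : b ∈ center G := by rw [e]; exact mem_top b
      exact mem_center_iff.mp this a⟩⟩

/-- centralizers of central involutions -/
theorem cent_eq (h : SelfC G) (S : Sylow 2 G) {t v : G} (htS : t ∈ (S : Subgroup G)) (hvS : v ∈ (S : Subgroup G))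
    (ht : t * t = 1) (hv : v * v = 1) (ht1 : t ≠ 1) (hv1 : v ≠ 1) (hne : v ≠ t)
    (hc : ∀ s ∈ (S : Subgroup G), s * t = t * s) : centralizer ({t} : Set G) = (S : Subgroup G) := by
  have htv : t * v = v * t := (hc v hvS).symm
  have h1 := isPGroup_centralizer h ht hv htv ht1 hv1 hne
  have hle : (S : Subgroup G) ≤ centralizer ({t} : Set G) := fun s hs => mem_centralizer_singleton_iff.mpr (hc s hs)
  exact S.is_maximal' h1 hle

theorem card_cent_v (h : SelfC G) (S : Sylow 2 G) {t v : G} (htS : t ∈ (S : Subgroup G)) (hvS : v ∈ (S : Subgroup G))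
    (ht : t * t = 1) (hv : v * v = 1) (ht1 : t ≠ 1) (hv1 : v ≠ 1) (hne : v ≠ t)
    (hc : ∀ s ∈ (S : Subgroup G), s * t = t * s) :
    Nat.card (centralizer ({(⟨v, hvS⟩ : (S : Subgroup G))} : Set (S : Subgroup G))) = 4 := by
  classical
  have htv : t * v = v * t := (hc v hvS).symm
  set w : (S : Subgroup G) := ⟨v, hvS⟩ with hw
  let f : centralizer ({w} : Set (S : Subgroup G)) → kl t v ht hv htv := fun x => ⟨((x : (S : Subgroup G)) : G), by
    have h1 : (x : (S : Subgroup G)) * w = w * x := mem_centralizer_singleton_iff.mp x.2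
    exact cent_kl h ht hv htv ht1 hv1 hne (hc _ (x : (S : Subgroup G)).2) (congrArg Subtype.val h1)⟩
  have hf : Function.Injective f := by
    intro x y hxy
    exact Subtype.ext (Subtype.ext (congrArg (fun a : kl t v ht hv htv => (a : G)) hxy))
  have hle : Nat.card (centralizer ({w} : Set (S : Subgroup G))) ≤ 4 :=
    (Nat.card_le_card_of_injective f hf).trans card_kl_le
  have hwC : w ∈ centralizer ({w} : Set (S : Subgroup G)) := mem_centralizer_singleton_iff.mpr rfl
  have hzC : (⟨t, htS⟩ : (S : Subgroup G)) ∈ centralizer ({w} : Set (S : Subgroup G)) := by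
    apply mem_centralizer_singleton_iff.mpr
    exact Subtype.ext htv
  have hwo : orderOf w = 2 := by
    rw [hw, Subgroup.orderOf_mk]; exact BSW.orderOf_two hv1 hv
  have h2 : 2 ∣ Nat.card (centralizer ({w} : Set (S : Subgroup G))) := by
    have := BSW.orderOf_dvd_of_mem hwC
    rwa [hwo] at this
  have hz1 : (⟨t, htS⟩ : (S : Subgroup G)) ≠ 1 := fun e => ht1 (congrArg Subtype.val e)
  have hw1 : w ≠ 1 := fun e => hv1 (congrArg Subtype.val e)
  have hwz : w ≠ ⟨t, htS⟩ := fun e => hne (congrArg Subtype.val e)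
  have h3 : 3 ≤ Nat.card (centralizer ({w} : Set (S : Subgroup G))) := by
    have h4 : ({1, w, ⟨t, htS⟩} : Set (S : Subgroup G)) ⊆
        (centralizer ({w} : Set (S : Subgroup G)) : Set (S : Subgroup G)) := by
      rintro a (rfl | rfl | rfl)
      · exact one_mem _
      · exact hwC
      · exact hzC
    have h5 := Set.ncard_le_ncard h4 (Set.toFinite _)
    rw [Set.ncard_insert_of_notMem, Set.ncard_pair hwz] at h5
    · rw [← Nat.card_coe_set_eq] at h5
      exact h5
    · rintro (e | e)
      · exact hw1 e.symm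
      · exact hz1 e.symm
  omega

/-- quasi-dihedral Sylow 2-subgroups are impossible -/
theorem not_qd [IsSimpleGroup G] (h : SelfC G) (S : Sylow 2 G) (hq : IsQuasiDihedral (S : Subgroup G)) : False := by
  classical
  haveI : Fact (Nat.Prime 2) := ⟨Nat.prime_two⟩
  obtain ⟨k, x, y, z, hQ⟩ := H4.exists_QD hq
  have he := hQ.he
  -- the central involution
  have hzz : (z : G) * z = 1 := congrArg Subtype.val hQ.zz
  have hyy : (y : G) * y = 1 := congrArg Subtype.val hQ.yy
  have hz1 : (z : G) ≠ 1 := fun e => hQ.z_ne (Subtype.ext e)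
  have hy1 : (y : G) ≠ 1 := by
    intro e
    have : y = 1 := Subtype.ext e
    exact hQ.y_notMem (by rw [this]; exact one_mem _)
  have hyz : (y : G) ≠ z := by
    intro e
    have : y = z := Subtype.ext e
    exact hQ.y_notMem (by rw [this, hQ.hz]; exact pow_mem (mem_zpowers x) _)
  have hzc : ∀ s ∈ (S : Subgroup G), s * z = z * s := by
    intro s hs
    have h1 : Commute z (⟨s, hs⟩ : (S : Subgroup G)) := by
      rcases hQ.cover ⟨s, hs⟩ with ⟨j, hj⟩ | ⟨j, hj⟩
      · rw [hj]; exact hQ.zx.zpow_right j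
      · rw [hj]; exact (hQ.zx.zpow_right j).mul_right hQ.zy
    exact (congrArg Subtype.val h1.eq).symm
  have hC := cent_eq h S z.2 y.2 hzz hyy hz1 hy1 hyz hzc
  have hconj : IsConj ((x ^ (2 * (2 ^ k : ℕ) : ℤ) : (S : Subgroup G)) : G)
      ((x ^ (2 * 0 + 1 : ℤ) * y : (S : Subgroup G)) : G) := by
    by_contra hcon
    obtain ⟨K, hKn, hK2, -⟩ := hQ.exists_K_even hcon
    rcases hKn.eq_bot_or_eq_top with e | e
    · rw [e, index_bot] at hK2
      have h3 : Nat.card (S : Subgroup G) ∣ Nat.card G := Subgroup.card_subgroup_dvd_card _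
      rw [hQ.card, hK2] at h3
      have := Nat.le_of_dvd (by norm_num) h3
      omega
    · rw [e, index_top] at hK2
      omega
  obtain ⟨g, hg⟩ := isConj_iff.mp hconj
  set a : G := ((x ^ (2 * (2 ^ k : ℕ) : ℤ) : (S : Subgroup G)) : G) with ha
  set b : G := ((x ^ (2 * 0 + 1 : ℤ) * y : (S : Subgroup G)) : G) with hb
  -- the centralizer of `a` is large
  have h1 : 8 ≤ Nat.card (centralizer ({a} : Set G)) := by
    have h2 : (zpowers x).map (S : Subgroup G).subtype ≤ centralizer ({a} : Set G) := by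
      rintro w ⟨w', hw', rfl⟩
      obtain ⟨j, rfl⟩ := mem_zpowers_iff.mp hw'
      apply mem_centralizer_singleton_iff.mpr
      have h3 : x ^ j * x ^ (2 * (2 ^ k : ℕ) : ℤ) = x ^ (2 * (2 ^ k : ℕ) : ℤ) * x ^ j := by
        rw [← zpow_add, ← zpow_add, add_comm]
      exact congrArg Subtype.val h3
    have h3 := card_dvd_of_le h2
    rw [card_map_of_injective (Subgroup.subtype_injective _), Nat.card_zpowers, hQ.ox] at h3
    have := Nat.le_of_dvd Nat.card_pos h3
    omega
  -- the centralizer of `b` is small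
  have h2 : Nat.card (centralizer ({b} : Set G)) ≤ 4 := by
    have hb2 : b * b = z := by
      have := hQ.refl_sq (2 * 0 + 1)
      rw [hQ.zpow_z_odd] at this
      exact congrArg Subtype.val this
    have hsub : ((centralizer ({b} : Set G) : Subgroup G) : Set G) ⊆ {1, (z : G), b, (z : G) * b} := by
      intro c hc
      have hcb := mem_centralizer_singleton_iff.mp hc
      have hcS : c ∈ (S : Subgroup G) := by
        rw [← hC]
        apply mem_centralizer_singleton_iff.mpr
        rw [← hb2, ← mul_assoc, hcb, mul_assoc, hcb, mul_assoc]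
      -- elements of ⟨x⟩ commuting with b
      have key : ∀ j : ℤ, x ^ j * (x ^ (2 * 0 + 1 : ℤ) * y) = (x ^ (2 * 0 + 1 : ℤ) * y) * x ^ j →
          x ^ j = 1 ∨ x ^ j = z := by
        intro j hj
        rw [hQ.refl_mul_zpow, ← mul_assoc, ← zpow_add, hQ.refl_eq] at hj
        obtain ⟨l, hl⟩ := hj
        -- 2 j - 4 e j = 8 e l
        push_cast at hl
        have h5 : j * (1 - 2 * (2:ℤ) ^ k) = 4 * (2:ℤ) ^ k * l := by linarith
        have h6 : (4 * (2:ℤ) ^ k) ∣ j * (1 - 2 * (2:ℤ) ^ k) := ⟨l, h5⟩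
        have h7 : IsCoprime (4 * (2:ℤ) ^ k) (1 - 2 * (2:ℤ) ^ k) := ⟨(2:ℤ)^k, 1 + 2 * (2:ℤ)^k, by ring⟩
        have h8 : (4 * (2:ℤ) ^ k) ∣ j := h7.dvd_of_dvd_mul_right h6
        obtain ⟨r, hr⟩ := h8
        have h9 : x ^ j = z ^ r := by
          rw [hQ.zpow_z, hr]; push_cast; rfl
        rcases Int.even_or_odd' r with ⟨r', hr' | hr'⟩
        · left; rw [h9, hr', hQ.zpow_z_even]
        · right; rw [h9, hr', hQ.zpow_z_odd]
      have hcb' : (⟨c, hcS⟩ : (S : Subgroup G)) * (x ^ (2 * 0 + 1 : ℤ) * y) = (x ^ (2 * 0 + 1 : ℤ) * y) * ⟨c, hcS⟩ :=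
        Subtype.ext hcb
      rcases hQ.cover ⟨c, hcS⟩ with ⟨j, hj⟩ | ⟨j, hj⟩
      · rw [hj] at hcb'
        rcases key j hcb' with e | e
        · left
          have : (⟨c, hcS⟩ : (S : Subgroup G)) = 1 := hj.trans e
          exact congrArg Subtype.val this
        · right; left
          have : (⟨c, hcS⟩ : (S : Subgroup G)) = z := hj.trans e
          exact congrArg Subtype.val this
      · -- c = x^j y = x^(j-1) (x y)
        have h5 : (⟨c, hcS⟩ : (S : Subgroup G)) = x ^ (j - 1) * (x ^ (2 * 0 + 1 : ℤ) * y) := by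
          rw [hj, ← mul_assoc, ← zpow_add]; congr 2; ring
        have h6 : x ^ (j - 1) * (x ^ (2 * 0 + 1 : ℤ) * y) = (x ^ (2 * 0 + 1 : ℤ) * y) * x ^ (j - 1) := by
          rw [h5] at hcb'
          have h7 : x ^ (j - 1) * (x ^ (2 * 0 + 1 : ℤ) * y) * (x ^ (2 * 0 + 1 : ℤ) * y) =
            (x ^ (2 * 0 + 1 : ℤ) * y) * x ^ (j - 1) * (x ^ (2 * 0 + 1 : ℤ) * y) := by
            rw [hcb']; simp only [mul_assoc]
          exact mul_right_cancel h7
        rcases key (j - 1) h6 with e | e
        · right; right; left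
          rw [e, one_mul] at h5
          exact congrArg Subtype.val h5
        · right; right; right
          rw [e] at h5
          exact congrArg Subtype.val h5
    have h5 := Set.ncard_le_ncard hsub (Set.toFinite _)
    rw [← Nat.card_coe_set_eq] at h5
    refine h5.trans ?_
    refine (Set.ncard_insert_le _ _).trans ?_
    have h6 := Set.ncard_insert_le (z : G) ({b, (z : G) * b} : Set G)
    have h7 := Set.ncard_insert_le b ({(z : G) * b} : Set G)
    rw [Set.ncard_singleton] at h7
    omega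
  -- conjugate elements
  have h3 : Nat.card (centralizer ({a} : Set G)) ≤ Nat.card (centralizer ({b} : Set G)) := by
    let f : centralizer ({a} : Set G) → centralizer ({b} : Set G) := fun w => ⟨g * w * g⁻¹, by
      have hw := mem_centralizer_singleton_iff.mp w.2
      apply mem_centralizer_singleton_iff.mpr
      rw [← hg]
      calc g * w * g⁻¹ * (g * a * g⁻¹) = g * ((w : G) * a) * g⁻¹ := by group
        _ = g * (a * w) * g⁻¹ := by rw [hw]
        _ = g * a * g⁻¹ * (g * w * g⁻¹) := by group⟩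
    apply Nat.card_le_card_of_injective f
    intro w w' hww
    have h4 : g * (w : G) * g⁻¹ = g * w' * g⁻¹ := congrArg Subtype.val hww
    exact Subtype.ext (mul_left_cancel (mul_right_cancel h4))
  omega

theorem forward [IsSimpleGroup G] (hna : ¬ IsMulCommutative G) (h2 : 2 ∣ Nat.card G) (h : SelfC G) :
    ∃ (F : Type) (_ : Field F) (_ : Fintype F),
      (Fintype.card F = 4 ∨ Fintype.card F = 9 ∨ ((Fintype.card F).Prime ∧ ∃ k : ℕ, Fintype.card F = 2 ^ k + 1 ∨ Fintype.card F = 2 ^ k - 1)) ∧
      Nonempty (G ≃* Matrix.ProjectiveSpecialLinearGroup (Fin 2) F) := by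
  classical
  haveI : Fact (Nat.Prime 2) := ⟨Nat.prime_two⟩
  obtain ⟨S⟩ : Nonempty (Sylow 2 G) := inferInstance
  obtain ⟨t, htS, v, hvS, ht1, hv1, ht, hv, hne, hc⟩ := exists_pair hna h2 S
  have hC := cent_eq h S htS hvS ht hv ht1 hv1 hne hc
  have h4 := card_cent_v h S htS hvS ht hv ht1 hv1 hne hc
  have hwo : orderOf (⟨v, hvS⟩ : (S : Subgroup G)) = 2 := by
    rw [Subgroup.orderOf_mk]; exact BSW.orderOf_two hv1 hv
  have hfour : Nat.card (S : Subgroup G) = 4 → ∃ (F : Type) (_ : Field F) (_ : Fintype F),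
      (Fintype.card F = 4 ∨ Fintype.card F = 9 ∨ ((Fintype.card F).Prime ∧ ∃ k : ℕ, Fintype.card F = 2 ^ k + 1 ∨ Fintype.card F = 2 ^ k - 1)) ∧
      Nonempty (G ≃* Matrix.ProjectiveSpecialLinearGroup (Fin 2) F) := by
    intro hS4
    have hScomm : ∀ a ∈ (S : Subgroup G), ∀ b ∈ (S : Subgroup G), a * b = b * a := by
      intro a ha b hb
      have := IsPGroup.commutative_of_card_eq_prime_sq (p := 2) (G := (S : Subgroup G)) (by rw [hS4]; norm_num)
        ⟨a, ha⟩ ⟨b, hb⟩
      exact congrArg Subtype.val this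
    have hSsq : ∀ a ∈ (S : Subgroup G), a * a = 1 := by
      intro a ha
      have htv : t * v = v * t := (hc v hvS).symm
      have e5 : t * v * (t * v) = 1 := by
        calc t * v * (t * v) = t * (v * t) * v := by group
          _ = t * (t * v) * v := by rw [htv]
          _ = (t * t) * (v * v) := by group
          _ = 1 := by rw [ht, hv, one_mul]
      rcases cent_kl h ht hv htv ht1 hv1 hne (hc a ha) (hScomm a ha v hvS) with e | e | e | e <;> rw [e]
      · exact one_mul 1
      · exact ht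
      · exact hv
      · exact e5
    have hnc : ¬ IsCyclic (S : Subgroup G) := by
      intro hcyc
      rcases BSW.cyclic_uniq hcyc htS hvS ht1 ht hv with e | e
      · exact hv1 e
      · exact hne e
    have hnn : ¬ (S : Subgroup G).Normal := by
      intro hn
      rcases hn.eq_bot_or_eq_top with e | e
      · rw [e] at htS
        exact ht1 (mem_bot.mp htS)
      · apply hna
        exact ⟨⟨fun a b => hScomm a (by rw [e]; exact mem_top a) b (by rw [e]; exact mem_top b)⟩⟩
    obtain ⟨F, iF, iFin, hF, hiso⟩ := S1230.result S hnc hnn (by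
      intro u hu
      obtain ⟨g, hg⟩ := BSW.exists_conj_sylow S hu
      obtain ⟨hu1, hu2⟩ := BSW.mul_self_of_orderOf hu
      have hu1' : g * u * g⁻¹ ≠ 1 := BSW.conj_ne_one hu1
      have hcu : centralizer ({g * u * g⁻¹} : Set G) = (S : Subgroup G) := by
        by_cases hut : t = g * u * g⁻¹
        · exact cent_eq h S hg hvS (hSsq _ hg) hv hu1' hv1 (by rw [← hut]; exact hne)
            (fun s hs => hScomm s hs _ hg)
        · exact cent_eq h S hg htS (hSsq _ hg) ht hu1' ht1 hut (fun s hs => hScomm s hs _ hg)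
      have hmem : ∀ c ∈ centralizer ({u} : Set G), g * c * g⁻¹ ∈ (S : Subgroup G) := by
        intro c hc'
        rw [← hcu]
        have h5 := mem_centralizer_singleton_iff.mp hc'
        apply mem_centralizer_singleton_iff.mpr
        calc g * c * g⁻¹ * (g * u * g⁻¹) = g * (c * u) * g⁻¹ := by group
          _ = g * (u * c) * g⁻¹ := by rw [h5]
          _ = g * u * g⁻¹ * (g * c * g⁻¹) := by group
      refine ⟨⟨⟨fun a b => ?_⟩⟩, ?_⟩
      · apply Subtype.ext
        change (a : G) * b = b * a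
        have h5 := hScomm _ (hmem a a.2) _ (hmem b b.2)
        have h6 : g * ((a : G) * b) * g⁻¹ = g * ((b : G) * a) * g⁻¹ := by
          calc g * ((a : G) * b) * g⁻¹ = (g * a * g⁻¹) * (g * b * g⁻¹) := by group
            _ = (g * b * g⁻¹) * (g * a * g⁻¹) := h5
            _ = g * ((b : G) * a) * g⁻¹ := by group
        exact mul_left_cancel (mul_right_cancel h6)
      · intro c hc'
        have h5 := hSsq _ (hmem c hc')
        have h6 : g * (c * c) * g⁻¹ = 1 := by rw [← h5]; group
        rw [pow_two]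
        by_contra hne'
        exact BSW.conj_ne_one hne' h6)
    exact ⟨F, iF, iFin, Or.inl (by rw [hF]; exact hS4), hiso⟩
  rcases S3224.result S.isPGroup' _ hwo h4 with ⟨n, ⟨e⟩⟩ | hq | hS4
  · have hcn : Nat.card (S : Subgroup G) = 2 * n := by rw [Nat.card_congr e.toEquiv, DihedralGroup.nat_card]
    obtain ⟨j, hj⟩ := IsPGroup.iff_card.mp S.isPGroup'
    have h4S : 4 ≤ Nat.card (S : Subgroup G) := by
      rw [← h4]
      exact Nat.le_of_dvd Nat.card_pos (card_subgroup_dvd_card _)
    by_cases hS4 : Nat.card (S : Subgroup G) = 4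
    · exact hfour hS4
    · have hj3 : 3 ≤ j := by
        by_contra hlt
        have hle : j ≤ 2 := by omega
        have h5 : 2 ^ j ≤ 2 ^ 2 := Nat.pow_le_pow_right (by norm_num) hle
        rw [← hj] at h5
        omega
      have h8 : 2 ^ 3 ≤ 2 ^ j := Nat.pow_le_pow_right (by norm_num) hj3
      rw [← hj] at h8
      have hn4 : 4 ≤ n := by omega
      obtain ⟨F, iF, iFin, hF, hcF, hiso⟩ := psl_of_dihedral_sylow S hn4 e ht1 ht hC
      have hpp : IsPrimePow (Fintype.card F) := Fintype.isPrimePow_card_of_field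
      have hcF' : Fintype.card F = 2 ^ j + 1 ∨ Fintype.card F + 1 = 2 ^ j := by
        rw [← hj, hcn]; exact hcF
      refine ⟨F, iF, iFin, Or.inr ?_, hiso⟩
      rcases catalan hj3 hpp hcF' with h9 | hpr
      · exact Or.inl h9
      · right
        refine ⟨hpr, j, ?_⟩
        rcases hcF' with h5 | h5
        · exact Or.inl h5
        · right; omega
  · exact (not_qd h S hq).elim
  · exact hfour hS4

end Cfsg.Agent.H9.SC
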