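import Cfsg.Agent.H9.SCA
import Cfsg.Agent.H16.Trace
import Cfsg.Agent.H16.TorusSyl

set_option autoImplicit false
set_option linter.unusedSectionVars false
set_option linter.style.haveILetI false
set_option linter.unusedVariables false
set_option linter.unusedSimpArgs false
set_option maxHeartbeats 1000000

/-! Self-centralizing non-cyclic subgroups in `PSL(2,q)`. -/

open Cfsg Subgroup

namespace Cfsg.Agent.H9.SC

open H16 Matrix

section gen

variable {G : Type*} [Group G] [Finite G]

theorem isCyclic_of_le {H K : Subgroup G} (h : H ≤ K) (hK : IsCyclic K) : IsCyclic H :=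
  isCyclic_of_injective (Subgroup.inclusion h) (Subgroup.inclusion_injective h)

theorem mem_of_prime_dvd {H T : Subgroup G} (hH : ¬ IsCyclic H) (hle : H ≤ T) {p : ℕ} (hp : p.Prime)
    (hT : Nat.card T ∣ p) : False := by
  haveI := Fact.mk hp
  apply hH
  rcases (Nat.dvd_prime hp).mp ((card_dvd_of_le hle).trans hT) with h | h
  · exact isCyclic_of_card_dvd_prime (p := p) (by rw [h]; exact one_dvd _)
  · exact isCyclic_of_prime_card h

theorem eq_of_prime_sq_dvd {H T : Subgroup G} (hH : ¬ IsCyclic H) (hle : H ≤ T) {p : ℕ} (hp : p.Prime)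
    (hT : Nat.card T ∣ p ^ 2) : H = T := by
  haveI := Fact.mk hp
  have h1 := (card_dvd_of_le hle).trans hT
  obtain ⟨k, hk, hk2⟩ := (Nat.dvd_prime_pow hp).mp h1
  have h2 : k = 2 := by
    by_contra hne
    apply hH
    apply isCyclic_of_card_dvd_prime (p := p)
    rw [hk2]
    have : k ≤ 1 := by omega
    calc p ^ k ∣ p ^ 1 := pow_dvd_pow p this
      _ = p := pow_one p
  rw [h2] at hk2
  apply Subgroup.eq_of_le_of_card_ge hle
  rw [hk2]
  exact Nat.le_of_dvd (pow_pos hp.pos 2) hT

/-- a non-cyclic subgroup of a group with a cyclic 2-subgroup of index two contains its involution -/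
theorem mem_of_cyclic {H T : Subgroup G} (hH : ¬ IsCyclic H) (hT : IsCyclic T) (hTp : IsPGroup 2 T)
    (hidx : ∀ a ∈ H, ∀ b ∈ H, a ∉ T → b ∉ T → a * b⁻¹ ∈ T) {g : G} (hg : g ∈ T) (hg1 : g ≠ 1) (hg2 : g * g = 1) : g ∈ H := by
  classical
  haveI : Fact (Nat.Prime 2) := ⟨Nat.prime_two⟩
  by_cases hHT : H ⊓ T = ⊥
  · exfalso
    apply hH
    apply isCyclic_of_card_dvd_prime (p := 2)
    have h1 : ∀ a ∈ H, ∀ b ∈ H, a ≠ 1 → b ≠ 1 → a = b := by
      intro a ha b hb ha1 hb1
      have ha2 : a ∉ T := fun hc => ha1 (mem_bot.mp (by rw [← hHT]; exact mem_inf.mpr ⟨ha, hc⟩))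
      have hb2 : b ∉ T := fun hc => hb1 (mem_bot.mp (by rw [← hHT]; exact mem_inf.mpr ⟨hb, hc⟩))
      have h2 := hidx a ha b hb ha2 hb2
      have h3 : a * b⁻¹ ∈ H ⊓ T := mem_inf.mpr ⟨H.mul_mem ha (H.inv_mem hb), h2⟩
      rw [hHT, mem_bot] at h3
      exact mul_inv_eq_one.mp h3
    by_cases hb : H = ⊥
    · rw [hb, card_bot]; exact one_dvd _
    · obtain ⟨a, ha, ha1⟩ := (bot_or_exists_ne_one H).resolve_left hb
      have h2 : ((H : Subgroup G) : Set G) = {1, a} := by
        ext x
        constructor
        · intro hx
          by_cases hx1 : x = 1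
          · left; exact hx1
          · right; exact h1 x hx a ha hx1 ha1
        · rintro (rfl | rfl)
          · exact one_mem H
          · exact ha
      have h3 : Nat.card H = 2 := by
        change Nat.card ((H : Subgroup G) : Set G) = 2
        rw [Nat.card_coe_set_eq, h2, Set.ncard_pair (Ne.symm ha1)]
      rw [h3]
  · obtain ⟨x, hx, hx1⟩ := (bot_or_exists_ne_one _).resolve_left hHT
    obtain ⟨hxH, hxT⟩ := mem_inf.mp hx
    -- an involution in ⟨x⟩
    have hpx : IsPGroup 2 (zpowers x) := hTp.to_le (zpowers_le.mpr hxT)
    have h2 : 2 ∣ Nat.card (zpowers x) := by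
      obtain ⟨j, hj⟩ := IsPGroup.iff_card.mp hpx
      rw [hj]
      apply dvd_pow_self
      rintro rfl
      rw [pow_zero, Nat.card_zpowers] at hj
      exact hx1 (orderOf_eq_one_iff.mp hj)
    obtain ⟨y, hy⟩ := exists_prime_orderOf_dvd_card' (G := zpowers x) 2 h2
    have hyo : orderOf (y : G) = 2 := by rw [Subgroup.orderOf_coe]; exact hy
    obtain ⟨hy1, hy2⟩ := BSW.mul_self_of_orderOf hyo
    have hyT : (y : G) ∈ T := (zpowers_le.mpr hxT) y.2
    have hyH : (y : G) ∈ H := (zpowers_le.mpr hxH) y.2
    rcases BSW.cyclic_uniq hT hg hyT hg1 hg2 hy2 with e | e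
    · exact absurd e hy1
    · rw [← e]; exact hyH

end gen

section psl

variable {F : Type*} [Field F] [Fintype F]

local notation "SL₂" => Matrix.SpecialLinearGroup (Fin 2) F
local notation "M₂" => Matrix (Fin 2) (Fin 2) F
local notation "PL" => Matrix.ProjectiveSpecialLinearGroup (Fin 2) F

/-- the projection -/
def pr (F : Type*) [Field F] : Matrix.SpecialLinearGroup (Fin 2) F →* Matrix.ProjectiveSpecialLinearGroup (Fin 2) F :=
  QuotientGroup.mk' _

theorem pr_surj (x : PL) : ∃ A : SL₂, pr F A = x := QuotientGroup.mk'_surjective _ x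

theorem pr_eq_iff {A B : SL₂} : pr F A = pr F B ↔ B = A ∨ B = -A := psl_mk_eq_iff

theorem trace_neg' (A : SL₂) : ((-A : SL₂) : M₂).trace = - (A : M₂).trace := by
  rw [Matrix.SpecialLinearGroup.coe_neg, Matrix.trace_neg]

/-- commutation in `PSL` -/
theorem comm_cases {A B : SL₂} (h : pr F B * pr F A = pr F A * pr F B) :
    B * A = A * B ∨ (B * A = -(A * B) ∧ (2 : F) * (A : M₂).trace = 0) := by
  rw [← map_mul, ← map_mul, pr_eq_iff] at h
  rcases h with h | h
  · left; exact h.symm
  · right
    have h1 : B * A = -(A * B) := by rw [h, neg_neg]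
    refine ⟨h1, ?_⟩
    -- trace A = trace (B A B⁻¹) = - trace A
    have h2 : B * A * B⁻¹ = -A := by
      rw [h1, neg_mul, mul_assoc, mul_inv_cancel, mul_one]
    have h3 : ((B * A * B⁻¹ : SL₂) : M₂).trace = (A : M₂).trace := by
      rw [Matrix.SpecialLinearGroup.coe_mul, Matrix.trace_mul_comm, ← Matrix.SpecialLinearGroup.coe_mul,
        ← mul_assoc, inv_mul_cancel, one_mul]
    rw [h2, trace_neg'] at h3
    linear_combination -h3

theorem finite_pl : Finite PL := by
  haveI : Finite SL₂ := inferInstance
  exact Finite.of_surjective (pr F) pr_surj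

/-- the torus -/
def tor (A : SL₂) : Subgroup PL := (centralizer ({A} : Set SL₂)).map (pr F)

theorem pr_mem_tor {A B : SL₂} (h : B * A = A * B) : pr F B ∈ tor A :=
  Subgroup.mem_map_of_mem _ (mem_centralizer_singleton_iff.mpr h)

theorem isCyclic_tor {A : SL₂} (h : IsCyclic (centralizer ({A} : Set SL₂))) : IsCyclic (tor A) := by
  unfold tor
  haveI := h
  exact isCyclic_of_surjective _ ((pr F).subgroupMap_surjective (centralizer ({A} : Set SL₂)))

theorem card_tor_dvd (A : SL₂) : Nat.card (tor A) ∣ Nat.card (centralizer ({A} : Set SL₂)) := by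
  unfold tor
  exact Subgroup.card_map_dvd _ _

theorem two_mul_card_tor {A : SL₂} (h2 : (2 : F) ≠ 0) :
    2 * Nat.card (tor A) = Nat.card (centralizer ({A} : Set SL₂)) := by
  classical
  haveI := finite_pl (F := F)
  set C := centralizer ({A} : Set SL₂) with hC
  let f : C →* PL := (pr F).comp C.subtype
  have hrange : f.range = tor A := by
    unfold tor
    rw [MonoidHom.range_comp, Subgroup.range_subtype]
  have hker : Nat.card f.ker = 2 := by
    have hneg : (-1 : SL₂) ∈ C := by
      rw [mem_centralizer_singleton_iff]; simp
    have hne : (-1 : SL₂) ≠ 1 := by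
      intro e
      have h3 := congrArg (fun X : SL₂ => (X : M₂) 0 0) e
      simp at h3
      have h4 : (2 : F) = 0 := by
        have : (1 : F) + 1 = 0 := by nth_rewrite 1 [← h3]; ring
        linear_combination this
      exact h2 h4
    have h3 : ((f.ker : Subgroup C) : Set C) = {1, ⟨-1, hneg⟩} := by
      ext x
      constructor
      · intro hx
        have h4 : pr F (x : SL₂) = pr F 1 := by
          rw [map_one]; exact hx
        rw [pr_eq_iff] at h4
        rcases h4 with h4 | h4
        · left; exact Subtype.ext h4.symm
        · right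
          apply Subtype.ext
          change (x : SL₂) = -1
          rw [h4, neg_neg]
      · rintro (rfl | rfl)
        · exact one_mem _
        · change pr F (-1) = 1
          rw [← map_one (pr F), pr_eq_iff]
          right; rw [neg_neg]
    change Nat.card ((f.ker : Subgroup C) : Set C) = 2
    rw [Nat.card_coe_set_eq, h3, Set.ncard_pair]
    intro e
    exact hne (congrArg Subtype.val e).symm
  have h5 := card_mul_index f.ker
  rw [Subgroup.index_ker, hker, hrange] at h5
  exact h5

theorem backward (hF : Fintype.card F = 4 ∨ Fintype.card F = 9 ∨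
    ((Fintype.card F).Prime ∧ ∃ k : ℕ, Fintype.card F = 2 ^ k + 1 ∨ Fintype.card F = 2 ^ k - 1)) : SelfC PL := by
  classical
  haveI := finite_pl (F := F)
  haveI : Fact (Nat.Prime 2) := ⟨Nat.prime_two⟩
  intro H hH g hg
  obtain ⟨A, rfl⟩ := pr_surj g
  have hgH : ∀ x ∈ H, x * pr F A = pr F A * x := fun x hx => mem_centralizer_iff.mp hg x hx
  by_cases hA : IsScal (A : M₂)
  · have h1 : pr F A = 1 := psl_mk_one_iff.mpr hA
    rw [h1]; exact one_mem H
  have hAT : pr F A ∈ tor A := pr_mem_tor rfl
  by_cases h2 : (2 : F) = 0
  · -- characteristic two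
    have hle : H ≤ tor A := by
      intro x hx
      obtain ⟨B, rfl⟩ := pr_surj x
      rcases comm_cases (hgH _ hx) with h | ⟨h, -⟩
      · exact pr_mem_tor h
      · apply pr_mem_tor
        rw [h]
        apply sl_ext
        have h3 : ((-(A * B) : SL₂) : M₂) = ((A * B : SL₂) : M₂) := by
          rw [Matrix.SpecialLinearGroup.coe_neg]
          ext i j
          have h4 : -(((A * B : SL₂) : M₂) i j) = ((A * B : SL₂) : M₂) i j := by
            linear_combination (-(((A * B : SL₂) : M₂) i j)) * h2
          exact h4
        exact h3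
    haveI : CharP F 2 := CharTwo.of_one_ne_zero_of_two_eq_zero one_ne_zero h2
    have heven : Fintype.card F % 2 = 0 := FiniteField.even_card_of_char_two (ringChar.eq F 2).symm.symm
    have hq : Fintype.card F = 2 ∨ Fintype.card F = 4 := by
      rcases hF with h | h | ⟨h, -⟩
      · exact Or.inr h
      · omega
      · left
        exact (h.eq_two_or_odd).resolve_right (by omega)
    have hcard : Nat.card (centralizer ({A} : Set SL₂)) = Fintype.card F - 1 ∨
        Nat.card (centralizer ({A} : Set SL₂)) = Fintype.card F + 1 ∨
        Nat.card (centralizer ({A} : Set SL₂)) = Fintype.card F := by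
      by_cases ht : (A : M₂).trace = 0
      · right; right; exact card_cent_sl2_par_even A ht hA
      · by_cases hex : ∀ c : F, c ^ 2 - c * (A : M₂).trace + 1 ≠ 0
        · right; left; exact card_cent_sl2_ell A hex
        · push Not at hex
          obtain ⟨l, hl⟩ := hex
          left
          have hl0 : l ≠ 0 := by
            rintro rfl
            simp at hl
          have htr : (A : M₂).trace = l + l⁻¹ := by
            field_simp
            linear_combination -hl
          apply card_cent_sl2_split A hl0 _ htr
          intro hll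
          apply ht
          rw [htr, inv_eq_of_mul_eq_one_right hll]
          linear_combination l * h2
    have hdvd := card_tor_dvd A
    rcases hq with hq | hq <;> rw [hq] at hcard
    · rcases hcard with h | h | h <;> rw [h] at hdvd
      · exact (mem_of_prime_dvd hH hle Nat.prime_two (hdvd.trans (one_dvd _))).elim
      · exact (mem_of_prime_dvd hH hle Nat.prime_three hdvd).elim
      · exact (mem_of_prime_dvd hH hle Nat.prime_two hdvd).elim
    · rcases hcard with h | h | h <;> rw [h] at hdvd
      · exact (mem_of_prime_dvd hH hle Nat.prime_three hdvd).elim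
      · exact (mem_of_prime_dvd hH hle Nat.prime_five hdvd).elim
      · rw [eq_of_prime_sq_dvd hH hle Nat.prime_two hdvd]
        exact hAT
  · have hodd : Fintype.card F % 2 = 1 := by
      apply FiniteField.odd_card_of_char_ne_two
      intro e
      apply h2
      haveI : CharP F 2 := by rw [← e]; exact ringChar.charP F
      exact CharTwo.two_eq_zero
    -- cyclic centralizers
    have hcyc : (A : M₂).trace ^ 2 ≠ 4 → IsCyclic (centralizer ({A} : Set SL₂)) := by
      intro ht
      by_cases hex : ∀ c : F, c ^ 2 - c * (A : M₂).trace + 1 ≠ 0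
      · exact cent_cyclic_ell hex
      · push Not at hex
        obtain ⟨l, hl⟩ := hex
        have hl0 : l ≠ 0 := by
          rintro rfl
          simp at hl
        have htr : (A : M₂).trace = l + l⁻¹ := by
          field_simp
          linear_combination -hl
        apply split_cyclic hA hl0 _ htr
        intro hll
        apply ht
        rw [htr, inv_eq_of_mul_eq_one_right hll]
        linear_combination 4 * hll
    by_cases ht : (A : M₂).trace = 0
    · -- involution
      have ht4 : (A : M₂).trace ^ 2 ≠ 4 := by
        rw [ht]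
        intro e
        apply h2
        have h4 : (2 : F) * 2 = 0 := by linear_combination -e
        exact mul_self_eq_zero.mp h4
      have hTc := isCyclic_tor (hcyc ht4)
      have hA2 : (A : M₂) * A = -1 := by
        rw [sl_sq, ht, zero_smul, zero_sub]
      have hAA : A * A = -1 := by
        apply sl_ext
        rw [Matrix.SpecialLinearGroup.coe_mul, hA2]; simp
      have hg2 : pr F A * pr F A = 1 := by
        rw [← map_mul, hAA, ← map_one (pr F), pr_eq_iff]
        right; rw [neg_neg]
      have hg1 : pr F A ≠ 1 := fun e => hA (psl_mk_one_iff.mp e)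
      have hpow : ∃ m : ℕ, Nat.card (centralizer ({A} : Set SL₂)) = 2 ^ m := by
        by_cases hex : ∀ c : F, c ^ 2 - c * (A : M₂).trace + 1 ≠ 0
        · rw [card_cent_sl2_ell A hex]
          have hns : ¬ IsSquare (-1 : F) := by
            rintro ⟨c, hc⟩
            apply hex c
            rw [ht]; linear_combination -hc
          rw [FiniteField.isSquare_neg_one_iff, not_not] at hns
          rcases hF with h | h | ⟨hp, k, h | h⟩
          · omega
          · omega
          · -- 2 ^ k + 1 ≡ 3 mod 4
            have hk : k = 1 := by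
              rcases k with _ | _ | k
              · rw [h] at hns; norm_num at hns
              · rfl
              · exfalso
                have : 2 ^ (k + 1 + 1) = 4 * 2 ^ k := by ring
                omega
            exact ⟨2, by rw [h, hk]; norm_num⟩
          · refine ⟨k, ?_⟩
            have := hp.two_le
            omega
        · push Not at hex
          obtain ⟨l, hl⟩ := hex
          have hl0 : l ≠ 0 := by
            rintro rfl
            simp at hl
          have htr : (A : M₂).trace = l + l⁻¹ := by
            field_simp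
            linear_combination -hl
          have hll : l * l ≠ 1 := by
            intro hll
            apply ht4
            rw [htr, inv_eq_of_mul_eq_one_right hll]
            linear_combination 4 * hll
          rw [card_cent_sl2_split A hl0 hll htr]
          have hs : IsSquare (-1 : F) := by
            refine ⟨l, ?_⟩
            rw [ht] at hl
            linear_combination -hl
          rw [FiniteField.isSquare_neg_one_iff] at hs
          rcases hF with h | h | ⟨hp, k, h | h⟩
          · omega
          · exact ⟨3, by rw [h]; norm_num⟩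
          · exact ⟨k, by omega⟩
          · exfalso
            have h5 := hp.two_le
            rcases k with _ | _ | k
            · rw [pow_zero] at h; omega
            · rw [zero_add, pow_one] at h; omega
            · have : 2 ^ (k + 1 + 1) = 4 * 2 ^ k := by ring
              omega
      have hTp : IsPGroup 2 (tor A) := by
        obtain ⟨m, hm⟩ := hpow
        have h5 := card_tor_dvd A
        rw [hm] at h5
        obtain ⟨j, -, hj⟩ := (Nat.dvd_prime_pow Nat.prime_two).mp h5
        exact IsPGroup.of_card hj
      apply mem_of_cyclic hH hTc hTp _ hAT hg1 hg2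
      intro a ha b hb haT hbT
      obtain ⟨B, rfl⟩ := pr_surj a
      obtain ⟨D, rfl⟩ := pr_surj b
      have h5 : B * A = -(A * B) := by
        rcases comm_cases (hgH _ ha) with h | ⟨h, -⟩
        · exact absurd (pr_mem_tor h) haT
        · exact h
      have h6 : D * A = -(A * D) := by
        rcases comm_cases (hgH _ hb) with h | ⟨h, -⟩
        · exact absurd (pr_mem_tor h) hbT
        · exact h
      rw [← map_inv, ← map_mul]
      apply pr_mem_tor
      have h7 : D⁻¹ * A = -(A * D⁻¹) := by
        have h8 : A * D = -(D * A) := by rw [h6, neg_neg]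
        have h9 : D⁻¹ * (A * D) * D⁻¹ = D⁻¹ * (-(D * A)) * D⁻¹ := by rw [h8]
        have e1 : D⁻¹ * (A * D) * D⁻¹ = D⁻¹ * A := by group
        have e2 : D⁻¹ * (-(D * A)) * D⁻¹ = -(A * D⁻¹) := by
          rw [mul_neg, neg_mul, ← mul_assoc, inv_mul_cancel, one_mul]
        rw [← e1, h9, e2]
      rw [mul_assoc, h7, mul_neg, ← mul_assoc, h5, neg_mul, neg_neg, mul_assoc]
    · have hle : H ≤ tor A := by
        intro x hx
        obtain ⟨B, rfl⟩ := pr_surj x
        rcases comm_cases (hgH _ hx) with h | ⟨-, h⟩
        · exact pr_mem_tor h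
        · rcases mul_eq_zero.mp h with h | h
          · exact absurd h h2
          · exact absurd h ht
      by_cases ht4 : (A : M₂).trace ^ 2 = 4
      · -- unipotent
        have h22 : (2 : F) ≠ 0 := h2
        have hcc : Nat.card (centralizer ({A} : Set SL₂)) = 2 * Fintype.card F := by
          apply card_cent_sl2_par_odd A (e := (A : M₂).trace / 2) _ h2 _ hA
          · field_simp
            linear_combination ht4
          · field_simp
            ring
        have h5 := two_mul_card_tor (A := A) h2
        rw [hcc] at h5
        have h6 : Nat.card (tor A) = Fintype.card F := by omega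
        rcases hF with h | h | ⟨h, -⟩
        · omega
        · have h7 : Nat.card (tor A) ∣ 3 ^ 2 := by rw [h6, h]; norm_num
          rw [eq_of_prime_sq_dvd hH hle Nat.prime_three h7]
          exact hAT
        · exact (mem_of_prime_dvd hH hle h (by rw [h6])).elim
      · exact absurd (isCyclic_of_le hle (isCyclic_tor (hcyc ht4))) hH

end psl

end Cfsg.Agent.H9.SC
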