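import Cfsg.Agent.H9.Ord168A
import Cfsg.Agent.H1.Cores
import Cfsg.Agent.S4496

set_option autoImplicit false
set_option linter.unusedSectionVars false
set_option linter.style.haveILetI false
set_option linter.unusedVariables false
set_option linter.unusedSimpArgs false

/-! Groups with an element `x` of prime order with `C(x) = ⟨x⟩`. -/

namespace Cfsg.Agent.H9.SPr

open Subgroup MulAction
open scoped commutatorElement

section
variable {G : Type*} [Group G] [Finite G] {p : ℕ} [hpf : Fact p.Prime] {x : G}
  (hx : orderOf x = p) (hC : centralizer ({x} : Set G) = zpowers x)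
include hx hC

omit [Finite G] hC in
theorem x_ne : x ≠ 1 := by
  rintro rfl
  rw [orderOf_one] at hx
  exact (Fact.out : p.Prime).one_lt.ne hx

omit [Finite G] in
/-- a nontrivial element commuting with a nontrivial power of `x` lies in `⟨x⟩` -/
theorem mem_of_commute {z : G} (hz : z ∈ zpowers x) (hz1 : z ≠ 1) {y : G} (hy : y * z = z * y) : y ∈ zpowers x := by
  have hp : p.Prime := Fact.out
  have hZc : Nat.card (zpowers x) = p := by rw [Nat.card_zpowers, hx]
  haveI : Finite (zpowers x) := Nat.finite_of_card_ne_zero (by rw [hZc]; exact hp.pos.ne')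
  have h1 : zpowers z = zpowers x := by
    apply eq_of_le_of_card_ge (zpowers_le.mpr hz)
    rw [hZc, Nat.card_zpowers]
    have h1 : orderOf z ∣ p := by
      have := orderOf_dvd_of_mem_zpowers hz
      rwa [hx] at this
    rcases (Nat.dvd_prime hp).mp h1 with h2 | h2
    · exact absurd (orderOf_eq_one_iff.mp h2) hz1
    · exact h2.ge
  have hxz : x ∈ zpowers z := by rw [h1]; exact mem_zpowers x
  obtain ⟨k, hk⟩ := mem_zpowers_iff.mp hxz
  rw [← hC, mem_centralizer_singleton_iff]
  rw [← hk]
  exact (show Commute y z from hy).zpow_right k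

theorem exists_sylow : ∃ P : Sylow p G, (P : Subgroup G) = zpowers x := by
  have hp : p.Prime := Fact.out
  have hZp : IsPGroup p (zpowers x) := IsPGroup.of_card (n := 1) (by rw [Nat.card_zpowers, hx, pow_one])
  obtain ⟨P, hP⟩ := hZp.exists_le_sylow
  refine ⟨P, le_antisymm ?_ hP⟩
  have hxP : x ∈ (P : Subgroup G) := hP (mem_zpowers x)
  haveI : Nontrivial (P : Subgroup G) := ⟨⟨⟨x, hxP⟩, 1, fun h => x_ne hx (congrArg Subtype.val h)⟩⟩
  haveI hcn : Nontrivial (center (P : Subgroup G)) := P.2.center_nontrivial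
  obtain ⟨z, hz⟩ := _root_.exists_ne (1 : center (P : Subgroup G))
  have hzc : ((z : (P : Subgroup G)) : G) ∈ zpowers x := by
    rw [← hC, mem_centralizer_singleton_iff]
    have := mem_center_iff.mp z.2 ⟨x, hxP⟩
    exact (congrArg Subtype.val this).symm
  have hz1 : ((z : (P : Subgroup G)) : G) ≠ 1 := fun h => hz (Subtype.ext (Subtype.ext h))
  intro y hy
  refine mem_of_commute hx hC hzc hz1 ?_
  have := mem_center_iff.mp z.2 ⟨y, hy⟩
  exact congrArg Subtype.val this

theorem card_eq : Nat.card G = p ^ 1 * (zpowers x).index ∧ ¬ p ∣ (zpowers x).index := by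
  obtain ⟨P, hP⟩ := exists_sylow hx hC
  constructor
  · rw [← card_mul_index (zpowers x), Nat.card_zpowers, hx, pow_one]
  · rw [← hP]
    exact P.not_dvd_index

/-- `|N(⟨x⟩)| = p e`, `t e = p - 1`, and the number of subgroups of order `p` is `|G : N|` -/
theorem count {t : ℕ} (ht : Nat.card {C : ConjClasses G // ∃ g ∈ C.carrier, orderOf g = p} = t) :
    Nat.card (normalizer ((zpowers x : Subgroup G) : Set G)) * t = p * (p - 1) ∧
    Nat.card (Sylow p G) * Nat.card (normalizer ((zpowers x : Subgroup G) : Set G)) = Nat.card G ∧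
    Nat.card {H : Subgroup G // Nat.card H = p} = Nat.card (Sylow p G) := by
  have hp : p.Prime := Fact.out
  obtain ⟨P, hP⟩ := exists_sylow hx hC
  obtain ⟨hc, hnd⟩ := card_eq hx hC
  have hPc : ∀ Q : Sylow p G, Nat.card (Q : Subgroup G) = p := fun Q => by
    rw [Syl.card_sylow_of_card Q hc hnd, pow_one]
  have hS := Syl.card_normalizer_mul P
  rw [hP] at hS
  -- the number of elements of order `p`
  have h1 := O168.card_order_prime hc hnd
  -- classes
  have h2 : Nat.card {g : G // orderOf g = p} = t * (Nat.card G / p) := by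
    rw [← ht]
    refine Count.card_of_fibers (fun g : {g : G // orderOf g = p} =>
      (⟨ConjClasses.mk g.1, g.1, ConjClasses.mem_carrier_mk, g.2⟩ :
        {C : ConjClasses G // ∃ g ∈ C.carrier, orderOf g = p})) (Nat.card G / p) ?_
    rintro ⟨C, g, hgC, hg⟩
    have h3 : Nat.card {h : {g : G // orderOf g = p} //
        (⟨ConjClasses.mk h.1, h.1, ConjClasses.mem_carrier_mk, h.2⟩ :
        {C : ConjClasses G // ∃ g ∈ C.carrier, orderOf g = p}) = ⟨C, g, hgC, hg⟩} = Nat.card {h : G // IsConj g h} := by
      rw [ConjClasses.mem_carrier_iff_mk_eq] at hgC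
      refine Nat.card_congr
        { toFun := fun h => ⟨h.1.1, ?_⟩
          invFun := fun h => ⟨⟨h.1, ?_⟩, ?_⟩
          left_inv := fun h => rfl
          right_inv := fun h => rfl }
      · have h4 := congrArg Subtype.val h.2
        change ConjClasses.mk h.1.1 = C at h4
        rw [← ConjClasses.mk_eq_mk_iff_isConj, hgC, h4]
      · obtain ⟨c, hc⟩ := isConj_iff.mp h.2
        rw [← hc, ← hg]
        exact orderOf_injective (MulAut.conj c).toMonoidHom (MulAut.conj c).injective g
      · apply Subtype.ext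
        change ConjClasses.mk h.1 = C
        rw [← hgC, ConjClasses.mk_eq_mk_iff_isConj]
        exact h.2.symm
    rw [h3]
    have h4 := O168.card_conj_class g
    -- the centralizer of `g` has order `p`
    have h5 : Nat.card (centralizer {g}) = p := by
      obtain ⟨Q, hQ⟩ := O168.exists_sylow_eq_zpowers hc hnd hg
      obtain ⟨c, hcQ⟩ := MulAction.exists_smul_eq G Q P
      have h6 : c * g * c⁻¹ ∈ zpowers x := by
        rw [← hP, ← hcQ]
        have h7 : g ∈ (Q : Subgroup G) := by rw [hQ]; exact mem_zpowers g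
        have := Syl.smul_mem_smul (g := c) h7
        exact this
      have h7 : c * g * c⁻¹ ≠ 1 := by
        intro h
        have h8 : g = 1 := by
          have := conj_eq_one_iff.mp h
          exact this
        rw [h8, orderOf_one] at hg
        exact hp.one_lt.ne hg
      have h8 : ∀ y : G, y ∈ centralizer {g} ↔ c * y * c⁻¹ ∈ zpowers x := by
        intro y
        constructor
        · intro hy
          refine mem_of_commute hx hC h6 h7 ?_
          have := mem_centralizer_singleton_iff.mp hy
          calc c * y * c⁻¹ * (c * g * c⁻¹) = c * (y * g) * c⁻¹ := by group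
            _ = c * (g * y) * c⁻¹ := by rw [this]
            _ = c * g * c⁻¹ * (c * y * c⁻¹) := by group
        · intro hy
          rw [mem_centralizer_singleton_iff]
          obtain ⟨i, hi⟩ := mem_zpowers_iff.mp hy
          obtain ⟨j, hj⟩ := mem_zpowers_iff.mp h6
          have h9 : (c * y * c⁻¹) * (c * g * c⁻¹) = (c * g * c⁻¹) * (c * y * c⁻¹) := by
            rw [← hi, ← hj, ← zpow_add, ← zpow_add, add_comm]
          calc y * g = c⁻¹ * ((c * y * c⁻¹) * (c * g * c⁻¹)) * c := by group
            _ = c⁻¹ * ((c * g * c⁻¹) * (c * y * c⁻¹)) * c := by rw [h9]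
            _ = g * y := by group
      have h9 : Nat.card (centralizer {g}) = Nat.card (zpowers x) := by
        refine Nat.card_congr
          { toFun := fun y => ⟨c * y.1 * c⁻¹, (h8 y.1).mp y.2⟩
            invFun := fun y => ⟨c⁻¹ * y.1 * c, (h8 _).mpr ?_⟩
            left_inv := fun y => Subtype.ext (by simp [mul_assoc])
            right_inv := fun y => Subtype.ext (by simp [mul_assoc]) }
        have : c * (c⁻¹ * y.1 * c) * c⁻¹ = y.1 := by group
        rw [this]; exact y.2
      rw [h9, Nat.card_zpowers, hx]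
    rw [h5] at h4
    rw [← h4, Nat.mul_div_cancel _ hp.pos]
  have h3 : Nat.card G / p = (zpowers x).index := by
    rw [hc, pow_one, Nat.mul_div_cancel_left _ hp.pos]
  rw [h1, h3] at h2
  have hS' : Nat.card (Sylow p G) * Nat.card (normalizer ((zpowers x : Subgroup G) : Set G)) = Nat.card G := by
    rw [← hS]; ring
  refine ⟨?_, hS', ?_⟩
  · have hn0 : 0 < Nat.card (Sylow p G) := Nat.card_pos
    apply Nat.eq_of_mul_eq_mul_left hn0
    calc Nat.card (Sylow p G) * (Nat.card (normalizer ((zpowers x : Subgroup G) : Set G)) * t)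
        = (Nat.card (Sylow p G) * Nat.card (normalizer ((zpowers x : Subgroup G) : Set G))) * t := by ring
      _ = p * (t * (zpowers x).index) := by rw [hS', hc]; ring
      _ = p * (Nat.card (Sylow p G) * (p - 1)) := by rw [h2]
      _ = Nat.card (Sylow p G) * (p * (p - 1)) := by ring
  · refine Nat.card_congr
      { toFun := fun H => (⟨H.1, IsPGroup.of_card (n := 1) (by rw [H.2, pow_one]), ?_⟩ : Sylow p G)
        invFun := fun Q => ⟨(Q : Subgroup G), hPc Q⟩
        left_inv := fun H => rfl
        right_inv := fun Q => rfl }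
    intro K hK hHK
    obtain ⟨Q, hQ⟩ := hK.exists_le_sylow
    have h1 : H.1 = (Q : Subgroup G) := eq_of_le_of_card_ge (hHK.trans hQ) (by rw [hPc Q, H.2])
    exact le_antisymm (h1 ▸ hQ) hHK

omit [Finite G] in
/-- `x` acts fixed point freely on normal `p'`-subgroups -/
theorem inf_eq_bot {S : Subgroup G} (hS : ¬ p ∣ Nat.card S) {y : G} (hy : y ∈ S) (hyx : y ∈ zpowers x) : y = 1 := by
  have hp : p.Prime := Fact.out
  by_contra h1
  have h2 : orderOf y ∣ p := by
    have := orderOf_dvd_of_mem_zpowers hyx
    rwa [hx] at this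
  rcases (Nat.dvd_prime hp).mp h2 with h3 | h3
  · exact h1 (orderOf_eq_one_iff.mp h3)
  · apply hS
    rw [← h3]
    exact S.orderOf_dvd_natCard hy

/-- `S = [S, x]` for a normal `p'`-subgroup -/
theorem exists_comm {S : Subgroup G} [S.Normal] (hS : ¬ p ∣ Nat.card S) {s : G} (hs : s ∈ S) :
    ∃ u ∈ S, s = ⁅u, x⁆ := by
  have hinj : Function.Injective (fun u : S => (⟨⁅(u : G), x⁆, by
      rw [commutatorElement_def]
      have : (u : G) * x * (u : G)⁻¹ * x⁻¹ = (u : G) * (x * (u : G)⁻¹ * x⁻¹) := by group
      rw [this]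
      exact mul_mem u.2 ((inferInstance : S.Normal).conj_mem _ (inv_mem u.2) x)⟩ : S)) := by
    intro u v huv
    have h1 : ⁅(u : G), x⁆ = ⁅(v : G), x⁆ := congrArg Subtype.val huv
    rw [commutatorElement_def, commutatorElement_def] at h1
    have h2 : ((v : G)⁻¹ * u) * x = x * ((v : G)⁻¹ * u) := by
      have h3 : (u : G) * x * (u : G)⁻¹ = (v : G) * x * (v : G)⁻¹ := mul_right_cancel h1
      calc ((v : G)⁻¹ * u) * x = (v : G)⁻¹ * ((u : G) * x * (u : G)⁻¹) * u := by group
        _ = (v : G)⁻¹ * ((v : G) * x * (v : G)⁻¹) * u := by rw [h3]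
        _ = x * ((v : G)⁻¹ * u) := by group
    have h3 : (v : G)⁻¹ * u ∈ zpowers x := by
      rw [← hC, mem_centralizer_singleton_iff]; exact h2
    have h4 := inf_eq_bot hx hC hS (mul_mem (inv_mem v.2) u.2) h3
    exact Subtype.ext (inv_mul_eq_one.mp h4).symm
  obtain ⟨u, hu⟩ := (Finite.injective_iff_surjective.mp hinj) ⟨s, hs⟩
  exact ⟨u, u.2, (congrArg Subtype.val hu).symm⟩

theorem le_commutator {S : Subgroup G} [S.Normal] (hS : ¬ p ∣ Nat.card S) : S ≤ commutator G := by
  intro s hs
  obtain ⟨u, _, rfl⟩ := exists_comm hx hC hS hs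
  exact commutator_mem_commutator (mem_top u) (mem_top x)

/-- `e = 1`: a normal complement -/
theorem complement (hN : normalizer ((zpowers x : Subgroup G) : Set G) = zpowers x) :
    ¬ p ∣ Nat.card (commutator G) ∧ (commutator G).index = p ∧ commutator G = pPrimeCore p G ∧
      IsCyclic (G ⧸ commutator G) := by
  have hp : p.Prime := Fact.out
  obtain ⟨P, hP⟩ := exists_sylow hx hC
  obtain ⟨hc, hnd⟩ := card_eq hx hC
  have hPc : Nat.card (P : Subgroup G) = p := by rw [hP, Nat.card_zpowers, hx]
  have hPN : normalizer ((P : Subgroup G) : Set G) ≤ centralizer ((P : Subgroup G) : Set G) := by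
    rw [hP, hN, O168.centralizer_zpowers', hC]
  have hK := MonoidHom.ker_transferSylow_isComplement' P hPN
  have hKd := MonoidHom.not_dvd_card_ker_transferSylow P hPN
  set K := (MonoidHom.transferSylow P hPN).ker with hKdef
  have hKi : K.index = p := by rw [hK.symm.index_eq_card, hPc]
  have h1 : commutator G ≤ K := by
    have hQ : Nat.card (G ⧸ K) = p := hKi
    haveI : IsCyclic (G ⧸ K) := isCyclic_of_prime_card hQ
    letI : CommGroup (G ⧸ K) := IsCyclic.commGroup
    have := Abelianization.commutator_subset_ker (QuotientGroup.mk' K)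
    rwa [QuotientGroup.ker_mk'] at this
  have h2 : K ≤ commutator G := le_commutator hx hC hKd
  have h3 : commutator G = K := le_antisymm h1 h2
  refine ⟨by rw [h3]; exact hKd, by rw [h3]; exact hKi, ?_, ?_⟩
  · apply le_antisymm
    · rw [h3]
      exact H1.le_pPrimeCore inferInstance ((Nat.Prime.coprime_iff_not_dvd hp).mpr hKd).symm
    · have hd := H1.pPrimeCore_coprime p G
      have hd' : ¬ p ∣ Nat.card (pPrimeCore p G) := (Nat.Prime.coprime_iff_not_dvd hp).mp hd.symm
      exact le_commutator hx hC hd'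
  · have hQ : Nat.card (G ⧸ commutator G) = p := by rw [h3]; exact hKi
    exact isCyclic_of_prime_card hQ

/-- `e > 1` -/
theorem mem_commutator (hN : normalizer ((zpowers x : Subgroup G) : Set G) ≠ zpowers x) : x ∈ commutator G := by
  have hp : p.Prime := Fact.out
  have h1 : zpowers x < normalizer ((zpowers x : Subgroup G) : Set G) := lt_of_le_of_ne le_normalizer hN.symm
  obtain ⟨n, hn, hn2⟩ := SetLike.exists_of_lt h1
  have h2 : ⁅n, x⁆ ∈ commutator G := commutator_mem_commutator (mem_top n) (mem_top x)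
  have h3 : ⁅n, x⁆ ∈ zpowers x := by
    rw [commutatorElement_def]
    exact mul_mem ((mem_normalizer_iff.mp hn x).mp (mem_zpowers x)) (inv_mem (mem_zpowers x))
  have h4 : ⁅n, x⁆ ≠ 1 := by
    intro h
    rw [commutatorElement_eq_one_iff_mul_comm] at h
    apply hn2
    rw [← hC, mem_centralizer_singleton_iff]; exact h
  have h5 : zpowers ⁅n, x⁆ = zpowers x := by
    have hZc : Nat.card (zpowers x) = p := by rw [Nat.card_zpowers, hx]
    apply eq_of_le_of_card_ge (zpowers_le.mpr h3)
    rw [hZc, Nat.card_zpowers]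
    have h1 : orderOf ⁅n, x⁆ ∣ p := by
      have := orderOf_dvd_of_mem_zpowers h3
      rwa [hx] at this
    rcases (Nat.dvd_prime hp).mp h1 with h2 | h2
    · exact absurd (orderOf_eq_one_iff.mp h2) h4
    · exact h2.ge
  have h6 : x ∈ zpowers ⁅n, x⁆ := by rw [h5]; exact mem_zpowers x
  exact (zpowers_le.mpr h2) h6

end

end Cfsg.Agent.H9.SPr
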