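import Cfsg.Agent.H9.SPrA

set_option autoImplicit false
set_option linter.unusedSectionVars false
set_option linter.style.haveILetI false
set_option linter.unusedVariables false
set_option linter.unusedSimpArgs false

/-! Groups with an element `x` of prime order with `C(x) = ⟨x⟩`: the commutator subgroup. -/

namespace Cfsg.Agent.H9.SPr

open Subgroup MulAction
open scoped commutatorElement

section
variable {G : Type*} [Group G] [Finite G] {p : ℕ} [hpf : Fact p.Prime] {x : G}
  (hx : orderOf x = p) (hC : centralizer ({x} : Set G) = zpowers x)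
include hx hC

theorem le_of_dvd {S : Subgroup G} [S.Normal] (h : p ∣ Nat.card S) : commutator G ≤ S :=
  (S4496.result p Fact.out x hx hC S).1 h

theorem dvd_card_commutator (hN : normalizer ((zpowers x : Subgroup G) : Set G) ≠ zpowers x) :
    p ∣ Nat.card (commutator G) := by
  have h1 := mem_commutator hx hC hN
  have := (commutator G).orderOf_dvd_natCard h1
  rwa [hx] at this

theorem sup_eq_top (hN : normalizer ((zpowers x : Subgroup G) : Set G) ≠ zpowers x) :
    normalizer ((zpowers x : Subgroup G) : Set G) ⊔ commutator G = ⊤ := by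
  obtain ⟨P, hP⟩ := exists_sylow hx hC
  have h1 := mem_commutator hx hC hN
  have h2 : (P : Subgroup G) ≤ commutator G := by rw [hP]; exact zpowers_le.mpr h1
  have h3 := (P.subtype h2).normalizer_sup_eq_top
  have hmap : ((P.subtype h2 : Sylow p (commutator G)) : Subgroup (commutator G)).map (commutator G).subtype =
      (P : Subgroup G) := by
    rw [Sylow.coe_subtype]
    exact map_subgroupOf_eq_of_le h2
  rw [hmap, hP] at h3
  exact h3

theorem index_mul_le (hN : normalizer ((zpowers x : Subgroup G) : Set G) ≠ zpowers x) :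
    (commutator G).index * p ≤ Nat.card (normalizer ((zpowers x : Subgroup G) : Set G)) := by
  have h1 := sup_eq_top hx hC hN
  have h2 : (commutator G).index = (commutator G).relIndex (normalizer ((zpowers x : Subgroup G) : Set G)) := by
    rw [← relIndex_sup_right, h1, relIndex_top_right]
  have h3 : zpowers x ≤ commutator G := zpowers_le.mpr (mem_commutator hx hC hN)
  have h4 := relIndex_dvd_of_le_left (normalizer ((zpowers x : Subgroup G) : Set G)) h3
  have h5 := H1.card_mul_relIndex (K := zpowers x) (H := normalizer ((zpowers x : Subgroup G) : Set G)) le_normalizer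
  rw [Nat.card_zpowers, hx] at h5
  have h6 : 0 < (zpowers x).relIndex (normalizer ((zpowers x : Subgroup G) : Set G)) := by
    rcases Nat.eq_zero_or_pos ((zpowers x).relIndex (normalizer ((zpowers x : Subgroup G) : Set G))) with h | h
    · rw [h, mul_zero] at h5
      exact absurd h5.symm Nat.card_pos.ne'
    · exact h
  have h7 := Nat.le_of_dvd h6 h4
  rw [h2, ← h5, mul_comm]
  exact Nat.mul_le_mul_left _ h7

theorem normal_sub (hN : normalizer ((zpowers x : Subgroup G) : Set G) ≠ zpowers x)
    (R : Subgroup (commutator G)) [R.Normal] :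
    R ≤ (pPrimeCore p G).subgroupOf (commutator G) ∨ R = ⊤ := by
  have hp : p.Prime := Fact.out
  obtain ⟨hc, hnd⟩ := card_eq hx hC
  by_cases hd : p ∣ Nat.card R
  · right
    -- the order of `G'`
    obtain ⟨m, hm⟩ := dvd_card_commutator hx hC hN
    have hm2 : ¬ p ∣ m := by
      intro h
      apply hnd
      have h1 : Nat.card (commutator G) ∣ Nat.card G := card_subgroup_dvd_card _
      rw [hm, hc, pow_one] at h1
      exact h.trans (Nat.dvd_of_mul_dvd_mul_left hp.pos h1)
    have hm3 : Nat.card (commutator G) = p ^ 1 * m := by rw [hm, pow_one]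
    -- elements of order `p` of `G'` lie in `R`
    have key : ∀ y : commutator G, orderOf y = p → y ∈ R := by
      intro y hy
      obtain ⟨r, hr⟩ := exists_prime_orderOf_dvd_card' p hd
      have hr' : orderOf (r : commutator G) = p := by rw [Subgroup.orderOf_coe]; exact hr
      obtain ⟨A, hA⟩ := O168.exists_sylow_eq_zpowers hm3 hm2 hr'
      obtain ⟨B, hB⟩ := O168.exists_sylow_eq_zpowers hm3 hm2 hy
      obtain ⟨g, hg⟩ := MulAction.exists_smul_eq (commutator G) A B
      have h1 : y ∈ ((g • A : Sylow p (commutator G)) : Subgroup (commutator G)) := by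
        rw [hg, hB]; exact mem_zpowers y
      rw [Syl.mem_smul_iff, hA] at h1
      have h2 : g⁻¹ * y * g ∈ R := (zpowers_le.mpr r.2) h1
      have h3 := (inferInstance : R.Normal).conj_mem _ h2 g
      have h4 : g * (g⁻¹ * y * g) * g⁻¹ = y := by group
      rwa [h4] at h3
    have h1 : Subgroup.normalClosure ({x} : Set G) ≤ R.map (commutator G).subtype := by
      rw [Subgroup.normalClosure, closure_le]
      intro z hz
      obtain ⟨w, hw, hwz⟩ := Group.mem_conjugatesOfSet_iff.mp hz
      rw [Set.mem_singleton_iff] at hw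
      subst hw
      obtain ⟨c, hc⟩ := isConj_iff.mp hwz
      have hz1 : z ∈ commutator G := by
        rw [← hc]
        exact (inferInstance : (commutator G).Normal).conj_mem _ (mem_commutator hx hC hN) c
      have hz2 : orderOf z = p := by
        rw [← hc, ← hx]
        exact orderOf_injective (MulAut.conj c).toMonoidHom (MulAut.conj c).injective w
      refine ⟨⟨z, hz1⟩, key _ ?_, rfl⟩
      rw [orderOf_mk]; exact hz2
    have h2 : commutator G ≤ Subgroup.normalClosure ({x} : Set G) := by
      apply le_of_dvd hx hC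
      have h3 : x ∈ Subgroup.normalClosure ({x} : Set G) := subset_normalClosure rfl
      have := (Subgroup.normalClosure ({x} : Set G)).orderOf_dvd_natCard h3
      rwa [hx] at this
    rw [eq_top_iff]
    rintro ⟨y, hy⟩ _
    obtain ⟨z, hz, hzy⟩ := (h2.trans h1) hy
    have : z = ⟨y, hy⟩ := Subtype.ext hzy
    rwa [← this]
  · left
    have h1 : R ≤ pPrimeCore p (commutator G) :=
      H1.le_pPrimeCore inferInstance ((Nat.Prime.coprime_iff_not_dvd hp).mpr hd).symm
    have h2 : ((pPrimeCore p (commutator G)).map (commutator G).subtype).Normal :=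
      ConjAct.normal_of_characteristic_of_normal
    have h3 : (pPrimeCore p (commutator G)).map (commutator G).subtype ≤ pPrimeCore p G := by
      apply H1.le_pPrimeCore h2
      have h4 : Nat.card ((pPrimeCore p (commutator G)).map (commutator G).subtype) =
          Nat.card (pPrimeCore p (commutator G)) :=
        Nat.card_congr (Subgroup.equivMapOfInjective _ _ (commutator G).subtype_injective).symm.toEquiv
      rw [h4]
      exact H1.pPrimeCore_coprime p _
    intro r hr
    rw [mem_subgroupOf]
    exact h3 ⟨r, h1 hr, rfl⟩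

theorem not_dvd_core : ¬ p ∣ Nat.card (pPrimeCore p G) :=
  (Nat.Prime.coprime_iff_not_dvd (Fact.out : p.Prime)).mp (H1.pPrimeCore_coprime p G).symm

theorem simple_quot (hN : normalizer ((zpowers x : Subgroup G) : Set G) ≠ zpowers x)
    (h : ((pPrimeCore p G).subgroupOf (commutator G)).Normal) :
    IsSimpleGroup (↥(commutator G) ⧸ (pPrimeCore p G).subgroupOf (commutator G)) := by
  have hp : p.Prime := Fact.out
  set S := (pPrimeCore p G).subgroupOf (commutator G) with hS
  have hxS : (⟨x, mem_commutator hx hC hN⟩ : commutator G) ∉ S := by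
    intro h1
    rw [hS, mem_subgroupOf] at h1
    have := (pPrimeCore p G).orderOf_dvd_natCard h1
    change orderOf x ∣ _ at this
    rw [hx] at this
    exact not_dvd_core hx hC this
  have hnt : Nontrivial (↥(commutator G) ⧸ S) := by
    refine ⟨⟨QuotientGroup.mk ⟨x, mem_commutator hx hC hN⟩, 1, fun h1 => hxS ?_⟩⟩
    exact (QuotientGroup.eq_one_iff _).mp h1
  refine { exists_pair_ne := hnt.exists_pair_ne, eq_bot_or_eq_top_of_normal := ?_ }
  intro R hR
  haveI : R.Normal := hR
  rcases normal_sub hx hC hN (R.comap (QuotientGroup.mk' S)) with h1 | h1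
  · left
    rw [eq_bot_iff]
    intro r hr
    obtain ⟨g, rfl⟩ := QuotientGroup.mk'_surjective S r
    have h2 : g ∈ S := h1 (mem_comap.mpr hr)
    rw [mem_bot]
    exact (QuotientGroup.eq_one_iff _).mpr h2
  · right
    rw [eq_top_iff]
    intro r _
    obtain ⟨g, rfl⟩ := QuotientGroup.mk'_surjective S r
    have h2 : g ∈ R.comap (QuotientGroup.mk' S) := by rw [h1]; exact mem_top g
    exact mem_comap.mp h2

end

/-- arithmetic of `t` and `e` -/
theorem arith {N p t : ℕ} (hp : p.Prime) (h : N * t = p * (p - 1)) (hpN : p ∣ N) :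
    t ≤ p - 1 ∧ (t = p - 1 ↔ N = p) ∧ 0 < t := by
  obtain ⟨e, rfl⟩ := hpN
  have h1 : e * t = p - 1 := by
    apply Nat.eq_of_mul_eq_mul_left hp.pos
    rw [← h]; ring
  have hp1 : 0 < p - 1 := by have := hp.two_le; omega
  have ht0 : 0 < t := Nat.pos_of_ne_zero (by rintro rfl; rw [mul_zero] at h1; omega)
  have he0 : 0 < e := Nat.pos_of_ne_zero (by rintro rfl; rw [zero_mul] at h1; omega)
  refine ⟨?_, ?_, ht0⟩
  · rw [← h1]; exact Nat.le_mul_of_pos_left t he0
  · constructor
    · intro h2
      rw [h2] at h1
      have : e = 1 := by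
        apply Nat.eq_of_mul_eq_mul_right hp1
        rw [h1, one_mul]
      rw [this, mul_one]
    · intro h2
      have : e = 1 := by
        apply Nat.eq_of_mul_eq_mul_left hp.pos
        rw [h2, mul_one]
      rw [this, one_mul] at h1
      exact h1

theorem t_iff {G : Type*} [Group G] [Finite G] {p : ℕ} [hpf : Fact p.Prime] {x : G}
    (hx : orderOf x = p) (hC : centralizer ({x} : Set G) = zpowers x) {t : ℕ}
    (ht : Nat.card {C : ConjClasses G // ∃ g ∈ C.carrier, orderOf g = p} = t) :
    t ≤ p - 1 ∧ (t = p - 1 ↔ normalizer ((zpowers x : Subgroup G) : Set G) = zpowers x) ∧ 0 < t := by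
  have hp : p.Prime := Fact.out
  obtain ⟨h1, h2, h3⟩ := count hx hC ht
  have h4 : p ∣ Nat.card (normalizer ((zpowers x : Subgroup G) : Set G)) := by
    have h5 := H1.card_mul_relIndex (K := zpowers x) (H := normalizer ((zpowers x : Subgroup G) : Set G)) le_normalizer
    rw [Nat.card_zpowers, hx] at h5
    exact Dvd.intro _ h5
  obtain ⟨h5, h6, h7⟩ := arith hp h1 h4
  refine ⟨h5, h6.trans ?_, h7⟩
  constructor
  · intro h8
    symm
    apply eq_of_le_of_card_ge le_normalizer
    rw [h8, Nat.card_zpowers, hx]
  · intro h8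
    rw [h8, Nat.card_zpowers, hx]

end Cfsg.Agent.H9.SPr
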