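import Cfsg.Agent.H9.SnB
import Cfsg.Agent.H9.Syl

set_option autoImplicit false
set_option linter.unusedSectionVars false
set_option linter.style.haveILetI false
set_option linter.unusedVariables false
set_option linter.unusedSimpArgs false

/-! The symmetric group of degree 6. -/

open Subgroup MulAction

namespace Cfsg.Agent.H9.Sn

variable {Ω : Type*} [Fintype Ω] [DecidableEq Ω]

theorem card_sylow5 : Nat.card (Sylow 5 (Equiv.Perm (Fin 5))) = 6 := by
  haveI := Fact.mk Nat.prime_five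
  have hc : Nat.card (Equiv.Perm (Fin 5)) = 5 ^ 1 * 24 := by
    rw [Nat.card_perm, Nat.card_fin]; rfl
  obtain ⟨P⟩ : Nonempty (Sylow 5 (Equiv.Perm (Fin 5))) := inferInstance
  have h1 := Syl.card_sylow_dvd_of_card P hc (by norm_num)
  have h2 := card_sylow_modEq_one 5 (Equiv.Perm (Fin 5))
  have h3 := Nat.le_of_dvd (by norm_num) h1
  have h4 : Nat.card (Sylow 5 (Equiv.Perm (Fin 5))) ≠ 1 := by
    intro h
    haveI := Syl.normal_of_card_sylow_eq_one h P
    have hP := Syl.card_sylow_of_card P hc (by norm_num)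
    haveI : Nontrivial (P : Subgroup (Equiv.Perm (Fin 5))) := by
      rw [← Finite.one_lt_card_iff_nontrivial, hP]; norm_num
    have h5 := Equiv.Perm.alternatingGroup_le_of_normal (by rw [Nat.card_fin]) (N := (P : Subgroup (Equiv.Perm (Fin 5)))) inferInstance
    have h6 := Subgroup.index_dvd_of_le h5
    rw [alternatingGroup.index_eq_two] at h6
    have h7 := Subgroup.card_mul_index (P : Subgroup (Equiv.Perm (Fin 5)))
    rw [hP, hc] at h7
    have h8 := Nat.le_of_dvd (by norm_num) h6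
    omega
  generalize Nat.card (Sylow 5 (Equiv.Perm (Fin 5))) = n at *
  unfold Nat.ModEq at h2
  interval_cases n <;> omega

/-- a transitive subgroup of index 6 -/
theorem exists_trans (h6 : Fintype.card Ω = 6) :
    ∃ H : Subgroup (Equiv.Perm Ω), H.index = 6 ∧ ∀ ω : Ω, H ≠ stabilizer (Equiv.Perm Ω) ω := by
  classical
  haveI := Fact.mk Nat.prime_five
  have hs := card_sylow5
  letI : Fintype (Sylow 5 (Equiv.Perm (Fin 5))) := Fintype.ofFinite _
  have hs' : Fintype.card (Sylow 5 (Equiv.Perm (Fin 5))) = Fintype.card Ω := by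
    rw [← Nat.card_eq_fintype_card, hs, h6]
  let θ : Sylow 5 (Equiv.Perm (Fin 5)) ≃ Ω := Fintype.equivOfCardEq hs'
  let φ : Equiv.Perm (Fin 5) →* Equiv.Perm (Sylow 5 (Equiv.Perm (Fin 5))) := MulAction.toPermHom _ _
  have hinj : Function.Injective φ := by
    rw [← MonoidHom.ker_eq_bot_iff]
    by_contra hne
    haveI : Nontrivial φ.ker := (Subgroup.nontrivial_iff_ne_bot _).mpr hne
    have h1 := Equiv.Perm.alternatingGroup_le_of_normal (by rw [Nat.card_fin]) (N := φ.ker) inferInstance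
    obtain ⟨P⟩ : Nonempty (Sylow 5 (Equiv.Perm (Fin 5))) := inferInstance
    have h2 : φ.ker ≤ stabilizer (Equiv.Perm (Fin 5)) P := by
      intro g hg
      have h4 : φ g = 1 := MonoidHom.mem_ker.mp hg
      exact congrArg (fun s : Equiv.Perm (Sylow 5 (Equiv.Perm (Fin 5))) => s P) h4
    have h3 := Subgroup.index_dvd_of_le (h1.trans h2)
    rw [alternatingGroup.index_eq_two, MulAction.index_stabilizer_of_transitive, hs] at h3
    have := Nat.le_of_dvd (by norm_num) h3
    omega
  let ψ : Equiv.Perm (Fin 5) →* Equiv.Perm Ω := (θ.permCongrHom.toMonoidHom).comp φ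
  have hψ : Function.Injective ψ := θ.permCongrHom.injective.comp hinj
  refine ⟨ψ.range, ?_, ?_⟩
  · have h1 := Subgroup.card_mul_index ψ.range
    have h2 : Nat.card ψ.range = 120 := by
      rw [← Nat.card_congr (MonoidHom.ofInjective hψ).toEquiv, Nat.card_perm, Nat.card_fin]; rfl
    rw [h2, Nat.card_perm, Nat.card_eq_fintype_card, h6] at h1
    have : Nat.factorial 6 = 720 := rfl
    omega
  · intro ω hω
    haveI : Nontrivial Ω := Fintype.one_lt_card_iff_nontrivial.mp (by omega)
    obtain ⟨ω', hne⟩ := exists_ne ω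
    obtain ⟨g, hg⟩ := MulAction.exists_smul_eq (Equiv.Perm (Fin 5)) (θ.symm ω) (θ.symm ω')
    have h1 : ψ g ∈ stabilizer (Equiv.Perm Ω) ω := by
      rw [← hω]; exact ⟨g, rfl⟩
    have h2 : θ (φ g (θ.symm ω)) = ω := h1
    have h3 : φ g (θ.symm ω) = θ.symm ω' := hg
    rw [h3, θ.apply_symm_apply] at h2
    exact hne h2

/-- types of automorphisms of `S_6` -/
theorem triple_of_not_swap (e : Equiv.Perm Ω ≃* Equiv.Perm Ω) (h : ¬ ∀ τ : Equiv.Perm Ω, τ.IsSwap → (e τ).IsSwap) :
    ∀ τ : Equiv.Perm Ω, τ.IsSwap → (e τ).cycleType = Multiset.replicate 3 2 := by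
  push Not at h
  obtain ⟨τ₀, h0, h1⟩ := h
  have h2 := (image_swap e rfl h0).resolve_left h1
  intro τ hτ
  have h3 : IsConj τ₀ τ := by
    rw [Equiv.Perm.isConj_iff_cycleType_eq, swap_iff.mp h0, swap_iff.mp hτ]
  have h4 : IsConj (e τ₀) (e τ) := MonoidHom.map_isConj e.toMonoidHom h3
  rw [Equiv.Perm.isConj_iff_cycleType_eq] at h4
  rw [← h4, h2.2]

theorem rep_ne : (Multiset.replicate 3 2 : Multiset ℕ) ≠ Multiset.replicate 1 2 := by decide

/-- the composition of two automorphisms of the second type preserves transpositions -/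
theorem comp_swap {e e' : Equiv.Perm Ω ≃* Equiv.Perm Ω} (h : ¬ ∀ τ : Equiv.Perm Ω, τ.IsSwap → (e τ).IsSwap)
    (h' : ¬ ∀ τ : Equiv.Perm Ω, τ.IsSwap → (e' τ).IsSwap) :
    ∀ τ : Equiv.Perm Ω, τ.IsSwap → (e' (e.symm τ)).IsSwap := by
  intro τ hτ
  have h1 := triple_of_not_swap e h
  have h1' := triple_of_not_swap e' h'
  -- the preimage of a transposition
  rcases image_swap e.symm rfl hτ with h2 | ⟨h6, h2⟩
  · exfalso
    have h3 := h1 _ h2
    rw [e.apply_symm_apply, swap_iff.mp hτ] at h3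
    exact rep_ne h3.symm
  · -- image of the triple transposition
    have ho : orderOf (e' (e.symm τ)) = 2 := by
      rw [MulEquiv.orderOf_eq, MulEquiv.orderOf_eq, hτ.orderOf]
    obtain ⟨j, hj⟩ := cycleType_invol ho
    have h3 := card_cent_invol hj
    have h4 := card_cent_invol (j := 0) (swap_iff.mp hτ)
    rw [card_cent_equiv, card_cent_equiv, h4] at h3
    rcases num (le_card hj) (by simpa using h3) with rfl | ⟨_, rfl⟩
    · exact swap_iff.mpr hj
    · exfalso
      -- `e' τ` is conjugate to it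
      have h5 : IsConj (e' τ) (e' (e.symm τ)) := by
        rw [Equiv.Perm.isConj_iff_cycleType_eq, h1' _ hτ, hj]
      have h7 : IsConj τ (e.symm τ) := by
        have h8 : IsConj (e'.symm (e' τ)) (e'.symm (e' (e.symm τ))) := MonoidHom.map_isConj e'.symm.toMonoidHom h5
        rwa [e'.symm_apply_apply, e'.symm_apply_apply] at h8
      rw [Equiv.Perm.isConj_iff_cycleType_eq, h2, swap_iff.mp hτ] at h7
      exact rep_ne h7.symm

/-- subgroups of index 6 in `S_6` -/
theorem classify (h6 : Fintype.card Ω = 6) : ∃ e : Equiv.Perm Ω ≃* Equiv.Perm Ω,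
    (∀ H : Subgroup (Equiv.Perm Ω), H.index = 6 ↔ (∃ ω : Ω, H = stabilizer (Equiv.Perm Ω) ω) ∨
      ∃ ω : Ω, H = (stabilizer (Equiv.Perm Ω) ω).comap e.toMonoidHom) ∧
    ∀ ω ω' : Ω, stabilizer (Equiv.Perm Ω) ω ≠ (stabilizer (Equiv.Perm Ω) ω').comap e.toMonoidHom := by
  classical
  obtain ⟨H₀, h0, h0'⟩ := exists_trans h6
  obtain ⟨e, x, he⟩ := exists_coset_iso (by omega) H₀ (by rw [h0, h6])
  have hns : ¬ ∀ τ : Equiv.Perm Ω, τ.IsSwap → (e τ).IsSwap := by
    intro hs
    obtain ⟨ω, hω⟩ := eq_stab (by omega) H₀ (by rw [h0, h6]) e x he hs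
    exact h0' ω hω
  have hH0 : H₀ = (stabilizer (Equiv.Perm Ω) x).comap e.toMonoidHom := by
    ext g; rw [he]; rfl
  have hidx : ∀ ω : Ω, ((stabilizer (Equiv.Perm Ω) ω).comap e.toMonoidHom).index = 6 := by
    intro ω
    rw [Subgroup.index_comap_of_surjective _ e.surjective, card_stab, h6]
  refine ⟨e, ?_, ?_⟩
  · intro H
    constructor
    · intro hH
      obtain ⟨e', y, he'⟩ := exists_coset_iso (by omega) H (by rw [hH, h6])
      by_cases hs : ∀ τ : Equiv.Perm Ω, τ.IsSwap → (e' τ).IsSwap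
      · exact Or.inl (eq_stab (by omega) H (by rw [hH, h6]) e' y he' hs)
      · right
        -- `K = e H`
        have hK : (H.comap e.symm.toMonoidHom).index = Fintype.card Ω := by
          rw [Subgroup.index_comap_of_surjective _ e.symm.surjective, hH, h6]
        obtain ⟨ω, hω⟩ := eq_stab (by omega) (H.comap e.symm.toMonoidHom) hK (e.symm.trans e') y (fun g => he' _)
          (comp_swap hns hs)
        refine ⟨ω, ?_⟩
        ext g
        have h1 : e g ∈ H.comap e.symm.toMonoidHom ↔ e g ∈ stabilizer (Equiv.Perm Ω) ω := by rw [hω]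
        have h2 : e g ∈ H.comap e.symm.toMonoidHom ↔ g ∈ H := by
          rw [mem_comap]
          change e.symm (e g) ∈ H ↔ _
          rw [e.symm_apply_apply]
        exact h2.symm.trans h1
    · rintro (⟨ω, rfl⟩ | ⟨ω, rfl⟩)
      · rw [card_stab, h6]
      · exact hidx ω
  · intro ω ω' heq
    -- then H₀ is conjugate to a point stabilizer
    obtain ⟨g, hg⟩ := MulAction.exists_smul_eq (Equiv.Perm Ω) x ω'
    apply h0' ((e.symm g)⁻¹ • ω)
    ext a
    rw [he]
    have h1 : e a x = x ↔ e (e.symm g * a * (e.symm g)⁻¹) ω' = ω' := by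
      rw [map_mul, map_mul, map_inv, e.apply_symm_apply, ← hg]
      change _ ↔ g (e a (g⁻¹ (g x))) = g x
      rw [show g⁻¹ (g x) = x from Equiv.symm_apply_apply g x, g.injective.eq_iff]
    rw [h1]
    have h2 : e (e.symm g * a * (e.symm g)⁻¹) ω' = ω' ↔ (e.symm g * a * (e.symm g)⁻¹) ∈ stabilizer (Equiv.Perm Ω) ω := by
      rw [heq]; rfl
    rw [h2, mem_stabilizer_iff, mem_stabilizer_iff, mul_smul, mul_smul, smul_eq_iff_eq_inv_smul]

theorem stab_inj {ω ω' : Ω} (h3 : 3 ≤ Fintype.card Ω) (h : stabilizer (Equiv.Perm Ω) ω = stabilizer (Equiv.Perm Ω) ω') :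
    ω = ω' := by
  by_contra hne
  obtain ⟨z, hz1, hz2⟩ : ∃ z : Ω, z ≠ ω ∧ z ≠ ω' := by
    by_contra hcon
    push Not at hcon
    have h1 : (Finset.univ : Finset Ω) ⊆ {ω, ω'} := by
      intro y _
      by_cases hy : y = ω
      · simp [hy]
      · simp [hcon y hy]
    have := (Finset.card_le_card h1).trans Finset.card_le_two
    rw [Finset.card_univ] at this
    omega
  have h1 : Equiv.swap ω' z ∈ stabilizer (Equiv.Perm Ω) ω := by
    rw [mem_stabilizer_iff]
    exact Equiv.swap_apply_of_ne_of_ne hne (Ne.symm hz1)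
  rw [h] at h1
  have h2 : Equiv.swap ω' z ω' = ω' := h1
  rw [Equiv.swap_apply_left] at h2
  exact hz2 h2

/-- a point stabilizer is a symmetric group -/
theorem stab_iso {n : ℕ} (hn : Fintype.card Ω = n + 1) (ω : Ω) :
    Nonempty (stabilizer (Equiv.Perm Ω) ω ≃* Equiv.Perm (Fin n)) := by
  classical
  have h1 : (Equiv.Perm.ofSubtype (p := fun a : Ω => a ≠ ω)).range = stabilizer (Equiv.Perm Ω) ω := by
    ext g
    constructor
    · rintro ⟨s, rfl⟩
      exact Equiv.Perm.ofSubtype_apply_of_not_mem s (by simp)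
    · intro hg
      have hg' : g ω = ω := hg
      refine ⟨g.subtypePerm (fun x => ?_), ?_⟩
      · constructor
        · intro h1 h2; rw [h2] at h1; exact h1 hg'
        · intro h1 h2; exact h1 (g.injective (h2.trans hg'.symm))
      · apply Equiv.Perm.ofSubtype_subtypePerm
        intro x hx
        rintro rfl
        exact hx hg'
  have h2 := MonoidHom.ofInjective (Equiv.Perm.ofSubtype_injective (p := fun a : Ω => a ≠ ω))
  have h3 : Fintype.card {a : Ω // a ≠ ω} = Fintype.card (Fin n) := by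
    rw [Fintype.card_fin, Fintype.card_subtype_compl, Fintype.card_subtype_eq, hn]; rfl
  exact ⟨(MulEquiv.subgroupCongr h1.symm).trans (h2.symm.trans (Fintype.equivOfCardEq h3).permCongrHom)⟩

end Cfsg.Agent.H9.Sn
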