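import Cfsg.Agent.H9.ExcB

set_option autoImplicit false
set_option linter.unusedSectionVars false
set_option linter.style.haveILetI false
set_option linter.unusedVariables false
set_option linter.unusedSimpArgs false

/-! Exceptional characters for a self-centralizing Sylow subgroup of prime order `p` with normalizer of order `2 p`. -/

open Cfsg
open scoped ComplexConjugate

namespace Cfsg.Agent.H9.Exc

open Subgroup

universe u

variable {G : Type u} [Group G] [Fintype G] {p : ℕ} [Fact p.Prime] {P : Subgroup G}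

set_option maxHeartbeats 1000000 in
theorem exc2 (hlin : ∀ μ : G →* ℂˣ, μ = 1) (hP : Nat.card P = p) (hC : centralizer (P : Set G) = P)
    (hN : Nat.card (normalizer (P : Set G)) = p * 2) (h2e : 5 ≤ p) :
    ∃ (t : ℕ) (lam : Fin t → (P →* ℂˣ)) (δ ε : ℤ) (θ : IrrCharacter G) (M : Fin t → IrrCharacter G),
      t * 2 = p - 1 ∧ (δ = 1 ∨ δ = -1) ∧ (ε = 1 ∨ ε = -1) ∧ (∀ i, lam i ≠ 1) ∧
      (∀ μ : P →* ℂˣ, μ ≠ 1 → ∃ i n, cj P (lam i) n = μ) ∧
      Function.Injective M ∧ (∀ i, M i ≠ θ) ∧ (∀ i, (M i : G → ℂ) ≠ fun _ => 1) ∧ ((θ : G → ℂ) ≠ fun _ => 1) ∧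
      ∀ i, indFun P (ph P (lam i)) = (fun _ => 1) + (δ : ℂ) • (θ : G → ℂ) + (ε : ℂ) • (M i : G → ℂ) := by
  classical
  have hpp : p.Prime := Fact.out
  letI : Fintype P := Fintype.ofFinite P
  letI : Fintype (IrrCharacter G) := Fintype.ofFinite _
  obtain ⟨t, lam, hte, hlam, hdist, hcov, hgram⟩ := exists_reps hP hC hN
  have hp2 := hpp.two_le
  have ht2 : 2 ≤ t := by
    by_contra hcon
    have : t = 0 ∨ t = 1 := by omega
    rcases this with rfl | rfl <;> omega
  set v : Fin t → (G → ℂ) := fun i => indFun P (ph P (lam i)) with hv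
  have hvgen : ∀ i, IsGeneralizedCharacter G (v i) := fun i => H3.isGen_ind P (ph_isGen _)
  have hv1 : ∀ i, v i 1 = 0 := fun i => by
    rw [hv]; simp only; rw [H3.indFun_one_apply, ph_one, mul_zero]
  let i0 : Fin t := ⟨0, by omega⟩
  -- the isometry lemma
  obtain ⟨εc, hε, μ, hμirr, hμinj, hμ⟩ := H3.isometry_lemma i0 (fun i => v i - v i0) (sub_self _)
    (fun i => H3.isGen_sub (hvgen i) (hvgen i0))
    (fun i => by simp [hv1])
    (fun i hi => by
      rw [H3.classInner_sub_left, H3.classInner_sub_right, H3.classInner_sub_right, hgram, hgram, hgram, hgram,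
        if_pos rfl, if_pos rfl, if_neg hi, if_neg (Ne.symm hi)]
      ring)
    (fun i j hi hj hij => by
      rw [H3.classInner_sub_left, H3.classInner_sub_right, H3.classInner_sub_right, hgram, hgram, hgram, hgram,
        if_neg hij, if_pos rfl, if_neg hi, if_neg (Ne.symm hj)]
      ring)
  obtain ⟨ε, hε', hεc⟩ : ∃ ε : ℤ, (ε = 1 ∨ ε = -1) ∧ εc = ε := by
    rcases hε with h | h
    · exact ⟨1, Or.inl rfl, by rw [h]; simp⟩
    · exact ⟨-1, Or.inr rfl, by rw [h]; simp⟩
  subst hεc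
  let M : Fin t → IrrCharacter G := fun i => ⟨μ i, hμirr i⟩
  have hMinj : Function.Injective M := fun i j h => hμinj (congrArg Subtype.val h)
  -- coefficients
  choose a ha using fun (i : Fin t) (χ : IrrCharacter G) => H3.classInner_gen_int (hvgen i) (H3.isGen_of_irr χ.2)
  have hirr : ∀ χ ψ : IrrCharacter G, classInner (χ : G → ℂ) (ψ : G → ℂ) = if χ = ψ then 1 else 0 :=
    fun χ ψ => H3.classInner_irr' χ ψ
  have hdiff : ∀ i (χ : IrrCharacter G), (a i χ : ℂ) - a i0 χ = ε * ((if M i = χ then 1 else 0) - (if M i0 = χ then 1 else 0)) := by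
    intro i χ
    rw [← ha, ← ha, ← H3.classInner_sub_left]
    have := hμ i
    rw [this, H3.classInner_smul_left, H3.classInner_sub_left]
    rw [← hirr (M i) χ, ← hirr (M i0) χ]
  have hdiff' : ∀ i (χ : IrrCharacter G), a i χ - a i0 χ = ε * ((if M i = χ then 1 else 0) - (if M i0 = χ then 1 else 0)) := by
    intro i χ
    have := hdiff i χ
    split_ifs at this ⊢ <;> exact_mod_cast this
  -- value of the coefficients on exceptional characters
  set b : ℤ := a i0 (M i0) - ε with hb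
  have hbj : ∀ j, j ≠ i0 → a i0 (M j) = b := by
    intro j hj
    have h1 : classInner (v i0) (v j - v i0) = -1 := by
      rw [H3.classInner_sub_right, hgram, hgram, if_pos rfl, if_neg (Ne.symm hj)]; ring
    have h2 := hμ j
    rw [h2, H3.classInner_smul_right, H3.classInner_sub_right] at h1
    have h3 : classInner (v i0) (μ j) = a i0 (M j) := ha i0 (M j)
    have h4 : classInner (v i0) (μ i0) = a i0 (M i0) := ha i0 (M i0)
    rw [h3, h4] at h1
    have h5 : (ε : ℤ) * (a i0 (M j) - a i0 (M i0)) = -1 := by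
      have : (conj (ε : ℂ)) = (ε : ℂ) := map_intCast _ ε
      rw [this] at h1
      exact_mod_cast h1
    rcases hε' with h | h
    · rw [hb, h]; rw [h] at h5; linarith
    · rw [hb, h]; rw [h] at h5; linarith
  -- the trivial character
  let I : IrrCharacter G := ⟨fun _ => 1, H3.isIrr_one⟩
  have haI : ∀ i, a i I = 1 := by
    intro i
    have h1 : classInner (v i) (I : G → ℂ) = 1 := by
      rw [hv]; simp only
      rw [H3.frobenius_reciprocity P _ (H3.irr_classFun I.2)]
      have h2 : (fun h : P => (I : G → ℂ) h) = fun y : P => (((1 : P →* ℂˣ) y : ℂˣ) : ℂ) := by ext y; simp [I]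
      have h3 : ph P (lam i) = (fun y : P => (((1 : P →* ℂˣ) y : ℂˣ) : ℂ)) - (fun y : P => ((lam i) y : ℂ)) := by
        ext y; simp [ph]
      rw [h2, h3, H3.classInner_sub_left, lin_inner, lin_inner, if_pos rfl, if_neg (hlam i), sub_zero]
    have h2 := ha i I
    rw [h1] at h2
    exact_mod_cast h2.symm
  have hMI : ∀ j, M j ≠ I := by
    intro j hj
    by_cases hj0 : j = i0
    · -- use another index
      let i1 : Fin t := ⟨1, by omega⟩
      have hne : i1 ≠ i0 := by intro h; simp [i1, i0] at h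
      have h1 := hdiff' i1 I
      rw [haI, haI, ← hj, if_neg (show ¬ M i1 = M j from fun h => hne ((hMinj h).trans hj0)),
        if_pos (show M i0 = M j by rw [hj0])] at h1
      rcases hε' with h | h <;> rw [h] at h1 <;> norm_num at h1
    · have h1 := hdiff' j I
      rw [haI, haI, ← hj, if_pos rfl, if_neg (fun h => hj0 (hMinj h).symm)] at h1
      rcases hε' with h | h <;> rw [h] at h1 <;> norm_num at h1
  -- degrees
  choose deg hdeg0 hdeg using fun χ : IrrCharacter G => H3.irr_one_eq_nat χ.2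
  have hdegI : deg I = 1 := by
    have := hdeg I
    have h2 : (I : G → ℂ) 1 = 1 := rfl
    rw [h2] at this
    exact_mod_cast this.symm
  have hdeg1 : ∀ χ : IrrCharacter G, χ ≠ I → 1 < deg χ := by
    intro χ hχ
    by_contra hcon
    have h1 : deg χ = 1 := by have := hdeg0 χ; omega
    obtain ⟨κ, hκ⟩ := H3.exists_hom_of_char_one (H3.irr_isChar χ.2) (by rw [hdeg, h1]; simp)
    apply hχ
    apply Subtype.ext
    rw [hκ, hlin κ]
    rfl
  set f : ℕ := deg (M i0) with hf
  have hfj : ∀ j, deg (M j) = f := by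
    intro j
    have h1 := congrArg (fun F : G → ℂ => F 1) (hμ j)
    simp only [Pi.sub_apply, hv1, sub_self, Pi.smul_apply, smul_eq_mul] at h1
    have h2 : μ j 1 - μ i0 1 = 0 := by
      rcases mul_eq_zero.mp h1.symm with h | h
      · exfalso
        rcases hε' with h' | h' <;> rw [h'] at h <;> norm_num at h
      · exact h
    have h3 : μ j 1 = deg (M j) := hdeg (M j)
    have h4 : μ i0 1 = deg (M i0) := hdeg (M i0)
    rw [h3, h4] at h2
    have : (deg (M j) : ℂ) = deg (M i0) := sub_eq_zero.mp h2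
    exact_mod_cast this
  -- the three sums
  have hsum1 : ∑ χ : IrrCharacter G, (a i0 χ) ^ 2 = 3 := by
    have h1 := H3.classInner_eq_sum (φ := v i0) (ψ := v i0) (H3.isGen_classFun (hvgen i0))
    rw [hgram, if_pos rfl] at h1
    norm_num at h1
    have h2 : ∀ χ : IrrCharacter G, classInner (v i0) (χ : G → ℂ) * conj (classInner (v i0) (χ : G → ℂ)) = ((a i0 χ) ^ 2 : ℤ) := by
      intro χ
      rw [ha, map_intCast]; push_cast; ring
    rw [Finset.sum_congr rfl fun χ _ => h2 χ] at h1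
    exact_mod_cast h1.symm
  have hsum2 : ∑ χ : IrrCharacter G, a i0 χ * (deg χ : ℤ) = 0 := by
    have h1 := H3.classFun_expand_apply (H3.isGen_classFun (hvgen i0)) (1 : G)
    rw [hv1] at h1
    have h2 : ∀ χ : IrrCharacter G, classInner (v i0) (χ : G → ℂ) * (χ : G → ℂ) 1 = (a i0 χ * (deg χ : ℤ) : ℤ) := by
      intro χ
      rw [ha, hdeg]; push_cast; ring
    rw [Finset.sum_congr rfl fun χ _ => h2 χ] at h1
    exact_mod_cast h1.symm
  -- splitting
  let E : Finset (IrrCharacter G) := Finset.univ.image M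
  let S : Finset (IrrCharacter G) := (Finset.univ \ E).erase I
  have hIE : I ∉ E := by
    intro h
    obtain ⟨j, -, hj⟩ := Finset.mem_image.mp h
    exact hMI j hj
  have hsplit : ∀ {A : Type} [AddCommMonoid A] (F : IrrCharacter G → A),
      ∑ χ : IrrCharacter G, F χ = ∑ χ ∈ S, F χ + F I + ∑ j : Fin t, F (M j) := by
    intro A _ F
    rw [← Finset.sum_sdiff (Finset.subset_univ E), ← Finset.sum_erase_add (Finset.univ \ E) F
      (Finset.mem_sdiff.mpr ⟨Finset.mem_univ I, hIE⟩), Finset.sum_image (fun i _ j _ h => hMinj h)]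
  have hSprop : ∀ χ ∈ S, χ ≠ I ∧ ∀ j, M j ≠ χ := by
    intro χ hχ
    obtain ⟨h1, h2⟩ := Finset.mem_erase.mp hχ
    refine ⟨h1, fun j hj => ?_⟩
    exact (Finset.mem_sdiff.mp h2).2 (Finset.mem_image.mpr ⟨j, Finset.mem_univ j, hj⟩)
  have hMsum : ∀ {A : Type} [AddCommGroup A] (F : IrrCharacter G → A) (x y : A), F (M i0) = x → (∀ j, j ≠ i0 → F (M j) = y) →
      ∑ j : Fin t, F (M j) = x + (t - 1) • y := by
    intro A _ F x y h1 h2
    rw [← Finset.add_sum_erase _ _ (Finset.mem_univ i0), h1]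
    have : ∀ j ∈ (Finset.univ : Finset (Fin t)).erase i0, F (M j) = y := fun j hj => h2 j (Finset.ne_of_mem_erase hj)
    rw [Finset.sum_congr rfl this, Finset.sum_const, Finset.card_erase_of_mem (Finset.mem_univ _), Finset.card_univ, Fintype.card_fin]
  -- the final step
  have fin : ∀ (ε' : ℤ) (M' : Fin t → IrrCharacter G), (ε' = 1 ∨ ε' = -1) → Function.Injective M' → (∀ i, M' i ∈ E) →
      (∀ χ ∈ E, a i0 χ = if M' i0 = χ then ε' else 0) →
      (∀ i, v i - v i0 = (ε' : ℂ) • ((M' i : G → ℂ) - (M' i0 : G → ℂ))) →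
      ∑ χ ∈ S, (a i0 χ) ^ 2 = 1 →
      ∃ (t : ℕ) (lam : Fin t → (P →* ℂˣ)) (δ ε : ℤ) (θ : IrrCharacter G) (M : Fin t → IrrCharacter G),
      t * 2 = p - 1 ∧ (δ = 1 ∨ δ = -1) ∧ (ε = 1 ∨ ε = -1) ∧ (∀ i, lam i ≠ 1) ∧
      (∀ μ : P →* ℂˣ, μ ≠ 1 → ∃ i n, cj P (lam i) n = μ) ∧
      Function.Injective M ∧ (∀ i, M i ≠ θ) ∧ (∀ i, (M i : G → ℂ) ≠ fun _ => 1) ∧ ((θ : G → ℂ) ≠ fun _ => 1) ∧
      ∀ i, indFun P (ph P (lam i)) = (fun _ => 1) + (δ : ℂ) • (θ : G → ℂ) + (ε : ℂ) • (M i : G → ℂ) := by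
    intro ε' M' hε1 hM1 hM2 hM3 hM4 hA
    obtain ⟨θ, hθS, hθ0⟩ : ∃ θ ∈ S, a i0 θ ≠ 0 := by
      by_contra hcon
      push Not at hcon
      rw [Finset.sum_eq_zero (fun χ hχ => by rw [hcon χ hχ]; norm_num)] at hA
      norm_num at hA
    have h1 : ∑ χ ∈ S.erase θ, (a i0 χ) ^ 2 + (a i0 θ) ^ 2 = 1 := by
      rw [Finset.sum_erase_add _ _ hθS]; exact hA
    have h2 : 0 ≤ ∑ χ ∈ S.erase θ, (a i0 χ) ^ 2 := Finset.sum_nonneg fun χ _ => sq_nonneg _
    have h3 : 1 ≤ (a i0 θ) ^ 2 := by
      have : 0 < (a i0 θ) ^ 2 := by positivity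
      linarith
    have h4 : (a i0 θ) ^ 2 = 1 := by linarith
    have h5 : ∑ χ ∈ S.erase θ, (a i0 χ) ^ 2 = 0 := by linarith
    rw [Finset.sum_eq_zero_iff_of_nonneg (fun χ _ => sq_nonneg _)] at h5
    have hδ : a i0 θ = 1 ∨ a i0 θ = -1 := by
      rw [pow_two] at h4; exact mul_self_eq_one_iff.mp h4
    have hv0 : v i0 = (fun _ => 1) + ((a i0 θ : ℤ) : ℂ) • (θ : G → ℂ) + (ε' : ℂ) • (M' i0 : G → ℂ) := by
      rw [← sub_eq_zero]
      have hc1 : IsClassFunction G ((fun _ => 1) : G → ℂ) := fun _ _ => rfl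
      apply H3.classFun_eq_zero
      · apply H3.classFun_sub (H3.isGen_classFun (hvgen i0))
        intro g h
        simp only [Pi.add_apply, Pi.smul_apply]
        rw [H3.irr_classFun θ.2, H3.irr_classFun (M' i0).2]
      · intro χ hχ
        have e1 : classInner (v i0 - ((fun _ => 1) + ((a i0 θ : ℤ) : ℂ) • (θ : G → ℂ) + (ε' : ℂ) • (M' i0 : G → ℂ))) χ =
            (a i0 ⟨χ, hχ⟩ : ℂ) - ((if I = ⟨χ, hχ⟩ then 1 else 0) + (a i0 θ : ℂ) * (if θ = ⟨χ, hχ⟩ then 1 else 0) +
              (ε' : ℂ) * (if M' i0 = ⟨χ, hχ⟩ then 1 else 0)) := by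
          rw [H3.classInner_sub_left, H3.classInner_add_left, H3.classInner_add_left, H3.classInner_smul_left,
            H3.classInner_smul_left]
          have e2 := ha i0 ⟨χ, hχ⟩
          have e3 := hirr I ⟨χ, hχ⟩
          have e4 := hirr θ ⟨χ, hχ⟩
          have e5 := hirr (M' i0) ⟨χ, hχ⟩
          rw [← e3, ← e4, ← e5, ← e2]
        rw [e1]
        have e6 : a i0 ⟨χ, hχ⟩ = (if I = ⟨χ, hχ⟩ then 1 else 0) + (a i0 θ) * (if θ = ⟨χ, hχ⟩ then 1 else 0) +
              ε' * (if M' i0 = ⟨χ, hχ⟩ then 1 else 0) := by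
          obtain ⟨hθI, hθM⟩ := hSprop θ hθS
          have hθE : θ ∉ E := by
            intro h
            obtain ⟨j, -, hj⟩ := Finset.mem_image.mp h
            exact hθM j hj
          by_cases hI : I = ⟨χ, hχ⟩
          · rw [if_pos hI, ← hI, haI, if_neg hθI, if_neg (fun h : M' i0 = I => hIE (h ▸ hM2 i0))]
            ring
          · rw [if_neg hI]
            by_cases hE : (⟨χ, hχ⟩ : IrrCharacter G) ∈ E
            · rw [hM3 _ hE, if_neg (fun h : θ = ⟨χ, hχ⟩ => hθE (h ▸ hE))]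
              split_ifs <;> ring
            · rw [if_neg (fun h : M' i0 = ⟨χ, hχ⟩ => hE (h ▸ hM2 i0))]
              by_cases hθ : θ = ⟨χ, hχ⟩
              · rw [if_pos hθ, ← hθ]; ring
              · rw [if_neg hθ]
                have hS : (⟨χ, hχ⟩ : IrrCharacter G) ∈ S.erase θ :=
                  Finset.mem_erase.mpr ⟨Ne.symm hθ, Finset.mem_erase.mpr ⟨Ne.symm hI, Finset.mem_sdiff.mpr ⟨Finset.mem_univ _, hE⟩⟩⟩
                have h6 := h5 _ hS
                rw [pow_eq_zero_iff (by norm_num)] at h6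
                rw [h6]; ring
        rw [e6]
        push_cast
        split_ifs <;> simp
    obtain ⟨hθI, hθM⟩ := hSprop θ hθS
    have hθE : θ ∉ E := by
      intro h
      obtain ⟨j, -, hj⟩ := Finset.mem_image.mp h
      exact hθM j hj
    refine ⟨t, lam, a i0 θ, ε', θ, M', hte, hδ, hε1, hlam, hcov, hM1, ?_, ?_, ?_, ?_⟩
    · intro i h
      exact hθE (h ▸ hM2 i)
    · intro i h
      exact hIE ((Subtype.ext h : M' i = I) ▸ hM2 i)
    · intro h
      exact hθI (Subtype.ext h)
    · intro i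
      have h6 := hM4 i
      change v i = _
      rw [hv0] at h6
      rw [sub_eq_iff_eq_add] at h6
      rw [h6]
      module
  have h1 := hsum1
  rw [hsplit, haI, hMsum (fun χ => (a i0 χ) ^ 2) ((b + ε) ^ 2) (b ^ 2) (by rw [hb]; ring) (fun j hj => by rw [hbj j hj])] at h1
  rw [nsmul_eq_mul, Nat.cast_sub (by omega)] at h1
  push_cast at h1
  have hA0 : 0 ≤ ∑ χ ∈ S, (a i0 χ) ^ 2 := Finset.sum_nonneg fun χ _ => sq_nonneg _
  have ht2' : (2 : ℤ) ≤ t := by exact_mod_cast ht2
  have hMv : ∀ i, v i - v i0 = (ε : ℂ) • ((M i : G → ℂ) - (M i0 : G → ℂ)) := hμ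
  have hb01 : b = 0 ∨ b = -ε := by
    have hb2 : b ^ 2 ≤ 2 := by nlinarith [sq_nonneg (b + ε), sq_nonneg b]
    have hb3 : -1 ≤ b ∧ b ≤ 1 := by constructor <;> nlinarith
    obtain ⟨hb4, hb5⟩ := hb3
    rcases hε' with h | h
    · have : b ≠ 1 := by rintro h'; rw [h, h'] at h1; nlinarith
      omega
    · have : b ≠ -1 := by rintro h'; rw [h, h'] at h1; nlinarith
      omega
  rcases hb01 with hb0 | hb0
  · apply fin ε M hε' hMinj
    · intro i; exact Finset.mem_image.mpr ⟨i, Finset.mem_univ i, rfl⟩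
    · intro χ hχ
      obtain ⟨j, -, rfl⟩ := Finset.mem_image.mp hχ
      by_cases hj : j = i0
      · rw [hj, if_pos rfl]; linarith
      · rw [if_neg (fun h => hj (hMinj h).symm), hbj j hj, hb0]
    · exact hMv
    · rw [hb0] at h1
      rcases hε' with h | h <;> rw [h] at h1 <;> linarith
  · have hbb : b ^ 2 = 1 := by rcases hε' with h | h <;> rw [hb0, h] <;> norm_num
    have h3 : ∑ χ ∈ S, (a i0 χ) ^ 2 + 1 + (t - 1) = 3 := by
      rw [hbb, hb0] at h1
      rcases hε' with h | h <;> rw [h] at h1 <;> linarith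
    have ht23 : t = 2 ∨ t = 3 := by
      have : (t : ℤ) ≤ 3 := by linarith
      have : t ≤ 3 := by exact_mod_cast this
      omega
    rcases ht23 with ht | ht
    · -- t = 2
      let i1 : Fin t := ⟨1, by omega⟩
      have hi01 : i1 ≠ i0 := by intro h; simp [i1, i0] at h
      have hall : ∀ j : Fin t, j = i0 ∨ j = i1 := by
        intro j
        have := j.2
        have : (j : ℕ) = 0 ∨ (j : ℕ) = 1 := by omega
        rcases this with h | h
        · left; exact Fin.ext h
        · right; exact Fin.ext h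
      apply fin (-ε) (M ∘ Equiv.swap i0 i1) (by rcases hε' with h | h <;> rw [h] <;> norm_num)
        (hMinj.comp (Equiv.injective _))
      · intro i; exact Finset.mem_image.mpr ⟨Equiv.swap i0 i1 i, Finset.mem_univ _, rfl⟩
      · intro χ hχ
        obtain ⟨j, -, rfl⟩ := Finset.mem_image.mp hχ
        rw [Function.comp_apply, Equiv.swap_apply_left]
        rcases hall j with rfl | rfl
        · rw [if_neg (fun h => hi01 (hMinj h))]; linarith
        · rw [if_pos rfl, hbj _ hi01, hb0]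
      · intro i
        rw [Function.comp_apply, Function.comp_apply, Equiv.swap_apply_left]
        rcases hall i with rfl | rfl
        · rw [Equiv.swap_apply_left]; simp
        · rw [Equiv.swap_apply_right, hMv]
          push_cast
          module
      · rw [ht] at h3; push_cast at h3; linarith
    · -- t = 3
      exfalso
      have h4 : ∑ χ ∈ S, (a i0 χ) ^ 2 = 0 := by rw [ht] at h3; push_cast at h3; linarith
      rw [Finset.sum_eq_zero_iff_of_nonneg (fun χ _ => sq_nonneg _)] at h4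
      have h5 := hsum2
      rw [hsplit, haI, hdegI, hMsum (fun χ => a i0 χ * (deg χ : ℤ)) ((b + ε) * f) (b * f) (by rw [hb, hf]; ring)
        (fun j hj => by rw [hbj j hj, hfj]), Finset.sum_eq_zero (fun χ hχ => by
          have h6 := h4 χ hχ
          rw [pow_eq_zero_iff (by norm_num)] at h6
          rw [h6, zero_mul])] at h5
      rw [ht, hb0] at h5
      simp only [nsmul_eq_mul] at h5
      push_cast at h5
      rcases hε' with h | h <;> rw [h] at h5 <;> omega

end Cfsg.Agent.H9.Exc
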